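import Cfsg.Statements.S3798
import Cfsg.Agent.Lib.Core
import Cfsg.Agent.Lib.GroupB.Coprime
import Cfsg.Agent.Lib.GroupB.SchurZassenhaus
import Mathlib.GroupTheory.Abelianization.Finite
import Mathlib.GroupTheory.Nilpotent
import Mathlib.Tactic.Ring

set_option autoImplicit false
open Cfsg

namespace Cfsg.Agent.S3798

open scoped commutatorElement

theorem mul_pow_class_two {G : Type*} [Group G] (x y : G) (hc : ∀ g, Commute (y * x * y⁻¹ * x⁻¹) g) (n : ℕ) :
    (x * y) ^ n = (y * x * y⁻¹ * x⁻¹) ^ (n * (n - 1) / 2) * (x ^ n * y ^ n) := by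
  set c := y * x * y⁻¹ * x⁻¹ with hcdef
  have h1 : ∀ n : ℕ, y ^ n * x = c ^ n * (x * y ^ n) := by
    intro n
    induction n with
    | zero => simp
    | succ n ih =>
      calc y ^ (n + 1) * x = y * (y ^ n * x) := by rw [pow_succ', mul_assoc]
        _ = c ^ n * (y * x) * y ^ n := by rw [ih, ← mul_assoc, ← mul_assoc, ← ((hc y).pow_left n).eq]; group
        _ = c ^ n * (c * (x * y)) * y ^ n := by rw [hcdef]; group
        _ = c ^ (n + 1) * (x * y ^ (n + 1)) := by rw [pow_succ, pow_succ' y]; group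
  induction n with
  | zero => simp
  | succ n ih =>
    have e : (n + 1) * (n + 1 - 1) / 2 = n * (n - 1) / 2 + n := by
      rcases n with _ | m
      · simp
      · rw [Nat.add_sub_cancel, Nat.add_sub_cancel, show (m + 1 + 1) * (m + 1) = (m + 1) * m + (m + 1) * 2 by ring,
          Nat.add_mul_div_right _ _ (by norm_num)]
    rw [e, pow_add c, pow_succ (x * y), ih]
    calc c ^ (n * (n - 1) / 2) * (x ^ n * y ^ n) * (x * y) = c ^ (n * (n - 1) / 2) * (x ^ n * (y ^ n * x) * y) := by group
      _ = c ^ (n * (n - 1) / 2) * ((x ^ n * c ^ n) * (x * y ^ n) * y) := by rw [h1]; group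
      _ = c ^ (n * (n - 1) / 2) * ((c ^ n * x ^ n) * (x * y ^ n) * y) := by rw [← ((hc (x ^ n)).pow_left n).eq]
      _ = c ^ (n * (n - 1) / 2) * c ^ n * (x ^ (n + 1) * y ^ (n + 1)) := by rw [pow_succ, pow_succ]; group

/-- For odd `p`, automorphisms of order prime to `p` fixing the elements of order `p` are trivial. -/
theorem centralize_of_order_p {G : Type*} [Group G] [Finite G] {p : ℕ} [hp : Fact p.Prime] (hp2 : p ≠ 2) (A : Subgroup G)
    (hAs : Group.IsSolvable A) (hA : (Nat.card A).Coprime p) : ∀ (n : ℕ) (N : Subgroup G), Nat.card N = n → IsPGroup p N → A ≤ Subgroup.normalizer (N : Set G) →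
    (∀ x ∈ N, x ^ p = 1 → ∀ a ∈ A, a * x = x * a) → N ≤ Subgroup.centralizer (A : Set G) := by
  intro n
  induction n using Nat.strong_induction_on with
  | _ n ih =>
  intro N hn hN hAN hfix
  have hcop : (Nat.card A).Coprime (Nat.card N) := by
    obtain ⟨k, hk⟩ := IsPGroup.iff_card.mp hN
    rw [hk]; exact hA.pow_right k
  have hsub : ∀ T : Subgroup G, T ≤ N → T ≠ N → A ≤ Subgroup.normalizer (T : Set G) → T ≤ Subgroup.centralizer (A : Set G) := fun T hT hne hAT =>
    ih _ (hn ▸ lt_of_not_ge fun hge => hne (Subgroup.eq_of_le_of_card_ge hT hge)) T rfl (hN.to_le hT) hAT fun x hx => hfix x (hT hx)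
  by_cases hne : ⁅N, A⁆ = N
  swap
  · refine CfsgLib.GroupB.Coprime.le_centralizer_of_commutator_commutator hAN hcop (Or.inr hAs) ?_
    rw [Subgroup.commutator_eq_bot_iff_le_centralizer]
    exact hsub _ (CfsgLib.GroupB.Coprime.commutator_le_of_le_normalizer hAN) hne
      ((le_sup_right).trans (CfsgLib.GroupB.Coprime.le_normalizer_commutator N A))
  rcases subsingleton_or_nontrivial N with hs | hnt
  · intro x hx
    rw [show x = 1 from congrArg Subtype.val (Subsingleton.elim (⟨x, hx⟩ : N) 1)]; exact one_mem _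
  -- a proper invariant subgroup containing all `p`-th powers and commutators
  let T0 : Subgroup N := (powMonoidHom p : Abelianization N →* Abelianization N).range.comap Abelianization.of
  let T : Subgroup G := T0.map N.subtype
  have hTN : T ≤ N := Subgroup.map_subtype_le _
  have hTne : T ≠ N := by
    intro he
    have h0 : T0 = ⊤ := Subgroup.map_injective N.subtype_injective (by rw [← MonoidHom.range_eq_map, Subgroup.range_subtype]; exact he)
    haveI : Group.IsNilpotent N := hN.isNilpotent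
    haveI : Nontrivial (Abelianization N) := by
      rw [nontrivial_iff]
      obtain ⟨g, hg⟩ := SetLike.exists_of_lt (show commutator N < ⊤ from Group.IsSolvable.commutator_lt_top_of_nontrivial N)
      exact ⟨Abelianization.of g, 1, fun h => hg.2 ((QuotientGroup.eq_one_iff g).mp h)⟩
    have hsurj : Function.Surjective (powMonoidHom p : Abelianization N →* Abelianization N) := by
      intro z
      obtain ⟨z, rfl⟩ := QuotientGroup.mk_surjective z
      have : z ∈ T0 := h0 ▸ Subgroup.mem_top z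
      exact this
    have hpA : IsPGroup p (Abelianization N) := hN.to_quotient _
    obtain ⟨k, hk⟩ := IsPGroup.iff_card.mp hpA
    have hk0 : k ≠ 0 := fun h => by
      rw [h, pow_zero] at hk; exact absurd hk Finite.one_lt_card.ne'
    obtain ⟨z, hz⟩ := exists_prime_orderOf_dvd_card' (G := Abelianization N) p (hk ▸ dvd_pow_self p hk0)
    have := (Finite.injective_iff_surjective.mpr hsurj) (show (powMonoidHom p) z = (powMonoidHom p) 1 by
      simp only [powMonoidHom_apply, one_pow]; rw [← hz, pow_orderOf_eq_one])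
    rw [this, orderOf_one] at hz
    exact hp.out.one_lt.ne hz
  have hcomm : ⁅N, N⁆ ≤ T := by
    rw [Subgroup.commutator_le]
    intro a ha b hb
    refine ⟨⁅(⟨a, ha⟩ : N), (⟨b, hb⟩ : N)⁆, ?_, rfl⟩
    show Abelianization.of ⁅(⟨a, ha⟩ : N), (⟨b, hb⟩ : N)⁆ ∈ (powMonoidHom p : Abelianization N →* Abelianization N).range
    rw [map_commutatorElement, commutatorElement_eq_one_iff_mul_comm.mpr (mul_comm _ _)]
    exact one_mem _
  have hpow : ∀ x ∈ N, x ^ p ∈ T := fun x hx => ⟨(⟨x, hx⟩ : N) ^ p, ⟨Abelianization.of (⟨x, hx⟩ : N), (map_pow _ _ _).symm⟩, rfl⟩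
  have hAT : A ≤ Subgroup.normalizer (T : Set G) := by
    refine CfsgLib.GroupB.Coprime.le_normalizer_of_conj_mem fun a ha t ht => ?_
    obtain ⟨t, ⟨z, hz⟩, rfl⟩ := ht
    obtain ⟨z, rfl⟩ := QuotientGroup.mk_surjective z
    let e : N →* N := MonoidHom.mk' (fun y => ⟨a * y * a⁻¹, (CfsgLib.GroupB.Coprime.conj_mem_iff (hAN ha)).mpr y.2⟩)
      (fun y y' => Subtype.ext (by simp [mul_assoc]))
    refine ⟨e t, ⟨Abelianization.map e (QuotientGroup.mk z), ?_⟩, rfl⟩
    show (Abelianization.map e (Abelianization.of z)) ^ p = Abelianization.of (e t)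
    rw [← map_pow, show (Abelianization.of z : Abelianization N) ^ p = Abelianization.of t from hz, Abelianization.map_of]
  have hTc := hsub T hTN hTne hAT
  have hbot : ∀ X : Subgroup G, X ≤ T → ⁅X, A⁆ = ⊥ := fun X hX =>
    Subgroup.commutator_eq_bot_iff_le_centralizer.mpr (hX.trans hTc)
  have hTNle : ⁅T, N⁆ ≤ T := (Subgroup.commutator_mono hTN le_rfl).trans hcomm
  have hTcen : ∀ t ∈ T, ∀ y ∈ N, t * y = y * t := by
    have h1 : ⁅⁅T, N⁆, A⁆ = ⊥ := hbot _ hTNle
    have h2 : ⁅⁅A, T⁆, N⁆ = ⊥ := by rw [Subgroup.commutator_comm A T, hbot T le_rfl, Subgroup.commutator_bot_left]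
    have h3 : ⁅⁅N, A⁆, T⁆ = ⊥ := Subgroup.commutator_commutator_eq_bot_of_rotate h2 h1
    rw [hne, Subgroup.commutator_eq_bot_iff_le_centralizer] at h3
    exact fun t ht y hy => (Subgroup.mem_centralizer_iff.mp (h3 hy) t ht)
  have hcent : ∀ x ∈ N, ∀ y ∈ N, ∀ g ∈ N, Commute (y * x * y⁻¹ * x⁻¹) g := fun x hx y hy g hg =>
    hTcen _ (hcomm (by rw [← commutatorElement_def]; exact Subgroup.commutator_mem_commutator hy hx)) g hg
  -- the `p`-th power map is multiplicative
  have hmulp : ∀ x y : N, (x * y) ^ p = x ^ p * y ^ p := by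
    intro x y
    have hc : ∀ g : N, Commute (y * x * y⁻¹ * x⁻¹) g := fun g => Subtype.ext (hcent x x.2 y y.2 g g.2).eq
    have hcp : (y * x * y⁻¹ * x⁻¹) ^ p = 1 := by
      set c := y * x * y⁻¹ * x⁻¹ with hcd
      have h1 : y * x * y⁻¹ = c * x := by rw [hcd]; group
      have h2 : y * x ^ p * y⁻¹ = x ^ p := by
        refine Subtype.ext ?_
        show (y : G) * (x : G) ^ p * (y : G)⁻¹ = (x : G) ^ p
        rw [← hTcen _ (hpow _ x.2) y y.2, mul_inv_cancel_right]
      have h3 := congrArg (· ^ p) h1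
      simp only [conj_pow, (hc x).mul_pow] at h3
      rw [h2] at h3
      exact mul_eq_right.mp h3.symm
    obtain ⟨k, hk⟩ : p ∣ p * (p - 1) / 2 := by
      obtain ⟨m, hm⟩ := (hp.out.odd_of_ne_two hp2)
      exact ⟨m, by rw [show p - 1 = m * 2 by omega, ← mul_assoc, Nat.mul_div_cancel _ (by norm_num)]⟩
    rw [mul_pow_class_two x y hc, hk, pow_mul, hcp, one_pow, one_mul]
  -- generators of `[N, A]` are fixed
  have hgen : ⁅N, A⁆ ≤ Subgroup.centralizer (A : Set G) := by
    rw [Subgroup.commutator_le]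
    intro x hx a ha
    have hax : a * x⁻¹ * a⁻¹ ∈ N := (CfsgLib.GroupB.Coprime.conj_mem_iff (hAN ha)).mpr (N.inv_mem hx)
    have hs : ⁅x, a⁆ ∈ N := by
      rw [commutatorElement_def, mul_assoc x, mul_assoc x]; exact N.mul_mem hx hax
    rw [Subgroup.mem_centralizer_iff]
    refine hfix _ hs ?_
    have h1 := congrArg Subtype.val (hmulp ⟨x, hx⟩ ⟨_, hax⟩)
    have h2 := Subgroup.mem_centralizer_iff.mp (hTc (hpow x hx)) a ha
    simp only [Subgroup.coe_pow, Subgroup.coe_mul] at h1
    rw [commutatorElement_def, show x * a * x⁻¹ * a⁻¹ = x * (a * x⁻¹ * a⁻¹) by group, h1, conj_pow, inv_pow,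
      (Commute.inv_right (show Commute a (x ^ p) from h2)).eq, mul_inv_cancel_right, mul_inv_cancel]
  exact hne ▸ hgen

theorem isPSolvable_map {G H : Type*} [Group G] [Group H] {p : ℕ} (hp : p.Prime) (f : G →* H) (hf : Function.Surjective f)
    (h : Cfsg.IsPSolvable p G) : Cfsg.IsPSolvable p H := by
  obtain ⟨n, M, h0, h1, hm, hn, hstep⟩ := h
  refine ⟨n, fun i => (M i).map f, by simp only [h0, Subgroup.map_bot], ?_, fun i j hij => Subgroup.map_mono (hm hij),
    fun i => (hn i).map f hf, fun i => ?_⟩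
  · simp only [h1]; exact Subgroup.map_top_of_surjective f hf
  · have hd : ((M i.castSucc).map f).relIndex ((M i.succ).map f) ∣ (M i.castSucc).relIndex (M i.succ) := by
      rw [← Subgroup.relIndex_comap, Subgroup.comap_map_eq]
      exact Subgroup.relIndex_dvd_of_le_left _ le_sup_left
    rcases hstep i with ⟨m, hm'⟩ | hc
    · rw [hm'] at hd
      obtain ⟨m', -, hm''⟩ := (Nat.dvd_prime_pow hp).mp hd
      exact Or.inl ⟨m', hm''⟩
    · exact Or.inr (hc.coprime_dvd_left hd)

theorem relIndex_comap_mk {G : Type*} [Group G] (N : Subgroup G) [N.Normal] (B : Subgroup (G ⧸ N)) :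
    N.relIndex (B.comap (QuotientGroup.mk' N)) = Nat.card B := by
  have h := Subgroup.relIndex_comap (⊥ : Subgroup (G ⧸ N)) (QuotientGroup.mk' N) (B.comap (QuotientGroup.mk' N))
  rwa [MonoidHom.comap_bot, QuotientGroup.ker_mk', Subgroup.map_comap_eq_self_of_surjective (QuotientGroup.mk'_surjective N),
    Subgroup.relIndex_bot_left] at h

theorem core_ne_bot {G : Type*} [Group G] [Finite G] [Nontrivial G] {p : ℕ} [Fact p.Prime] (h : Cfsg.IsPSolvable p G) :
    Cfsg.pCore p G ≠ ⊥ ∨ Cfsg.pPrimeCore p G ≠ ⊥ := by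
  obtain ⟨n, M, h0, h1, -, hn, hstep⟩ := h
  obtain ⟨i, hi1, hi2⟩ : ∃ i : Fin n, M i.castSucc = ⊥ ∧ M i.succ ≠ ⊥ := by
    by_contra hc
    push Not at hc
    have : ∀ j : Fin (n + 1), M j = ⊥ := by
      intro j
      induction j using Fin.induction with
      | zero => exact h0
      | succ j ih => exact hc j ih
    exact bot_ne_top ((this _).symm.trans h1)
  have hc := hstep i
  rw [hi1, Subgroup.relIndex_bot_left] at hc
  rcases hc with ⟨m, hm⟩ | hc
  · exact Or.inl fun he => hi2 (le_bot_iff.mp (he ▸ CfsgLib.Core.le_pCore (hn _) (IsPGroup.of_card hm)))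
  · exact Or.inr fun he => hi2 (le_bot_iff.mp (he ▸ CfsgLib.Core.le_pPrimeCore (hn _) hc))

/-- The case of trivial `p'`-core. -/
theorem not_dvd_index {G : Type*} [Group G] [Finite G] {p : ℕ} [hp : Fact p.Prime] (hp2 : p ≠ 2)
    (hG : Cfsg.IsPSolvable p G) (hO : Cfsg.pPrimeCore p G = ⊥)
    (htr : ∀ U V : Subgroup G, Nat.card U = p → Nat.card V = p → ∃ a : MulAut G, U.map a.toMonoidHom = V) :
    ¬ p ∣ (Cfsg.pCore p G).index := by
  intro hd
  haveI : Nontrivial G := by
    by_contra hc
    rw [not_nontrivial_iff_subsingleton] at hc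
    rw [Subsingleton.elim (Cfsg.pCore p G) ⊤, Subgroup.index_top] at hd
    exact hp.out.not_dvd_one hd
  set N := Cfsg.pCore p G with hN
  haveI hNc : N.Characteristic := CfsgLib.Core.pCore_characteristic p
  have hNp : IsPGroup p N := CfsgLib.Core.isPGroup_pCore p
  have hNne : N ≠ ⊥ := (core_ne_bot hG).resolve_right (fun h => h hO)
  -- nontrivial characteristic subgroups of `N` contain every element of order `p`
  have hall : ∀ W : Subgroup G, W.Characteristic → W ≠ ⊥ → W ≤ N → ∀ x : G, orderOf x = p → x ∈ W := by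
    intro W hW hne hle x hx
    obtain ⟨k, hk⟩ := IsPGroup.iff_card.mp (hNp.to_le hle)
    have hk0 : k ≠ 0 := fun h => hne (Subgroup.card_eq_one.mp (by rw [hk, h, pow_zero]))
    obtain ⟨u, hu⟩ := exists_prime_orderOf_dvd_card' (G := W) p (hk ▸ dvd_pow_self p hk0)
    obtain ⟨a, ha⟩ := htr (Subgroup.zpowers (u : G)) (Subgroup.zpowers x) (by rw [Nat.card_zpowers, Subgroup.orderOf_coe, hu])
      (by rw [Nat.card_zpowers, hx])
    have := ha ▸ Subgroup.mem_zpowers x
    obtain ⟨w, hw, hwx⟩ := this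
    rw [← hwx]
    have hWa := Subgroup.characteristic_iff_map_le.mp hW a
    exact hWa ⟨w, (Subgroup.zpowers_le).mpr u.2 hw, rfl⟩
  -- `K/N` is the `p'`-core of `G/N`
  set π := QuotientGroup.mk' N
  have hπ := QuotientGroup.mk'_surjective N
  haveI : Nontrivial (G ⧸ N) := QuotientGroup.nontrivial_iff.mpr fun h => by
    rw [h, Subgroup.index_top] at hd; exact hp.out.not_dvd_one hd
  have hKbar : Cfsg.pPrimeCore p (G ⧸ N) ≠ ⊥ :=
    (core_ne_bot (isPSolvable_map hp.out π hπ hG)).resolve_left fun h => h (CfsgLib.Core.pCore_quotient_eq_bot p)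
  set K := (Cfsg.pPrimeCore p (G ⧸ N)).comap π with hK
  haveI hKc' : (Cfsg.pPrimeCore p (G ⧸ N)).Characteristic := CfsgLib.Core.pPrimeCore_characteristic p
  haveI hKn : K.Normal := inferInstance
  have hKchar : K.Characteristic := by
    rw [Subgroup.characteristic_iff_map_le]
    rintro a _ ⟨x, hx, rfl⟩
    show π (a x) ∈ Cfsg.pPrimeCore p (G ⧸ N)
    have h := Subgroup.characteristic_iff_map_le.mp hKc' (QuotientGroup.congr N N a (Subgroup.characteristic_iff_map_eq.mp hNc a))
    exact h ⟨π x, hx, rfl⟩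
  have hNK : N ≤ K := by
    intro x hx
    show π x ∈ Cfsg.pPrimeCore p (G ⧸ N)
    rw [show π x = 1 from (QuotientGroup.eq_one_iff x).mpr hx]; exact one_mem _
  have hidx : N.relIndex K = Nat.card (Cfsg.pPrimeCore p (G ⧸ N)) := by
    exact relIndex_comap_mk N _
  have hcop : (Nat.card (N.subgroupOf K)).Coprime (N.subgroupOf K).index := by
    rw [Nat.card_congr (Subgroup.subgroupOfEquivOfLe hNK).toEquiv]
    show (Nat.card N).Coprime (N.relIndex K)
    rw [hidx]
    obtain ⟨k, hk⟩ := IsPGroup.iff_card.mp hNp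
    rw [hk]
    exact Nat.Coprime.pow_left k (CfsgLib.Core.card_pPrimeCore_coprime p).symm
  obtain ⟨L0, hL0⟩ := Subgroup.exists_right_complement'_of_coprime hcop
  set L := L0.map K.subtype with hL
  have hLK : L ≤ K := Subgroup.map_subtype_le _
  have hLc : Nat.card L = N.relIndex K := by
    rw [hL, Subgroup.card_map_of_injective K.subtype_injective]; exact (hL0.symm.index_eq_card).symm
  have hLp : (Nat.card L).Coprime p := by rw [hLc, hidx]; exact CfsgLib.Core.card_pPrimeCore_coprime p
  have hLne : L ≠ ⊥ := fun h => hKbar (Subgroup.card_eq_one.mp (by rw [← hidx, ← hLc, h, Subgroup.card_bot]))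
  have hNL : (Nat.card N).Coprime (Nat.card L) := by
    obtain ⟨k, hk⟩ := IsPGroup.iff_card.mp hNp
    rw [hk]; exact hLp.symm.pow_left k
  have hLN : L ≤ Subgroup.normalizer (N : Set G) := le_top.trans_eq (Subgroup.normalizer_eq_top (H := N)).symm
  have hNLK : N ⊔ L = K := by
    refine Subgroup.eq_of_le_of_card_ge (sup_le hNK hLK) ?_
    rw [CfsgLib.GroupB.Coprime.card_sup_eq hLN (CfsgLib.GroupB.Coprime.inf_eq_bot_of_coprime hNL), hLc,
      ← Subgroup.relIndex_bot_left N, Subgroup.relIndex_mul_relIndex _ _ _ bot_le hNK, Subgroup.relIndex_bot_left]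
  haveI := hNp.isNilpotent
  have hfrat : ∀ g : G, ∃ n ∈ N, n⁻¹ * g ∈ Subgroup.normalizer (L : Set G) := by
    intro g
    obtain ⟨n, hn, he⟩ := CfsgLib.GroupB.Coprime.sup_conj N L (L.map (MulAut.conj g).toMonoidHom) hLN hNL
      (by rw [hNLK]; rintro _ ⟨y, hy, rfl⟩; exact hKn.conj_mem y (hLK hy) g)
      (CfsgLib.GroupB.SchurZassenhaus.card_map_conj g L) (Or.inl inferInstance)
    refine ⟨n, hn, CfsgLib.GroupB.Coprime.mem_normalizer_iff_map_conj_eq.mpr ?_⟩
    rw [← CfsgLib.GroupB.SchurZassenhaus.map_conj_map_conj g n⁻¹, he, CfsgLib.GroupB.SchurZassenhaus.map_conj_map_conj,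
      inv_mul_cancel, map_one]
    exact Subgroup.map_id L
  -- `L` does not centralize all elements of order `p`
  have hnot : ¬ ∀ x : G, orderOf x = p → ∀ a ∈ L, a * x = x * a := by
    intro hfix
    have hc : N ≤ Subgroup.centralizer (L : Set G) := by
      have hcentx : ∀ x ∈ N, x ^ p = 1 → ∀ a ∈ L, a * x = x * a := fun x _ hxp a ha => by
        by_cases hx1 : x = 1
        · rw [hx1, mul_one, one_mul]
        · exact hfix x (orderOf_eq_prime hxp hx1) a ha
      intro x hx
      refine Subgroup.mem_centralizer_iff.mpr fun a ha => ?_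
      have := centralize_of_order_p hp2 (Subgroup.zpowers a) inferInstance
        (hLp.coprime_dvd_left (Subgroup.card_dvd_of_le ((Subgroup.zpowers_le).mpr ha))) _ N rfl hNp
        (((Subgroup.zpowers_le).mpr ha).trans hLN) (fun y hy hyp b hb => hcentx y hy hyp b ((Subgroup.zpowers_le).mpr ha hb)) hx
      exact Subgroup.mem_centralizer_iff.mp this a (Subgroup.mem_zpowers a)
    refine hLne (le_bot_iff.mp (hO ▸ CfsgLib.Core.le_pPrimeCore ?_ hLp))
    refine Subgroup.normalizer_eq_top_iff.mp (eq_top_iff.mpr fun g _ => ?_)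
    obtain ⟨n, hn, hg⟩ := hfrat g
    rw [show g = n * (n⁻¹ * g) by group]
    exact (Subgroup.normalizer _).mul_mem (Subgroup.centralizer_le_normalizer _ (hc hn)) hg
  -- elements of order `p` are central in `N`
  have hZ : ∀ x : G, orderOf x = p → ∀ y ∈ N, y * x = x * y := by
    intro x hx y hy
    haveI : Nontrivial N := (Subgroup.nontrivial_iff_ne_bot N).mpr hNne
    haveI := hNp.center_nontrivial
    have hchar : ((Subgroup.center N).map N.subtype).Characteristic := by
      rw [Subgroup.characteristic_iff_map_le]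
      rintro a _ ⟨_, ⟨z, hz, rfl⟩, rfl⟩
      have haN : ∀ w ∈ N, a w ∈ N := fun w hw => Subgroup.characteristic_iff_map_le.mp hNc a ⟨w, hw, rfl⟩
      refine ⟨⟨a z, haN z z.2⟩, Subgroup.mem_center_iff.mpr fun w => Subtype.ext ?_, rfl⟩
      obtain ⟨w', hw', hww⟩ : (w : G) ∈ N.map a.toMonoidHom := by rw [Subgroup.characteristic_iff_map_eq.mp hNc a]; exact w.2
      show (w : G) * a z = a z * w
      rw [← hww]
      show a w' * a z = a z * a w'
      rw [← map_mul, ← map_mul]
      exact congrArg a (congrArg Subtype.val (Subgroup.mem_center_iff.mp hz ⟨w', hw'⟩))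
    have hne : (Subgroup.center N).map N.subtype ≠ ⊥ := fun h => (Subgroup.nontrivial_iff_ne_bot _).mp inferInstance
      ((Subgroup.map_eq_bot_iff_of_injective _ N.subtype_injective).mp h)
    obtain ⟨z, hz, rfl⟩ := hall _ hchar hne (Subgroup.map_subtype_le _) x hx
    exact congrArg Subtype.val (Subgroup.mem_center_iff.mp hz ⟨y, hy⟩)
  -- no element of order `p` normalizes `L`
  obtain ⟨t, ht, htL⟩ : ∃ t : G, orderOf t = p ∧ t ∈ Subgroup.normalizer (L : Set G) := by
    set M := Subgroup.normalizer (L : Set G)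
    have hsurj : Function.Surjective (π.comp M.subtype) := fun q => by
      obtain ⟨g, rfl⟩ := hπ q
      obtain ⟨n, hn, hg⟩ := hfrat g
      refine ⟨⟨_, hg⟩, ?_⟩
      show π (n⁻¹ * g) = π g
      rw [map_mul, map_inv, show π n = 1 from (QuotientGroup.eq_one_iff n).mpr hn, inv_one, one_mul]
    obtain ⟨t, ht⟩ := exists_prime_orderOf_dvd_card' (G := M) p (hd.trans (Subgroup.card_dvd_of_surjective _ hsurj))
    exact ⟨t, (Subgroup.orderOf_coe t).trans ht, t.2⟩
  have htN : t ∈ N := hall N hNc hNne le_rfl t ht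
  have htc : ∀ a ∈ L, a * t = t * a := by
    intro a ha
    have h1 : t * a * t⁻¹ * a⁻¹ ∈ N ⊓ L := by
      refine ⟨?_, L.mul_mem ((Subgroup.mem_normalizer_iff.mp htL a).mp ha) (L.inv_mem ha)⟩
      rw [show t * a * t⁻¹ * a⁻¹ = t * (a * t⁻¹ * a⁻¹) by group]
      exact N.mul_mem htN ((inferInstance : N.Normal).conj_mem _ (N.inv_mem htN) a)
    rw [CfsgLib.GroupB.Coprime.inf_eq_bot_of_coprime hNL, Subgroup.mem_bot, mul_inv_eq_one, mul_inv_eq_iff_eq_mul] at h1
    exact h1.symm
  haveI := hKchar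
  have hW : (N ⊓ Subgroup.centralizer (K : Set G)).Characteristic := by
    rw [Subgroup.characteristic_iff_map_le]
    rintro a _ ⟨x, ⟨hxN, hxC⟩, rfl⟩
    refine ⟨Subgroup.characteristic_iff_map_le.mp hNc a ⟨x, hxN, rfl⟩, Subgroup.mem_centralizer_iff.mpr fun k hk => ?_⟩
    obtain ⟨k', hk', rfl⟩ : k ∈ K.map a.toMonoidHom := by rw [Subgroup.characteristic_iff_map_eq.mp hKchar a]; exact hk
    show a k' * a x = a x * a k'
    rw [← map_mul, ← map_mul, Subgroup.mem_centralizer_iff.mp hxC k' hk']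
  have hWne : N ⊓ Subgroup.centralizer (K : Set G) ≠ ⊥ := by
    intro h
    have : t ∈ N ⊓ Subgroup.centralizer (K : Set G) := by
      refine ⟨htN, Subgroup.mem_centralizer_iff.mpr fun k hk => ?_⟩
      rw [SetLike.mem_coe, ← hNLK] at hk
      obtain ⟨n, hn, a, ha, rfl⟩ := (CfsgLib.GroupB.Coprime.mem_sup_of_le_normalizer hLN).mp hk
      rw [mul_assoc, htc a ha, ← mul_assoc, hZ t ht n hn, mul_assoc]
    rw [h, Subgroup.mem_bot] at this
    rw [this, orderOf_one] at ht
    exact hp.out.one_lt.ne ht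
  exact hnot fun x hx a ha => Subgroup.mem_centralizer_iff.mp (hall _ hW hWne inf_le_left x hx).2 a (hLK ha)

/-- The Gaschütz–Yen Theorem: let G be a finite p-soluble group, p an odd prime dividing its order, such that the automorphism group of G permutes the subgroups of G of order p transitively. Then G has p-length at most 1. -/
theorem result {G : Type*} [Group G] [Finite G] {p : ℕ} [Fact p.Prime] (hp : p ≠ 2) (hdvd : p ∣ Nat.card G) (hG : Cfsg.IsPSolvable p G) (htrans : ∀ U V : Subgroup G, Nat.card U = p → Nat.card V = p → ∃ a : MulAut G, U.map a.toMonoidHom = V) : Cfsg.PLengthLE p 1 G := by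
  haveI := Fact.mk (Fact.out : p.Prime)
  have hfirst : (Cfsg.upperPSeries p G 1).1 = Cfsg.pPrimeCore p G := by
    show ((Cfsg.pPrimeCore p (G ⧸ (⊥ : Subgroup G))).comap (QuotientGroup.mk' ⊥)) = _
    have h := CfsgLib.Core.pPrimeCore_map_equiv (QuotientGroup.quotientBot (G := G)).symm p
    rw [← h]
    exact Subgroup.comap_map_eq_self_of_injective (QuotientGroup.quotientBot (G := G)).symm.injective _
  set O := (Cfsg.upperPSeries p G 1).1 with hO
  haveI : O.Normal := (Cfsg.upperPSeries p G 1).2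
  haveI hOc : O.Characteristic := hfirst ▸ CfsgLib.Core.pPrimeCore_characteristic p
  set π := QuotientGroup.mk' O
  have hπ := QuotientGroup.mk'_surjective O
  have hOcop : (Nat.card O).Coprime p := hfirst ▸ CfsgLib.Core.card_pPrimeCore_coprime p
  have hO1 : Cfsg.pPrimeCore p (G ⧸ O) = ⊥ := by
    set M := (Cfsg.pPrimeCore p (G ⧸ O)).comap π with hM
    haveI : (Cfsg.pPrimeCore p (G ⧸ O)).Normal := by haveI := CfsgLib.Core.pPrimeCore_characteristic (G := G ⧸ O) p; infer_instance
    have hc : (Nat.card M).Coprime p := by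
      rw [← Subgroup.relIndex_bot_left, ← Subgroup.relIndex_mul_relIndex ⊥ O M bot_le
        (fun x hx => Subgroup.mem_comap.mpr (by rw [show π x = 1 from (QuotientGroup.eq_one_iff x).mpr hx]; exact one_mem _)),
        Subgroup.relIndex_bot_left]
      refine Nat.Coprime.mul_left hOcop ?_
      rw [hM, relIndex_comap_mk]
      exact CfsgLib.Core.card_pPrimeCore_coprime p
    have hle : M ≤ O := hfirst ▸ CfsgLib.Core.le_pPrimeCore (inferInstance) hc
    rw [← Subgroup.map_comap_eq_self_of_surjective hπ (Cfsg.pPrimeCore p (G ⧸ O)), Subgroup.map_eq_bot_iff, QuotientGroup.ker_mk']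
    exact hle
  have htr' : ∀ U V : Subgroup (G ⧸ O), Nat.card U = p → Nat.card V = p → ∃ a : MulAut (G ⧸ O), U.map a.toMonoidHom = V := by
    have hlift : ∀ U : Subgroup (G ⧸ O), Nat.card U = p → ∃ U' : Subgroup G, Nat.card U' = p ∧ U'.map π = U := by
      intro U hU
      haveI : Fact (Nat.card U).Prime := ⟨hU ▸ (Fact.out : p.Prime)⟩
      obtain ⟨P⟩ : Nonempty (Sylow p (U.comap π)) := inferInstance
      have hc : Nat.card (U.comap π) = Nat.card O * p := by
        rw [← Subgroup.relIndex_bot_left, ← Subgroup.relIndex_mul_relIndex ⊥ O (U.comap π) bot_le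
          (fun x hx => Subgroup.mem_comap.mpr (by rw [show π x = 1 from (QuotientGroup.eq_one_iff x).mpr hx]; exact one_mem _)),
          Subgroup.relIndex_bot_left]
        congr 1
        rw [relIndex_comap_mk, hU]
      have hP : Nat.card (P : Subgroup (U.comap π)) = p := by
        rw [P.card_eq_multiplicity, hc, Nat.factorization_mul Nat.card_pos.ne' (Fact.out : p.Prime).ne_zero, Finsupp.add_apply,
          Nat.factorization_eq_zero_of_not_dvd ((Fact.out : p.Prime).coprime_iff_not_dvd.mp hOcop.symm), zero_add,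
          (Fact.out : p.Prime).factorization_self, pow_one]
      refine ⟨(P : Subgroup (U.comap π)).map (U.comap π).subtype, by rw [Subgroup.card_map_of_injective (U.comap π).subtype_injective]; exact hP, ?_⟩
      refine Subgroup.eq_of_le_of_card_ge (fun x hx => by obtain ⟨_, ⟨y, -, rfl⟩, rfl⟩ := hx; exact y.2) ?_
      rw [hU]
      set U' := ((P : Subgroup (U.comap π)).map (U.comap π).subtype).map π
      rcases (Nat.dvd_prime (Fact.out : p.Prime)).mp (hP ▸ (Subgroup.card_map_dvd _ π).trans (Subgroup.card_map_dvd _ (U.comap π).subtype) : Nat.card U' ∣ p) with h | h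
      · exfalso
        have hle : (P : Subgroup (U.comap π)).map (U.comap π).subtype ≤ O := by
          exact le_of_le_of_eq ((Subgroup.map_eq_bot_iff _).mp (Subgroup.card_eq_one.mp h)) (QuotientGroup.ker_mk' O)
        have := Subgroup.card_dvd_of_le hle
        rw [Subgroup.card_map_of_injective (U.comap π).subtype_injective, hP] at this
        exact (Fact.out : p.Prime).coprime_iff_not_dvd.mp hOcop.symm this
      · exact h.ge
    intro U V hU hV
    obtain ⟨U', hU', rfl⟩ := hlift U hU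
    obtain ⟨V', hV', rfl⟩ := hlift V hV
    obtain ⟨a, rfl⟩ := htrans U' V' hU' hV'
    refine ⟨QuotientGroup.congr O O a (Subgroup.characteristic_iff_map_eq.mp hOc a), ?_⟩
    rw [Subgroup.map_map, Subgroup.map_map]
    rfl
  have hmain := not_dvd_index hp (isPSolvable_map Fact.out π hπ hG) hO1 htr'
  -- the third term of the series is everything
  unfold Cfsg.PLengthLE
  show (Cfsg.upperPSeries p G 3).1 = ⊤
  set S2 := (Cfsg.upperPSeries p G 2).1 with hS2
  haveI : S2.Normal := (Cfsg.upperPSeries p G 2).2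
  have hS2e : S2 = (Cfsg.pCore p (G ⧸ O)).comap π := rfl
  show (Cfsg.pPrimeCore p (G ⧸ S2)).comap (QuotientGroup.mk' S2) = ⊤
  rw [eq_top_iff]
  intro x _
  refine CfsgLib.Core.le_pPrimeCore (N := (⊤ : Subgroup (G ⧸ S2))) inferInstance ?_ (Subgroup.mem_top _)
  rw [Subgroup.card_top]
  refine ((Fact.out : p.Prime).coprime_iff_not_dvd.mpr ?_).symm
  show ¬ p ∣ S2.index
  rw [hS2e, Subgroup.index_comap_of_surjective _ hπ]
  exact hmain

end Cfsg.Agent.S3798
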