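import Cfsg.Statements.S0862
import Mathlib
import Cfsg.Agent.Lib.DetChar

set_option autoImplicit false
open Cfsg

namespace Cfsg.Agent.S0862

/-- Let N be a normal subgroup of the finite group G and ϑ an irreducible character of N of degree d coprime to the index of N, which is the restriction of some irreducible character of G. Let μ be a character of G of degree 1 whose restriction to N is the determinantal character of ϑ. Then there is exactly one irreducible character χ of G restricting to ϑ whose determinantal character is μ. -/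
theorem result {G : Type*} [Group G] [Finite G] (N : Subgroup G) [N.Normal] (ϑ : N → ℂ) (hϑ : Cfsg.IsIrrCharacter N ϑ) (d : ℕ) (hd : ϑ 1 = d) (hcop : Nat.Coprime N.index d) (hext : ∃ η : G → ℂ, Cfsg.IsIrrCharacter G η ∧ (∀ n : N, η n = ϑ n)) (μ : G → ℂ) (hμ : Cfsg.IsCharacter G μ ∧ μ 1 = 1) (hμN : ∀ n : N, μ n = Cfsg.detChar ϑ n) : ∃! χ : G → ℂ, Cfsg.IsIrrCharacter G χ ∧ (∀ n : N, χ n = ϑ n) ∧ Cfsg.detChar χ = μ := by
  classical
  haveI := Fintype.ofFinite G
  haveI : Fintype N := Fintype.ofFinite N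
  let θ : Cfsg.IrrCharacter N := ⟨ϑ, hϑ⟩
  have hdeg : Cfsg.charDegree (θ : N → ℂ) = d := by
    show Cfsg.charDegree ϑ = d
    simp [Cfsg.charDegree, hd]
  obtain ⟨η, hη, hηn⟩ := hext
  let α : Cfsg.IrrCharacter G := ⟨η, hη⟩
  obtain ⟨D, hD⟩ := CfsgLib.Extendible.exists_detHom α
  obtain ⟨m, hm⟩ := CfsgLib.Chars.IsCharacter.exists_hom hμ.1 hμ.2
  let ν : G →* ℂˣ := m * D⁻¹
  have hν : ∀ n : N, ν n = 1 := fun n => by
    show m n * (D n)⁻¹ = 1
    rw [mul_inv_eq_one]
    apply Units.ext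
    rw [hD, CfsgLib.DetChar.detChar_res N α θ hηn n]
    exact (congrFun hm (n : G)).symm.trans (hμN n)
  have hνi : ∀ x, ν x ^ N.index = 1 := fun x => by
    rw [← map_pow]; exact hν ⟨_, N.pow_index_mem x⟩
  obtain ⟨k, hk⟩ : ∃ k, N.index ∣ 1 + (N.index - 1) * (d * k) := by
    rcases eq_or_ne N.index 1 with h | h
    · exact ⟨0, by rw [h]; exact one_dvd _⟩
    · obtain ⟨k, -, hk⟩ := Nat.exists_mul_mod_eq_one_of_coprime hcop.symm
        (by have := N.index_ne_zero_of_finite; omega)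
      refine ⟨k, ?_⟩
      rw [← Nat.modEq_zero_iff_dvd]
      have h1 : d * k ≡ 1 [MOD N.index] := by
        rw [Nat.ModEq, hk, Nat.mod_eq_of_lt (by have := N.index_ne_zero_of_finite; omega)]
      have h2 := ((h1.mul_left (N.index - 1)).add_left 1)
      refine h2.trans ?_
      rw [Nat.modEq_zero_iff_dvd]
      exact ⟨1, by have := N.index_ne_zero_of_finite; omega⟩
  let L : G →* ℂˣ := ν ^ k
  have hLd : ∀ x, L x ^ d = ν x := by
    intro x
    show (ν x ^ k) ^ d = ν x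
    obtain ⟨j, hj⟩ := hk
    have hinvx : ν x ^ (N.index - 1) = (ν x)⁻¹ := by
      refine eq_inv_of_mul_eq_one_left ?_
      rw [← pow_succ, Nat.sub_add_cancel (Nat.one_le_iff_ne_zero.2 N.index_ne_zero_of_finite), hνi]
    have h2 : ν x ^ (1 + (N.index - 1) * (d * k)) = 1 := by rw [hj, pow_mul, hνi, one_pow]
    rw [pow_add, pow_one, pow_mul, hinvx, inv_pow, mul_inv_eq_one] at h2
    rw [← pow_mul, mul_comm k d]
    exact h2.symm
  let χ : Cfsg.IrrCharacter G := ⟨_, CfsgLib.Chars.isIrrCharacter_hom_mul L α⟩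
  have hχn : ∀ n : N, (χ : G → ℂ) n = ϑ n := fun n => by
    show (L n : ℂ) * η n = ϑ n
    rw [show L n = 1 from by show ν n ^ k = 1; rw [hν, one_pow], Units.val_one, one_mul, hηn]
  have hαd : Cfsg.charDegree (α : G → ℂ) = d := by
    show Cfsg.charDegree η = d
    have := hηn 1
    rw [OneMemClass.coe_one, hd] at this
    simp [Cfsg.charDegree, this]
  have hdetχ : Cfsg.detChar (χ : G → ℂ) = μ := by
    funext x
    show Cfsg.detChar (fun y => (L y : ℂ) * (α : G → ℂ) y) x = μ x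
    rw [CfsgLib.DetChar.detChar_twist, hαd, ← Units.val_pow_eq_pow_val, hLd, hm, ← hD, ← Units.val_mul]
    show ((m x * (D x)⁻¹ * D x : ℂˣ) : ℂ) = (m x : ℂ)
    rw [inv_mul_cancel_right]
  refine ⟨χ, ⟨χ.2, hχn, hdetχ⟩, fun χ' ⟨h1, h2, h3⟩ => ?_⟩
  exact CfsgLib.DetChar.eq_of_detChar_eq N θ (hdeg ▸ hcop) χ ⟨χ', h1⟩ hχn h2 (fun g _ => by
    show Cfsg.detChar χ' g = _
    rw [h3, hdetχ])

end Cfsg.Agent.S0862
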