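import Cfsg.Statements.S0867
import Mathlib
import Cfsg.Agent.Lib.DetChar
import Cfsg.Agent.S0862

set_option autoImplicit false
open Cfsg

namespace Cfsg.Agent.S0867

/-- Let N be a normal subgroup of the finite group G and ϑ an irreducible character of N of degree d, invariant under conjugation by G, such that the index of N is coprime to the product of d and the determinantal order of ϑ. Then there is an irreducible character χ of G restricting to ϑ whose determinantal order equals that of ϑ, and χ is the only irreducible character of G restricting to ϑ whose determinantal order is coprime to the index of N. -/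
theorem result {G : Type*} [Group G] [Finite G] (N : Subgroup G) [hN : N.Normal] (ϑ : N → ℂ) (hϑ : Cfsg.IsIrrCharacter N ϑ) (hinv : ∀ (g : G) (n : N), ϑ ⟨g * n * g⁻¹, hN.conj_mem (n : G) n.2 g⟩ = ϑ n) (d : ℕ) (hd : ϑ 1 = d) (hcop : Nat.Coprime N.index (Cfsg.detOrder ϑ * d)) : ∃ χ : G → ℂ, (Cfsg.IsIrrCharacter G χ ∧ (∀ n : N, χ n = ϑ n) ∧ Cfsg.detOrder χ = Cfsg.detOrder ϑ) ∧ ∀ χ' : G → ℂ, Cfsg.IsIrrCharacter G χ' → (∀ n : N, χ' n = ϑ n) → Nat.Coprime N.index (Cfsg.detOrder χ') → χ' = χ := by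
  classical
  haveI := Fintype.ofFinite G
  haveI : Fintype N := Fintype.ofFinite N
  let θ : Cfsg.IrrCharacter N := ⟨ϑ, hϑ⟩
  have hinv' : ∀ g, CfsgLib.Chars.conjIrr N θ g = θ := fun g =>
    Subtype.ext (funext fun n => (CfsgLib.Chars.conjIrr_apply' N θ g n).trans (hinv g n))
  have hdeg : Cfsg.charDegree (θ : N → ℂ) = d := by
    show Cfsg.charDegree ϑ = d
    simp [Cfsg.charDegree, hd]
  obtain ⟨f, hf⟩ := CfsgLib.Extendible.exists_detHom θ
  have hord : orderOf f = Cfsg.detOrder ϑ := by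
    let F : (N →* ℂˣ) →* (N → ℂ) :=
      { toFun := fun f n => (f n : ℂ), map_one' := rfl, map_mul' := fun a b => rfl }
    have hF : Function.Injective F := fun a b h => MonoidHom.ext fun n => Units.ext (congrFun h n)
    rw [← orderOf_injective F hF f]
    exact congrArg orderOf (funext hf)
  have hN0 := N.index_ne_zero_of_finite
  set o := Cfsg.detOrder ϑ
  have hfo : ∀ n, (f n) ^ o = 1 := fun n => by
    rw [← MonoidHom.pow_apply, ← hord, pow_orderOf_eq_one, MonoidHom.one_apply]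
  obtain ⟨χ0, hχ0⟩ := CfsgLib.Extendible.extends_of_local N θ hinv' (fun p hp => by
    by_cases hpi : p ∣ N.index
    · refine Or.inr ⟨o, 1, ?_, fun n => ?_⟩
      · rw [hdeg, mul_comm]
        exact (hcop.coprime_dvd_left hpi).symm
      · rw [← hf, ← Units.val_pow_eq_pow_val, hfo]; rfl
    · exact Or.inl ⟨N, le_rfl, ϑ, ((hp.coprime_iff_not_dvd).2 hpi).symm, hϑ, fun n => rfl⟩)
  obtain ⟨D, hD⟩ := CfsgLib.Extendible.exists_detHom χ0
  have hDN : ∀ n : N, D n = f n := fun n => Units.ext (by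
    rw [hD, hf]; exact CfsgLib.DetChar.detChar_res N χ0 θ hχ0 n)
  have ho : 0 < o := by
    rw [← hord]
    refine IsOfFinOrder.orderOf_pos (isOfFinOrder_iff_pow_eq_one.2 ⟨Nat.card N, Nat.card_pos, ?_⟩)
    exact MonoidHom.ext fun n => by rw [MonoidHom.pow_apply, ← map_pow, pow_card_eq_one', map_one, MonoidHom.one_apply]
  obtain ⟨s, hs⟩ : ∃ s, N.index * s ≡ 1 [MOD o] := by
    rcases eq_or_ne o 1 with h | h
    · exact ⟨0, by rw [h]; exact Nat.modEq_one⟩
    · obtain ⟨s, -, hs⟩ := Nat.exists_mul_mod_eq_one_of_coprime (hcop.coprime_mul_right_right) (by omega)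
      exact ⟨s, by rw [Nat.ModEq, hs, Nat.mod_eq_of_lt (by omega)]⟩
  let m : G →* ℂˣ := D ^ (N.index * s)
  have hmN : ∀ n : N, m n = f n := fun n => by
    show D n ^ (N.index * s) = f n
    rw [hDN]
    conv_rhs => rw [← pow_one (f n)]
    exact pow_eq_pow_iff_modEq.2 (hs.of_dvd (orderOf_dvd_of_pow_eq_one (hfo n)))
  have hmo : ∀ x, m x ^ o = 1 := fun x => by
    show (D x ^ (N.index * s)) ^ o = 1
    have h1 : (D x ^ N.index) ^ o = 1 := by
      rw [← map_pow D, show D (x ^ N.index) = f ⟨_, N.pow_index_mem x⟩ from hDN ⟨_, N.pow_index_mem x⟩, hfo]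
    rw [← pow_mul, mul_right_comm, pow_mul, pow_mul, h1, one_pow]
  obtain ⟨χ, ⟨hχ, hχn, hdet⟩, -⟩ := Cfsg.Agent.S0862.result N ϑ hϑ d hd hcop.coprime_mul_left_right
    ⟨χ0, χ0.2, hχ0⟩ (fun g => (m g : ℂ)) ⟨CfsgLib.Chars.isCharacter_hom m, by simp⟩ (fun n => by
      show (m n : ℂ) = _
      rw [hmN, hf])
  refine ⟨χ, ⟨hχ, hχn, ?_⟩, fun χ' h1 h2 h3 => ?_⟩
  · rw [Cfsg.detOrder, hdet]
    let F : (G →* ℂˣ) →* (G → ℂ) :=
      { toFun := fun f n => (f n : ℂ), map_one' := rfl, map_mul' := fun a b => rfl }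
    have hF : Function.Injective F := fun a b h => MonoidHom.ext fun n => Units.ext (congrFun h n)
    rw [show (fun g => (m g : ℂ)) = F m from rfl, orderOf_injective F hF m]
    refine Nat.dvd_antisymm (orderOf_dvd_of_pow_eq_one (MonoidHom.ext fun x => hmo x)) ?_
    rw [← hord]
    refine orderOf_dvd_of_pow_eq_one (MonoidHom.ext fun n => ?_)
    rw [MonoidHom.pow_apply, ← hmN n, ← MonoidHom.pow_apply, pow_orderOf_eq_one]
    rfl
  · refine CfsgLib.DetChar.eq_of_detChar_eq N θ (hdeg ▸ hcop.coprime_mul_left_right) ⟨χ, hχ⟩ ⟨χ', h1⟩ hχn h2 (fun g hg => ?_)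
    show Cfsg.detChar χ' g = Cfsg.detChar χ g
    change Cfsg.detChar χ' g ^ N.index = Cfsg.detChar χ g ^ N.index at hg
    obtain ⟨D', hD'⟩ := CfsgLib.Extendible.exists_detHom (⟨χ', h1⟩ : Cfsg.IrrCharacter G)
    have e1 : Cfsg.detChar χ' g = (D' g : ℂ) := (hD' g).symm
    have e2 : Cfsg.detChar χ g = (m g : ℂ) := congrFun hdet g
    have hq : D' g ^ N.index = m g ^ N.index := Units.ext (by
      rw [Units.val_pow_eq_pow_val, Units.val_pow_eq_pow_val, ← e1, ← e2, hg])
    have hD'o : D' g ^ Cfsg.detOrder χ' = 1 := Units.ext (by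
      rw [Units.val_pow_eq_pow_val, ← e1, Units.val_one]
      exact congrFun (pow_orderOf_eq_one (Cfsg.detChar χ')) g)
    have hr : (D' g * (m g)⁻¹) ^ N.index = 1 := by rw [mul_pow, inv_pow, hq, mul_inv_cancel]
    have hr2 : (D' g * (m g)⁻¹) ^ (Cfsg.detOrder χ' * o) = 1 := by
      rw [mul_pow, inv_pow, pow_mul, hD'o, one_pow, one_mul, mul_comm, pow_mul, hmo, one_pow, inv_one]
    have hone := orderOf_eq_one_iff.1 (Nat.eq_one_of_dvd_coprimes
      (Nat.Coprime.mul_right h3 hcop.coprime_mul_right_right) (orderOf_dvd_of_pow_eq_one hr) (orderOf_dvd_of_pow_eq_one hr2))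
    rw [e1, e2, mul_inv_eq_one.1 hone]

end Cfsg.Agent.S0867
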