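import Cfsg.Statements.S0494
import Mathlib
import Cfsg.Agent.Lib.SmallSimple
import Cfsg.Agent.Lib.SmallSimple2

set_option autoImplicit false
open Cfsg

namespace Cfsg.Agent.S0494

/-- A simple group of order 60 is isomorphic to the alternating group of degree 5. -/
theorem result {G : Type*} [Group G] [Finite G] [IsSimpleGroup G]
    (h : Nat.card G = 60) : Nonempty (G ≃* alternatingGroup (Fin 5)) := by
  classical
  have hnc : ¬ IsMulCommutative G := CfsgLib.SmallSimple.not_isMulCommutative_of_card (by rw [h]; norm_num)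
  haveI : Fact (Nat.Prime 2) := ⟨Nat.prime_two⟩
  haveI : Fact (Nat.Prime 5) := ⟨by norm_num⟩
  suffices hH : ∃ H : Subgroup G, H.index = 5 by
    obtain ⟨H, hH⟩ := hH
    have hne : H ≠ ⊤ := fun e => by rw [e, Subgroup.index_top] at hH; norm_num at hH
    obtain ⟨f, hf⟩ := CfsgLib.InvolutionCount.exists_injective_perm H hne
    haveI := Fintype.ofFinite (G ⧸ H)
    obtain ⟨e⟩ : Nonempty ((G ⧸ H) ≃ Fin 5) := ⟨Finite.equivFinOfCardEq (by rw [← Subgroup.index_eq_card, hH])⟩
    let F : G →* Equiv.Perm (Fin 5) := e.permCongrHom.toMonoidHom.comp f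
    have hF : Function.Injective F := e.permCongrHom.injective.comp hf
    have hcard : Nat.card F.range = 60 := by
      rw [← Nat.card_congr (MonoidHom.ofInjective hF).toEquiv, h]
    have hidx : F.range.index = 2 := by
      have h1 := Subgroup.index_mul_card F.range
      rw [hcard, Nat.card_perm, Nat.card_eq_fintype_card, Fintype.card_fin] at h1
      norm_num [Nat.factorial] at h1
      omega
    exact ⟨(MonoidHom.ofInjective hF).trans (MulEquiv.subgroupCongr
      (Equiv.Perm.eq_alternatingGroup_of_index_eq_two hidx))⟩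
  have hP2 : ∀ P : Sylow 2 G, Nat.card (P : Subgroup G) = 4 ∧ Nat.card (Sylow 2 G) ∣ 15 ∧ Nat.card (Sylow 2 G) % 2 = 1 :=
    fun P => by
    have := CfsgLib.SmallSimple.card_sylow_mem (k := 2) (m := 15) (by rw [h]; norm_num) (by norm_num) P
    norm_num at this ⊢
    exact this
  obtain ⟨P₀⟩ := (inferInstance : Nonempty (Sylow 2 G))
  obtain ⟨-, hd, hmod⟩ := hP2 P₀
  have hne1 := CfsgLib.SmallSimple.card_sylow_ne_one hnc (p := 2) (by rw [h]; norm_num)
  have hidx : ∀ H : Subgroup G, H ≠ ⊤ → 5 ≤ H.index := fun H hH => by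
    have := CfsgLib.SmallSimple.card_dvd_factorial H hH
    rw [h] at this
    by_contra hlt
    have hle := Nat.le_of_dvd (Nat.factorial_pos _) this
    have := (Nat.factorial_le (by omega : H.index ≤ 4))
    norm_num [Nat.factorial] at this
    omega
  have hn : Nat.card (Sylow 2 G) = 5 ∨ Nat.card (Sylow 2 G) = 15 := by
    have h5 := hidx _ (CfsgLib.SmallSimple.normalizer_ne_top hnc (p := 2) (by rw [h]; norm_num) P₀)
    rw [show (Subgroup.normalizer ((P₀ : Subgroup G) : Set G)).index = Nat.card (Sylow 2 G) from (Sylow.card_eq_index_normalizer P₀).symm] at h5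
    have := Nat.le_of_dvd (by norm_num) hd
    generalize Nat.card (Sylow 2 G) = n at hd hne1 h5 this ⊢
    interval_cases n <;> simp_all
  rcases hn with hn | hn
  · exact ⟨Subgroup.normalizer ((P₀ : Subgroup G) : Set G), (Sylow.card_eq_index_normalizer P₀).symm.trans hn⟩
  -- two Sylow 2-subgroups meeting nontrivially
  obtain ⟨P, Q, hPQ, hint⟩ : ∃ P Q : Sylow 2 G, P ≠ Q ∧ (P : Subgroup G) ⊓ (Q : Subgroup G) ≠ ⊥ := by
    by_contra hcon
    push Not at hcon
    have h2 := CfsgLib.SmallSimple2.ncard_union hcon (fun P => (hP2 P).1)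
    have hP5 : ∀ P : Sylow 5 G, Nat.card (P : Subgroup G) = 5 ∧ Nat.card (Sylow 5 G) ∣ 12 ∧ Nat.card (Sylow 5 G) % 5 = 1 :=
      fun P => by
      have := CfsgLib.SmallSimple.card_sylow_mem (k := 1) (m := 12) (by rw [h]; norm_num) (by norm_num) P
      norm_num at this ⊢
      exact this
    have h5 := CfsgLib.SmallSimple2.ncard_union (CfsgLib.SmallSimple2.inf_eq_bot_of_card_prime (fun P => (hP5 P).1))
      (fun P => (hP5 P).1)
    obtain ⟨P'⟩ := (inferInstance : Nonempty (Sylow 5 G))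
    obtain ⟨-, hd5, hmod5⟩ := hP5 P'
    have hne5 := CfsgLib.SmallSimple.card_sylow_ne_one hnc (p := 5) (by rw [h]; norm_num)
    have hn5 : Nat.card (Sylow 5 G) = 6 := by
      have := Nat.le_of_dvd (by norm_num) hd5
      generalize Nat.card (Sylow 5 G) = n at hd5 hne5 hmod5 this ⊢
      interval_cases n <;> simp_all
    rw [hn] at h2
    rw [hn5] at h5
    have hdisj : Disjoint {g : G | g ≠ 1 ∧ ∃ P : Sylow 2 G, g ∈ (P : Subgroup G)}
        {g : G | g ≠ 1 ∧ ∃ P : Sylow 5 G, g ∈ (P : Subgroup G)} := by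
      rw [Set.disjoint_left]
      rintro g ⟨hg1, P, hgP⟩ ⟨-, Q, hgQ⟩
      refine hg1 (orderOf_eq_one_iff.1 (Nat.eq_one_of_dvd_coprimes (by norm_num : Nat.Coprime 4 5) ?_ ?_))
      · exact (hP2 P).1 ▸ Subgroup.orderOf_dvd_natCard _ hgP
      · exact (hP5 Q).1 ▸ Subgroup.orderOf_dvd_natCard _ hgQ
    have h6 := Set.ncard_union_eq hdisj
    have h7 := Set.ncard_le_ncard (Set.subset_univ
      ({g : G | g ≠ 1 ∧ ∃ P : Sylow 2 G, g ∈ (P : Subgroup G)} ∪ {g : G | g ≠ 1 ∧ ∃ P : Sylow 5 G, g ∈ (P : Subgroup G)}))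
    rw [h6, h2, h5, Set.ncard_univ, h] at h7
    norm_num at h7
  obtain ⟨⟨x, hxP, hxQ⟩, hx1⟩ := (Subgroup.ne_bot_iff_exists_ne_one.1 hint)
  have hx1' : x ≠ 1 := fun e => hx1 (Subtype.ext e)
  set H := Subgroup.centralizer ({x} : Set G) with hH
  have habel : ∀ R : Sylow 2 G, x ∈ (R : Subgroup G) → (R : Subgroup G) ≤ H := fun R hxR y hy =>
    Subgroup.mem_centralizer_singleton_iff.2 (congrArg Subtype.val
      (IsPGroup.commutative_of_card_eq_prime_sq (p := 2) (by rw [(hP2 R).1]; norm_num) ⟨y, hy⟩ ⟨x, hxR⟩))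
  have h4 : 4 ∣ Nat.card H := (hP2 P).1 ▸ Subgroup.card_dvd_of_le (habel P hxP)
  have hgt : Nat.card H ≠ 4 := fun e => hPQ (Sylow.ext ((Subgroup.eq_of_le_of_card_ge (habel P hxP)
    (by rw [e, (hP2 P).1])).trans (Subgroup.eq_of_le_of_card_ge (habel Q hxQ) (by rw [e, (hP2 Q).1])).symm))
  refine ⟨H, ?_⟩
  have h5 := hidx H (CfsgLib.SmallSimple.centralizer_ne_top hnc hx1')
  have hmul := Subgroup.index_mul_card H
  rw [h] at hmul
  obtain ⟨k, hk⟩ := h4
  rw [hk] at hgt hmul
  have h6 : H.index * k = 15 := by linarith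
  have h7 : H.index ∣ 15 := ⟨k, h6.symm⟩
  have := Nat.le_of_dvd (by norm_num) h7
  generalize H.index = n at h5 h6 h7 this ⊢
  interval_cases n <;> simp_all

end Cfsg.Agent.S0494
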