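import Cfsg.Statements.S2330
import Mathlib

set_option autoImplicit false
open Cfsg

namespace Cfsg.Agent.S2330

/-- Over a finite field with q elements, the general linear group GL₂ has exactly q² − 1 conjugacy classes. -/
theorem result {F : Type*} [Field F] [Fintype F] :
    Nat.card (ConjClasses (Matrix.GeneralLinearGroup (Fin 2) F)) = Fintype.card F ^ 2 - 1 := by
  classical
  let G := Matrix.GeneralLinearGroup (Fin 2) F
  let S : Fˣ → G := fun a => Units.map (Matrix.scalar (Fin 2)).toMonoidHom a
  let C : F × Fˣ → G := fun td => Matrix.GeneralLinearGroup.mkOfDetNeZero !![0, -(td.2 : F); 1, td.1]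
    (by rw [Matrix.det_fin_two_of]; simp)
  let f : Fˣ ⊕ F × Fˣ → ConjClasses G := fun x => ConjClasses.mk (Sum.elim S C x)
  have hS : ∀ a : Fˣ, (S a : Matrix (Fin 2) (Fin 2) F) = Matrix.scalar (Fin 2) (a : F) := fun a => rfl
  have hC : ∀ td, (C td : Matrix (Fin 2) (Fin 2) F) = !![0, -(td.2 : F); 1, td.1] := fun td => rfl
  have hScomm : ∀ a (g : G), g * S a = S a * g := fun a g => Units.ext
    (Matrix.scalar_commute (a : F) (fun _ => Commute.all _ _) (g : Matrix (Fin 2) (Fin 2) F)).eq.symm
  have hbij : Function.Bijective f := by
    constructor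
    · intro x y hxy
      obtain ⟨c, hc⟩ := isConj_iff.1 (ConjClasses.mk_eq_mk_iff_isConj.1 hxy)
      have htr : ∀ u v : G, c * u * c⁻¹ = v → (v : Matrix (Fin 2) (Fin 2) F).trace = (u : Matrix (Fin 2) (Fin 2) F).trace ∧
          (v : Matrix (Fin 2) (Fin 2) F).det = (u : Matrix (Fin 2) (Fin 2) F).det := by
        intro u v h
        subst h
        rw [Units.val_mul, Units.val_mul]
        exact ⟨Matrix.trace_units_conj c _, Matrix.det_units_conj c _⟩
      have hscal : ∀ a u, c * S a * c⁻¹ = u → u = S a := by
        intro a u h
        rw [← h, hScomm, mul_assoc, mul_inv_cancel, mul_one]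
      have hne : ∀ a td, S a ≠ C td := by
        intro a td h
        have := congrArg (fun g : G => (g : Matrix (Fin 2) (Fin 2) F) 1 0) h
        simp [hS, hC, Matrix.scalar_apply] at this
      rcases x with a | td <;> rcases y with b | sd
      · have := congrArg (fun g : G => (g : Matrix (Fin 2) (Fin 2) F) 0 0) (hscal a _ hc)
        simp [hS, Matrix.scalar_apply] at this
        exact congrArg Sum.inl (Units.ext this.symm)
      · exact absurd (hscal a _ hc).symm (hne a sd)
      · refine absurd ?_ (hne b td)
        simp only [Sum.elim_inl, Sum.elim_inr] at hc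
        have h2 : c * C td = c * S b := by
          rw [hScomm]
          exact mul_inv_eq_iff_eq_mul.1 hc
        exact (mul_left_cancel h2).symm
      · obtain ⟨h1, h2⟩ := htr _ _ hc
        simp only [Sum.elim_inr, hC, Matrix.trace_fin_two_of, Matrix.det_fin_two_of] at h1 h2
        have e1 : sd.1 = td.1 := by simpa using h1
        have e2 : (sd.2 : F) = td.2 := by simpa using h2
        rw [Prod.ext e1.symm (Units.ext e2.symm)]
    · intro k
      obtain ⟨g, rfl⟩ := ConjClasses.mk_surjective k
      set a := g 0 0 with ha
      set b := g 0 1 with hb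
      set c := g 1 0 with hc
      set e := g 1 1 with he
      have hg : (g : Matrix (Fin 2) (Fin 2) F) = !![a, b; c, e] := Matrix.eta_fin_two _
      have hdet : a * e - b * c ≠ 0 := by
        have := ((Matrix.isUnit_iff_isUnit_det _).1 g.isUnit).ne_zero
        rwa [hg, Matrix.det_fin_two_of] at this
      have key : ∀ x y : F, x * (c * x + e * y) - y * (a * x + b * y) ≠ 0 →
          ∃ z, f z = ConjClasses.mk g := by
        intro x y hxy
        let P : G := Matrix.GeneralLinearGroup.mkOfDetNeZero !![x, a * x + b * y; y, c * x + e * y]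
          (by rw [Matrix.det_fin_two_of]; intro h; exact hxy (by linear_combination h))
        refine ⟨Sum.inr (a + e, Units.mk0 _ hdet), ConjClasses.mk_eq_mk_iff_isConj.2 (isConj_iff.2 ⟨P, ?_⟩)⟩
        rw [mul_inv_eq_iff_eq_mul]
        refine Units.ext ?_
        rw [Units.val_mul, Units.val_mul, Sum.elim_inr, hC, hg]
        show !![x, a * x + b * y; y, c * x + e * y] * _ = _ * !![x, a * x + b * y; y, c * x + e * y]
        ext i j
        fin_cases i <;> fin_cases j <;> simp <;> ring
      by_cases h1 : c = 0
      · by_cases h2 : b = 0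
        · by_cases h3 : a = e
          · have ha0 : a ≠ 0 := fun h => hdet (by rw [h, h1]; ring)
            refine ⟨Sum.inl (Units.mk0 a ha0), ?_⟩
            show ConjClasses.mk (S _) = _
            congr 1
            refine Units.ext ?_
            rw [hS, hg, h1, h2, ← h3]
            ext i j
            fin_cases i <;> fin_cases j <;> simp
          · exact key 1 1 (by rw [h1, h2]; intro h; exact h3 (by linear_combination -h))
        · exact key 0 1 (by rw [h1]; intro h; exact h2 (by linear_combination -h))
      · exact key 1 0 (by intro h; exact h1 (by linear_combination h))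
  rw [← Nat.card_congr (Equiv.ofBijective f hbij), Nat.card_sum, Nat.card_prod, Nat.card_units,
    Nat.card_eq_fintype_card]
  obtain ⟨m, hm⟩ : ∃ m, Fintype.card F = m + 1 := ⟨Fintype.card F - 1, by have := Fintype.card_pos (α := F); omega⟩
  rw [hm, Nat.add_sub_cancel]
  symm
  apply Nat.sub_eq_of_eq_add
  ring

end Cfsg.Agent.S2330
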