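import Cfsg.Statements.S1979
import Cfsg.Agent.Lib.KInf

set_option autoImplicit false
open Cfsg

namespace Cfsg.Agent.S1979

/-- Let P be a finite p-group and Q a subgroup of P containing every term of the K-sequence of P of nonnegative index (every even-indexed term and every odd-indexed term after the initial term P). Then the K-infinity subgroups of Q, computed in Q and viewed in P, equal those of P. -/
theorem result {P : Type*} [Group P] [Finite P] {p : ℕ} [Fact p.Prime] (hP : IsPGroup p P) (Q : Subgroup P) (hQ : ∀ n : ℕ, Cfsg.kSeqEven P n ≤ Q ∧ Cfsg.kSeqOdd P (n + 1) ≤ Q) : (Cfsg.kInfLower ↥Q).map Q.subtype = Cfsg.kInfLower P ∧ (Cfsg.kInfUpper ↥Q).map Q.subtype = Cfsg.kInfUpper P := by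
  have h := fun n => CfsgLib.KInf.restrict hQ n
  obtain ⟨a, ha⟩ := CfsgLib.KInf.eventually_const (P := P)
  obtain ⟨b, hb⟩ := CfsgLib.KInf.eventually_const (P := ↥Q)
  set m := max a b
  have hm1 : a ≤ m := le_max_left a b
  have hm2 : b ≤ m := le_max_right a b
  constructor
  · rw [← (hb m hm2).1]
    refine le_antisymm ?_ ?_
    · exact (h m).2.2.trans (ha (m + 1) (hm1.trans (Nat.le_succ m))).1.le
    · rw [← (ha m hm1).1]; exact (h m).2.1
  · rw [← (hb m hm2).2]
    refine le_antisymm ?_ ?_
    · exact (h m).1.2.trans (ha m hm1).2.le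
    · rw [← (ha (m + 1) (hm1.trans (Nat.le_succ m))).2]; exact (h m).1.1

end Cfsg.Agent.S1979
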