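import Cfsg.Statements.S1467

set_option autoImplicit false
open Cfsg

namespace Cfsg.Agent.S1467


/-- Let G be a finite group with Puig series L_n(G). Then L_0 = 1, L_1 = G; L_{2n} ≤ L_{2n+2} ≤ L_{2m+3} ≤ L_{2m+1} for all n, m; there is k with L_{2n}(G) = L_*(G) and L_{2n+1}(G) = L(G) for all n ≥ k; L_*(G) ≤ L(G); and applying one Puig step to L_*(G) gives L(G) and to L(G) gives L_*(G). -/
theorem result {G : Type*} [Group G] [Finite G] :
    Cfsg.puigSeq G 0 = ⊥ ∧ Cfsg.puigSeq G 1 = ⊤ ∧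
      (∀ n m : ℕ, Cfsg.puigSeq G (2 * n) ≤ Cfsg.puigSeq G (2 * n + 2) ∧ Cfsg.puigSeq G (2 * n) ≤ Cfsg.puigSeq G (2 * m + 1) ∧
        Cfsg.puigSeq G (2 * m + 3) ≤ Cfsg.puigSeq G (2 * m + 1)) ∧
      (∃ k : ℕ, ∀ n : ℕ, k ≤ n → Cfsg.puigSeq G (2 * n) = Cfsg.puigLower G ∧ Cfsg.puigSeq G (2 * n + 1) = Cfsg.puigSubgroup G) ∧
      Cfsg.puigLower G ≤ Cfsg.puigSubgroup G ∧
      Cfsg.puigStep (Cfsg.puigLower G) = Cfsg.puigSubgroup G ∧ Cfsg.puigStep (Cfsg.puigSubgroup G) = Cfsg.puigLower G := by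
  set L := Cfsg.puigSeq G
  have hstep : ∀ n, L (n + 1) = Cfsg.puigStep (L n) := fun n => rfl
  have hanti : ∀ X Y : Subgroup G, X ≤ Y → Cfsg.puigStep Y ≤ Cfsg.puigStep X := fun X Y h =>
    sSup_le fun A hA => le_sSup ⟨hA.1, h.trans hA.2⟩
  have h1 : L 1 = ⊤ := by
    refine eq_top_iff.mpr fun g _ => ?_
    exact (le_sSup (⟨inferInstance, bot_le⟩ : Subgroup.zpowers g ∈
      {A : Subgroup G | IsMulCommutative A ∧ (⊥ : Subgroup G) ≤ Subgroup.normalizer (A : Set G)}) :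
        Subgroup.zpowers g ≤ L 1) (Subgroup.mem_zpowers g)
  have hev : ∀ n, L (2 * n) ≤ L (2 * n + 2) ∧ L (2 * n + 3) ≤ L (2 * n + 1) := by
    intro n
    induction n with
    | zero => exact ⟨bot_le, h1.symm ▸ le_top⟩
    | succ n ih =>
      have hA : L (2 * n + 2) ≤ L (2 * n + 4) := by
        rw [hstep (2 * n + 1), hstep (2 * n + 3)]; exact hanti _ _ ih.2
      exact ⟨hA, by rw [show 2 * (n + 1) + 1 = (2 * n + 2) + 1 by ring, show 2 * (n + 1) + 3 = (2 * n + 4) + 1 by ring,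
        hstep (2 * n + 2), hstep (2 * n + 4)]; exact hanti _ _ hA⟩
  have hmono : Monotone fun n => L (2 * n) := monotone_nat_of_le_succ fun n => (hev n).1
  have hantiodd : Antitone fun n => L (2 * n + 1) := antitone_nat_of_succ_le fun n => (hev n).2
  have hpair : ∀ n, L (2 * n) ≤ L (2 * n + 1) := by
    intro n
    induction n with
    | zero => exact bot_le
    | succ n ih =>
      have hA : L (2 * n + 2) ≤ L (2 * n + 1) := by
        rw [hstep (2 * n + 1), hstep (2 * n)]; exact hanti _ _ ih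
      show L (2 * n + 1 + 1) ≤ L (2 * n + 2 + 1)
      rw [hstep (2 * n + 1), hstep (2 * n + 2)]
      exact hanti _ _ hA
  have hcross : ∀ n m, L (2 * n) ≤ L (2 * m + 1) := fun n m =>
    ((hmono (le_max_left n m)).trans (hpair _)).trans (hantiodd (le_max_right n m))
  obtain ⟨k1, hk1⟩ : ∃ k, ∀ n, k ≤ n → L (2 * n) = L (2 * k) := by
    obtain ⟨k, hk⟩ := WellFoundedGT.monotone_chain_condition ⟨fun n => L (2 * n), hmono⟩
    exact ⟨k, fun n hn => (hk n hn).symm⟩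
  obtain ⟨k2, hk2⟩ : ∃ k, ∀ n, k ≤ n → L (2 * n + 1) = L (2 * k + 1) := by
    obtain ⟨k, hk⟩ := WellFoundedLT.antitone_chain_condition (f := fun n => L (2 * n + 1)) hantiodd
    exact ⟨k, fun n hn => (hk n hn).symm⟩
  set k := max k1 k2
  have hlow : ∀ n, k ≤ n → L (2 * n) = Cfsg.puigLower G := fun n hn => by
    refine le_antisymm (le_iSup (fun n => L (2 * n)) n) (iSup_le fun m => ?_)
    calc L (2 * m) ≤ L (2 * max m n) := hmono (le_max_left _ _)
      _ = L (2 * n) := (hk1 _ ((le_max_left k1 k2).trans (hn.trans (le_max_right m n)))).trans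
        (hk1 n ((le_max_left k1 k2).trans hn)).symm
  have hup : ∀ n, k ≤ n → L (2 * n + 1) = Cfsg.puigSubgroup G := fun n hn => by
    refine le_antisymm (le_iInf fun m => ?_) (iInf_le (fun n => L (2 * n + 1)) n)
    calc L (2 * n + 1) = L (2 * max m n + 1) := (hk2 n ((le_max_right k1 k2).trans hn)).trans
          (hk2 _ ((le_max_right k1 k2).trans (hn.trans (le_max_right m n)))).symm
      _ ≤ L (2 * m + 1) := hantiodd (le_max_left _ _)
  refine ⟨rfl, h1, fun n m => ⟨(hev n).1, hcross n m, (hev m).2⟩, ⟨k, fun n hn => ⟨hlow n hn, hup n hn⟩⟩, ?_, ?_, ?_⟩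
  · rw [← hlow k le_rfl, ← hup k le_rfl]; exact hpair k
  · rw [← hlow k le_rfl, ← hstep, hup k le_rfl]
  · rw [← hup k le_rfl, ← hstep, show 2 * k + 1 + 1 = 2 * (k + 1) by ring, hlow (k + 1) (by omega)]

end Cfsg.Agent.S1467
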