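import Cfsg.Statements.S0802
import Mathlib
import Cfsg.Agent.Lib.PSL2.Klein
import Cfsg.Agent.Lib.SL2PrimeGraph

set_option autoImplicit false
open Cfsg

namespace Cfsg.Agent.S0802

open CfsgLib.PSL2Two (ext2 mul_entry entries)

variable {F : Type*} [Field F] [Fintype F]

local notation "L" => Matrix.SpecialLinearGroup (Fin 2) F

theorem fixed_line (M : L) (hM : M ≠ 1) {v w : Fin 2 → F} (hv0 : v ≠ 0)
    (hv : (M : Matrix (Fin 2) (Fin 2) F).mulVec v = v) (hw : (M : Matrix (Fin 2) (Fin 2) F).mulVec w = w) :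
    ∃ c : F, w = c • v := by
  by_cases hd : v 0 * w 1 - v 1 * w 0 = 0
  · rcases eq_or_ne (v 0) 0 with h0 | h0
    · have h1 : v 1 ≠ 0 := fun h1 => hv0 (funext fun i => by fin_cases i <;> assumption)
      refine ⟨w 1 / v 1, funext fun i => ?_⟩
      fin_cases i
      · show w 0 = w 1 / v 1 * v 0
        rw [h0] at hd ⊢
        rw [mul_zero]
        exact (mul_eq_zero.1 (show v 1 * w 0 = 0 by linear_combination -hd)).resolve_left h1
      · show w 1 = w 1 / v 1 * v 1
        field_simp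
    · refine ⟨w 0 / v 0, funext fun i => ?_⟩
      fin_cases i
      · show w 0 = w 0 / v 0 * v 0
        field_simp
      · show w 1 = w 0 / v 0 * v 1
        field_simp
        linear_combination hd
  · exfalso
    have v0' := congrFun hv 0
    have v1' := congrFun hv 1
    have w0' := congrFun hw 0
    have w1' := congrFun hw 1
    simp [Matrix.mulVec, dotProduct, Fin.sum_univ_two] at v0' v1' w0' w1'
    refine hM (ext2 ?_ ?_ ?_ ?_) <;> simp
    · exact mul_left_cancel₀ hd (by linear_combination w 1 * v0' - v 1 * w0')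
    · exact mul_left_cancel₀ hd (by linear_combination v 0 * w0' - w 0 * v0')
    · exact mul_left_cancel₀ hd (by linear_combination w 1 * v1' - v 1 * w1')
    · exact mul_left_cancel₀ hd (by linear_combination v 0 * w1' - w 0 * v1')

variable [CharP F 2]

theorem cube_root {F : Type*} [Field F] [Fintype F] [CharP F 2] {a b g : Matrix.SpecialLinearGroup (Fin 2) F}
    (ha : a * a = 1) (ha1 : a ≠ 1) (hb : b * b = 1) (hb1 : b ≠ 1) (hab : a * b = b * a)
    (hg : g ^ 3 = 1) (hg1 : g ≠ 1) (hgab : g * a = b * g) : ∃ c : Fˣ, orderOf c = 3 := by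
  have h2 : (2 : F) = 0 := CharTwo.two_eq_zero
  set A := (a : Matrix (Fin 2) (Fin 2) F) with hA
  have hmul : ∀ (x y : Matrix.SpecialLinearGroup (Fin 2) F) (v : Fin 2 → F),
      ((x * y : Matrix.SpecialLinearGroup (Fin 2) F) : Matrix (Fin 2) (Fin 2) F).mulVec v =
        (x : Matrix (Fin 2) (Fin 2) F).mulVec ((y : Matrix (Fin 2) (Fin 2) F).mulVec v) := fun x y v => by
    rw [Matrix.SpecialLinearGroup.coe_mul, Matrix.mulVec_mulVec]
  have hdet : (A - 1).det = 0 := by
    have hsq := CfsgLib.SL2PrimeGraph.sq_eq a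
    have h1 : A * A = 1 := by
      rw [hA, ← Matrix.SpecialLinearGroup.coe_mul, ha, Matrix.SpecialLinearGroup.coe_one]
    rw [← hA, h1] at hsq
    have hd := entries (F := F) a
    rw [← hA] at hd
    have ht : A 0 0 + A 1 1 = 0 := by
      by_contra hne
      have e : ∀ i j, (A 0 0 + A 1 1) * A i j = 0 := fun i j => by
        have := congrFun (congrFun hsq i) j
        simp only [Matrix.sub_apply, Matrix.smul_apply, smul_eq_mul] at this
        linear_combination -this + ((1 : Matrix (Fin 2) (Fin 2) F) i j) * h2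
      have z : ∀ i j, A i j = 0 := fun i j => (mul_eq_zero.1 (e i j)).resolve_left hne
      exact hne (by rw [z, z, add_zero])
    rw [Matrix.det_fin_two]
    simp
    linear_combination hd - ht + h2
  obtain ⟨v, hv0, hv⟩ := Matrix.exists_mulVec_eq_zero_iff.2 hdet
  rw [Matrix.sub_mulVec, Matrix.one_mulVec, sub_eq_zero] at hv
  have hbv : (b : Matrix (Fin 2) (Fin 2) F).mulVec v = v := by
    obtain ⟨c, hc⟩ := fixed_line a ha1 hv0 hv (w := (b : Matrix (Fin 2) (Fin 2) F).mulVec v)
      (by rw [← hmul, hab, hmul, hv])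
    have h1 : (c * c) • v = (1 : F) • v := by
      have := congrArg (fun x : Matrix.SpecialLinearGroup (Fin 2) F => (x : Matrix (Fin 2) (Fin 2) F).mulVec v) hb
      simp only [hmul, hc, Matrix.mulVec_smul, Matrix.SpecialLinearGroup.coe_one, Matrix.one_mulVec] at this
      rw [one_smul, ← smul_smul]
      exact this
    have h2' : (c + 1) * (c + 1) = 0 := by
      linear_combination (smul_left_injective F hv0 h1) + (c + 1) * h2
    rw [hc, show c = 1 from CharTwo.add_eq_zero.1 (mul_self_eq_zero.1 h2'), one_smul]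
  obtain ⟨c, hc⟩ := fixed_line b hb1 hv0 hbv (w := (g : Matrix (Fin 2) (Fin 2) F).mulVec v)
    (by rw [← hmul, ← hgab, hmul, hv])
  have hc3 : c ^ 3 = 1 := by
    have := congrArg (fun x : Matrix.SpecialLinearGroup (Fin 2) F => (x : Matrix (Fin 2) (Fin 2) F).mulVec v) hg
    simp only [pow_succ, pow_zero, one_mul, hmul, hc, Matrix.mulVec_smul, Matrix.SpecialLinearGroup.coe_one,
      Matrix.one_mulVec, smul_smul] at this
    have h := smul_left_injective F hv0 (this.trans (one_smul F v).symm)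
    linear_combination h
  have hc1 : c ≠ 1 := by
    rintro rfl
    rw [one_smul] at hc
    have := CfsgLib.SL2PrimeGraph.fixed_sq g hc hv0
    apply hg1
    calc g = g * (g * g) := by rw [this, mul_one]
      _ = g ^ 3 := by rw [pow_succ, pow_two, mul_assoc]
      _ = 1 := hg
  haveI : Fact (Nat.Prime 3) := ⟨Nat.prime_three⟩
  exact ⟨Units.ofPowEqOne c 3 hc3 (by norm_num), orderOf_eq_prime (Units.ext (by simpa using hc3))
    (fun h => hc1 (by simpa using congrArg Units.val h))⟩

/-- the upper triangular group over the field of four elements -/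
def borel4 : Subgroup L where
  carrier := {g | g.1 1 0 = 0 ∧ g.1 0 0 ^ 3 = 1 ∧ g.1 0 1 ^ 4 = g.1 0 1}
  one_mem' := by simp
  mul_mem' := by
    rintro g h ⟨g1, g2, g3⟩ ⟨h1, h2, h3⟩
    have hd := entries (F := F) h
    have g4 : g.1 0 0 ^ 4 = g.1 0 0 := by linear_combination g.1 0 0 * g2
    have h4 : h.1 1 1 ^ 4 = h.1 1 1 := by
      rw [h1, mul_zero, sub_zero] at hd
      linear_combination (-(h.1 1 1 ^ 4)) * h2 + h.1 1 1 * (h.1 0 0 ^ 2 * h.1 1 1 ^ 2 + h.1 0 0 * h.1 1 1 + 1) * hd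
    refine ⟨?_, ?_, ?_⟩ <;> rw [mul_entry]
    · rw [g1, h1]; ring
    · rw [h1, mul_zero, add_zero, mul_pow, g2, h2, one_mul]
    · have := (CharTwo.two_eq_zero : (2 : F) = 0)
      rw [show (4 : ℕ) = 2 * 2 from rfl, pow_mul, CharTwo.add_sq, CharTwo.add_sq, ← pow_mul, ← pow_mul,
        mul_pow, mul_pow, g4, h3, g3, h4]
  inv_mem' := by
    rintro g ⟨g1, g2, g3⟩
    have hd := entries (F := F) g
    rw [g1, mul_zero, sub_zero] at hd
    refine ⟨?_, ?_, ?_⟩
    · rw [CfsgLib.PSL2Klein.inv10, g1, neg_zero]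
    · rw [CfsgLib.PSL2Klein.inv00]
      linear_combination (-(g.1 1 1 ^ 3)) * g2 + (g.1 0 0 ^ 2 * g.1 1 1 ^ 2 + g.1 0 0 * g.1 1 1 + 1) * hd
    · rw [CfsgLib.PSL2Klein.inv01, neg_pow, g3]
      simp [CharTwo.neg_eq]

theorem exists_A4 {w : F} (hw : w ^ 2 + w + 1 = 0) :
    ∃ H : Subgroup L, Nonempty (H ≃* alternatingGroup (Fin 4)) := by
  have h2 : (2 : F) = 0 := CharTwo.two_eq_zero
  have hw3 : w ^ 3 = 1 := by linear_combination (w - 1) * hw
  let u : F → L := fun t => ⟨!![1, t; 0, 1], by simp [Matrix.det_fin_two]⟩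
  let d : L := ⟨!![w ^ 2, 0; 0, w], by simp [Matrix.det_fin_two]; linear_combination hw3⟩
  have hu : ∀ t, t ^ 4 = t → u t ∈ borel4 (F := F) := fun t ht =>
    ⟨by simp [u], by simp [u], by simpa [u] using ht⟩
  have hd : d ∈ borel4 (F := F) :=
    ⟨by simp [d], by simp [d]; linear_combination (w ^ 3 + 1) * hw3, by simp [d]⟩
  have u00 : ∀ t, (u t).1 0 0 = 1 := fun t => rfl
  have u01 : ∀ t, (u t).1 0 1 = t := fun t => rfl
  have u10 : ∀ t, (u t).1 1 0 = 0 := fun t => rfl
  have u11 : ∀ t, (u t).1 1 1 = 1 := fun t => rfl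
  have d00 : d.1 0 0 = w ^ 2 := rfl
  have d01 : d.1 0 1 = 0 := rfl
  have d10 : d.1 1 0 = 0 := rfl
  have d11 : d.1 1 1 = w := rfl
  have umul : ∀ s t, u s * u t = u (s + t) := fun s t => by
    apply ext2 <;> simp [mul_entry, u00, u01, u10, u11, add_comm]
  have hdu : ∀ t, d * u t = u (w * t) * d := fun t => by
    apply ext2 <;> simp [mul_entry, u00, u01, u10, u11, d00, d01, d10, d11]
    ring
  have hw4 : w ^ 4 = w := by linear_combination w * hw3
  let a : borel4 (F := F) := ⟨u 1, hu 1 (one_pow 4)⟩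
  let b : borel4 (F := F) := ⟨u w, hu w hw4⟩
  let D : borel4 (F := F) := ⟨d, hd⟩
  have uinj : ∀ s t, u s = u t → s = t := fun s t h => by
    have := congrArg (fun x : L => x.1 0 1) h
    rwa [u01, u01] at this
  have u0 : u 0 = 1 := by apply ext2 <;> simp [u00, u01, u10, u11]
  have hsq : ∀ t, u t * u t = 1 := fun t => by rw [umul, CharTwo.add_self_eq_zero, u0]
  have hw0 : w ≠ 0 := fun h => by rw [h] at hw3; simp at hw3
  have hw1 : w ≠ 1 := fun h => by
    rw [h] at hw
    exact one_ne_zero (α := F) (by linear_combination hw - h2)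
  have ha1 : a ≠ 1 := fun h => one_ne_zero (uinj 1 0 (by rw [u0]; exact congrArg Subtype.val h))
  have hb1 : b ≠ 1 := fun h => hw0 (uinj w 0 (by rw [u0]; exact congrArg Subtype.val h))
  have hne : a ≠ b := fun h => hw1 (uinj _ _ (congrArg Subtype.val h)).symm
  obtain ⟨V, hV, haV, hbV, -⟩ := CfsgLib.KleinBasic.exists_klein a b (Subtype.ext (hsq 1)) (Subtype.ext (hsq w))
    (Subtype.ext (show u 1 * u w = u w * u 1 by rw [umul, umul, add_comm])) ha1 hb1 hne
  have hC : ∀ g : borel4 (F := F), Commute g a → Commute g b → g ∈ V := by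
    rintro ⟨g, g1, g2, g3⟩ hga -
    have e : g * u 1 = u 1 * g := congrArg Subtype.val hga.eq
    have h : (g * u 1 : L).1 0 1 = (u 1 * g : L).1 0 1 := by rw [e]
    rw [mul_entry, mul_entry, u00, u01, u11] at h
    have hde := entries (F := F) g
    have h00 : g.1 0 0 = g.1 1 1 := by linear_combination h
    rw [g1, ← h00, mul_zero, sub_zero] at hde
    have hg00 : g.1 0 0 = 1 := by
      have : (g.1 0 0 + 1) * (g.1 0 0 + 1) = 0 := by linear_combination hde + (g.1 0 0 + 1) * h2
      exact CharTwo.add_eq_zero.1 (mul_self_eq_zero.1 this)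
    have hgu : g = u (g.1 0 1) := by
      apply ext2
      · rw [u00, hg00]
      · rw [u01]
      · rw [u10, g1]
      · rw [u11, ← h00, hg00]
    have hroot : g.1 0 1 * (g.1 0 1 + 1) * ((g.1 0 1 + w) * (g.1 0 1 + (1 + w))) = 0 := by
      linear_combination g3 + (g.1 0 1 ^ 2 + g.1 0 1) * hw + (g.1 0 1 ^ 3 + g.1 0 1 ^ 3 * w + g.1 0 1 ^ 2 * w) * h2
    have hz : g.1 0 1 = 0 ∨ g.1 0 1 = 1 ∨ g.1 0 1 = w ∨ g.1 0 1 = 1 + w := by
      rcases mul_eq_zero.1 hroot with h | h <;> rcases mul_eq_zero.1 h with h | h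
      · exact Or.inl h
      · exact Or.inr (Or.inl (CharTwo.add_eq_zero.1 h))
      · exact Or.inr (Or.inr (Or.inl (CharTwo.add_eq_zero.1 h)))
      · exact Or.inr (Or.inr (Or.inr (CharTwo.add_eq_zero.1 h)))
    rcases hz with h | h | h | h <;> rw [h] at hgu
    · rw [show (⟨g, g1, g2, g3⟩ : borel4 (F := F)) = 1 from Subtype.ext (hgu.trans u0)]; exact one_mem _
    · rw [show (⟨g, g1, g2, g3⟩ : borel4 (F := F)) = a from Subtype.ext hgu]; exact haV
    · rw [show (⟨g, g1, g2, g3⟩ : borel4 (F := F)) = b from Subtype.ext hgu]; exact hbV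
    · rw [show (⟨g, g1, g2, g3⟩ : borel4 (F := F)) = a * b from Subtype.ext (hgu.trans (umul 1 w).symm)]
      exact V.mul_mem haV hbV
  have hwa : D * a * D⁻¹ = b := by
    apply Subtype.ext
    show d * u 1 * d⁻¹ = u w
    rw [hdu, mul_one, mul_inv_cancel_right]
  have hwb : D * b * D⁻¹ = a * b := by
    apply Subtype.ext
    show d * u w * d⁻¹ = u 1 * u w
    rw [hdu, mul_inv_cancel_right, umul]
    congr 1
    linear_combination hw - (w + 1) * h2
  obtain ⟨⟨φ, hφ⟩, hcard⟩ := CfsgLib.KleinNormalizer.main hV haV hbV ha1 hb1 hne hC hwa hwb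
  obtain ⟨H, ⟨e⟩⟩ := CfsgLib.KleinNormalizer.exists_A4 (hcard.imp And.left id) φ hφ
  exact ⟨H.map (borel4 (F := F)).subtype,
    ⟨(Subgroup.equivMapOfInjective H _ (borel4 (F := F)).subtype_injective).symm.trans e⟩⟩

/-- PSL_2(p^n) has a subgroup isomorphic to A_4 if and only if it is not the case that p = 2 and n is odd. -/
theorem result {F : Type*} [Field F] [Fintype F] (p n : ℕ) [Fact p.Prime] [CharP F p] (hF : Fintype.card F = p ^ n) : (∃ H : Subgroup (Matrix.ProjectiveSpecialLinearGroup (Fin 2) F), Nonempty (H ≃* alternatingGroup (Fin 4))) ↔ ¬ (p = 2 ∧ Odd n) := by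
  have hn0 : n ≠ 0 := fun h => by
    have := Fintype.one_lt_card (α := F)
    rw [hF, h, pow_zero] at this
    omega
  by_cases hp : p = 2
  · subst hp
    obtain ⟨E⟩ := CfsgLib.SL2PrimeGraph.pslEquiv (F := F)
    have h3 : (∃ c : Fˣ, orderOf c = 3) ↔ ¬ Odd n := by
      have hcard : Nat.card Fˣ = 2 ^ n - 1 := by
        rw [Nat.card_units, Nat.card_eq_fintype_card, hF]
      have hmod : (2 ^ n - 1) % 3 = 0 ↔ ¬ Odd n := by
        rcases Nat.even_or_odd n with ⟨k, rfl⟩ | ⟨k, rfl⟩
        · refine iff_of_true ?_ (Nat.not_odd_iff_even.2 ⟨k, rfl⟩)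
          have h4 : 2 ^ (k + k) % 3 = 1 := by rw [← two_mul, pow_mul, Nat.pow_mod]; simp
          revert h4
          generalize 2 ^ (k + k) = x
          omega
        · refine iff_of_false ?_ (fun h => h ⟨k, rfl⟩)
          have h4 : 2 ^ (2 * k + 1) % 3 = 2 := by rw [pow_succ, pow_mul, Nat.mul_mod, Nat.pow_mod]; simp
          revert h4
          generalize 2 ^ (2 * k + 1) = x
          omega
      rw [← hmod, ← hcard]
      constructor
      · rintro ⟨c, hc⟩
        exact Nat.mod_eq_zero_of_dvd (hc ▸ orderOf_dvd_natCard c)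
      · intro h
        haveI : Fact (Nat.Prime 3) := ⟨Nat.prime_three⟩
        exact exists_prime_orderOf_dvd_card' 3 (Nat.dvd_of_mod_eq_zero h)
    simp only [true_and]
    rw [← h3]
    constructor
    · rintro ⟨H, ⟨e⟩⟩
      let f : alternatingGroup (Fin 4) →* Matrix.SpecialLinearGroup (Fin 2) F :=
        E.symm.toMonoidHom.comp (H.subtype.comp e.symm.toMonoidHom)
      have hf : Function.Injective f := E.symm.injective.comp (H.subtype_injective.comp e.symm.injective)
      obtain ⟨a, b, g, h1, h2, h3', h4, h5, h6, h7, h8⟩ : ∃ a b g : alternatingGroup (Fin 4),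
          a * a = 1 ∧ a ≠ 1 ∧ b * b = 1 ∧ b ≠ 1 ∧ a * b = b * a ∧ g ^ 3 = 1 ∧ g ≠ 1 ∧ g * a = b * g :=
        ⟨⟨Equiv.swap 0 1 * Equiv.swap 2 3, Equiv.Perm.mem_alternatingGroup.2 (by decide)⟩, ⟨Equiv.swap 1 2 * Equiv.swap 0 3, Equiv.Perm.mem_alternatingGroup.2 (by decide)⟩,
          ⟨Equiv.swap 0 1 * Equiv.swap 1 2, Equiv.Perm.mem_alternatingGroup.2 (by decide)⟩, by decide⟩
      exact cube_root (a := f a) (b := f b) (g := f g) (by rw [← map_mul, h1, map_one])
        (fun h => h2 (hf (h.trans (map_one f).symm))) (by rw [← map_mul, h3', map_one])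
        (fun h => h4 (hf (h.trans (map_one f).symm))) (by rw [← map_mul, h5, map_mul])
        (by rw [← map_pow, h6, map_one]) (fun h => h7 (hf (h.trans (map_one f).symm)))
        (by rw [← map_mul, h8, map_mul])
    · rintro ⟨c, hc⟩
      have hc3 : ((c : F)) ^ 3 = 1 := by rw [← Units.val_pow_eq_pow_val, ← hc, pow_orderOf_eq_one]; rfl
      have hc1 : (c : F) - 1 ≠ 0 := fun h => by
        rw [Units.val_eq_one.1 (sub_eq_zero.1 h)] at hc; simp at hc
      obtain ⟨H, ⟨e⟩⟩ := exists_A4 (F := F) (w := c)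
        ((mul_eq_zero.1 (show ((c : F) - 1) * ((c : F) ^ 2 + c + 1) = 0 by linear_combination hc3)).resolve_left hc1)
      exact ⟨H.map E.toMonoidHom, ⟨(H.equivMapOfInjective _ E.injective).symm.trans e⟩⟩
  · refine iff_of_true ?_ (fun h => hp h.1)
    have hodd : Fintype.card F % 2 = 1 :=
      FiniteField.odd_card_of_char_ne_two (by rw [ringChar.eq F p]; exact hp)
    obtain ⟨⟨φ, hφ⟩, hcard⟩ := CfsgLib.PSL2Klein.normalizer_four hodd (r := 1) (one_mem _)
    exact CfsgLib.KleinNormalizer.exists_A4 (hcard.imp And.right And.right) φ hφ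

end Cfsg.Agent.S0802
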