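import Cfsg.Statements.S0803
import Mathlib
import Cfsg.Agent.Lib.PSL2.Klein
import Cfsg.Agent.Lib.SL2PrimeGraph

set_option autoImplicit false
open Cfsg

namespace Cfsg.Agent.S0803

open CfsgLib.SL2PrimeGraph in
theorem char_two_no_order_four {F : Type*} [Field F] [CharP F 2] (g : Matrix.SpecialLinearGroup (Fin 2) F)
    (hg : g ^ 4 = 1) : g ^ 2 = 1 := by
  have h2 : (2 : F) = 0 := CharTwo.two_eq_zero
  set M := (g : Matrix (Fin 2) (Fin 2) F)
  set τ := M 0 0 + M 1 1
  have hM : M * M = τ • M - 1 := sq_eq g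
  have h4 : M * M * (M * M) = 1 := by
    have := congrArg (fun x : Matrix.SpecialLinearGroup (Fin 2) F => (x : Matrix (Fin 2) (Fin 2) F)) hg
    simpa [pow_succ, mul_assoc] using this
  have hτ : τ = 0 := by
    by_contra hne
    -- `g² = τ g + 1`, so `g⁴ = τ² g² + 1`
    have h : τ ^ 2 • (M * M) = 0 := by
      have e : M * M * (M * M) = τ ^ 2 • (M * M) + 1 := by
        have hn : ∀ X : Matrix (Fin 2) (Fin 2) F, X + X = 0 := fun X => by
          ext i j; simp [CharTwo.add_self_eq_zero]
        calc M * M * (M * M) = (τ • M - 1) * (τ • M - 1) := by rw [hM]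
          _ = τ ^ 2 • (M * M) + 1 := by
            rw [sub_mul, mul_sub, mul_one, one_mul, smul_mul_smul_comm, ← sq]
            ext i j
            simp
            linear_combination (-(τ * M i j)) * h2
      rw [h4] at e
      exact add_right_cancel (b := (1 : Matrix (Fin 2) (Fin 2) F)) (e.symm.trans (zero_add _).symm)
    have hMM : M * M = 0 := by simpa [hne] using h
    rw [hMM] at h4
    simp at h4
  apply Subtype.ext
  rw [sq]
  show M * M = 1
  rw [hM, hτ, zero_smul, zero_sub]
  ext i j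
  exact CharTwo.neg_eq _

/-- PSL_2(q) has a subgroup isomorphic to S_4 iff q² ≡ 1 (mod 16). -/
theorem result {F : Type*} [Field F] [Fintype F] {q : ℕ} (hF : Fintype.card F = q) : (∃ H : Subgroup (Matrix.ProjectiveSpecialLinearGroup (Fin 2) F), Nonempty (H ≃* Equiv.Perm (Fin 4))) ↔ q ^ 2 % 16 = 1 := by
  rcases Nat.mod_two_eq_zero_or_one q with he | ho
  · -- even characteristic
    refine iff_of_false ?_ (by rw [Nat.pow_mod]; have := Nat.mod_lt q (show 16 > 0 by norm_num); intro h; interval_cases hh : q % 16 <;> omega)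
    rintro ⟨H, ⟨e⟩⟩
    haveI : CharP F 2 := ringChar.of_eq (by
      by_contra hne
      have := FiniteField.odd_card_of_char_ne_two hne
      omega)
    obtain ⟨E⟩ := CfsgLib.SL2PrimeGraph.pslEquiv (F := F)
    let f : Equiv.Perm (Fin 4) →* Matrix.SpecialLinearGroup (Fin 2) F :=
      E.symm.toMonoidHom.comp (H.subtype.comp e.symm.toMonoidHom)
    have hf : Function.Injective f := E.symm.injective.comp (H.subtype_injective.comp e.symm.injective)
    have h4 : (finRotate 4) ^ 4 = 1 ∧ (finRotate 4) ^ 2 ≠ 1 := by decide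
    have h := char_two_no_order_four (f (finRotate 4)) (by rw [← map_pow, h4.1, map_one])
    rw [← map_pow, ← map_one f] at h
    exact h4.2 (hf h)
  · have hodd : Fintype.card F % 2 = 1 := by omega
    constructor
    · rintro ⟨H, ⟨e⟩⟩
      have h24 : 24 ∣ Nat.card (Matrix.ProjectiveSpecialLinearGroup (Fin 2) F) := by
        have h := Subgroup.card_subgroup_dvd_card H
        rwa [Nat.card_congr e.toEquiv, Nat.card_perm, Nat.card_fin, show Nat.factorial 4 = 24 from rfl] at h
      have h48 : 16 * 3 ∣ q * (q ^ 2 - 1) := by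
        rw [← hF, ← CfsgLib.PSL2Two.two_mul_card_PSL hodd]
        exact (show 16 * 3 = 2 * 24 from rfl) ▸ Nat.mul_dvd_mul_left 2 h24
      have hcop : Nat.Coprime (2 ^ 4) q := Nat.Coprime.pow_left 4 (Nat.coprime_two_left.2 (Nat.odd_iff.2 ho))
      have h16 : 16 ∣ q ^ 2 - 1 := hcop.dvd_of_dvd_mul_left ((Dvd.intro 3 rfl).trans h48)
      have : 1 ≤ q ^ 2 := Nat.one_le_pow _ _ (by omega)
      omega
    · intro h
      have h8 : 8 ∣ Nat.card (CfsgLib.PSL2Two.rot F) := by
        rw [CfsgLib.PSL2Klein.eight_dvd_rot_iff hodd, hF]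
        rw [Nat.pow_mod] at h
        have := Nat.mod_lt q (show 16 > 0 by norm_num)
        have h' : q % 8 = q % 16 % 8 := by omega
        interval_cases hh : q % 16 <;> omega
      obtain ⟨⟨φ, hφ⟩, hcard⟩ := CfsgLib.PSL2Klein.normalizer_four hodd (r := 1) (one_mem _)
      rcases hcard with ⟨h', -⟩ | ⟨-, h24⟩
      · exact absurd h8 h'
      · exact ⟨_, CfsgLib.KleinNormalizer.exists_S4 h24 φ hφ⟩

end Cfsg.Agent.S0803
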