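import Cfsg.Statements.S0804
import Mathlib
import Cfsg.Agent.Lib.SL2.Icosahedral

set_option autoImplicit false
open Cfsg

namespace Cfsg.Agent.S0804

open CfsgLib.SL2Dickson CfsgLib.SL2Torus
open CfsgLib.PSL2Klein (π π_surj π_eq π_eq_one)

theorem exists_golden {F : Type*} [Field F] [Fintype F] (hodd : Fintype.card F % 2 = 1) (h5q : ¬ 5 ∣ Fintype.card F)
    (h : 5 ∣ Nat.card (Matrix.ProjectiveSpecialLinearGroup (Fin 2) F)) : ∃ τ : F, τ * τ = τ + 1 := by
  haveI := Fact.mk (by norm_num : Nat.Prime 5)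
  obtain ⟨x, hx⟩ := exists_prime_orderOf_dvd_card' 5 h
  obtain ⟨g, rfl⟩ := π_surj x
  have h1 : π g ≠ 1 := fun e => by rw [e, orderOf_one] at hx; omega
  have hno : ∀ n, n ≠ 0 → ¬ 5 ∣ n → π g ^ n ≠ 1 := fun n _ hn e => hn (hx ▸ orderOf_dvd_of_pow_eq_one e)
  have h5 : π g ^ 5 = 1 := hx ▸ pow_orderOf_eq_one _
  have hsc : ¬ ∃ c : F, (g.1 : Matrix (Fin 2) (Fin 2) F) = c • (1 : Matrix (Fin 2) (Fin 2) F) := fun e =>
    h1 (mk_scalar e)
  have hsq := sq_eq g
  have h4 : tr g ^ 2 ≠ 4 := by
    intro ht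
    haveI := ringChar.charP F
    obtain ⟨n, hp, hcard⟩ := FiniteField.card F (ringChar F)
    obtain ⟨y, b, -, hy⟩ := π_u_of_unip hsc ht
    refine hno (ringChar F) hp.ne_zero (fun h => h5q ?_) ?_
    · rw [← (Nat.prime_dvd_prime_iff_eq (by norm_num) hp).1 h] at hcard
      exact hcard ▸ dvd_pow_self 5 n.ne_zero
    · rw [show π g = y * π (u b) * y⁻¹ by rw [← hy]; group, conj_pow, π_u_pow_char, mul_one, mul_inv_cancel]
  rcases trace_of_pow (g := g) (Or.inr (Or.inr (Or.inr h5))) with h | h | h | h | h | h | h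
  · exact absurd (by rw [h]; norm_num) h4
  · exact absurd (by rw [h]; norm_num) h4
  · refine absurd ?_ (hno 2 (by norm_num) (by norm_num))
    rw [← map_pow, π_eq_one]
    right
    apply Subtype.ext
    rw [sq, Matrix.SpecialLinearGroup.coe_mul, hsq, h, zero_smul, zero_sub]
    rfl
  all_goals first
    | exact ⟨_, h⟩
    | (refine absurd ?_ (hno 3 (by norm_num) (by norm_num))
       rw [← map_pow, π_eq_one]
       have hg3 : (g.1 : Matrix (Fin 2) (Fin 2) F) * g.1 * g.1 =
           (-tr g) • (1 : Matrix (Fin 2) (Fin 2) F) + (tr g * tr g - 1) • g.1 := by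
         rw [hsq, sub_mul, smul_mul_assoc, one_mul, hsq, smul_sub, smul_smul]; module
       rw [h, show (1 : F) * 1 - 1 = 0 by ring] at hg3
       right; apply Subtype.ext
       rw [pow_succ, sq, Matrix.SpecialLinearGroup.coe_mul, Matrix.SpecialLinearGroup.coe_mul, hg3]
       simp)
    | (refine absurd ?_ (hno 3 (by norm_num) (by norm_num))
       rw [← map_pow, π_eq_one]
       have hg3 : (g.1 : Matrix (Fin 2) (Fin 2) F) * g.1 * g.1 =
           (-tr g) • (1 : Matrix (Fin 2) (Fin 2) F) + (tr g * tr g - 1) • g.1 := by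
         rw [hsq, sub_mul, smul_mul_assoc, one_mul, hsq, smul_sub, smul_smul]; module
       rw [h, show (-1 : F) * -1 - 1 = 0 by ring] at hg3
       left; apply Subtype.ext
       rw [pow_succ, sq, Matrix.SpecialLinearGroup.coe_mul, Matrix.SpecialLinearGroup.coe_mul, hg3]
       simp)

theorem of_subfield {F : Type*} [Field F] [Fintype F] (K : Subfield F) (h : Nat.card K = 4 ∨ Nat.card K = 5) :
    ∃ H : Subgroup (Matrix.ProjectiveSpecialLinearGroup (Fin 2) F), Nonempty (H ≃* alternatingGroup (Fin 5)) := by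
  obtain ⟨e⟩ := pslSub_equiv (K := K) (RingEquiv.refl _)
  haveI : Fintype K := Fintype.ofFinite _
  obtain ⟨e'⟩ := psl_four_five (F := K) (by rwa [← Nat.card_eq_fintype_card])
  exact ⟨pslSub K, ⟨e.trans e'⟩⟩

/-- PSL_2(q) has a subgroup isomorphic to A_5 iff 5 ∣ q(q² − 1). -/
theorem result {F : Type*} [Field F] [Fintype F] {q : ℕ} (hF : Fintype.card F = q) : (∃ H : Subgroup (Matrix.ProjectiveSpecialLinearGroup (Fin 2) F), Nonempty (H ≃* alternatingGroup (Fin 5))) ↔ 5 ∣ q * (q ^ 2 - 1) := by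
  subst hF
  have hg := gcd_mul_card F
  constructor
  · rintro ⟨H, ⟨e⟩⟩
    have h := Subgroup.card_subgroup_dvd_card H
    rw [Nat.card_congr e.toEquiv, nat_card_alternatingGroup, Nat.card_fin] at h
    rw [← hg]
    exact ((by decide : 5 ∣ Nat.factorial 5 / 2).trans h).mul_left _
  · intro h
    haveI := ringChar.charP F
    obtain ⟨n, hp, hcard⟩ := FiniteField.card F (ringChar F)
    rcases Nat.mod_two_eq_zero_or_one (Fintype.card F) with he | ho
    · have h2 : ringChar F = 2 := ((Nat.prime_dvd_prime_iff_eq Nat.prime_two hp).1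
        (Nat.prime_two.dvd_of_dvd_pow (hcard ▸ Nat.dvd_of_mod_eq_zero he))).symm
      rw [h2] at hcard
      rcases Nat.even_or_odd (n : ℕ) with ⟨k, hk⟩ | ⟨k, hk⟩
      · obtain ⟨K, hK⟩ := exists_subfield (F := F) (q₀ := 4) (m := k) (by norm_num)
          (by rw [hcard, hk, show (4 : ℕ) = 2 ^ 2 by norm_num, ← pow_mul, two_mul])
        exact of_subfield K (Or.inl hK)
      · exfalso
        rw [hcard, hk] at h
        have hm : 2 ^ (2 * k + 1) % 5 = 2 ∨ 2 ^ (2 * k + 1) % 5 = 3 := by
          clear h hk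
          induction k with
          | zero => simp
          | succ k ih =>
            rw [show 2 * (k + 1) + 1 = 2 * k + 1 + 2 by ring, pow_add]
            omega
        revert h hm
        generalize 2 ^ (2 * k + 1) = x
        intro hx hm
        rcases (Nat.Prime.dvd_mul (by norm_num : Nat.Prime 5)).1 hx with h1 | h1
        · omega
        · have h2' : x ^ 2 % 5 = 4 := by rw [Nat.pow_mod]; rcases hm with e | e <;> rw [e]
          omega
    · by_cases h5 : 5 ∣ Fintype.card F
      · have hp5 : ringChar F = 5 := ((Nat.prime_dvd_prime_iff_eq (by norm_num) hp).1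
          ((by norm_num : Nat.Prime 5).dvd_of_dvd_pow (hcard ▸ h5))).symm
        obtain ⟨K, hK⟩ := exists_subfield (F := F) (q₀ := 5) (m := n) (by norm_num) (by rw [hcard, hp5])
        exact of_subfield K (Or.inr hK)
      · have h5' : 5 ∣ Nat.card (Matrix.ProjectiveSpecialLinearGroup (Fin 2) F) := by
          rw [← hg] at h
          refine ((Nat.Prime.dvd_mul (by norm_num)).1 h).resolve_left fun h' => ?_
          have := Nat.le_of_dvd two_pos (h'.trans (Nat.gcd_dvd_left _ _))
          omega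
        obtain ⟨τ, hτ⟩ := exists_golden ho h5 h5'
        exact exists_a5 ho h5 hτ

end Cfsg.Agent.S0804
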