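import Cfsg.Statements.S4040
import Cfsg.Agent.Lib.Thompson.Kegel
import Mathlib.GroupTheory.Nilpotent

set_option autoImplicit false
open Cfsg

namespace Cfsg.Agent.S4040

open CfsgLib.ThompsonNPC in
theorem aux (n : ℕ) : ∀ {G : Type*} [Group G] [Finite G] (M : Subgroup G), Nat.card G ≤ n → IsCoatom M →
    Group.IsNilpotent M → Odd (Nat.card M) → Group.IsSolvable G := by
  induction n with
  | zero => intro G _ _ M h _ _ _; exact absurd h (by simpa using (Nat.card_pos (α := G)).ne')
  | succ n ih =>
  intro G _ _ M hn hmax hnil hodd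
  classical
  -- the core of `M` is handled by induction
  by_cases hcore : M.normalCore ≠ ⊥
  · set N := M.normalCore
    haveI hsN : Group.IsSolvable N :=
      Group.isSolvable_of_isSolvable_injective (Subgroup.inclusion_injective M.normalCore_le)
    have hq : Group.IsSolvable (G ⧸ N) := by
      refine ih (M.map (QuotientGroup.mk' N)) ?_ ?_ ?_ ?_
      · have h1 := Subgroup.card_eq_card_quotient_mul_card_subgroup N
        have h2 : 1 < Nat.card N := by
          rcases Nat.lt_or_ge 1 (Nat.card N) with h | h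
          · exact h
          · exact absurd (Subgroup.card_eq_one.mp (le_antisymm h Nat.card_pos)) hcore
        have h3 : Nat.card (G ⧸ N) * 2 ≤ Nat.card G := h1 ▸ Nat.mul_le_mul_left _ h2
        have := (Nat.card_pos (α := G ⧸ N))
        omega
      · have hc : (M.map (QuotientGroup.mk' N)).comap (QuotientGroup.mk' N) = M := by
          rw [Subgroup.comap_map_eq, QuotientGroup.ker_mk', sup_eq_left.mpr M.normalCore_le]
        refine ⟨fun h => hmax.1 ?_, fun L hL => ?_⟩
        · rw [← hc, h, Subgroup.comap_top]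
        · have hlt : M < L.comap (QuotientGroup.mk' N) := by
            exact lt_of_eq_of_lt hc.symm ((Subgroup.comap_lt_comap_of_surjective (QuotientGroup.mk'_surjective N)).mpr hL)
          have := hmax.2 _ hlt
          rw [← Subgroup.map_comap_eq_self_of_surjective (QuotientGroup.mk'_surjective N) L, this,
            Subgroup.map_top_of_surjective _ (QuotientGroup.mk'_surjective N)]
      · haveI := hnil
        exact Group.nilpotent_of_surjective _ ((QuotientGroup.mk' N).subgroupMap_surjective M)
      · exact hodd.of_dvd_nat (Subgroup.card_map_dvd _ _)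
    exact Group.isSolvable_of_ker_le_range N.subtype (QuotientGroup.mk' N) (by simp)
  push Not at hcore
  by_cases hMbot : M = ⊥
  · -- a group without proper subgroups
    haveI : Nontrivial G := by
      by_contra hc
      rw [not_nontrivial_iff_subsingleton] at hc
      exact hmax.1 (Subsingleton.elim _ _)
    obtain ⟨g, hg⟩ := exists_ne (1 : G)
    have htop : Subgroup.zpowers g = ⊤ := hmax.2 _ (hMbot ▸ bot_lt_iff_ne_bot.mpr (by rwa [Ne, Subgroup.zpowers_eq_bot]))
    refine Group.isSolvable_of_comm fun a b => ?_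
    obtain ⟨i, rfl⟩ := Subgroup.mem_zpowers_iff.mp (htop ▸ Subgroup.mem_top a)
    obtain ⟨j, rfl⟩ := Subgroup.mem_zpowers_iff.mp (htop ▸ Subgroup.mem_top b)
    exact ((Commute.refl g).zpow_zpow i j).eq
  have hnorm : ∀ U : Subgroup G, U ≤ M → U ≠ ⊥ → M ≤ Subgroup.normalizer (U : Set G) →
      Subgroup.normalizer (U : Set G) = M := by
    intro U hUM hU hMU
    rcases hmax.le_iff.mp hMU with h | h
    · haveI : U.Normal := Subgroup.normalizer_eq_top_iff.mp h
      exact absurd (le_bot_iff.mp (hcore ▸ Subgroup.normal_le_normalCore.mpr hUM)) hU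
    · exact h
  -- every prime divisor of `#M`
  have hprime : ∀ p : ℕ, p.Prime → p ∣ Nat.card M → PCOn p (⊤ : Subgroup G) ∧ ¬ p ∣ M.index := by
    intro p hp hpM
    haveI := Fact.mk hp
    haveI := hnil
    have hp2 : p ≠ 2 := fun h => by
      have := hodd.of_dvd_nat (h ▸ hpM); exact absurd this (by decide)
    obtain ⟨S⟩ : Nonempty (Sylow p M) := inferInstance
    haveI hSn : (S : Subgroup M).Normal := inferInstance
    set P := (S : Subgroup M).map M.subtype with hP
    have hPM : P ≤ M := Subgroup.map_subtype_le _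
    have hMP : M ≤ Subgroup.normalizer (P : Set G) := by
      refine CfsgLib.GroupB.Coprime.le_normalizer_of_conj_mem fun k hk x hx => ?_
      obtain ⟨y, hy, rfl⟩ := hx
      exact ⟨⟨k, hk⟩ * y * ⟨k, hk⟩⁻¹, hSn.conj_mem y hy _, rfl⟩
    have hPp : IsPGroup p P := S.isPGroup'.map _
    have hPne : P ≠ ⊥ := by
      intro h
      have hc : Nat.card (S : Subgroup M) = 1 := by
        rw [← Subgroup.card_map_of_injective M.subtype_injective, ← hP, h, Subgroup.card_bot]
      rw [S.card_eq_multiplicity, pow_eq_one_iff_left (Nat.Prime.factorization_pos_of_dvd hp Nat.card_pos.ne' hpM).ne'] at hc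
      exact hp.one_lt.ne' hc
    have hNP : Subgroup.normalizer (P : Set G) = M := hnorm P hPM hPne hMP
    obtain ⟨T, hT⟩ := hPp.exists_le_sylow
    have hTeq : (T : Subgroup G) = P := by
      by_contra hne
      have hlt : P < T := lt_of_le_of_ne hT (Ne.symm hne)
      obtain ⟨x, hxT, hxN, hxP⟩ : ∃ x ∈ (T : Subgroup G), x ∈ Subgroup.normalizer (P : Set G) ∧ x ∉ P := by
        haveI := T.isPGroup'.isNilpotent
        have h1 : P.subgroupOf T < ⊤ := lt_top_iff_ne_top.mpr fun h => hlt.not_ge (Subgroup.subgroupOf_eq_top.mp h)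
        obtain ⟨x, hx1, hx2⟩ := SetLike.exists_of_lt (normalizerCondition_of_isNilpotent _ h1)
        refine ⟨x, x.2, Subgroup.mem_normalizer_iff.mpr fun y => ?_, hx2⟩
        constructor
        · intro hy
          exact (Subgroup.mem_normalizer_iff.mp hx1 ⟨y, hT hy⟩).mp hy
        · intro hy
          have hyT : y ∈ (T : Subgroup G) := by
            have := (T : Subgroup G).mul_mem ((T : Subgroup G).mul_mem ((T : Subgroup G).inv_mem x.2) (hT hy)) x.2
            simpa [mul_assoc] using this
          exact (Subgroup.mem_normalizer_iff.mp hx1 ⟨y, hyT⟩).mpr hy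
      rw [hNP] at hxN
      have hsup : IsPGroup p ↥((S : Subgroup M) ⊔ Subgroup.zpowers (⟨x, hxN⟩ : M)) := by
        refine IsPGroup.to_sup_of_normal_left S.isPGroup' ?_
        obtain ⟨k, hk⟩ := IsPGroup.iff_orderOf.mp T.isPGroup' ⟨x, hxT⟩
        refine IsPGroup.of_card (n := k) ?_
        rw [Nat.card_zpowers, ← hk, ← Subgroup.orderOf_coe, ← Subgroup.orderOf_coe]
      have := S.is_maximal' hsup le_sup_left
      exact hxP ⟨⟨x, hxN⟩, this ▸ Subgroup.mem_sup_right (Subgroup.mem_zpowers _), rfl⟩
    refine ⟨?_, fun hd => ?_⟩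
    · refine pcOn_top_of_thompsonHyp (e := p) dvd_rfl (Or.inl hp2) T ?_
      rw [hTeq]
      have hM : PCOn p M := pcOn_top_subgroup.mp (pcOn_of_isNilpotent hnil)
      refine ⟨hM.mono (le_of_eq (hnorm _ ((J_le p P).trans hPM) (J_ne_bot dvd_rfl hPp hPne)
        (hMP.trans (normalizer_le_normalizer_J p P)))), hM.mono ?_⟩
      exact (Subgroup.centralizer_le_normalizer _).trans (le_of_eq (hnorm _ ((Z_le P).trans hPM) (Z_ne_bot hPp hPne)
        (hMP.trans (normalizer_le_normalizer_Z P))))
    · refine T.not_dvd_index (hd.trans ?_)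
      rw [hTeq]
      exact Subgroup.index_dvd_of_le hPM
  -- the normal complement
  have hmul : ∀ {x y : G}, (orderOf x).Coprime (Nat.card M) → (orderOf y).Coprime (Nat.card M) →
      (orderOf (x * y)).Coprime (Nat.card M) := by
    intro x y hx hy
    refine Nat.coprime_of_dvd fun p hp h1 h2 => ?_
    have := (hprime p hp h2).1 x (Subgroup.mem_top x) y (Subgroup.mem_top y) (hx.coprime_dvd_right h2) (hy.coprime_dvd_right h2)
    exact (hp.coprime_iff_not_dvd.mp this.symm) h1
  let K : Subgroup G :=
    { carrier := {x | (orderOf x).Coprime (Nat.card M)}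
      one_mem' := by simp
      mul_mem' := fun hx hy => hmul hx hy
      inv_mem' := fun {x} hx => by simpa using hx }
  haveI hKn : K.Normal := ⟨fun x hx g => by
    show (orderOf (g * x * g⁻¹)).Coprime _
    rw [← MulAut.conj_apply, MulEquiv.orderOf_eq]; exact hx⟩
  have hKne : K ≠ ⊥ := by
    intro hbot
    refine hmax.1 (Subgroup.index_eq_one.mp ?_)
    by_contra hne
    obtain ⟨q, hq, hqd⟩ := Nat.exists_prime_and_dvd hne
    haveI := Fact.mk hq
    by_cases hqM : q ∣ Nat.card M
    · exact (hprime q hq hqM).2 hqd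
    · obtain ⟨x, hx⟩ := exists_prime_orderOf_dvd_card' (G := G) q (hqd.trans M.index_dvd_card)
      have : x ∈ K := by show (orderOf x).Coprime _; rw [hx]; exact hq.coprime_iff_not_dvd.mpr hqM
      rw [hbot, Subgroup.mem_bot] at this
      rw [this, orderOf_one] at hx
      exact hq.one_lt.ne hx
  have hcop : (Nat.card M).Coprime (Nat.card K) := by
    refine Nat.coprime_of_dvd fun q hq h1 h2 => ?_
    haveI := Fact.mk hq
    obtain ⟨x, hx⟩ := exists_prime_orderOf_dvd_card' (G := K) q h2
    have h3 : (orderOf (x : G)).Coprime (Nat.card M) := x.2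
    rw [Subgroup.orderOf_coe, hx] at h3
    exact hq.coprime_iff_not_dvd.mp h3 h1
  obtain ⟨q, hq, hqd⟩ := Nat.exists_prime_and_dvd (show Nat.card K ≠ 1 from fun h => hKne (Subgroup.card_eq_one.mp h))
  haveI := Fact.mk hq
  haveI := hnil
  have hAG : M ≤ Subgroup.normalizer (K : Set G) := by rw [Subgroup.normalizer_eq_top]; exact le_top
  obtain ⟨⟨Q, hQ, hMQ⟩, -⟩ := CfsgLib.GroupB.Coprime.invariant_sylow hAG hcop (Or.inr inferInstance) q
  have hQne : Q ≠ ⊥ := by
    intro h
    have hc := hQ.2
    rw [h, Subgroup.card_bot] at hc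
    exact absurd hc.symm (Nat.one_lt_pow (Nat.Prime.factorization_pos_of_dvd hq Nat.card_pos.ne' hqd).ne' hq.one_lt).ne'
  have hdis : ¬ Q ≤ M := fun h => hQne (le_bot_iff.mp
    ((le_inf h hQ.1).trans (le_of_eq (CfsgLib.GroupB.Coprime.inf_eq_bot_of_coprime hcop))))
  have hQn : Q.Normal := by
    rcases hmax.le_iff.mp hMQ with h | h
    · exact Subgroup.normalizer_eq_top_iff.mp h
    · exact absurd (Subgroup.le_normalizer.trans h.le) hdis
  have hsup : Q ⊔ M = ⊤ := hmax.2 _ (lt_of_le_not_ge le_sup_right fun h => hdis (le_sup_left.trans h))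
  haveI := hQn
  haveI : Group.IsNilpotent Q := hQ.isPGroup.isNilpotent
  haveI : Group.IsSolvable (G ⧸ Q) := by
    refine Group.isSolvable_of_surjective (f := (QuotientGroup.mk' Q).comp M.subtype) fun x => ?_
    obtain ⟨x, rfl⟩ := QuotientGroup.mk_surjective x
    obtain ⟨a, ha, b, hb, rfl⟩ := (CfsgLib.GroupB.Coprime.mem_sup_of_le_normalizer hMQ).mp (hsup ▸ Subgroup.mem_top x : x ∈ Q ⊔ M)
    refine ⟨⟨b, hb⟩, ?_⟩
    show (QuotientGroup.mk b : G ⧸ Q) = QuotientGroup.mk (a * b)
    rw [QuotientGroup.mk_mul, (QuotientGroup.eq_one_iff _).mpr ha, one_mul]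
  exact Group.isSolvable_of_ker_le_range Q.subtype (QuotientGroup.mk' Q) (by simp)

/-- A finite group possessing a maximal subgroup that is nilpotent of odd order is solvable. -/
theorem result {G : Type*} [Group G] [Finite G]
    (M : Subgroup G) (hmax : IsCoatom M) (hnil : Group.IsNilpotent M) (hodd : Odd (Nat.card M)) :
    Group.IsSolvable G := by
  exact aux _ M le_rfl hmax hnil hodd

end Cfsg.Agent.S4040
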