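import Cfsg.Statements.S4262
import Cfsg.Agent.S4040
import Cfsg.Agent.Lib.GroupB.FrobBasic

set_option autoImplicit false
open Cfsg

namespace Cfsg.Agent.S4262

theorem mem_of_prime_pow {G : Type*} [Group G] [Finite G] (D : Subgroup G) : ∀ (m : ℕ) (a : G), orderOf a = m →
    (∀ n : ℕ, IsPrimePow (orderOf (a ^ n)) → a ^ n ∈ D) → a ∈ D := by
  intro m
  induction m using Nat.recOnPrimeCoprime with
  | zero => intro a ha _; exact absurd ha (orderOf_pos a).ne'
  | prime_pow q n hq =>
    intro a ha h
    rcases Nat.eq_zero_or_pos n with rfl | hn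
    · rw [pow_zero, orderOf_eq_one_iff] at ha
      rw [ha]; exact one_mem _
    · have := h 1 (by rw [pow_one, ha]; exact hq.isPrimePow.pow hn.ne')
      rwa [pow_one] at this
  | coprime u v hu hv hcop ihu ihv =>
    intro a ha h
    have h1 : a ^ v ∈ D := ihu (a ^ v) (by rw [orderOf_pow_of_dvd (by omega) (ha ▸ dvd_mul_left v u), ha, Nat.mul_div_cancel _ (by omega)])
      fun n hn => by rw [← pow_mul] at hn ⊢; exact h _ hn
    have h2 : a ^ u ∈ D := ihv (a ^ u) (by rw [orderOf_pow_of_dvd (by omega) (ha ▸ dvd_mul_right u v), ha, Nat.mul_div_cancel_left _ (by omega)])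
      fun n hn => by rw [← pow_mul] at hn ⊢; exact h _ hn
    obtain ⟨s, t, hst⟩ := Nat.isCoprime_iff_coprime.mpr hcop
    have e : a = (a ^ u) ^ s * (a ^ v) ^ t := by
      rw [← zpow_natCast a u, ← zpow_natCast a v, ← zpow_mul, ← zpow_mul, ← zpow_add]
      conv_lhs => rw [← zpow_one a, ← hst]
      ring_nf
    rw [e]; exact mul_mem (zpow_mem h2 s) (zpow_mem h1 t)

theorem isSolvable_quotient_of_coatom {G : Type*} [Group G] (M : Subgroup G) [M.Normal] (hM : IsCoatom M) :
    Group.IsSolvable (G ⧸ M) := by
  obtain ⟨g, hg⟩ : ∃ g, g ∉ M := by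
    by_contra hc; push Not at hc; exact hM.1 (eq_top_iff.mpr fun x _ => hc x)
  have htop : Subgroup.zpowers (QuotientGroup.mk g : G ⧸ M) = ⊤ := by
    have h1 : (Subgroup.zpowers (QuotientGroup.mk g : G ⧸ M)).comap (QuotientGroup.mk' M) = ⊤ := by
      refine hM.2 _ (lt_of_le_not_ge (fun x hx => ?_) fun hle => hg (hle (Subgroup.mem_comap.mpr (Subgroup.mem_zpowers _))))
      rw [Subgroup.mem_comap, QuotientGroup.mk'_apply, (QuotientGroup.eq_one_iff _).mpr hx]
      exact one_mem _
    rw [← Subgroup.map_comap_eq_self_of_surjective (QuotientGroup.mk'_surjective M) (Subgroup.zpowers _), h1,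
      Subgroup.map_top_of_surjective _ (QuotientGroup.mk'_surjective M)]
  refine Group.isSolvable_of_comm fun a b => ?_
  obtain ⟨i, rfl⟩ := Subgroup.mem_zpowers_iff.mp (htop ▸ Subgroup.mem_top a)
  obtain ⟨j, rfl⟩ := Subgroup.mem_zpowers_iff.mp (htop ▸ Subgroup.mem_top b)
  exact ((Commute.refl (QuotientGroup.mk g : G ⧸ M)).zpow_zpow i j).eq

theorem pow_mem_center_iff_coprime {G : Type*} [Group G] [Finite G] {a : G} {n : ℕ}
    (hn : (orderOf a).Coprime n) (h : a ^ n ∈ Subgroup.center G) : a ∈ Subgroup.center G := by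
  obtain ⟨m, hm⟩ := exists_pow_eq_self_of_coprime hn.symm
  rw [← hm]; exact pow_mem h m

/-- Let G be a finite group in which the centralizer of every non-central element is a maximal subgroup of G. Then G is solvable. -/
theorem result {G : Type*} [Group G] [Finite G]
    (h : ∀ g : G, g ∉ Subgroup.center G → IsCoatom (Subgroup.centralizer ({g} : Set G))) :
    Group.IsSolvable G := by
  classical
  set Z := Subgroup.center G
  haveI hZs : Group.IsSolvable Z := Group.isSolvable_of_comm fun a b => Subtype.ext (Subgroup.mem_center_iff.mp b.2 a)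
  suffices hq : Group.IsSolvable (G ⧸ Z) from
    Group.isSolvable_of_ker_le_range Z.subtype (QuotientGroup.mk' Z) (by simp)
  have hcc : ∀ {a b : G}, a ∈ Subgroup.centralizer ({b} : Set G) ↔ Commute a b := fun {a b} => by
    rw [Subgroup.mem_centralizer_iff]; exact ⟨fun h => (h b rfl).symm, fun h c hc => by rw [hc]; exact h.eq.symm⟩
  have heq : ∀ {a b : G}, a ∉ Z → b ∉ Z → Subgroup.centralizer ({a} : Set G) ≤ Subgroup.centralizer ({b} : Set G) →
      Subgroup.centralizer ({a} : Set G) = Subgroup.centralizer ({b} : Set G) := fun {a b} ha hb hle => by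
    rcases (h a ha).le_iff.mp hle with h' | h'
    · exact absurd h' (h b hb).1
    · exact h'.symm
  -- commuting elements of coprime order
  have hcop : ∀ {a b : G}, a ∉ Z → b ∉ Z → Commute a b → (orderOf a).Coprime (orderOf b) →
      Subgroup.centralizer ({a} : Set G) = Subgroup.centralizer ({b} : Set G) := by
    intro a b ha hb hab hc
    obtain ⟨m, hm⟩ := exists_pow_eq_self_of_coprime hc.symm
    obtain ⟨m', hm'⟩ := exists_pow_eq_self_of_coprime hc
    have hab1 : (a * b) ∉ Z := by
      intro hz
      refine ha (pow_mem_center_iff_coprime hc ?_)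
      have := pow_mem hz (orderOf b)
      rwa [hab.mul_pow, pow_orderOf_eq_one, mul_one] at this
    have hle : ∀ c : G, Commute c (a * b) → Commute c a ∧ Commute c b := by
      intro c hc'
      constructor
      · have h1 := hc'.pow_right (orderOf b)
        rw [hab.mul_pow, pow_orderOf_eq_one, mul_one] at h1
        rw [← hm]; exact h1.pow_right m
      · have h1 := hc'.pow_right (orderOf a)
        rw [hab.mul_pow, pow_orderOf_eq_one, one_mul] at h1
        rw [← hm']; exact h1.pow_right m'
    exact (heq hab1 ha fun c hc' => hcc.mpr (hle c (hcc.mp hc')).1).symm.trans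
      (heq hab1 hb fun c hc' => hcc.mpr (hle c (hcc.mp hc')).2)
  by_cases hmixed : ∃ x y : G, x ∉ Z ∧ y ∉ Z ∧ Commute x y ∧ (orderOf x).Coprime (orderOf y) ∧ IsPrimePow (orderOf x) ∧ IsPrimePow (orderOf y)
  · -- an abelian centralizer
    obtain ⟨x, y, hx, hy, hxy, hco, hpx, hpy⟩ := hmixed
    set M := Subgroup.centralizer ({x} : Set G) with hM
    have hMy : M = Subgroup.centralizer ({y} : Set G) := hcop hx hy hxy hco
    have hZM : Z ≤ M := fun z hz => hcc.mpr (Subgroup.mem_center_iff.mp hz x).symm
    have hab : ∀ a ∈ M, ∀ b ∈ M, a * b = b * a := by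
      intro a ha b hb
      have hD : a ∈ Subgroup.centralizer ({b} : Set G) := by
        refine mem_of_prime_pow _ _ a rfl fun n hn => hcc.mpr ?_
        by_cases hz : a ^ n ∈ Z
        · exact (Subgroup.mem_center_iff.mp hz b).symm
        have hax : Commute (a ^ n) x := (hcc.mp ha).pow_left n
        have hay : Commute (a ^ n) y := (hcc.mp (hMy ▸ ha)).pow_left n
        obtain ⟨r, k, hr, hk, hrk⟩ := hn
        obtain ⟨p, i, hp, hi, hpi⟩ := hpx
        obtain ⟨q, j, hq, hj, hqj⟩ := hpy
        have hC : Subgroup.centralizer ({a ^ n} : Set G) = M := by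
          by_cases hrp : r = p
          · rw [hMy]
            refine hcop hz hy hay ?_
            rw [← hrk, ← hqj]
            refine Nat.Coprime.pow _ _ ((Nat.coprime_primes hr.nat_prime hq.nat_prime).mpr fun hrq => ?_)
            rw [← hpi, ← hqj, ← hrp, ← hrq, Nat.coprime_pow_left_iff hi, Nat.coprime_pow_right_iff hj, Nat.coprime_self] at hco
            exact hr.nat_prime.one_lt.ne' hco
          · refine hcop hz hx hax ?_
            rw [← hrk, ← hpi]
            exact Nat.Coprime.pow _ _ ((Nat.coprime_primes hr.nat_prime hp.nat_prime).mpr hrp)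
        rw [← hC] at hb
        exact (hcc.mp hb).symm
      exact (hcc.mp hD).eq
    by_cases hMn : M.Normal
    · haveI := hMn
      haveI : Group.IsSolvable M := Group.isSolvable_of_comm fun a b => Subtype.ext (hab a a.2 b b.2)
      haveI := isSolvable_quotient_of_coatom M (h x hx)
      haveI : Group.IsSolvable G := Group.isSolvable_of_ker_le_range M.subtype (QuotientGroup.mk' M) (by simp)
      exact Group.isSolvable_of_surjective (QuotientGroup.mk'_surjective Z)
    · set π := QuotientGroup.mk' Z
      have hπ := QuotientGroup.mk'_surjective Z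
      have hmem : ∀ {g : G}, π g ∈ M.map π → g ∈ M := fun {g} hg => by
        rw [← Subgroup.mem_comap, Subgroup.comap_map_eq, QuotientGroup.ker_mk', sup_eq_left.mpr hZM] at hg
        exact hg
      have hF : Cfsg.IsFrobeniusComplement (M.map π) := by
        refine ⟨fun hb => hx ?_, fun ht => (h x hx).1 (eq_top_iff.mpr fun g _ => hmem (ht ▸ Subgroup.mem_top _)), fun g hg => ?_⟩
        · have : π x ∈ M.map π := Subgroup.mem_map_of_mem _ (hcc.mpr (Commute.refl x))
          rw [hb, Subgroup.mem_bot] at this
          exact (QuotientGroup.eq_one_iff x).mp this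
        · obtain ⟨g, rfl⟩ := hπ g
          have hg' : g ∉ M := fun h' => hg (Subgroup.mem_map_of_mem _ h')
          rw [Subgroup.eq_bot_iff_forall]
          rintro w ⟨hw1, hw2⟩
          obtain ⟨z, hz, rfl⟩ := hw1
          by_contra hne
          have hzZ : z ∉ Z := fun h' => hne ((QuotientGroup.eq_one_iff z).mpr h')
          have hz2 : g⁻¹ * z * g ∈ M := by
            refine hmem ?_
            rw [map_mul, map_mul, map_inv]
            have := CfsgLib.GroupB.Frobenius.mem_conj_smul_iff.mp hw2
            exact this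
          have hCz : ∀ w ∈ M, w ∉ Z → Subgroup.centralizer ({w} : Set G) = M := fun w hw hwZ =>
            (heq hx hwZ fun c hc => hcc.mpr (hab c hc w hw)).symm
          have hz2Z : g⁻¹ * z * g ∉ Z := fun h' => hzZ (by
            have := (inferInstance : Z.Normal).conj_mem _ h' g
            simpa [mul_assoc] using this)
          have h1 := hCz z hz hzZ
          have h2 := hCz _ hz2 hz2Z
          have hN : g ∈ Subgroup.normalizer (M : Set G) := by
            rw [Subgroup.mem_normalizer_iff]
            intro c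
            refine Iff.trans (b := Commute c (g⁻¹ * z * g)) ?_ (Iff.trans ?_ (b := Commute (g * c * g⁻¹) z) ?_)
            · conv_lhs => rw [← h2]
              exact hcc
            · constructor
              · intro hc
                have := hc.map (MulAut.conj g).toMonoidHom
                simpa [mul_assoc] using this
              · intro hc
                have := hc.map (MulAut.conj g⁻¹).toMonoidHom
                simpa [mul_assoc] using this
            · conv_rhs => rw [← h1]
              exact hcc.symm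
          rcases (h x hx).le_iff.mp (Subgroup.le_normalizer (H := M)) with h' | h'
          · exact hMn (Subgroup.normalizer_eq_top_iff.mp h')
          · exact hg' (h'.le hN)
      obtain ⟨N, -, hN, hc⟩ := CfsgLib.GroupB.Frobenius.exists_kernel_subgroup hF
      haveI := hN
      haveI := CfsgLib.GroupB.FrobBasic.isNilpotent_kernel hF N hc
      haveI : Group.IsSolvable (M.map π) := Group.isSolvable_of_comm fun a b => by
        obtain ⟨a', ha', hae⟩ := a.2
        obtain ⟨b', hb', hbe⟩ := b.2
        exact Subtype.ext (by show (a : G ⧸ Z) * b = b * a; rw [← hae, ← hbe, ← map_mul, ← map_mul, hab a' ha' b' hb'])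
      haveI : Group.IsSolvable ((G ⧸ Z) ⧸ N) := Group.isSolvable_of_surjective
        (f := (QuotientGroup.mk' N).comp (M.map π).subtype) fun w => by
          obtain ⟨w, rfl⟩ := QuotientGroup.mk_surjective w
          obtain ⟨⟨n, m⟩, hnm⟩ := hc.2 w
          refine ⟨m, ?_⟩
          show (QuotientGroup.mk (m : G ⧸ Z) : (G ⧸ Z) ⧸ N) = QuotientGroup.mk w
          rw [← hnm]; symm
          rw [QuotientGroup.mk_mul, (QuotientGroup.eq_one_iff _).mpr n.2, one_mul]
      exact Group.isSolvable_of_ker_le_range N.subtype (QuotientGroup.mk' N) (by simp)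
  · push Not at hmixed
    -- lifting elements of prime order from the quotient
    have hlift : ∀ (r : ℕ), r.Prime → ∀ g : G, orderOf (QuotientGroup.mk g : G ⧸ Z) = r →
        ∃ n : ℕ, g ^ n ∉ Z ∧ IsPrimePow (orderOf (g ^ n)) ∧ ∀ s, s.Prime → s ∣ orderOf (g ^ n) → s = r := by
      intro r hr g hg
      have hgz : g ∉ Z := fun h' => hr.one_lt.ne (by rw [← hg, (QuotientGroup.eq_one_iff g).mpr h', orderOf_one])
      have hd : r ∣ orderOf g := hg ▸ orderOf_map_dvd (QuotientGroup.mk' Z) g
      refine ⟨orderOf g / r ^ (orderOf g).factorization r, fun hz => ?_, ?_, ?_⟩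
      · have h1 : (QuotientGroup.mk g : G ⧸ Z) ^ (orderOf g / r ^ (orderOf g).factorization r) = 1 := by
          rw [← QuotientGroup.mk_pow]; exact (QuotientGroup.eq_one_iff _).mpr hz
        have := orderOf_dvd_of_pow_eq_one h1
        rw [hg] at this
        exact Nat.not_dvd_ordCompl hr (orderOf_pos g).ne' this
      · rw [orderOf_pow_of_dvd (Nat.ordCompl_pos r (orderOf_pos g).ne').ne' (Nat.ordCompl_dvd _ _),
          Nat.div_div_self (Nat.ordProj_dvd _ _) (orderOf_pos g).ne']
        exact hr.isPrimePow.pow (Nat.Prime.factorization_pos_of_dvd hr (orderOf_pos g).ne' hd).ne'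
      · intro s hs hsd
        rw [orderOf_pow_of_dvd (Nat.ordCompl_pos r (orderOf_pos g).ne').ne' (Nat.ordCompl_dvd _ _),
          Nat.div_div_self (Nat.ordProj_dvd _ _) (orderOf_pos g).ne'] at hsd
        exact (Nat.prime_dvd_prime_iff_eq hs hr).mp (hs.dvd_of_dvd_pow hsd)
    by_cases hodd : ∃ x : G, x ∉ Z ∧ IsPrimePow (orderOf x) ∧ Odd (orderOf x)
    · obtain ⟨x, hx, hpx, hxo⟩ := hodd
      obtain ⟨p, i, hp, hi, hpi⟩ := id hpx
      haveI := Fact.mk hp.nat_prime
      set M := Subgroup.centralizer ({x} : Set G) with hM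
      set π := QuotientGroup.mk' Z
      have hZM : Z ≤ M := fun z hz => hcc.mpr (Subgroup.mem_center_iff.mp hz x).symm
      have hpd : p ∣ orderOf x := hpi ▸ dvd_pow_self p hi.ne'
      have hall : ∀ r : ℕ, r.Prime → r ∣ Nat.card (M.map π) → r = p := by
        intro r hr hd
        haveI := Fact.mk hr
        obtain ⟨⟨w, g, hgM, rfl⟩, hw⟩ := exists_prime_orderOf_dvd_card' (G := M.map π) r hd
        rw [← Subgroup.orderOf_coe] at hw
        obtain ⟨n, hn1, hn2, hn3⟩ := hlift r hr g hw
        by_contra hne
        refine hmixed x (g ^ n) hx hn1 ((hcc.mp hgM).pow_left n).symm ?_ hpx hn2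
        rw [← hpi]
        refine Nat.Coprime.pow_left _ (Nat.Prime.coprime_iff_not_dvd hp.nat_prime |>.mpr fun hpn => ?_)
        exact hne (hn3 p hp.nat_prime hpn).symm
      have hcard := Nat.eq_prime_pow_of_unique_prime_dvd (Nat.card_pos (α := M.map π)).ne' (p := p) (fun {d} hd hdd => hall d hd hdd)
      have hpM : IsPGroup p (M.map π) := IsPGroup.of_card hcard
      haveI hnil : Group.IsNilpotent (M.map π) := hpM.isNilpotent
      refine Cfsg.Agent.S4040.result (M.map π) ⟨fun ht => (h x hx).1 ?_, fun L hL => ?_⟩ hnil ?_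
      · have := congrArg (Subgroup.comap π) ht
        rwa [Subgroup.comap_map_eq, QuotientGroup.ker_mk', sup_eq_left.mpr hZM, Subgroup.comap_top] at this
      · have hlt : M < L.comap π := by
          refine lt_of_eq_of_lt ?_ ((Subgroup.comap_lt_comap_of_surjective (QuotientGroup.mk'_surjective Z)).mpr hL)
          rw [Subgroup.comap_map_eq, QuotientGroup.ker_mk', sup_eq_left.mpr hZM]
        rw [← Subgroup.map_comap_eq_self_of_surjective (QuotientGroup.mk'_surjective Z) L, (h x hx).2 _ hlt,
          Subgroup.map_top_of_surjective _ (QuotientGroup.mk'_surjective Z)]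
      · rw [hcard]
        exact (hxo.of_dvd_nat hpd).pow
    · push Not at hodd
      have h2 : ∀ r : ℕ, r.Prime → r ∣ Nat.card (G ⧸ Z) → r = 2 := by
        intro r hr hd
        haveI := Fact.mk hr
        obtain ⟨w, hw⟩ := exists_prime_orderOf_dvd_card' (G := G ⧸ Z) r hd
        obtain ⟨g, rfl⟩ := QuotientGroup.mk_surjective w
        obtain ⟨n, hn1, hn2, hn3⟩ := hlift r hr g hw
        have he := hodd _ hn1 hn2
        rw [Nat.not_odd_iff_even, even_iff_two_dvd] at he
        exact (hn3 2 Nat.prime_two he).symm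
      haveI := Fact.mk Nat.prime_two
      haveI : Group.IsNilpotent (G ⧸ Z) := (IsPGroup.of_card (p := 2)
        (Nat.eq_prime_pow_of_unique_prime_dvd (Nat.card_pos (α := G ⧸ Z)).ne' fun {d} hd hdd => h2 d hd hdd)).isNilpotent
      infer_instance

end Cfsg.Agent.S4262
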