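import Cfsg.Statements.S0029
import Cfsg.Agent.Lib.Solvable.Basics
import Cfsg.Agent.S4262
import Cfsg.Agent.Lib.Solvable.HallBasic

set_option autoImplicit false
open Cfsg

namespace Cfsg.Agent.S0029

/-- An action that is trivial on the Frattini quotient and coprime on the Frattini subgroup is trivial: if A normalises K, the orders of A and of the Frattini subgroup of K are coprime, and every commutator of an element of A with an element of K lies in the Frattini subgroup of K, then A centralises K. -/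
theorem result {G : Type*} [Group G] [Finite G] (A K : Subgroup G)
    (hAK : A ≤ Subgroup.normalizer (K : Set G))
    (hcop : (Nat.card A).Coprime (Nat.card (frattini K)))
    (htriv : ∀ a ∈ A, ∀ k ∈ K, a * k * a⁻¹ * k⁻¹ ∈ (frattini K).map K.subtype) :
    A ≤ Subgroup.centralizer (K : Set G) := by
  classical
  intro a ha
  rw [Subgroup.mem_centralizer_iff]
  suffices hpp : ∀ b ∈ A, IsPrimePow (orderOf b) → ∀ k ∈ K, b * k = k * b by
    have hgen : a ∈ Subgroup.closure {b | b ∈ A ∧ (IsPrimePow (orderOf b) ∨ b = 1)} := by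
      refine Cfsg.Agent.S4262.mem_of_prime_pow _ _ a rfl fun n hn => ?_
      exact Subgroup.subset_closure ⟨Subgroup.pow_mem _ ha n, Or.inl hn⟩
    intro k hk
    have hle : Subgroup.closure {b | b ∈ A ∧ (IsPrimePow (orderOf b) ∨ b = 1)} ≤ Subgroup.centralizer ({k} : Set G) := by
      rw [Subgroup.closure_le]
      rintro b ⟨hb, hb' | rfl⟩
      · exact Subgroup.mem_centralizer_singleton_iff.mpr (hpp b hb hb' k hk)
      · exact one_mem _
    exact (Subgroup.mem_centralizer_singleton_iff.mp (hle hgen)).symm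
  intro b hb hpow k hk
  set F := (frattini K).map K.subtype with hF
  have hFK : F ≤ K := Subgroup.map_subtype_le _
  have hKF : K ≤ Subgroup.normalizer (F : Set G) := by
    refine CfsgLib.GroupB.Coprime.le_normalizer_of_conj_mem ?_
    rintro c hc _ ⟨f, hf, rfl⟩
    exact ⟨_, (inferInstance : (frattini K).Normal).conj_mem f hf ⟨c, hc⟩, rfl⟩
  have hbF : Subgroup.zpowers b ≤ Subgroup.normalizer (F : Set G) := by
    refine Subgroup.zpowers_le.mpr ?_
    have hbK : b ∈ Subgroup.normalizer (K : Set G) := hAK hb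
    let e : MulAut K := (Subgroup.normalizerMonoidHom K ⟨b, hbK⟩)
    rw [CfsgLib.GroupB.Coprime.mem_normalizer_iff_map_conj_eq]
    refine Subgroup.eq_of_le_of_card_ge ?_ (CfsgLib.GroupB.SchurZassenhaus.card_map_conj b F).ge
    rintro _ ⟨_, ⟨f, hf, rfl⟩, rfl⟩
    haveI : (frattini K).Characteristic := inferInstance
    exact ⟨e f, Subgroup.characteristic_iff_le_comap.mp inferInstance e hf, rfl⟩
  have hcopB : (Nat.card (Subgroup.zpowers b)).Coprime (Nat.card F) := by
    rw [Subgroup.card_subtype]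
    exact hcop.coprime_dvd_left (Subgroup.card_dvd_of_le (Subgroup.zpowers_le.mpr hb))
  have hsolB : Group.IsSolvable (Subgroup.zpowers b) :=
    Group.isSolvable_of_comm fun x y => mul_comm' x y
  -- fixed points in every coset
  let S : Set G := {x | x ∈ K ∧ k⁻¹ * x ∈ F}
  letI : MulAction G G := Monoid.toMulAction G
  have hcov : ∀ k ∈ K, ∃ c ∈ K, b * c = c * b ∧ k⁻¹ * c ∈ F := by
    intro k hk
    have hle : (Subgroup.zpowers b).map (MulAut.conj k⁻¹).toMonoidHom ≤ F ⊔ Subgroup.zpowers b := by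
      rw [MonoidHom.map_zpowers, Subgroup.zpowers_le]
      show k⁻¹ * b * k⁻¹⁻¹ ∈ _
      rw [show k⁻¹ * b * k⁻¹⁻¹ = (k⁻¹ * (b * k * b⁻¹ * k⁻¹) * k⁻¹⁻¹) * b by group]
      exact Subgroup.mul_mem_sup ((CfsgLib.GroupB.Coprime.conj_mem_iff (hKF (K.inv_mem hk))).mpr (htriv b hb k hk))
        (Subgroup.mem_zpowers b)
    obtain ⟨n, hn, hEq⟩ := CfsgLib.GroupB.Coprime.sup_conj F (Subgroup.zpowers b) _ hbF hcopB.symm hle
      (CfsgLib.GroupB.SchurZassenhaus.card_map_conj _ _) (Or.inr hsolB)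
    refine ⟨k * n, K.mul_mem hk (hFK hn), ?_, by simpa using hn⟩
    have hN : k * n ∈ Subgroup.normalizer (Subgroup.zpowers b : Set G) := by
      rw [CfsgLib.GroupB.Coprime.mem_normalizer_iff_map_conj_eq, ← CfsgLib.GroupB.SchurZassenhaus.map_conj_map_conj,
        ← hEq, CfsgLib.GroupB.SchurZassenhaus.map_conj_map_conj, mul_inv_cancel, map_one]
      exact Subgroup.map_id _
    obtain ⟨i, hi⟩ := (CfsgLib.GroupB.Coprime.conj_mem_iff hN).mpr (Subgroup.mem_zpowers b)
    have hi' : b ^ i = k * n * b * (k * n)⁻¹ := hi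
    -- `b ^ (i - 1)` lies in `F`
    have h2 : b ^ i * b⁻¹ ∈ F := by
      set c := k * n
      have hc : c ∈ K := K.mul_mem hk (hFK hn)
      rw [hi']
      have := F.inv_mem (htriv b hb c hc)
      simpa [mul_assoc] using this
    have h3 : b ^ i * b⁻¹ ∈ Subgroup.zpowers b :=
      mul_mem (Subgroup.zpow_mem_zpowers b i) (inv_mem (Subgroup.mem_zpowers b))
    have h4 : b ^ i * b⁻¹ = 1 := by
      have h5 : b ^ i * b⁻¹ ∈ Subgroup.zpowers b ⊓ F := ⟨h3, h2⟩
      rwa [CfsgLib.GroupB.Coprime.inf_eq_bot_of_coprime hcopB, Subgroup.mem_bot] at h5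
    rw [mul_inv_eq_one] at h4
    rw [h4] at hi'
    exact eq_mul_inv_iff_mul_eq.mp hi'
  have htop : (Subgroup.centralizer ({b} : Set G)).subgroupOf K ⊔ frattini K = ⊤ := by
    rw [eq_top_iff]
    rintro ⟨x, hx⟩ -
    obtain ⟨c, hc, hcb, f, hf, hfe⟩ := hcov x hx
    have : (⟨x, hx⟩ : K) = ⟨c, hc⟩ * f⁻¹ := by
      refine Subtype.ext ?_
      rw [Subgroup.coe_mul, Subgroup.coe_inv, show (f : G) = x⁻¹ * c from hfe]
      group
    rw [this]
    exact Subgroup.mul_mem_sup (Subgroup.mem_centralizer_singleton_iff.mpr hcb.symm) (inv_mem hf)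
  have := Subgroup.subgroupOf_eq_top.mp (frattini_nongenerating htop) hk
  exact (Subgroup.mem_centralizer_singleton_iff.mp this).symm

end Cfsg.Agent.S0029
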