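import Cfsg.Statements.S0033
import Cfsg.Agent.Lib.Thompson.Kegel
import Mathlib.GroupTheory.SemidirectProduct
import Mathlib.GroupTheory.FixedPointFree

set_option autoImplicit false
open Cfsg

namespace Cfsg.Agent.S0033

/-- Thompson's Theorem on fixed-point-free automorphisms: a finite group with an automorphism of prime order fixing only the identity is nilpotent. -/
theorem result {G : Type*} [Group G] [Finite G] (φ : G ≃* G)
    (hφ : MonoidHom.FixedPointFree (φ : G →* G)) (p : ℕ) (hp : p.Prime) (hord : orderOf φ = p) :
    Group.IsNilpotent G := by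
  haveI := Fact.mk hp
  set A := Subgroup.zpowers φ
  set ι : A →* MulAut G := A.subtype
  haveI : Finite (MulAut G) := Finite.of_injective (fun e : MulAut G => (e : G → G)) DFunLike.coe_injective
  haveI : Finite (G ⋊[ι] A) := Finite.of_equiv _ SemidirectProduct.equivProd.symm
  set K := (SemidirectProduct.inl : G →* G ⋊[ι] A).range
  haveI : K.Normal := by
    rw [show K = (SemidirectProduct.rightHom : G ⋊[ι] A →* A).ker from SemidirectProduct.range_inl_eq_ker_rightHom]
    infer_instance
  have hne : K ≠ ⊤ := by
    intro h
    have : (SemidirectProduct.inr ⟨φ, Subgroup.mem_zpowers φ⟩ : G ⋊[ι] A) ∈ K := h ▸ Subgroup.mem_top _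
    obtain ⟨g, hg⟩ := this
    have h2 := congrArg (fun x => ((x.right : A) : MulAut G)) hg
    simp at h2
    rw [← h2, orderOf_one] at hord
    exact hp.ne_one hord.symm
  have hout : ∀ g : G ⋊[ι] A, g ∉ K → g ^ p = 1 := by
    intro g hg
    have hr : g.right ≠ 1 := fun h => hg ⟨g.left, SemidirectProduct.ext rfl (by simp [h])⟩
    have hord2 : orderOf (g.right : MulAut G) = p := by
      refine (hp.eq_one_or_self_of_dvd _ ?_).resolve_left fun h => hr (Subtype.ext (orderOf_eq_one_iff.mp h))
      rw [← hord]; exact orderOf_dvd_of_mem_zpowers g.right.2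
    have hfix : MonoidHom.FixedPointFree ((g.right : MulAut G).toMonoidHom) := by
      intro x hx
      apply hφ
      have hx' : (g.right : MulAut G) x = x := hx
      obtain ⟨i, hi⟩ := Subgroup.mem_zpowers_iff.mp g.right.2
      have hmem : φ ∈ Subgroup.zpowers (g.right : MulAut G) := by
        have : Subgroup.zpowers (g.right : MulAut G) = A := Subgroup.eq_of_le_of_card_ge
          (Subgroup.zpowers_le.mpr g.right.2) (by rw [Nat.card_zpowers, Nat.card_zpowers, hord, hord2])
        rw [this]; exact Subgroup.mem_zpowers φ
      exact (Subgroup.zpowers_le.mpr (show (g.right : MulAut G) ∈ MulAction.stabilizer (MulAut G) x from hx')) hmem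
    obtain ⟨y, hy⟩ := hfix.commutatorMap_surjective g.left
    have hg' : g = SemidirectProduct.inl y * SemidirectProduct.inr g.right * (SemidirectProduct.inl y)⁻¹ := by
      refine SemidirectProduct.ext ?_ ?_
      · have hy' : y * ((g.right : MulAut G) y)⁻¹ = g.left := by
          rw [← hy, MonoidHom.commutatorMap_apply, div_eq_mul_inv]; rfl
        simp [ι, hy', map_inv]
      · simp
    rw [hg', conj_pow, ← map_pow, show g.right ^ p = 1 from Subtype.ext (by
      rw [SubmonoidClass.coe_pow, ← hord2, pow_orderOf_eq_one]; rfl), map_one, mul_one, mul_inv_cancel]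
  haveI := CfsgLib.ThompsonNPC.isNilpotent_of_pow_eq_one hne hout
  exact Group.nilpotent_of_mulEquiv (MonoidHom.ofInjective (SemidirectProduct.inl_injective (φ := ι))).symm

end Cfsg.Agent.S0033
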