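import Cfsg.Statements.S0044
import Cfsg.Agent.Lib.Core
import Cfsg.Agent.Lib.LocalBasic
open scoped commutatorElement Pointwise

set_option autoImplicit false
open Cfsg

namespace Cfsg.Agent.S0044

/-- In a finite solvable group, the centraliser of the Fitting subgroup is contained in the Fitting subgroup. -/
theorem result {G : Type*} [Group G] [Finite G] [Group.IsSolvable G] :
    Subgroup.centralizer (Cfsg.fittingSubgroup G : Set G) ≤ Cfsg.fittingSubgroup G := by
  classical
  haveI hFn := CfsgLib.Core.fittingSubgroup_normal (G := G)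
  set C := Subgroup.centralizer (Cfsg.fittingSubgroup G : Set G) with hC
  by_contra hle
  set D : ℕ → Subgroup G := fun n => (derivedSeries C n).map C.subtype with hD
  have hDn : ∀ n, (D n).Normal := fun n => by
    haveI := derivedSeries_characteristic C n
    exact ConjAct.normal_of_characteristic_of_normal
  have hD0 : D 0 = C := by
    show (derivedSeries C 0).map C.subtype = C
    rw [derivedSeries_zero, ← MonoidHom.range_eq_map, Subgroup.range_subtype]
  have hD1 : ∀ n, D (n + 1) = ⁅D n, D n⁆ := fun n => by
    show (derivedSeries C (n + 1)).map C.subtype = _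
    rw [derivedSeries_succ, Subgroup.map_commutator]
  obtain ⟨n, hn⟩ := (inferInstance : Group.IsSolvable C).solvable
  have hend : D n ≤ Cfsg.fittingSubgroup G := by
    show (derivedSeries C n).map C.subtype ≤ _
    rw [hn, Subgroup.map_bot]; exact bot_le
  have hex : ∃ n, D n ≤ Cfsg.fittingSubgroup G := ⟨n, hend⟩
  obtain ⟨m, hm⟩ : ∃ m, Nat.find hex = m + 1 := by
    refine ⟨Nat.find hex - 1, (Nat.succ_pred_eq_of_ne_zero fun h0 => hle ?_).symm⟩
    have := Nat.find_spec hex
    rwa [h0, hD0] at this
  have hnot : ¬ D m ≤ Cfsg.fittingSubgroup G := Nat.find_min hex (by omega)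
  have hsucc : ⁅D m, D m⁆ ≤ Cfsg.fittingSubgroup G := hD1 m ▸ hm ▸ Nat.find_spec hex
  haveI := hDn m
  refine hnot (CfsgLib.Core.le_fittingSubgroup (hDn m) ?_)
  refine Subgroup.isNilpotent_of_lowerCentralSeries_eq_bot (S := D m) (n := 2) ?_
  rw [Subgroup.lowerCentralSeries_succ, Subgroup.lowerCentralSeries_succ, Subgroup.lowerCentralSeries_zero,
    Subgroup.commutator_eq_bot_iff_le_centralizer]
  refine hsucc.trans ?_
  rw [Subgroup.le_centralizer_iff]
  exact (Subgroup.map_subtype_le _).trans le_rfl

end Cfsg.Agent.S0044
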