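import Cfsg.Statements.S0081
import Cfsg.Agent.Lib.Fusion.Tate
import Cfsg.Agent.Lib.Fusion.Group
import Cfsg.Agent.Lib.FrobeniusCrit
import Cfsg.Agent.Lib.MaximalClassTwo

set_option autoImplicit false
set_option linter.style.haveILetI false
open Cfsg

namespace Cfsg.Agent.S0081

open CfsgLib.ThompsonNPC CfsgLib.Biset CfsgLib.Fusion
open scoped commutatorElement

theorem commutator_le_frattini {p : ℕ} [Fact p.Prime] {X : Type*} [Group X] [Finite X] (hX : IsPGroup p X) :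
    commutator X ≤ frattini X :=
  le_iInf₂ fun _ hM => CfsgLib.MaximalClassTwo.commutator_le_coatom hX hM

theorem core {G : Type*} [Group G] [Finite G] {p : ℕ} [Fact p.Prime] (S : Sylow p G) (N : Subgroup G) [N.Normal]
    (hsup : N ⊔ (S : Subgroup G) = ⊤) (h : N ⊓ (S : Subgroup G) ≤ (frattini S).map (S : Subgroup G).subtype) :
    PCOn p (⊤ : Subgroup G) := by
  set S₀ := (S : Subgroup G) with hS₀
  set F := Cfsg.groupFusionSystem S₀ with hFdef
  have hF : F.IsSaturated p := group_isSaturated S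
  set Φ := (frattini ↥S₀).map S₀.subtype with hΦ
  have hS' : ⁅S₀, S₀⁆ ≤ Φ := by
    rw [← CfsgLib.Biset.map_commutator_eq]
    exact Subgroup.map_mono (commutator_le_frattini S.2)
  have hfoc : F.focalSubgroup ≤ Φ := by
    refine (Subgroup.closure_le _).mpr ?_
    rintro _ ⟨P, φ, x, hφ, rfl⟩
    obtain ⟨hPS, hφS, g, hg⟩ := hφ
    obtain ⟨u, hu, s, hs, rfl⟩ := Subgroup.mem_sup_of_normal_left.mp (hsup ▸ Subgroup.mem_top g)
    have hxS : (x : G) ∈ S₀ := hPS x.2
    set w := s * (x : G) * s⁻¹ with hw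
    have hwS : w ∈ S₀ := S₀.mul_mem (S₀.mul_mem hs hxS) (S₀.inv_mem hs)
    have hgw : φ x = u * w * u⁻¹ := by rw [hg, hw]; group
    rw [show (x : G)⁻¹ * φ x = ((x : G)⁻¹ * w) * (w⁻¹ * φ x) by group]
    refine Φ.mul_mem (hS' ?_) (h ⟨?_, S₀.mul_mem (S₀.inv_mem hwS) (hφS x)⟩)
    · rw [show (x : G)⁻¹ * w = ⁅(x : G)⁻¹, s⁆ by rw [hw, commutatorElement_def]; group]
      exact Subgroup.commutator_mem_commutator (S₀.inv_mem hxS) hs
    · rw [hgw, show w⁻¹ * (u * w * u⁻¹) = (w⁻¹ * u * w⁻¹⁻¹) * u⁻¹ by group]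
      exact N.mul_mem ((inferInstance : N.Normal).conj_mem u hu w⁻¹) (N.inv_mem hu)
  have hfoc' : F.focalSubgroup ≤ ⁅S₀, S₀⁆ :=
    focal_le_of_frattini p S.2 hF le_rfl (CfsgLib.Biset.commutator_le_focal F) (hfoc.trans le_sup_left)
  have hhyp : hypS p F ≤ ⊥ := by
    refine hyp_le_of_focal_le p S.2 hF bot_le ?_
    rw [bot_sup_eq]
    intro x hx
    obtain ⟨y, hy, hyx⟩ := (CfsgLib.Biset.map_commutator_eq S₀).ge
      (hfoc' (hyp_le_focal p F (Subgroup.mem_subgroupOf.mp hx)))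
    exact Subtype.ext hyx ▸ hy
  refine CfsgLib.FrobeniusCrit.pcOn_top _ G le_rfl fun X hX g hg hgc => ?_
  obtain ⟨m, -, hm⟩ := CfsgLib.LocalBasic.exists_conj_le_sylow S (M := ⊤) le_top hX le_top
  set X' := X.map (MulAut.conj m).toMonoidHom with hX'
  have hX'S : X' ≤ S₀ := by rintro _ ⟨x, hx, rfl⟩; exact hm x hx
  set g' := m * g * m⁻¹ with hg'
  have hgN : g' ∈ Subgroup.normalizer (X' : Set G) :=
    Subgroup.le_normalizer_map (MulAut.conj m).toMonoidHom ⟨g, hg, rfl⟩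
  let α : MulAut ↥X' := X'.normalizerMonoidHom ⟨g', hgN⟩
  have hα : α ∈ F.autGroup X' := by
    rw [autGroup_carrier _ hX'S]
    exact ⟨hX'S, fun x => hX'S (α x).2, g', fun x => rfl⟩
  have hαc : (⟨α, hα⟩ : ↥(F.autGroup X')) ∈ Cfsg.pResidual p ↥(F.autGroup X') := by
    refine CfsgLib.PResidual.mem_pResidual ?_
    rw [Subgroup.orderOf_mk]
    refine (Nat.Coprime.coprime_dvd_left (orderOf_map_dvd X'.normalizerMonoidHom ⟨g', hgN⟩) ?_)
    rwa [Subgroup.orderOf_mk, hg', orderOf_conj_eq]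
  refine Subgroup.mem_centralizer_iff.mpr fun x hx => ?_
  have hx' : m * x * m⁻¹ ∈ X' := ⟨x, hx, rfl⟩
  have h1 := Subgroup.mem_bot.mp (hhyp (mem_hypS_of_aut (F := F) hX'S hαc ⟨_, hx'⟩))
  have h2 : (m * x * m⁻¹)⁻¹ * (g' * (m * x * m⁻¹) * g'⁻¹) = 1 := congrArg Subtype.val h1
  rw [inv_mul_eq_one, hg'] at h2
  have h3 := congrArg (fun z => m⁻¹ * z * m) h2
  group at h3
  calc x * g = (g * x * g⁻¹) * g := by
        congr 1
        rw [show g * x * g⁻¹ = g * x * g ^ (-1 : ℤ) by rw [zpow_neg_one]]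
        exact h3
    _ = g * x := by group


/-- If a normal subgroup meets a Sylow p-subgroup P inside the Frattini subgroup of P, then it has a normal p-complement. -/
theorem result {G : Type*} [Group G] [Finite G] {p : ℕ} [Fact p.Prime] (P : Sylow p G) (N : Subgroup G) [N.Normal] (h : N ⊓ (P : Subgroup G) ≤ (frattini P).map (P : Subgroup G).subtype) : Cfsg.HasNormalPComplement p N := by
  set G₀ := N ⊔ (P : Subgroup G) with hG₀
  have hPG : (P : Subgroup G) ≤ G₀ := le_sup_right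
  haveI : (N.subgroupOf G₀).Normal := Subgroup.normal_subgroupOf
  have h1 : CfsgLib.ThompsonNPC.PCOn p (⊤ : Subgroup ↥G₀) := by
    refine core (P.subtype hPG) (N.subgroupOf G₀) ?_ ?_
    · rw [Sylow.coe_subtype, ← Subgroup.subgroupOf_sup le_sup_left hPG, Subgroup.subgroupOf_self]
    · rintro x ⟨hxN, hxP⟩
      rw [SetLike.mem_coe, Sylow.coe_subtype] at hxP
      obtain ⟨y, hy, hyx⟩ := h ⟨Subgroup.mem_subgroupOf.mp hxN, Subgroup.mem_subgroupOf.mp hxP⟩
      let e : ↥(P : Subgroup G) ≃* ↥((P.subtype hPG : Sylow p ↥G₀) : Subgroup ↥G₀) :=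
        ((Subgroup.subgroupOfEquivOfLe hPG).symm.trans (MulEquiv.subgroupCongr (Sylow.coe_subtype (h := hPG) (P := P)).symm))
      refine ⟨e y, (frattini_le_comap_frattini_of_surjective (φ := e.toMonoidHom) e.surjective hy), ?_⟩
      apply Subtype.ext
      rw [← hyx]
      rfl
  refine CfsgLib.ThompsonNPC.hasNPC_subgroup_iff.mpr ?_
  exact (CfsgLib.ThompsonNPC.pcOn_top_subgroup.mp h1).mono le_sup_left

end Cfsg.Agent.S0081
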