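import Cfsg.Statements.S0095
import Mathlib

set_option autoImplicit false
set_option linter.style.haveILetI false
open Cfsg

namespace Cfsg.Agent.S0095

open scoped commutatorElement

theorem aux {P : Type*} [Group P] [Finite P] {p : ℕ} [Fact p.Prime] (hZc : Nat.card (Subgroup.center P) = p)
    (hcomm : ∀ x y : P, ⁅x, y⁆ ∈ Subgroup.center P) :
    ∀ (m : ℕ) (K : Subgroup P), Nat.card ↥K = m → Subgroup.center P ≤ K →
      K ⊓ Subgroup.centralizer (K : Set P) = Subgroup.center P →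
      ∃ n : ℕ, Nat.card ↥K = p ^ (2 * n + 1) := by
  intro m
  induction m using Nat.strong_induction_on with
  | _ m ih =>
  intro K hKm hZK hKc
  subst hKm
  have hp : p.Prime := Fact.out
  rcases hZK.eq_or_lt with e | hlt
  · exact ⟨0, by rw [← e, hZc]; simp⟩
  obtain ⟨x, hxK, hxZ⟩ := SetLike.exists_of_lt hlt
  have : x ∉ Subgroup.centralizer (K : Set P) := fun h => hxZ (hKc.le ⟨hxK, h⟩)
  rw [Subgroup.mem_centralizer_iff] at this
  push Not at this
  obtain ⟨y, hyK, hxy⟩ := this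
  set Z := Subgroup.center P with hZ
  have hmul : ∀ u s t : P, ⁅u, s * t⁆ = ⁅u, s⁆ * ⁅u, t⁆ := by
    intro u s t
    rw [show ⁅u, s * t⁆ = ⁅u, s⁆ * (s * ⁅u, t⁆ * s⁻¹) by simp only [commutatorElement_def]; group,
      Subgroup.mem_center_iff.mp (hcomm u t) s, mul_inv_cancel_right]
  let f : ↥K →* ↥Z × ↥Z := MonoidHom.mk' (fun t => (⟨⁅x, (t : P)⁆, hcomm _ _⟩, ⟨⁅y, (t : P)⁆, hcomm _ _⟩))
    (fun s t => Prod.ext (Subtype.ext (hmul x s t)) (Subtype.ext (hmul y s t)))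
  have hc : (⟨⁅x, y⁆, hcomm _ _⟩ : ↥Z) ≠ 1 := fun e =>
    hxy (commutatorElement_eq_one_iff_commute.mp (congrArg Subtype.val e)).eq.symm
  have hd : (⟨⁅y, x⁆, hcomm _ _⟩ : ↥Z) ≠ 1 := fun e =>
    hxy (commutatorElement_eq_one_iff_commute.mp (congrArg Subtype.val e)).eq
  have hfy : f ⟨y, hyK⟩ = (⟨⁅x, y⁆, hcomm _ _⟩, 1) :=
    Prod.ext rfl (Subtype.ext (commutatorElement_self y))
  have hfx : f ⟨x, hxK⟩ = (1, ⟨⁅y, x⁆, hcomm _ _⟩) :=
    Prod.ext (Subtype.ext (commutatorElement_self x)) rfl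
  have hsurj : ∀ z : ↥Z × ↥Z, ∃ i j : ℤ, z = f (⟨y, hyK⟩ ^ i * ⟨x, hxK⟩ ^ j) := by
    rintro ⟨a, b⟩
    obtain ⟨i, hi⟩ := Subgroup.mem_zpowers_iff.mp (mem_zpowers_of_prime_card hZc hc (g' := a))
    obtain ⟨j, hj⟩ := Subgroup.mem_zpowers_iff.mp (mem_zpowers_of_prime_card hZc hd (g' := b))
    refine ⟨i, j, ?_⟩
    rw [map_mul, map_zpow, map_zpow, hfx, hfy, Prod.pow_mk, Prod.pow_mk, one_zpow, one_zpow, hi, hj,
      Prod.mk_mul_mk, mul_one, one_mul]
  have hcard : Nat.card ↥K = Nat.card ↥f.ker * p ^ 2 := by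
    rw [← f.ker.card_mul_index, Subgroup.index_ker,
      MonoidHom.range_eq_top.mpr (fun z => by obtain ⟨i, j, h⟩ := hsurj z; exact ⟨_, h.symm⟩),
      Subgroup.card_top, Nat.card_prod, hZc, pow_two]
  set K' := f.ker.map K.subtype with hK'
  have hK'K : K' ≤ K := Subgroup.map_subtype_le _
  have hK'mem : ∀ t ∈ K', ⁅x, t⁆ = 1 ∧ ⁅y, t⁆ = 1 := by
    rintro _ ⟨t, ht, rfl⟩
    exact ⟨congrArg (fun w : ↥Z × ↥Z => (w.1 : P)) ht, congrArg (fun w : ↥Z × ↥Z => (w.2 : P)) ht⟩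
  have hK'card : Nat.card ↥K' = Nat.card ↥f.ker := Subgroup.card_map_of_injective K.subtype_injective
  have hZK' : Z ≤ K' := fun z hz => ⟨⟨z, hZK hz⟩, Prod.ext
    (Subtype.ext (commutatorElement_eq_one_iff_commute.mpr (Subgroup.mem_center_iff.mp hz x)))
    (Subtype.ext (commutatorElement_eq_one_iff_commute.mpr (Subgroup.mem_center_iff.mp hz y))), rfl⟩
  have hK'c : K' ⊓ Subgroup.centralizer (K' : Set P) = Z := by
    refine le_antisymm ?_ (le_inf hZK' (Subgroup.center_le_centralizer _))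
    rintro z ⟨hzK', hzC⟩
    refine hKc.le ⟨hK'K hzK', Subgroup.mem_centralizer_iff.mpr fun t ht => ?_⟩
    obtain ⟨i, j, hij⟩ := hsurj (f ⟨t, ht⟩)
    set w : ↥K := ⟨y, hyK⟩ ^ i * ⟨x, hxK⟩ ^ j with hw
    have hker : (⟨t, ht⟩ : ↥K) * w⁻¹ ∈ f.ker := by
      rw [MonoidHom.mem_ker, map_mul, map_inv, hij, mul_inv_cancel]
    have h1 : Commute ((((⟨t, ht⟩ : ↥K) * w⁻¹ : ↥K)) : P) z :=
      Subgroup.mem_centralizer_iff.mp hzC _ ⟨_, hker, rfl⟩
    have h2 : Commute (w : P) z := by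
      rw [hw, Subgroup.coe_mul, Subgroup.coe_zpow, Subgroup.coe_zpow]
      exact ((commutatorElement_eq_one_iff_commute.mp (hK'mem z hzK').2).zpow_left i).mul_left
        ((commutatorElement_eq_one_iff_commute.mp (hK'mem z hzK').1).zpow_left j)
    have h3 := h1.mul_left h2
    rw [← Subgroup.coe_mul, inv_mul_cancel_right] at h3
    exact h3.eq
  obtain ⟨n, hn⟩ := ih _ (by
    rw [hcard, hK'card]
    exact lt_mul_of_one_lt_right Nat.card_pos (Nat.one_lt_pow two_ne_zero hp.one_lt)) K' rfl hZK' hK'c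
  exact ⟨n + 1, by rw [hcard, ← hK'card, hn, ← pow_add]; ring_nf⟩


/-- The order of an extraspecial p-group is an odd power p^(2n+1) of p with n ≥ 1. -/
theorem result {P : Type*} [Group P] [Finite P] {p : ℕ} [Fact p.Prime] (h : Cfsg.IsExtraspecial p P) : ∃ n : ℕ, 1 ≤ n ∧ Nat.card P = p ^ (2 * n + 1) := by
  obtain ⟨⟨hP, hF, hD⟩, hZ⟩ := h
  obtain ⟨n, hn⟩ := aux hZ (fun x y => hD ▸ Subgroup.commutator_mem_commutator (Subgroup.mem_top x) (Subgroup.mem_top y))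
    _ ⊤ rfl le_top (by rw [top_inf_eq, Subgroup.coe_top, Subgroup.centralizer_univ])
  rw [Subgroup.card_top] at hn
  refine ⟨n, Nat.one_le_iff_ne_zero.mpr fun e => ?_, hn⟩
  subst e
  have hZtop : Subgroup.center P = ⊤ := Subgroup.eq_top_of_card_eq _ (by rw [hZ, hn]; simp)
  have hbot : commutator P = ⊥ := by
    rw [eq_bot_iff, commutator_def, Subgroup.commutator_le]
    intro a _ b _
    exact Subgroup.mem_bot.mpr (commutatorElement_eq_one_iff_commute.mpr (Subgroup.mem_center_iff.mp (hZtop.ge (Subgroup.mem_top b)) a))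
  rw [hD, hZtop] at hbot
  have h1 := congrArg (fun H : Subgroup P => Nat.card ↥H) hbot
  simp only [Subgroup.card_top, Subgroup.card_bot, hn] at h1
  exact (Fact.out : p.Prime).ne_one (by simpa using h1)

end Cfsg.Agent.S0095
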