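import Cfsg.Statements.S0106
import Mathlib
import Cfsg.Agent.Lib.FrobeniusCrit
import Cfsg.Agent.Lib.UniqueOrderP

set_option autoImplicit false
set_option linter.style.haveILetI false
set_option maxRecDepth 8000
set_option maxHeartbeats 400000
open Cfsg

namespace Cfsg.Agent.S0106

open CfsgLib.ThompsonNPC

abbrev Q8 := QuaternionGroup 2
abbrev L3 := Matrix.SpecialLinearGroup (Fin 2) (ZMod 3)

def qa : L3 := ⟨!![0, 2; 1, 0], by decide⟩
def qb : L3 := ⟨!![1, 1; 1, 2], by decide⟩
def tt : L3 := ⟨!![1, 1; 0, 1], by decide⟩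

/-- The map on `Q8` with the given images of the two generators. -/
def gen {M : Type} [Monoid M] (x y : M) : QuaternionGroup 2 → M
  | .a i => x ^ i.val
  | .xa i => y * x ^ i.val

def σ0 : Q8 → Q8 := gen (QuaternionGroup.xa 0) (QuaternionGroup.xa 3)

def β : Q8 × Fin 3 → L3 := fun w => gen qa qb w.1 * tt ^ (w.2 : ℕ)

theorem β_injective : ∀ v w, β v = β w → v = w := by decide +kernel

theorem β_mul : ∀ v w : Q8 × Fin 3, β v * β w = β (v.1 * σ0^[(v.2 : ℕ)] w.1, v.2 + w.2) := by decide +kernel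

theorem σ0_three : ∀ q, σ0 (σ0 (σ0 q)) = q := by decide +kernel

theorem q8_twelve : ∀ u v : Q8, (∀ s t, gen u v (s * t) = gen u v s * gen u v t) →
    (∀ s t, gen u v s = gen u v t → s = t) → ∀ q, (gen u v)^[12] q = q := by decide +kernel

theorem q8_normal_form : ∀ u v : Q8, (∀ s t, gen u v (s * t) = gen u v s * gen u v t) →
    (∀ s, gen u v (gen u v (gen u v s)) = s) → (∃ s, gen u v s ≠ s) →
    ∃ x y : Q8, (∀ s t, gen x y (s * t) = gen x y s * gen x y t) ∧ (∀ s t, gen x y s = gen x y t → s = t) ∧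
      ∀ s, gen u v (gen x y s) = gen x y (σ0 s) := by decide +kernel

theorem hom_eq_gen (f : Q8 →* Q8) : ∀ q, f q = gen (f (QuaternionGroup.a 1)) (f (QuaternionGroup.xa 0)) q := by
  rintro (i | i)
  · show f (QuaternionGroup.a i) = f (QuaternionGroup.a 1) ^ i.val
    rw [← map_pow, QuaternionGroup.a_one_pow, ZMod.natCast_zmod_val]
  · show f (QuaternionGroup.xa i) = f (QuaternionGroup.xa 0) * f (QuaternionGroup.a 1) ^ i.val
    rw [← map_pow, QuaternionGroup.a_one_pow, ZMod.natCast_zmod_val, ← map_mul, QuaternionGroup.xa_mul_a, zero_add]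

theorem iterate_pow {M : Type*} [Group M] (σ : MulAut M) (k : ℕ) (x : M) : (⇑σ)^[k] x = (σ ^ k) x := by
  induction k with
  | zero => rfl
  | succ k ih => rw [Function.iterate_succ_apply', ih, pow_succ', MulAut.mul_apply]

theorem aut_three (σ : MulAut Q8) (hodd : Odd (orderOf σ)) : σ ^ 3 = 1 := by
  have h12 : σ ^ 12 = 1 := by
    ext q
    rw [← iterate_pow]
    have hg : (⇑σ) = gen (σ (QuaternionGroup.a 1)) (σ (QuaternionGroup.xa 0)) := funext (hom_eq_gen σ.toMonoidHom)
    rw [hg]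
    refine q8_twelve _ _ (fun s t => ?_) (fun s t h => ?_) q
    · rw [← hg]; exact map_mul σ s t
    · rw [← hg] at h; exact σ.injective h
  have hd : orderOf σ ∣ 12 := orderOf_dvd_of_pow_eq_one h12
  refine orderOf_dvd_iff_pow_eq_one.mp (Nat.Coprime.dvd_of_dvd_mul_left (k := orderOf σ) (m := 4) ?_ hd)
  exact (Nat.Coprime.pow_right 2 (Nat.coprime_two_right.mpr hodd) : (orderOf σ).Coprime (2 ^ 2))

theorem aut_trivial_of_big {n m : ℕ} (hn : n = 2 ^ (m + 2)) (σ : MulAut (QuaternionGroup n)) (hodd : Odd (orderOf σ)) : σ = 1 := by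
  haveI : NeZero n := ⟨by rw [hn]; exact pow_ne_zero _ two_ne_zero⟩
  haveI : NeZero (2 * n) := ⟨mul_ne_zero two_ne_zero (NeZero.ne n)⟩
  have h4 : 4 ≤ n := by rw [hn, pow_add]; exact Nat.le_mul_of_pos_left 4 (Nat.two_pow_pos m)
  have horder : orderOf (σ (QuaternionGroup.a 1)) = 2 * n := by
    rw [MulEquiv.orderOf_eq, QuaternionGroup.orderOf_a_one]
  obtain ⟨u, hu⟩ : ∃ u : ZMod (2 * n), σ (QuaternionGroup.a 1) = QuaternionGroup.a u := by
    cases hs : σ (QuaternionGroup.a 1) with
    | a i => exact ⟨i, rfl⟩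
    | xa i => rw [hs, QuaternionGroup.orderOf_xa] at horder; omega
  have hpowa : ∀ (v : ZMod (2 * n)), σ (QuaternionGroup.a v) = QuaternionGroup.a (v * u) := by
    intro v
    have ha : ∀ (w : ZMod (2 * n)) (k : ℕ), (QuaternionGroup.a w : QuaternionGroup n) ^ k = QuaternionGroup.a ((k : ZMod (2 * n)) * w) := by
      intro w k
      induction k with
      | zero => rw [pow_zero, Nat.cast_zero, zero_mul]; rfl
      | succ k ih => rw [pow_succ, ih, QuaternionGroup.a_mul_a]; congr 1; push_cast; ring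
    rw [show (QuaternionGroup.a v : QuaternionGroup n) = QuaternionGroup.a 1 ^ v.val by
      rw [QuaternionGroup.a_one_pow, ZMod.natCast_zmod_val], map_pow, hu, ha, ZMod.natCast_zmod_val]
  have hit : ∀ k : ℕ, (σ ^ k) (QuaternionGroup.a 1) = QuaternionGroup.a (u ^ k) := by
    intro k
    induction k with
    | zero => rw [pow_zero, pow_zero, MulAut.one_apply]
    | succ k ih => rw [pow_succ', MulAut.mul_apply, ih, hpowa, pow_succ]
  have huN : u ^ orderOf σ = 1 := by
    have := hit (orderOf σ)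
    rw [pow_orderOf_eq_one, MulAut.one_apply, QuaternionGroup.a.injEq] at this
    exact this.symm
  have hu1 : u = 1 := by
    have hunit : IsUnit u := IsUnit.of_pow_eq_one huN hodd.pos.ne'
    obtain ⟨w, rfl⟩ := hunit
    have hw : w ^ orderOf σ = 1 := Units.ext (by rw [Units.val_pow_eq_pow_val]; exact huN)
    have hcop : (orderOf σ).Coprime (Nat.card (ZMod (2 * n))ˣ) := by
      have e : Nat.totient (2 * n) = 2 ^ (m + 2) := by
        rw [show 2 * n = 2 ^ (m + 3) by rw [hn]; ring, Nat.totient_prime_pow Nat.prime_two (by omega)]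
        simp
      rw [Nat.card_eq_fintype_card, ZMod.card_units_eq_totient, e]
      exact Nat.Coprime.pow_right _ (Nat.coprime_two_right.mpr hodd)
    rw [orderOf_eq_one_iff.mp (Nat.eq_one_of_dvd_coprimes hcop (orderOf_dvd_of_pow_eq_one hw) (orderOf_dvd_natCard w))]
    rfl
  subst hu1
  have hfa : ∀ v, σ (QuaternionGroup.a v) = QuaternionGroup.a v := fun v => by rw [hpowa, mul_one]
  obtain ⟨j, hj⟩ : ∃ j : ZMod (2 * n), σ (QuaternionGroup.xa 0) = QuaternionGroup.xa j := by
    cases hs : σ (QuaternionGroup.xa 0) with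
    | xa i => exact ⟨i, rfl⟩
    | a i => exact absurd (σ.injective (hs.trans (hfa i).symm)) (by simp)
  have hjk : ∀ k : ℕ, (σ ^ k) (QuaternionGroup.xa 0) = QuaternionGroup.xa ((k : ZMod (2 * n)) * j) := by
    intro k
    induction k with
    | zero => rw [pow_zero, MulAut.one_apply, Nat.cast_zero, zero_mul]
    | succ k ih =>
      rw [pow_succ', MulAut.mul_apply, ih, show (QuaternionGroup.xa ((k : ZMod (2 * n)) * j) : QuaternionGroup n)
        = QuaternionGroup.xa 0 * QuaternionGroup.a ((k : ZMod (2 * n)) * j) by rw [QuaternionGroup.xa_mul_a, zero_add],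
        map_mul, hfa, hj, QuaternionGroup.xa_mul_a]
      congr 1; push_cast; ring
  have hj0 : j = 0 := by
    have := hjk (orderOf σ)
    rw [pow_orderOf_eq_one, MulAut.one_apply, QuaternionGroup.xa.injEq] at this
    have hunit : IsUnit ((orderOf σ : ℕ) : ZMod (2 * n)) := by
      rw [ZMod.isUnit_iff_coprime, show 2 * n = 2 ^ (m + 3) by rw [hn]; ring]
      exact Nat.Coprime.pow_right _ (Nat.coprime_two_right.mpr hodd)
    exact hunit.mul_right_eq_zero.mp this.symm
  subst hj0
  ext q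
  cases q with
  | a v => rw [hfa]; rfl
  | xa v =>
    rw [show (QuaternionGroup.xa v : QuaternionGroup n) = QuaternionGroup.xa 0 * QuaternionGroup.a v by
        rw [QuaternionGroup.xa_mul_a, zero_add], map_mul, hfa, hj]
    rfl

theorem uniq_quaternion (n : ℕ) [NeZero n] : CfsgLib.UniqueOrderP.Uniq 2 (QuaternionGroup n) := by
  have hinv : ∀ x : QuaternionGroup n, orderOf x = 2 → x = QuaternionGroup.a (n : ZMod (2 * n)) := by
    intro x hx
    haveI : NeZero (2 * n) := ⟨mul_ne_zero two_ne_zero (NeZero.ne n)⟩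
    cases x with
    | xa i => rw [QuaternionGroup.orderOf_xa] at hx; omega
    | a i =>
      have h2 := pow_orderOf_eq_one (QuaternionGroup.a i : QuaternionGroup n)
      rw [hx, pow_two, QuaternionGroup.a_mul_a, QuaternionGroup.one_def, QuaternionGroup.a.injEq] at h2
      congr 1
      have h3 : ((2 * i.val : ℕ) : ZMod (2 * n)) = 0 := by
        push_cast; rw [ZMod.natCast_zmod_val]; linear_combination h2
      rw [ZMod.natCast_eq_zero_iff] at h3
      have h4 : n ∣ i.val := Nat.dvd_of_mul_dvd_mul_left two_pos h3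
      have hi : i.val < 2 * n := ZMod.val_lt i
      obtain ⟨c, hc⟩ := h4
      have hn0 : 0 < n := NeZero.pos n
      have hc2 : c < 2 := by
        by_contra hcon
        have : 2 * n ≤ n * c := by rw [mul_comm 2 n]; exact Nat.mul_le_mul_left n (not_lt.mp hcon)
        omega
      have hc0 : c ≠ 0 := fun e => by
        subst e
        rw [mul_zero] at hc
        rw [show i = 0 from (ZMod.val_eq_zero i).mp hc, ← QuaternionGroup.one_def, orderOf_one] at hx
        omega
      rw [← ZMod.natCast_zmod_val i, hc, show c = 1 by omega, mul_one]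
  intro x y hx hy
  rw [hinv x hx, hinv y hy]
  exact Subgroup.mem_zpowers _

/-- A generalized quaternion or cyclic 2-group with a nontrivial odd automorphism is `Q8`. -/
theorem iso_q8 {X : Type*} [Group X] [Finite X] (hX : IsPGroup 2 X) (hu : CfsgLib.UniqueOrderP.Uniq 2 X)
    (σ : MulAut X) (hodd : Odd (orderOf σ)) (hne : σ ≠ 1) : Nonempty (X ≃* Q8) := by
  have hcyc : ¬ IsCyclic X := by
    intro hc
    obtain ⟨k, hk⟩ := hX.exists_card_eq
    have h := IsCyclic.card_mulAut X
    rw [hk] at h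
    have hcop : (orderOf σ).Coprime (Nat.totient (2 ^ k)) := by
      rcases Nat.eq_zero_or_pos k with rfl | hk0
      · simp
      · rw [Nat.totient_prime_pow Nat.prime_two hk0, show (2 - 1 : ℕ) = 1 from rfl, mul_one]
        exact Nat.Coprime.pow_right _ (Nat.coprime_two_right.mpr hodd)
    exact hne (orderOf_eq_one_iff.mp (Nat.eq_one_of_dvd_coprimes hcop dvd_rfl (h ▸ orderOf_dvd_natCard σ)))
  obtain hc | ⟨-, m, ⟨e⟩⟩ := CfsgLib.UniqueOrderP.cyclic_or_quaternion hX hu
  · exact absurd hc hcyc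
  match m with
  | 0 =>
    exfalso
    haveI : IsCyclic (QuaternionGroup (2 ^ 0)) := by
      refine isCyclic_of_orderOf_eq_card (QuaternionGroup.xa 0) ?_
      rw [QuaternionGroup.orderOf_xa, Nat.card_eq_fintype_card, QuaternionGroup.card]
      rfl
    exact hcyc (isCyclic_of_surjective e.symm.toMonoidHom e.symm.surjective)
  | 1 => exact ⟨e⟩
  | m + 2 =>
    exfalso
    set τ := MulAut.congr e σ with hτ
    have h1 : τ = 1 := aut_trivial_of_big (m := m) rfl τ (by rw [hτ, MulEquiv.orderOf_eq]; exact hodd)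
    exact hne ((MulAut.congr e).injective (h1.trans (map_one _).symm))


/-- A finite group with generalized quaternion Sylow 2-subgroups either has a normal 2-complement or has a section isomorphic to SL(2,3). -/
theorem result {G : Type*} [Group G] [Finite G] (T : Sylow 2 G) (n : ℕ) (hn : 1 ≤ n) (hT : Nonempty ((T : Subgroup G) ≃* QuaternionGroup (2 ^ n))) : Cfsg.HasNormalPComplement 2 G ∨ ∃ (H K : Subgroup G) (hK : (K.subgroupOf H).Normal), Nonempty ((H ⧸ K.subgroupOf H) ≃* Matrix.SpecialLinearGroup (Fin 2) (ZMod 3)) := by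
  classical
  by_cases hnpc : Cfsg.HasNormalPComplement 2 G
  · exact Or.inl hnpc
  right
  obtain ⟨X, hX, g, hgN, hgc, hgC⟩ : ∃ X : Subgroup G, IsPGroup 2 ↥X ∧ ∃ g ∈ Subgroup.normalizer (X : Set G),
      (orderOf g).Coprime 2 ∧ g ∉ Subgroup.centralizer (X : Set G) := by
    by_contra hcon
    push Not at hcon
    exact hnpc (hasNPC_iff.mpr (CfsgLib.FrobeniusCrit.pcOn_top _ G le_rfl hcon))
  have hgodd : Odd (orderOf g) := Nat.coprime_two_right.mp hgc
  obtain ⟨T2, hT2⟩ := hX.exists_le_sylow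
  obtain ⟨eT⟩ := hT
  obtain ⟨e2⟩ : Nonempty (↥(T2 : Subgroup G) ≃* QuaternionGroup (2 ^ n)) := ⟨((Sylow.equiv T2 T).trans eT)⟩
  haveI : NeZero (2 ^ n) := ⟨pow_ne_zero _ two_ne_zero⟩
  let ι : ↥X →* QuaternionGroup (2 ^ n) := e2.toMonoidHom.comp (Subgroup.inclusion hT2)
  have hι : Function.Injective ι := e2.injective.comp (Subgroup.inclusion_injective hT2)
  have hu : CfsgLib.UniqueOrderP.Uniq 2 ↥X := by
    intro x y hx hy
    obtain ⟨i, hi⟩ := Subgroup.mem_zpowers_iff.mp (uniq_quaternion (2 ^ n) (ι x) (ι y)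
      (by rw [orderOf_injective ι hι, hx]) (by rw [orderOf_injective ι hι, hy]))
    exact Subgroup.mem_zpowers_iff.mpr ⟨i, hι (by rw [map_zpow, hi])⟩
  let σ : MulAut ↥X := X.normalizerMonoidHom ⟨g, hgN⟩
  have hσd : orderOf σ ∣ orderOf g := by
    have h := orderOf_map_dvd X.normalizerMonoidHom ⟨g, hgN⟩
    rwa [Subgroup.orderOf_mk] at h
  have hσ1 : σ ≠ 1 := fun e1 => hgC (Subgroup.mem_centralizer_iff.mpr fun x hx => by
    have h2 : g * x * g⁻¹ = x := congrArg (fun z : MulAut ↥X => ((z ⟨x, hx⟩ : ↥X) : G)) e1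
    exact (mul_inv_eq_iff_eq_mul.mp h2).symm)
  obtain ⟨e⟩ := iso_q8 hX hu σ (hgodd.of_dvd_nat hσd) hσ1
  have hτodd : Odd (orderOf (MulAut.congr e σ)) := by rw [MulEquiv.orderOf_eq]; exact hgodd.of_dvd_nat hσd
  set τ := MulAut.congr e σ with hτ
  have hτ3 := aut_three τ hτodd
  have hσ3 : σ ^ 3 = 1 := (MulAut.congr e).injective (by rw [map_pow, map_one, ← hτ, hτ3])
  have hσord : orderOf σ = 3 := orderOf_eq_prime hσ3 hσ1
  -- normal form of the action
  obtain ⟨x, y, hxy1, hxy2, hxy3⟩ : ∃ x y : Q8, (∀ s t, gen x y (s * t) = gen x y s * gen x y t) ∧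
      (∀ s t, gen x y s = gen x y t → s = t) ∧ ∀ s, τ (gen x y s) = gen x y (σ0 s) := by
    have hg : ⇑τ = gen (τ (QuaternionGroup.a 1)) (τ (QuaternionGroup.xa 0)) := funext (hom_eq_gen τ.toMonoidHom)
    have := q8_normal_form (τ (QuaternionGroup.a 1)) (τ (QuaternionGroup.xa 0))
      (fun s t => by rw [← hg]; exact map_mul τ s t)
      (fun s => by
        rw [← hg]
        show τ (τ (τ s)) = s
        rw [← MulAut.mul_apply, ← MulAut.mul_apply, ← pow_two, ← pow_succ, hτ3, MulAut.one_apply])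
      (by
        by_contra hcon
        push Not at hcon
        refine hσ1 ((MulAut.congr e).injective ?_)
        rw [map_one, ← hτ]
        ext s
        have := hcon s
        rwa [← hg] at this)
    rwa [← hg] at this
  let φ : Q8 →* ↥X := e.symm.toMonoidHom.comp (MonoidHom.mk' (gen x y) hxy1)
  have hφinj : Function.Injective φ := fun a b hab => hxy2 a b (e.symm.injective hab)
  have hconj : ∀ q, g * (φ q : G) * g⁻¹ = (φ (σ0 q) : G) := by
    intro q
    have h := hxy3 q
    have h2 : σ (φ q) = φ (σ0 q) := by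
      apply e.injective
      show e (σ (e.symm (gen x y q))) = e (e.symm (gen x y (σ0 q)))
      rw [e.apply_symm_apply, ← h]
      rfl
    exact congrArg Subtype.val h2
  -- the section
  set H := X ⊔ Subgroup.zpowers g with hH
  set K := Subgroup.zpowers (g ^ 3) with hK
  have hgH : g ∈ H := Subgroup.mem_sup_right (Subgroup.mem_zpowers g)
  have hg3 : g ^ 3 ∈ Subgroup.centralizer (H : Set G) := by
    refine Subgroup.mem_centralizer_iff.mpr fun w hw => ?_
    have hle : H ≤ Subgroup.centralizer ({g ^ 3} : Set G) := by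
      refine sup_le (fun x hx => ?_) (Subgroup.zpowers_le.mpr ?_)
      · rw [Subgroup.mem_centralizer_singleton_iff]
        have h1 : g ^ 3 * x * (g ^ 3)⁻¹ = x := by
          have h2 := congrArg (fun z : MulAut ↥X => ((z ⟨x, hx⟩ : ↥X) : G)) hσ3
          rw [← map_pow] at h2
          exact h2
        exact (mul_inv_eq_iff_eq_mul.mp h1).symm
      · rw [Subgroup.mem_centralizer_singleton_iff]
        exact ((Commute.refl g).pow_right 3).eq
    exact Subgroup.mem_centralizer_singleton_iff.mp (hle hw)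
  have hKn : (K.subgroupOf H).Normal := ⟨fun k hk w => by
    have h1 : (k : G) ∈ Subgroup.centralizer (H : Set G) := (Subgroup.zpowers_le.mpr hg3) hk
    have h2 : w * k * w⁻¹ = k := Subtype.ext (by
      simp only [Subgroup.coe_mul, Subgroup.coe_inv]
      rw [Subgroup.mem_centralizer_iff.mp h1 _ w.2, mul_inv_cancel_right])
    rw [h2]; exact hk⟩
  refine ⟨H, K, hKn, ?_⟩
  haveI := hKn
  set π := QuotientGroup.mk' (K.subgroupOf H)
  let ν : Q8 × Fin 3 → ↥H ⧸ K.subgroupOf H := fun w =>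
    π (⟨(φ w.1 : G), Subgroup.mem_sup_left (φ w.1).2⟩ * ⟨g, hgH⟩ ^ (w.2 : ℕ))
  have hcard : Fintype.card L3 = Fintype.card (Q8 × Fin 3) := by decide +kernel
  have hβ : Function.Bijective β :=
    (Fintype.bijective_iff_injective_and_card β).mpr ⟨fun v w => β_injective v w, hcard.symm⟩
  let B := Equiv.ofBijective β hβ
  have hγ3 : π (⟨g, hgH⟩ : ↥H) ^ 3 = 1 := by
    rw [← map_pow]
    exact (QuotientGroup.eq_one_iff _).mpr (Subgroup.mem_subgroupOf.mpr (Subgroup.mem_zpowers _))
  let jX : Q8 →* ↥H ⧸ K.subgroupOf H := π.comp ((Subgroup.inclusion (le_sup_left : X ≤ H)).comp φ)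
  have hν : ∀ w, ν w = jX w.1 * π (⟨g, hgH⟩ : ↥H) ^ (w.2 : ℕ) := fun w => by
    show π (_ * _) = _
    rw [map_mul, map_pow]
    rfl
  have hswap : ∀ (k : ℕ) q, π (⟨g, hgH⟩ : ↥H) ^ k * jX q = jX (σ0^[k] q) * π (⟨g, hgH⟩ : ↥H) ^ k := by
    intro k
    induction k with
    | zero => intro q; simp
    | succ k ih =>
      intro q
      have h1 : π (⟨g, hgH⟩ : ↥H) * jX (σ0^[k] q) = jX (σ0^[k + 1] q) * π (⟨g, hgH⟩ : ↥H) := by
        show π _ * π _ = π _ * π _
        rw [← map_mul, ← map_mul]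
        congr 1
        apply Subtype.ext
        show g * (φ (σ0^[k] q) : G) = (φ (σ0^[k + 1] q) : G) * g
        rw [Function.iterate_succ_apply', ← hconj, inv_mul_cancel_right]
      rw [pow_succ', mul_assoc, ih, ← mul_assoc, h1, mul_assoc, ← pow_succ']
  have hνmul : ∀ v w, ν (v.1 * σ0^[(v.2 : ℕ)] w.1, v.2 + w.2) = ν v * ν w := by
    intro v w
    rw [hν, hν, hν, map_mul, Fin.val_add, ← pow_eq_pow_mod _ hγ3, pow_add]
    rw [mul_assoc, ← mul_assoc (jX (σ0^[(v.2 : ℕ)] w.1)), ← hswap, mul_assoc, ← mul_assoc]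
  let F : L3 →* ↥H ⧸ K.subgroupOf H := MonoidHom.mk' (fun l => ν (B.symm l)) (fun l l' => by
    obtain ⟨v, rfl⟩ := B.surjective l
    obtain ⟨w, rfl⟩ := B.surjective l'
    have e1 : B v * B w = B (v.1 * σ0^[(v.2 : ℕ)] w.1, v.2 + w.2) := β_mul v w
    rw [e1, B.symm_apply_apply, B.symm_apply_apply, B.symm_apply_apply, hνmul])
  have hinj : Function.Injective F := by
    rw [injective_iff_map_eq_one]
    intro l hl
    obtain ⟨⟨q, k⟩, rfl⟩ := B.surjective l
    replace hl : ν (q, k) = 1 := by rw [← B.symm_apply_apply (q, k)]; exact hl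
    have hmem : (φ q : G) * g ^ (k : ℕ) ∈ K := Subgroup.mem_subgroupOf.mp ((QuotientGroup.eq_one_iff _).mp hl)
    have hq : (φ q : G) ∈ Subgroup.zpowers g := by
      have h1 : K ≤ Subgroup.zpowers g := Subgroup.zpowers_le.mpr (Subgroup.npow_mem_zpowers g 3)
      have h2 := mul_mem (h1 hmem) (inv_mem (Subgroup.npow_mem_zpowers g (k : ℕ)))
      rwa [mul_inv_cancel_right] at h2
    have hq1 : φ q = 1 := by
      obtain ⟨j, hj⟩ := IsPGroup.iff_orderOf.mp hX (φ q)
      have h1 : orderOf (φ q : G) ∣ orderOf g := orderOf_dvd_of_mem_zpowers hq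
      rw [Subgroup.orderOf_coe] at h1
      exact orderOf_eq_one_iff.mp (Nat.eq_one_of_dvd_coprimes (hgc.pow_right j) h1 (dvd_of_eq hj))
    obtain rfl : q = 1 := hφinj (hq1.trans (map_one φ).symm)
    rw [hq1, OneMemClass.coe_one, one_mul] at hmem
    obtain ⟨j, hj⟩ := Subgroup.mem_zpowers_iff.mp hmem
    have h3 : (3 : ℤ) ∣ (orderOf g : ℤ) := by exact_mod_cast (hσord ▸ hσd)
    have h4 : g ^ ((k : ℕ) - 3 * j : ℤ) = 1 := by
      rw [zpow_sub, zpow_natCast, mul_inv_eq_one, zpow_mul, ← hj, zpow_ofNat]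
    have h5 := h3.trans (orderOf_dvd_iff_zpow_eq_one.mpr h4)
    have hk0 : k = 0 := by
      apply Fin.ext
      have := k.2
      simp only [Fin.val_zero]
      omega
    subst hk0
    show β (1, 0) = 1
    decide +kernel
  have hsurj : Function.Surjective F := by
    intro z
    obtain ⟨w, rfl⟩ := QuotientGroup.mk'_surjective _ z
    have hle : H ≤ (F.range.comap π).map H.subtype := by
      refine sup_le (fun z hz => ?_) (Subgroup.zpowers_le.mpr ?_)
      · refine ⟨⟨z, Subgroup.mem_sup_left hz⟩, ?_, rfl⟩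
        obtain ⟨q, hq⟩ := ((Finite.injective_iff_surjective (f := gen x y)).mp fun a b => hxy2 a b) (e ⟨z, hz⟩)
        refine ⟨B (q, 0), ?_⟩
        show ν (B.symm (B (q, 0))) = _
        rw [B.symm_apply_apply, hν, Fin.val_zero, pow_zero, mul_one]
        show π _ = π _
        congr 1
        apply Subtype.ext
        show ((e.symm (gen x y q) : ↥X) : G) = z
        rw [hq, e.symm_apply_apply]
      · refine ⟨⟨g, hgH⟩, ⟨B (1, 1), ?_⟩, rfl⟩
        show ν (B.symm (B (1, 1))) = _
        rw [B.symm_apply_apply, hν, map_one, one_mul, Fin.val_one, pow_one]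
    obtain ⟨w', hw', he⟩ := hle w.2
    exact H.subtype_injective he ▸ hw'
  exact ⟨(MulEquiv.ofBijective F ⟨hinj, hsurj⟩).symm⟩

end Cfsg.Agent.S0106
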