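import Cfsg.Statements.S0214
import Mathlib
import Cfsg.Agent.Lib.StronglyEmbedded2
import Cfsg.Agent.Lib.StronglyEmbedded

set_option autoImplicit false
open Cfsg

namespace Cfsg.Agent.S0214

/-- Let H be a proper subgroup of the finite group G and P a nontrivial Sylow 2-subgroup of H. Then H is strongly embedded in G if and only if N_G(X) ≤ H for every nontrivial subgroup X of P. -/
theorem result {G : Type*} [Group G] [Finite G] (H : Subgroup G) (hH : H ≠ ⊤) (P : Sylow 2 ↥H) (hP : (P : Subgroup ↥H) ≠ ⊥) : Cfsg.IsStronglyEmbedded H ↔ (∀ X : Subgroup ↥H, X ≤ (P : Subgroup ↥H) → X ≠ ⊥ → Subgroup.normalizer ((X.map H.subtype : Subgroup G) : Set G) ≤ H) := by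
  classical
  constructor
  · intro hSE X hXP hX g hg
    have hXne : Nontrivial X := (Subgroup.nontrivial_iff_ne_bot X).2 hX
    obtain ⟨n, hn, hcard⟩ := IsPGroup.nontrivial_iff_card (P.2.to_le hXP) |>.1 hXne
    obtain ⟨⟨t, htX⟩, ht⟩ := exists_prime_orderOf_dvd_card' (G := X) 2
      (by rw [hcard]; exact dvd_pow_self 2 (by omega))
    rw [Subgroup.orderOf_mk] at ht
    have ht' : orderOf (t : G) = 2 := by rw [Subgroup.orderOf_coe, ht]
    obtain ⟨w, -, hwe⟩ := (Subgroup.mem_normalizer_iff''.1 hg (t : G)).1 ⟨t, htX, rfl⟩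
    refine CfsgLib.StronglyEmbedded.mem_of_conj_mem hSE ht' t.2 ?_
    rw [← hwe]
    exact w.2
  · intro hN
    haveI hPn : Nontrivial (P : Subgroup ↥H) := (Subgroup.nontrivial_iff_ne_bot _).2 hP
    obtain ⟨n, hn, hPcard⟩ := IsPGroup.nontrivial_iff_card P.2 |>.1 hPn
    have heven : Even (Nat.card H) := even_iff_two_dvd.2 ((dvd_pow_self 2 (by omega : n ≠ 0)).trans
      (hPcard ▸ Subgroup.card_subgroup_dvd_card (P : Subgroup ↥H)))
    have hC : ∀ w : G, orderOf w = 2 → w ∈ (P : Subgroup ↥H).map H.subtype →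
        Subgroup.centralizer ({w} : Set G) ≤ H := by
      rintro _ hw ⟨w, hwP, rfl⟩ c hc
      have hX := hN (Subgroup.zpowers w) (Subgroup.zpowers_le.2 hwP) (fun h0 => by
        rw [Subgroup.zpowers_eq_bot] at h0
        rw [h0, map_one, orderOf_one] at hw
        exact absurd hw (by decide))
      apply hX
      rw [MonoidHom.map_zpowers, Subgroup.mem_normalizer_iff_map_conj_eq, MonoidHom.map_zpowers]
      congr 1
      show c * (w : G) * c⁻¹ = w
      replace hc : c ∈ Subgroup.centralizer ({(w : G)} : Set G) := hc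
      rw [Subgroup.mem_centralizer_singleton_iff.1 hc, mul_inv_cancel_right]
    haveI := P.2.center_nontrivial
    obtain ⟨k, hk, hZcard⟩ := IsPGroup.nontrivial_iff_card
      (P.2.to_subgroup (Subgroup.center (P : Subgroup ↥H))) |>.1 inferInstance
    obtain ⟨⟨⟨z, hzP⟩, hzc⟩, hz⟩ := exists_prime_orderOf_dvd_card'
      (G := Subgroup.center (P : Subgroup ↥H)) 2 (by rw [hZcard]; exact dvd_pow_self 2 (by omega))
    rw [Subgroup.orderOf_mk, Subgroup.orderOf_mk] at hz
    have hzG : orderOf (z : G) = 2 := by rw [Subgroup.orderOf_coe, hz]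
    have hCz := hC z hzG ⟨z, hzP, rfl⟩
    have hcomm : ∀ w ∈ (P : Subgroup ↥H).map H.subtype, w * (z : G) = (z : G) * w := by
      rintro _ ⟨w, hw, rfl⟩
      exact congrArg (fun a : (P : Subgroup ↥H) => ((a : H) : G))
        (Subgroup.mem_center_iff.1 hzc ⟨w, hw⟩)
    have hNP : Subgroup.normalizer (((P : Subgroup ↥H).map H.subtype : Subgroup G) : Set G) ≤ H :=
      hN _ le_rfl hP
    -- conjugating an involution of `H` into `P`
    have hconjP : ∀ t : G, orderOf t = 2 → t ∈ H →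
        ∃ a ∈ H, a * t * a⁻¹ ∈ (P : Subgroup ↥H).map H.subtype := by
      intro t ht htH
      have h2 : IsPGroup 2 (Subgroup.zpowers (⟨t, htH⟩ : H)) := by
        refine IsPGroup.of_card (n := 1) ?_
        rw [Nat.card_zpowers, Subgroup.orderOf_mk, ht, pow_one]
      obtain ⟨Q, hQ⟩ := h2.exists_le_sylow
      obtain ⟨a, ha⟩ := MulAction.exists_smul_eq H Q P
      refine ⟨a, a.2, a * ⟨t, htH⟩ * a⁻¹, ?_, by simp⟩
      rw [← ha]
      exact Subgroup.mem_map_of_mem _ (hQ (Subgroup.mem_zpowers _))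
    -- if a conjugate of `z` lies in `H`, the conjugating element lies in `H`
    have hzfix : ∀ g : G, g * (z : G) * g⁻¹ ∈ H → g ∈ H := by
      intro g hg
      obtain ⟨a, ha, haP⟩ := hconjP _ (CfsgLib.Involution.orderOf_conj' hzG) hg
      set b := a * g with hb
      have hbz : b * (z : G) * b⁻¹ ∈ (P : Subgroup ↥H).map H.subtype := by
        rw [hb]; simpa [mul_assoc] using haP
      have hCb := hC _ (CfsgLib.Involution.orderOf_conj' hzG) hbz
      have hsub : ((P : Subgroup ↥H).map H.subtype).map (MulAut.conj b).toMonoidHom ≤ H := by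
        rintro _ ⟨w, hw, rfl⟩
        apply hCb
        rw [Subgroup.mem_centralizer_singleton_iff]
        show b * w * b⁻¹ * (b * z * b⁻¹) = b * z * b⁻¹ * (b * w * b⁻¹)
        calc b * w * b⁻¹ * (b * z * b⁻¹) = b * (w * z) * b⁻¹ := by group
          _ = _ := by rw [hcomm w hw]; group
      have hR2 : IsPGroup 2 (((((P : Subgroup ↥H).map H.subtype).map
          (MulAut.conj b).toMonoidHom)).subgroupOf H) := ((P.2.map _).map _).comap_subtype
      obtain ⟨Q, hQ⟩ := hR2.exists_le_sylow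
      obtain ⟨c, hc⟩ := MulAction.exists_smul_eq H Q P
      have hmap : ((P : Subgroup ↥H).map H.subtype).map (MulAut.conj ((c : G) * b)).toMonoidHom ≤
          (P : Subgroup ↥H).map H.subtype := by
        rintro _ ⟨w, hw, rfl⟩
        have hw' : b * w * b⁻¹ ∈ H := hsub ⟨w, hw, rfl⟩
        refine ⟨c * ⟨b * w * b⁻¹, hw'⟩ * c⁻¹, ?_, by simp [mul_assoc]⟩
        rw [← hc]
        exact Subgroup.mem_map_of_mem _ (hQ ⟨w, hw, rfl⟩)
      have hcb : (c : G) * b ∈ H := hNP (by
        rw [Subgroup.mem_normalizer_iff_map_conj_eq]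
        exact Subgroup.eq_of_le_of_card_ge hmap
          (le_of_eq (Subgroup.card_map_of_injective (MulAut.conj ((c : G) * b)).injective).symm))
      rw [hb] at hcb
      have h1 := H.mul_mem (H.inv_mem c.2) hcb
      rw [inv_mul_cancel_left] at h1
      simpa using H.mul_mem (H.inv_mem ha) h1
    refine (CfsgLib.StronglyEmbedded.iff_conj_mem hH heven).2 fun t htH ht g hg => ?_
    obtain ⟨a, ha, haP⟩ := hconjP t ht htH
    obtain ⟨a', ha', haP'⟩ := hconjP (g⁻¹ * t * g)
      (by simpa using CfsgLib.Involution.orderOf_conj' (g := g⁻¹) ht) hg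
    set k := a * g * a'⁻¹ with hk
    have hCt := hC _ (CfsgLib.Involution.orderOf_conj' ht) haP
    have hkz : k * (z : G) * k⁻¹ ∈ H := by
      apply hCt
      rw [Subgroup.mem_centralizer_singleton_iff]
      have hts : k * (a' * (g⁻¹ * t * g) * a'⁻¹) * k⁻¹ = a * t * a⁻¹ := by rw [hk]; group
      rw [← hts]
      calc k * (z : G) * k⁻¹ * (k * (a' * (g⁻¹ * t * g) * a'⁻¹) * k⁻¹)
          = k * ((z : G) * (a' * (g⁻¹ * t * g) * a'⁻¹)) * k⁻¹ := by group
        _ = k * ((a' * (g⁻¹ * t * g) * a'⁻¹) * (z : G)) * k⁻¹ := by rw [hcomm _ haP']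
        _ = _ := by group
    have h2 := H.mul_mem (H.mul_mem (H.inv_mem ha) (hzfix k hkz)) ha'
    rwa [hk, show a⁻¹ * (a * g * a'⁻¹) * a' = g by group] at h2

end Cfsg.Agent.S0214
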