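import Cfsg.Statements.S0223
import Cfsg.Agent.Lib.StronglyEmbedded

set_option autoImplicit false
open Cfsg

namespace Cfsg.Agent.S0223

/-- Let H be a proper subgroup of even order of the finite group G. Then H is strongly embedded if and only if (i) C_G(t) ≤ H for every involution t of H and (ii) H controls fusion of its involutions: involutions of H conjugate in G are conjugate in H. -/
theorem result {G : Type*} [Group G] [Finite G] (H : Subgroup G) (hH : H ≠ ⊤) (heven : Even (Nat.card H)) : Cfsg.IsStronglyEmbedded H ↔ ((∀ t ∈ H, orderOf t = 2 → Subgroup.centralizer ({t} : Set G) ≤ H) ∧ (∀ t ∈ H, ∀ s ∈ H, orderOf t = 2 → orderOf s = 2 → IsConj t s → ∃ h ∈ H, h * t * h⁻¹ = s)) := by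
  constructor
  · intro hSE
    refine ⟨fun t ht ht2 => CfsgLib.StronglyEmbedded.centralizer_le hSE ht2 ht, ?_⟩
    intro t htH s hsH ht _ hconj
    obtain ⟨g, hg⟩ := isConj_iff.mp hconj
    refine ⟨g, ?_, hg⟩
    refine inv_mem_iff.mp (CfsgLib.StronglyEmbedded.mem_of_conj_mem hSE ht htH ?_)
    rwa [inv_inv, hg]
  · rintro ⟨hC, hfus⟩
    refine CfsgLib.StronglyEmbedded.of_conj_mem hH heven fun t htH ht g hg => ?_
    have hs : orderOf (g⁻¹ * t * g) = 2 := by
      simpa using CfsgLib.Involution.orderOf_conj' (g := g⁻¹) ht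
    obtain ⟨h, hh, hht⟩ := hfus t htH _ hg ht hs (isConj_iff.mpr ⟨g⁻¹, by rw [inv_inv]⟩)
    have hc : g * h ∈ Subgroup.centralizer ({t} : Set G) := by
      rw [Subgroup.mem_centralizer_singleton_iff]
      calc g * h * t = g * (h * t * h⁻¹) * h := by group
        _ = _ := by rw [hht]; group
    exact (H.mul_mem_cancel_right hh).mp (hC t htH ht hc)

end Cfsg.Agent.S0223
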