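import Cfsg.Statements.S0224
import Cfsg.Agent.Lib.StronglyEmbedded

set_option autoImplicit false
open Cfsg

namespace Cfsg.Agent.S0224

/-- Let H be a proper subgroup of even order of the finite group G. Then H is strongly embedded if and only if each involution of H fixes exactly one point (namely the coset H) in the action of G on the cosets of H. -/
theorem result {G : Type*} [Group G] [Finite G] (H : Subgroup G) (hH : H ≠ ⊤) (heven : Even (Nat.card H)) : Cfsg.IsStronglyEmbedded H ↔ ∀ t ∈ H, orderOf t = 2 → Nat.card {c : G ⧸ H // t • c = c} = 1 := by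
  rw [CfsgLib.StronglyEmbedded.iff_conj_mem hH heven]
  refine forall_congr' fun t => forall_congr' fun htH => forall_congr' fun ht => ?_
  have key : ∀ g : G, t • (QuotientGroup.mk g : G ⧸ H) = QuotientGroup.mk g ↔ g⁻¹ * t * g ∈ H := by
    intro g
    rw [eq_comm, MulAction.Quotient.smul_mk, QuotientGroup.eq, smul_eq_mul, mul_assoc]
  rw [Nat.card_eq_one_iff_unique]
  constructor
  · intro h
    refine ⟨⟨fun a b => ?_⟩, ⟨⟨QuotientGroup.mk 1, (key 1).mpr (by simpa using htH)⟩⟩⟩
    obtain ⟨c, hc⟩ := a
    obtain ⟨d, hd⟩ := b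
    induction c using QuotientGroup.induction_on with | _ c => ?_
    induction d using QuotientGroup.induction_on with | _ d => ?_
    apply Subtype.ext
    exact QuotientGroup.eq.mpr (H.mul_mem (H.inv_mem (h c ((key c).mp hc))) (h d ((key d).mp hd)))
  · rintro ⟨⟨h⟩, -⟩ g hg
    have := congrArg Subtype.val (h ⟨QuotientGroup.mk 1, (key 1).mpr (by simpa using htH)⟩
      ⟨QuotientGroup.mk g, (key g).mpr hg⟩)
    simpa using QuotientGroup.eq.mp this

end Cfsg.Agent.S0224
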