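import Cfsg.Statements.S0638
import Cfsg.Agent.Lib.PLocal.OddRankTwo
open CfsgLib CfsgLib.PLocal
open scoped commutatorElement

set_option autoImplicit false
open Cfsg

namespace Cfsg.Agent.S0638

/-- For odd p, in a non-cyclic metacyclic p-group the elements of order dividing p generate an elementary abelian subgroup of order p². -/
theorem result {R : Type*} [Group R] [Finite R] {p : ℕ} [Fact p.Prime] (hp : p ≠ 2) (hR : IsPGroup p R) (hm : Cfsg.IsMetacyclic R) (hnc : ¬ IsCyclic R) : Cfsg.IsElementaryAbelian p (Cfsg.omegaOne p (⊤ : Subgroup R)) ∧ Nat.card ↥(Cfsg.omegaOne p (⊤ : Subgroup R)) = p ^ 2 := by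
  classical
  have hpp := (Fact.out : p.Prime)
  have htop : ¬ IsCyclic (⊤ : Subgroup R) := fun h => hnc
    (isCyclic_of_surjective (Subgroup.topEquiv (G := R)).toMonoidHom Subgroup.topEquiv.surjective)
  obtain ⟨E, -, hEn, hEl, hEc⟩ := exists_normal_el hp hR ⊤ htop
  obtain ⟨N, hNn, hNc, hQc⟩ := hm
  have hbound : ∀ X : Subgroup R, (∀ x ∈ X, x ^ p = 1) → Nat.card X ≤ p ^ 2 := by
    intro X hX
    have hcyc : ∀ (C : Type _) [Group C] [Finite C] [IsCyclic C] (Y : Subgroup C), (∀ y ∈ Y, y ^ p = 1) → Nat.card Y ≤ p := by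
      intro C _ _ _ Y hY
      obtain ⟨g, hg⟩ := IsCyclic.exists_generator (α := Y)
      rw [← orderOf_eq_card_of_forall_mem_zpowers hg]
      exact Nat.le_of_dvd hpp.pos (orderOf_dvd_of_pow_eq_one (Subtype.ext (by simpa using hY g g.2)))
    have := hNn
    have := hNc
    have := hQc
    have h1 : Nat.card ↥(X ⊓ N : Subgroup R) ≤ p := by
      rw [← Nat.card_congr (Subgroup.subgroupOfEquivOfLe (inf_le_right : X ⊓ N ≤ N)).toEquiv]
      exact hcyc N _ fun y hy => Subtype.ext (by simpa using hX y (Subgroup.mem_subgroupOf.mp hy).1)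
    have h2 : Nat.card (X.map (QuotientGroup.mk' N)) ≤ p := hcyc (R ⧸ N) _ (by
      rintro _ ⟨x, hx, rfl⟩; rw [← map_pow, hX x hx, map_one])
    have h3 := Subgroup.relIndex_ker (K := X) (QuotientGroup.mk' N)
    rw [QuotientGroup.ker_mk'] at h3
    have h4 := Subgroup.relIndex_mul_relIndex ⊥ (X ⊓ N) X bot_le inf_le_left
    rw [Subgroup.relIndex_bot_left, Subgroup.relIndex_bot_left, Subgroup.inf_relIndex_left, h3] at h4
    rw [← h4, pow_two]
    exact Nat.mul_le_mul h1 h2
  have hnil : Group.IsNilpotent R := hR.isNilpotent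
  have hE0 : E ≠ ⊥ := fun h => by
    rw [h, Subgroup.card_bot] at hEc
    have := Nat.one_lt_pow (two_ne_zero) hpp.one_lt
    omega
  obtain ⟨⟨z, hz⟩, hzo⟩ : ∃ w : ↥(E ⊓ Subgroup.center R : Subgroup R), orderOf w = p := by
    refine exists_prime_orderOf_dvd_card' p ?_
    have : Nontrivial ↥(E ⊓ Subgroup.center R : Subgroup R) :=
      (Subgroup.nontrivial_iff_ne_bot _).mpr (PStep.normal_inf_center_ne_bot hR hEn hE0)
    obtain ⟨k, hk, hck⟩ := (IsPGroup.nontrivial_iff_card (hR.to_subgroup _)).mp this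
    rw [hck]; exact dvd_pow_self p hk.ne'
  rw [Subgroup.orderOf_mk] at hzo
  have hEab : ∀ a ∈ E, ∀ b ∈ E, a * b = b * a := fun a ha b hb => congrArg Subtype.val (hEl.1.is_comm.comm (⟨a, ha⟩ : E) ⟨b, hb⟩)
  have hall : ∀ x : R, x ^ p = 1 → x ∈ E := by
    intro x hx
    by_contra hxE
    set Z := Subgroup.zpowers z with hZ
    have hZc : Z ≤ Subgroup.center R := Subgroup.zpowers_le.mpr hz.2
    have hZn : Z.Normal := ⟨fun a ha g => by rw [Subgroup.mem_center_iff.mp (hZc ha) g, mul_inv_cancel_right]; exact ha⟩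
    have hZE : Z ≤ E := Subgroup.zpowers_le.mpr hz.1
    have hEZ : Nat.card (E.map (QuotientGroup.mk' Z)) = p := by
      have h1 := Subgroup.relIndex_ker (K := E) (QuotientGroup.mk' Z)
      rw [QuotientGroup.ker_mk'] at h1
      have h2 := Subgroup.relIndex_mul_relIndex ⊥ Z E bot_le hZE
      rw [Subgroup.relIndex_bot_left, Subgroup.relIndex_bot_left, h1, Nat.card_zpowers, hzo, hEc, pow_two] at h2
      exact Nat.eq_of_mul_eq_mul_left hpp.pos h2
    have hcen : E.map (QuotientGroup.mk' Z) ≤ Subgroup.center (R ⧸ Z) := by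
      have hn : (E.map (QuotientGroup.mk' Z)).Normal := Subgroup.Normal.map hEn _ (QuotientGroup.mk'_surjective Z)
      have hne := PStep.normal_inf_center_ne_bot (hR.to_quotient Z) hn fun h => by
        rw [h, Subgroup.card_bot] at hEZ
        exact hpp.ne_one hEZ.symm
      obtain ⟨k, hk, hle⟩ : ∃ k, 1 ≤ k ∧ Nat.card ↥(E.map (QuotientGroup.mk' Z) ⊓ Subgroup.center (R ⧸ Z)) = p ^ k := by
        obtain ⟨k, hk⟩ := IsPGroup.iff_card.mp ((hR.to_quotient Z).to_subgroup (E.map (QuotientGroup.mk' Z) ⊓ Subgroup.center (R ⧸ Z)))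
        exact ⟨k, Nat.one_le_iff_ne_zero.mpr fun h => hne (Subgroup.card_eq_one.mp (by rw [hk, h, pow_zero])), hk⟩
      have : E.map (QuotientGroup.mk' Z) ⊓ Subgroup.center (R ⧸ Z) = E.map (QuotientGroup.mk' Z) := by
        refine Subgroup.eq_of_le_of_card_ge inf_le_left ?_
        rw [hEZ, hle]; exact Nat.le_self_pow (by omega) p
      exact inf_eq_left.mp this
    have hc1 : ∀ e ∈ E, ⁅x, e⁆ ∈ Z := fun e he => by
      rw [← QuotientGroup.eq_one_iff, ← QuotientGroup.mk'_apply, map_commutatorElement, commutatorElement_eq_one_iff_mul_comm]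
      exact Subgroup.mem_center_iff.mp (hcen (Subgroup.mem_map_of_mem _ he)) _
    have hsub : ∀ e ∈ E, ∀ i : ℤ, (e * x ^ i) ^ p = 1 := by
      intro e he i
      have hxi : (x ^ i) ^ p = 1 := by rw [← zpow_natCast, ← zpow_mul, mul_comm, zpow_mul, zpow_natCast, hx, one_zpow]
      have hc : ⁅x ^ i, e⁆ ∈ Z := by
        rw [← QuotientGroup.eq_one_iff, ← QuotientGroup.mk'_apply, map_commutatorElement, commutatorElement_eq_one_iff_mul_comm]
        exact Subgroup.mem_center_iff.mp (hcen (Subgroup.mem_map_of_mem _ he)) _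
      rw [mul_pow_prime hpp hp (Subgroup.mem_center_iff.mp (hZc hc) e).symm (Subgroup.mem_center_iff.mp (hZc hc) _).symm
        (hEl.2 _ (hZE hc)), hEl.2 e he, hxi, one_mul]
    have := hEn
    have hX := hbound (E ⊔ Subgroup.zpowers x) fun y hy => by
      obtain ⟨e, he, _, ⟨i, rfl⟩, rfl⟩ := Subgroup.mem_sup_of_normal_left.mp hy
      exact hsub e he i
    have : E = E ⊔ Subgroup.zpowers x := Subgroup.eq_of_le_of_card_ge le_sup_left (by rw [hEc]; exact hX)
    exact hxE (this ▸ Subgroup.mem_sup_right (Subgroup.mem_zpowers x))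
  have heq : Cfsg.omegaOne p (⊤ : Subgroup R) = E :=
    le_antisymm ((Subgroup.closure_le _).mpr fun x hx => hall x hx.2) fun x hx => Subgroup.subset_closure ⟨trivial, hEl.2 x hx⟩
  rw [heq]
  exact ⟨hEl, hEc⟩

end Cfsg.Agent.S0638
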