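import Cfsg.Statements.S0647
import Cfsg.Agent.Lib.PLocal.Elementary
import Cfsg.Agent.Lib.LocalBasic
open CfsgLib.PLocal
open scoped commutatorElement Pointwise

set_option autoImplicit false
open Cfsg

namespace Cfsg.Agent.S0647

/-- For a nonempty family of maximal abelian subgroups of a finite group, the intersection of the family is the centre of the subgroup it generates, which is also the full centralizer of that subgroup. -/
theorem result {S : Type*} [Group S] [Finite S] (𝒜 : Set (Subgroup S)) (hne : 𝒜.Nonempty) (hab : ∀ A ∈ 𝒜, IsMulCommutative A) (hmax : ∀ A ∈ 𝒜, ∀ B : Subgroup S, IsMulCommutative B → A ≤ B → B = A) : sInf 𝒜 = sSup 𝒜 ⊓ Subgroup.centralizer ((sSup 𝒜 : Subgroup S) : Set S) ∧ sInf 𝒜 = Subgroup.centralizer ((sSup 𝒜 : Subgroup S) : Set S) := by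
  classical
  have h1 : Subgroup.centralizer ((sSup 𝒜 : Subgroup S) : Set S) ≤ sInf 𝒜 := by
    refine le_sInf fun A hA x hx => ?_
    haveI := hab A hA
    have hc : ∀ y ∈ insert x (A : Set S), ∀ z ∈ insert x (A : Set S), y * z = z * y := by
      rintro y (rfl | hy) z (rfl | hz)
      · rfl
      · exact ((Subgroup.mem_centralizer_iff.1 hx) z ((le_sSup hA : A ≤ sSup 𝒜) hz)).symm
      · exact (Subgroup.mem_centralizer_iff.1 hx) y ((le_sSup hA : A ≤ sSup 𝒜) hy)
      · exact congrArg Subtype.val (mul_comm' (⟨y, hy⟩ : A) ⟨z, hz⟩)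
    have h := hmax A hA _ (Subgroup.isMulCommutative_closure hc) (fun a ha => Subgroup.subset_closure (Set.mem_insert_of_mem _ ha))
    exact h.le (Subgroup.subset_closure (Set.mem_insert x _))
  have h2 : sInf 𝒜 ≤ Subgroup.centralizer ((sSup 𝒜 : Subgroup S) : Set S) := by
    rw [Subgroup.le_centralizer_iff]
    refine sSup_le fun A hA => ?_
    rw [Subgroup.le_centralizer_iff]
    intro x hx
    haveI := hab A hA
    exact Subgroup.mem_centralizer_iff.2 fun a ha => congrArg Subtype.val (mul_comm' (⟨a, ha⟩ : A) ⟨x, (sInf_le hA : sInf 𝒜 ≤ A) hx⟩)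
  have h3 := le_antisymm h2 h1
  refine ⟨?_, h3⟩
  obtain ⟨A, hA⟩ := hne
  rw [← h3]
  exact (inf_eq_right.2 ((sInf_le hA).trans (le_sSup hA))).symm

end Cfsg.Agent.S0647
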