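import Cfsg.Statements.S0648

set_option autoImplicit false
open Cfsg
open scoped commutatorElement

namespace Cfsg.Agent.S0648

/-- If A acts on B centralizing [B, B], then [B, A] has derived subgroup central in B, and for abelian A and b ∈ B with [[b, A], A, A] = 1 the derived subgroup of the subgroup [b, A] generated by the commutators of b with A has exponent dividing 2. -/
theorem result {G : Type*} [Group G] [Finite G] (A B : Subgroup G) (hAB : A ≤ Subgroup.normalizer (B : Set G)) (hc : ⁅⁅B, B⁆, A⁆ = ⊥) : ⁅⁅B, A⁆, ⁅B, A⁆⁆ ≤ B ⊓ Subgroup.centralizer (B : Set G) ∧ (IsMulCommutative A → ∀ b ∈ B, ⁅⁅(Subgroup.closure {g : G | ∃ a ∈ A, g = b⁻¹ * a * b * a⁻¹}), A⁆, A⁆ = ⊥ → ∀ w ∈ ⁅(Subgroup.closure {g : G | ∃ a ∈ A, g = b⁻¹ * a * b * a⁻¹}), (Subgroup.closure {g : G | ∃ a ∈ A, g = b⁻¹ * a * b * a⁻¹})⁆, w ^ 2 = 1) := by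
  classical
  set D := ⁅B, A⁆ with hDdef
  have hDB : D ≤ B := Subgroup.commutator_le.mpr fun x hx a ha => by
    rw [commutatorElement_def, mul_assoc, mul_assoc, ← mul_assoc a x⁻¹ a⁻¹]
    exact mul_mem hx ((Subgroup.mem_normalizer_iff.mp (hAB ha) x⁻¹).mp (inv_mem hx))
  have hBB : ⁅B, B⁆ ≤ B := Subgroup.commutator_le.mpr fun x hx y hy => by
    rw [commutatorElement_def]
    exact mul_mem (mul_mem (mul_mem hx hy) (inv_mem hx)) (inv_mem hy)
  have hDBB : ⁅D, ⁅B, B⁆⁆ = ⊥ := by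
    refine Subgroup.commutator_commutator_eq_bot_of_rotate ?_ ?_
    · rw [Subgroup.commutator_comm A ⁅B, B⁆, hc]
      exact Subgroup.commutator_bot_left B
    · refine eq_bot_iff.mpr (hc ▸ Subgroup.commutator_mono ?_ le_rfl)
      exact Subgroup.commutator_mono hBB le_rfl
  have hDDB : ⁅⁅D, D⁆, B⁆ = ⊥ := by
    refine Subgroup.commutator_commutator_eq_bot_of_rotate ?_ ?_
    · refine eq_bot_iff.mpr (le_trans (Subgroup.commutator_mono (Subgroup.commutator_mono hDB le_rfl) le_rfl) ?_)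
      rw [Subgroup.commutator_comm, hDBB]
    · refine eq_bot_iff.mpr (le_trans (Subgroup.commutator_mono (Subgroup.commutator_mono le_rfl hDB) le_rfl) ?_)
      rw [Subgroup.commutator_comm, hDBB]
  refine ⟨le_inf ((Subgroup.commutator_mono hDB hDB).trans hBB)
    (Subgroup.commutator_eq_bot_iff_le_centralizer.mp hDDB), fun hA b hb hAA => ?_⟩
  set f : G → G := fun a => b⁻¹ * a * b * a⁻¹ with hf
  set C := Subgroup.closure {g : G | ∃ a ∈ A, g = b⁻¹ * a * b * a⁻¹} with hC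
  have cB : ∀ p ∈ D, ∀ q ∈ D, ∀ r ∈ B, r * ⁅p, q⁆ = ⁅p, q⁆ * r := fun p hp q hq r hr =>
    Subgroup.mem_centralizer_iff.mp (Subgroup.commutator_eq_bot_iff_le_centralizer.mp hDDB
      (Subgroup.commutator_mem_commutator hp hq)) r hr
  have cBB : ∀ p ∈ D, ∀ q ∈ ⁅B, B⁆, q * p = p * q := fun p hp q hq =>
    Subgroup.mem_centralizer_iff.mp (Subgroup.commutator_eq_bot_iff_le_centralizer.mp hDBB hp) q hq
  have cA : ∀ z ∈ A, ∀ q ∈ ⁅B, B⁆, z * q = q * z := fun z hz q hq =>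
    Subgroup.mem_centralizer_iff.mp (Subgroup.commutator_eq_bot_iff_le_centralizer.mp hc hq) z hz
  have hinv : ∀ z ∈ A, ∀ p ∈ B, ∀ q ∈ B, ⁅z * p * z⁻¹, z * q * z⁻¹⁆ = ⁅p, q⁆ := by
    intro z hz p hp q hq
    rw [← conjugate_commutatorElement, cA z hz _ (Subgroup.commutator_mem_commutator hp hq), mul_inv_cancel_right]
  have eL : ∀ p ∈ D, ∀ q ∈ D, ∀ r ∈ D, ⁅p * q, r⁆ = ⁅p, r⁆ * ⁅q, r⁆ := by
    intro p hp q hq r hr
    rw [commutatorElement_mul_left_eq_conj_mul, cB q hq r hr p (hDB hp), mul_inv_cancel_right]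
    exact cB p hp r hr _ (hBB (Subgroup.commutator_mem_commutator (hDB hq) (hDB hr)))
  have eR : ∀ p ∈ D, ∀ q ∈ D, ∀ r ∈ D, ⁅p, q * r⁆ = ⁅p, q⁆ * ⁅p, r⁆ := by
    intro p hp q hq r hr
    rw [commutatorElement_mul_right_eq_mul_conj, mul_assoc _ q, cB p hp r hr q (hDB hq), ← mul_assoc,
      mul_inv_cancel_right]
  -- the generators and their commutators with `A`
  have hfD : ∀ a ∈ A, f a ∈ D := fun a ha => by
    have h := Subgroup.commutator_mem_commutator (inv_mem hb) ha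
    rwa [commutatorElement_def, inv_inv] at h
  have hfC : ∀ a ∈ A, f a ∈ C := fun a ha => Subgroup.subset_closure ⟨a, ha, rfl⟩
  set w : G → G → G := fun a z => ⁅z, f a⁆ with hw
  have hconj : ∀ a z, z * f a * z⁻¹ = w a z * f a := fun a z => by
    show z * f a * z⁻¹ = z * f a * z⁻¹ * (f a)⁻¹ * f a
    group
  have hDn : ∀ z ∈ A, ∀ p ∈ D, z * p * z⁻¹ ∈ D := fun z hz p hp =>
    (Subgroup.mem_normalizer_iff.mp (Subgroup.normalizer_commutator_ge_right B A hz) p).mp hp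
  have hwD : ∀ a ∈ A, ∀ z ∈ A, w a z ∈ D := fun a ha z hz => by
    show z * f a * z⁻¹ * (f a)⁻¹ ∈ D
    exact mul_mem (hDn z hz _ (hfD a ha)) (inv_mem (hfD a ha))
  have hwfix : ∀ a ∈ A, ∀ z ∈ A, ∀ t ∈ A, t * w a z * t⁻¹ = w a z := fun a ha z hz t ht => by
    have h1 : w a z ∈ ⁅C, A⁆ := Subgroup.commutator_comm A C ▸ Subgroup.commutator_mem_commutator hz (hfC a ha)
    rw [Subgroup.mem_centralizer_iff.mp (Subgroup.commutator_eq_bot_iff_le_centralizer.mp hAA h1) t ht,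
      mul_inv_cancel_right]
  have hcoc : ∀ a z, f (a * z) = f a * (a * f z * a⁻¹) := fun a z => by
    show b⁻¹ * (a * z) * b * (a * z)⁻¹ = b⁻¹ * a * b * a⁻¹ * (a * (b⁻¹ * z * b * z⁻¹) * a⁻¹)
    group
  have hww : ∀ a ∈ A, ∀ z ∈ A, ∀ a' ∈ A, ∀ z' ∈ A, ⁅w a z, w a' z'⁆ = 1 := by
    intro a ha z hz a' ha' z' hz'
    have h := hinv z' hz' _ (hDB (hwD a ha z hz)) _ (hDB (hfD a' ha'))
    rw [hwfix a ha z hz z' hz', hconj, eR _ (hwD a ha z hz) _ (hwD a' ha' z' hz') _ (hfD a' ha')] at h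
    exact mul_eq_right.mp h
  have hkey : ∀ a ∈ A, ∀ z ∈ A, ⁅b, w a z⁆ = ⁅w a z, f z⁆ * ⁅f a, f z⁆ := by
    intro a ha z hz
    have h := hinv z hz b hb _ (hDB (hfD a ha))
    have hbz : z * b * z⁻¹ = b * f z := by
      show z * b * z⁻¹ = b * (b⁻¹ * z * b * z⁻¹)
      group
    have hv := hwD a ha z hz
    have hx := hfD a ha
    have hy := hfD z hz
    have e : ⁅b, w a z * f a⁆ = ⁅b, w a z⁆ * ⁅b, f a⁆ := by
      rw [commutatorElement_mul_right_eq_mul_conj b, mul_assoc _ (w a z),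
        ← cBB _ hv _ (Subgroup.commutator_mem_commutator hb (hDB hx)), ← mul_assoc, mul_inv_cancel_right]
    rw [hbz, hconj, commutatorElement_mul_left_eq_conj_mul, cB _ hy _ (mul_mem hv hx) b hb, mul_inv_cancel_right,
      e, ← mul_assoc] at h
    rw [eq_inv_of_mul_eq_one_right (mul_eq_right.mp h), commutatorElement_inv, eL _ hv _ hx _ hy]
  -- the trilinear form vanishes
  have hT : ∀ a ∈ A, ∀ z2 ∈ A, ∀ z1 ∈ A, ⁅w a z2, f z1⁆ = 1 := by
    intro a ha z2 hz2 z1 hz1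
    have hx := hfD a ha
    have hv1 := hwD a ha z1 hz1
    have hv2 := hwD a ha z2 hz2
    have hy1 := hfD z1 hz1
    have hy2 := hfD z2 hz2
    have hs := hwD z2 hz2 z1 hz1
    have hcomb : w a (z1 * z2) = w a z2 * w a z1 := by
      show z1 * z2 * f a * (z1 * z2)⁻¹ * (f a)⁻¹ = _
      have e : z1 * z2 * f a * (z1 * z2)⁻¹ = (z1 * w a z2 * z1⁻¹) * (z1 * f a * z1⁻¹) := by
        rw [show z1 * z2 * f a * (z1 * z2)⁻¹ = z1 * (z2 * f a * z2⁻¹) * z1⁻¹ by group, hconj]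
        group
      rw [e, hwfix a ha z2 hz2 z1 hz1, hconj]
      group
    have hbB : ∀ v ∈ D, ⁅b, v⁆ ∈ ⁅B, B⁆ := fun v hv => Subgroup.commutator_mem_commutator hb (hDB hv)
    have h := hkey a ha (z1 * z2) (mul_mem hz1 hz2)
    rw [hcomb, commutatorElement_mul_right_eq_mul_conj, mul_assoc _ (w a z2), ← cBB _ hv2 _ (hbB _ hv1),
      ← mul_assoc, mul_inv_cancel_right, hkey a ha z2 hz2, hkey a ha z1 hz1, hcoc, hconj,
      eR (w a z2 * w a z1) (mul_mem hv2 hv1) _ hy1 _ (mul_mem hs hy2),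
      eR (w a z2 * w a z1) (mul_mem hv2 hv1) _ hs _ hy2, eR _ hx _ hy1 _ (mul_mem hs hy2), eR _ hx _ hs _ hy2,
      eL _ hv2 _ hv1 _ hy1, eL _ hv2 _ hv1 _ hs, eL _ hv2 _ hv1 _ hy2,
      hww a ha z2 hz2 z2 hz2 z1 hz1, hww a ha z1 hz1 z2 hz2 z1 hz1] at h
    have h2 := hinv z1 hz1 _ (hDB hx) _ (hDB hy2)
    rw [hconj, hconj, eL _ hv1 _ hx _ (mul_mem hs hy2), eR _ hv1 _ hs _ hy2, eR _ hx _ hs _ hy2,
      hww a ha z1 hz1 z2 hz2 z1 hz1, one_mul, ← mul_assoc] at h2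
    have h2' := mul_eq_right.mp h2
    -- all the commutators involved commute pairwise
    let K : Subgroup G := ⁅D, D⁆
    haveI : IsMulCommutative K := ⟨⟨fun p q => Subtype.ext (by
      have hq : (q : G) ∈ Subgroup.centralizer (B : Set G) :=
        Subgroup.commutator_eq_bot_iff_le_centralizer.mp hDDB q.2
      exact Subgroup.mem_centralizer_iff.mp hq p ((Subgroup.commutator_mono hDB hDB).trans hBB p.2))⟩⟩
    obtain ⟨a1, ha1⟩ : ∃ k : K, (k : G) = ⁅w a z2, f z2⁆ := ⟨⟨_, Subgroup.commutator_mem_commutator hv2 hy2⟩, rfl⟩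
    obtain ⟨a2, ha2⟩ : ∃ k : K, (k : G) = ⁅f a, f z2⁆ := ⟨⟨_, Subgroup.commutator_mem_commutator hx hy2⟩, rfl⟩
    obtain ⟨a3, ha3⟩ : ∃ k : K, (k : G) = ⁅w a z1, f z1⁆ := ⟨⟨_, Subgroup.commutator_mem_commutator hv1 hy1⟩, rfl⟩
    obtain ⟨a4, ha4⟩ : ∃ k : K, (k : G) = ⁅f a, f z1⁆ := ⟨⟨_, Subgroup.commutator_mem_commutator hx hy1⟩, rfl⟩
    obtain ⟨a5, ha5⟩ : ∃ k : K, (k : G) = ⁅w a z2, f z1⁆ := ⟨⟨_, Subgroup.commutator_mem_commutator hv2 hy1⟩, rfl⟩
    obtain ⟨a6, ha6⟩ : ∃ k : K, (k : G) = ⁅w a z1, f z2⁆ := ⟨⟨_, Subgroup.commutator_mem_commutator hv1 hy2⟩, rfl⟩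
    obtain ⟨a7, ha7⟩ : ∃ k : K, (k : G) = ⁅f a, w z2 z1⁆ := ⟨⟨_, Subgroup.commutator_mem_commutator hx hs⟩, rfl⟩
    simp only [← ha1, ← ha2, ← ha3, ← ha4, ← ha5, ← ha6, ← ha7, one_mul, ← Subgroup.coe_mul, Subtype.coe_inj] at h h2' ⊢
    have h2'' : a6 * a7 = 1 := Subtype.ext h2'
    rw [OneMemClass.coe_eq_one]
    open scoped IsMulCommutative in
    have e : a5 * a3 * (a1 * a6) * (a4 * (a7 * a2)) = a5 * (a1 * a2 * (a3 * a4)) * (a6 * a7) := by
      simp [mul_comm, mul_left_comm, mul_assoc]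
    rw [e, h2'', mul_one] at h
    exact right_eq_mul.mp h
  have hsq : ∀ a ∈ A, ∀ z ∈ A, ⁅f a, f z⁆ ^ 2 = 1 := by
    intro a ha z hz
    have hx := hfD a ha
    have hy := hfD z hz
    have hu := hwD z hz a ha
    have hv := hwD a ha z hz
    have heq : f a * (w z a * f z) = f z * (w a z * f a) := by
      rw [← hconj, ← hconj, ← hcoc, ← hcoc, show a * z = z * a from
        congrArg Subtype.val (hA.is_comm.comm (⟨a, ha⟩ : A) ⟨z, hz⟩)]
    have c1 : f a * w z a = w z a * f a :=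
      (commutatorElement_eq_one_iff_mul_comm.mp (hT z hz a ha a ha)).symm
    have c2 : f z * w a z = w a z * f z :=
      (commutatorElement_eq_one_iff_mul_comm.mp (hT a ha z hz z hz)).symm
    have hu' : w z a = w a z * ⁅f z, f a⁆ := by
      rw [← mul_assoc (f a), c1, ← mul_assoc (f z), c2] at heq
      calc w z a = w z a * f a * f z * (f a * f z)⁻¹ := by group
        _ = w a z * f z * f a * (f a * f z)⁻¹ := by rw [heq]
        _ = _ := by rw [commutatorElement_def]; group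
    have h1 := hkey z hz a ha
    rw [hu', commutatorElement_mul_right_eq_mul_conj,
      commutatorElement_eq_one_iff_mul_comm.mpr (cB _ hy _ hx b hb), mul_one, mul_inv_cancel_right,
      hkey a ha z hz, hT a ha z hz z hz, one_mul, ← hu', hT z hz a ha a ha, one_mul] at h1
    rw [pow_two]
    nth_rewrite 1 [h1]
    rw [← commutatorElement_inv (f a) (f z), inv_mul_cancel]
  have hCD : C ≤ D := (Subgroup.closure_le _).mpr fun g ⟨a, ha, e⟩ => e ▸ hfD a ha
  have hCC : ∀ p ∈ C, ∀ q ∈ C, ⁅p, q⁆ ^ 2 = 1 := by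
    intro p hp q hq
    have hgen : ∀ z ∈ A, ∀ p ∈ C, ⁅p, f z⁆ ^ 2 = 1 := by
      intro z hz p hp
      induction hp using Subgroup.closure_induction with
      | mem g hg =>
        obtain ⟨a, ha, rfl⟩ := hg
        exact hsq a ha z hz
      | one => simp
      | mul g h hg hh ihg ihh =>
        rw [eL g (hCD hg) h (hCD hh) _ (hfD z hz), Commute.mul_pow, ihg, ihh, mul_one]
        exact cB _ (hCD hh) _ (hfD z hz) _ (hDB (by
          rw [commutatorElement_def]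
          exact mul_mem (mul_mem (mul_mem (hCD hg) (hfD z hz)) (inv_mem (hCD hg))) (inv_mem (hfD z hz))))
      | inv g hg ihg =>
        have := eL g (hCD hg) g⁻¹ (inv_mem (hCD hg)) _ (hfD z hz)
        rw [mul_inv_cancel, commutatorElement_one_left] at this
        rw [← inv_eq_of_mul_eq_one_right this.symm, inv_pow, ihg, inv_one]
    induction hq using Subgroup.closure_induction with
    | mem g hg =>
      obtain ⟨a, ha, rfl⟩ := hg
      exact hgen a ha p hp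
    | one => simp
    | mul g h hg hh ihg ihh =>
      rw [eR p (hCD hp) g (hCD hg) h (hCD hh), Commute.mul_pow, ihg, ihh, mul_one]
      exact cB _ (hCD hp) _ (hCD hh) _ (hDB (by
        rw [commutatorElement_def]
        exact mul_mem (mul_mem (mul_mem (hCD hp) (hCD hg)) (inv_mem (hCD hp))) (inv_mem (hCD hg))))
    | inv g hg ihg =>
      have := eR p (hCD hp) g (hCD hg) g⁻¹ (inv_mem (hCD hg))
      rw [mul_inv_cancel, commutatorElement_one_right] at this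
      rw [← inv_eq_of_mul_eq_one_right this.symm, inv_pow, ihg, inv_one]
  intro v hv
  rw [Subgroup.commutator_def] at hv
  suffices v ∈ ⁅D, D⁆ ∧ v ^ 2 = 1 from this.2
  induction hv using Subgroup.closure_induction with
  | mem g hg =>
    obtain ⟨p, hp, q, hq, rfl⟩ := hg
    exact ⟨Subgroup.commutator_mem_commutator (hCD hp) (hCD hq), hCC p hp q hq⟩
  | one => exact ⟨one_mem _, by simp⟩
  | mul g h hg hh ihg ihh =>
    refine ⟨mul_mem ihg.1 ihh.1, ?_⟩
    rw [Commute.mul_pow, ihg.2, ihh.2, mul_one]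
    exact Subgroup.mem_centralizer_iff.mp (Subgroup.commutator_eq_bot_iff_le_centralizer.mp hDDB ihh.1) g
      ((Subgroup.commutator_mono hDB hDB).trans hBB ihg.1)
  | inv g hg ihg => exact ⟨inv_mem ihg.1, by rw [inv_pow, ihg.2, inv_one]⟩

end Cfsg.Agent.S0648
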