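import Cfsg.Statements.S0649
import Cfsg.Agent.Lib.Core
import Cfsg.Agent.Lib.LocalBasic
import Cfsg.Agent.Lib.PConstrained
import Cfsg.Agent.Lib.PLocal.Omega
open CfsgLib CfsgLib.PLocal
open scoped commutatorElement Pointwise

set_option autoImplicit false
open Cfsg

namespace Cfsg.Agent.S0649

/-- In the Glauberman replacement situation, if B does not normalize A then some element of B normalizes N_S(A) without normalizing A. -/
theorem result {S : Type*} [Group S] [Finite S] {p : ℕ} [Fact p.Prime] (hS : IsPGroup p S) (B : Subgroup S) [B.Normal] (hB2 : p = 2 → IsMulCommutative B) (A : Subgroup S) (hA : IsMulCommutative A) (hBA : ⁅B, B⁆ ≤ A) (hnot : ¬ B ≤ Subgroup.normalizer (A : Set S)) : ∃ b ∈ B, b ∈ Subgroup.normalizer ((Subgroup.normalizer (A : Set S)) : Set S) ∧ b ∉ Subgroup.normalizer (A : Set S) := by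
  classical
  set N := Subgroup.normalizer (A : Set S) with hN
  by_contra hcon
  push Not at hcon
  have : Fact p.Prime := inferInstance
  have hnil : Group.IsNilpotent ↥(B ⊔ N : Subgroup S) := (hS.to_subgroup _).isNilpotent
  set N' := N.subgroupOf (B ⊔ N) with hN'
  have hne : N' ≠ ⊤ := fun h => hnot (le_sup_left.trans (Subgroup.subgroupOf_eq_top.mp h))
  have hlt : N' < Subgroup.normalizer (N' : Set ↥(B ⊔ N : Subgroup S)) :=
    Group.normalizerCondition_of_isNilpotent N' hne.lt_top
  obtain ⟨⟨x, hx⟩, hxn, hxN⟩ := SetLike.exists_of_lt hlt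
  obtain ⟨b, hb, n, hn, rfl⟩ := Subgroup.mem_sup_of_normal_left.mp hx
  have hxn' : b * n ∈ Subgroup.normalizer (N : Set S) := by
    rw [Subgroup.mem_normalizer_iff]
    intro h
    have key := Subgroup.mem_normalizer_iff.mp hxn
    by_cases hh : h ∈ B ⊔ N
    · simpa [hN', Subgroup.mem_subgroupOf] using key ⟨h, hh⟩
    · constructor
      · exact fun h' => absurd (Subgroup.mem_sup_right h') hh
      · intro h'
        refine absurd ?_ hh
        have := mul_mem (mul_mem (inv_mem hx) (Subgroup.mem_sup_right h' : _ ∈ B ⊔ N)) hx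
        have e : (b * n)⁻¹ * (b * n * h * (b * n)⁻¹) * (b * n) = h := by group
        rwa [e] at this
  have hbn : b ∈ Subgroup.normalizer (N : Set S) := by
    have := mul_mem hxn' (inv_mem (Subgroup.le_normalizer hn))
    rwa [mul_inv_cancel_right] at this
  exact hxN (Subgroup.mem_subgroupOf.mpr (mul_mem (hcon b hb hbn) hn))

end Cfsg.Agent.S0649
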