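import Cfsg.Statements.S0650
import Cfsg.Agent.Lib.PLocal.ReplacementFamily
open scoped commutatorElement

set_option autoImplicit false
open Cfsg

namespace Cfsg.Agent.S0650

/-- The Glauberman replacement Theorem: from an abelian A ⊇ [B, B] not normalized by the normal subgroup B and a suitable b ∈ B one gets the abelian subgroup A* = (A ∩ b⁻¹Ab)[A, b] of the same order, containing [B, B], meeting B strictly more than A does but not containing B, mutually normalizing with A, with strictly larger normalizer containing b, and (p odd) of no larger exponent. -/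
theorem result {S : Type*} [Group S] [Finite S] {p : ℕ} [Fact p.Prime] (hS : IsPGroup p S) (B : Subgroup S) [B.Normal] (hB2 : p = 2 → IsMulCommutative B) (A : Subgroup S) (hA : IsMulCommutative A) (hBA : ⁅B, B⁆ ≤ A) (hnot : ¬ B ≤ Subgroup.normalizer (A : Set S)) (b : S) (hb : b ∈ B) (hbN : b ∈ Subgroup.normalizer ((Subgroup.normalizer (A : Set S)) : Set S)) (hbA : b ∉ Subgroup.normalizer (A : Set S)) : Nat.card ↥((A ⊓ A.map (MulAut.conj (b⁻¹)).toMonoidHom) ⊔ Subgroup.closure {g : S | ∃ a ∈ A, g = a * b⁻¹ * a⁻¹ * b}) = Nat.card A ∧ IsMulCommutative ↥((A ⊓ A.map (MulAut.conj (b⁻¹)).toMonoidHom) ⊔ Subgroup.closure {g : S | ∃ a ∈ A, g = a * b⁻¹ * a⁻¹ * b}) ∧ ⁅B, B⁆ ≤ ((A ⊓ A.map (MulAut.conj (b⁻¹)).toMonoidHom) ⊔ Subgroup.closure {g : S | ∃ a ∈ A, g = a * b⁻¹ * a⁻¹ * b}) ∧ A ⊓ B < ((A ⊓ A.map (MulAut.conj (b⁻¹)).toMonoidHom) ⊔ Subgroup.closure {g : S | ∃ a ∈ A, g = a * b⁻¹ * a⁻¹ * b}) ⊓ B ∧ ((A ⊓ A.map (MulAut.conj (b⁻¹)).toMonoidHom)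 ⊔ Subgroup.closure {g : S | ∃ a ∈ A, g = a * b⁻¹ * a⁻¹ * b}) ⊓ B < B ∧ A ≤ Subgroup.normalizer (((A ⊓ A.map (MulAut.conj (b⁻¹)).toMonoidHom) ⊔ Subgroup.closure {g : S | ∃ a ∈ A, g = a * b⁻¹ * a⁻¹ * b} : Subgroup S) : Set S) ∧ ((A ⊓ A.map (MulAut.conj (b⁻¹)).toMonoidHom) ⊔ Subgroup.closure {g : S | ∃ a ∈ A, g = a * b⁻¹ * a⁻¹ * b}) ≤ Subgroup.normalizer (A : Set S) ∧ b ∈ Subgroup.normalizer (((A ⊓ A.map (MulAut.conj (b⁻¹)).toMonoidHom) ⊔ Subgroup.closure {g : S | ∃ a ∈ A, g = a * b⁻¹ * a⁻¹ * b} : Subgroup S) : Set S) ∧ Subgroup.normalizer (A : Set S) < Subgroup.normalizer (((A ⊓ A.map (MulAut.conj (b⁻¹)).toMonoidHom) ⊔ Subgroup.closure {g : S | ∃ a ∈ A, g = a * b⁻¹ * a⁻¹ * b} : Subgroup S) : Set S) ∧ (p ≠ 2 → Monoid.exponent ↥((A ⊓ A.map (MulAut.conj (b⁻¹)).toMonoidHom) ⊔ Subgroup.closure {g : S | ∃ a ∈ A, g = a * b⁻¹ * a⁻¹ * b}) ∣ Monoid.exponent A) := by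
  classical
  set α : S →* S := (MulAut.conj b⁻¹).toMonoidHom with hαdef
  have hα : ∀ y, α y = b⁻¹ * y * b := fun y => by simp [α]
  set I := A ⊓ A.map α
  set c : S → S := fun a => a * (α a)⁻¹ with hcdef
  have hset : {g : S | ∃ a ∈ A, g = a * b⁻¹ * a⁻¹ * b} = c '' (A : Set S) := by
    ext g
    constructor
    · rintro ⟨a, ha, rfl⟩; exact ⟨a, ha, by simp only [hcdef, hα]; group⟩
    · rintro ⟨a, ha, rfl⟩; exact ⟨a, ha, by simp only [hcdef, hα]; group⟩
  rw [hset]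
  set T := I ⊔ Subgroup.closure (c '' (A : Set S))
  have hBn : ∀ g : S, ∀ y ∈ B, g * y * g⁻¹ ∈ B := fun g y hy => (inferInstance : B.Normal).conj_mem y hy g
  have hcomm : ∀ u ∈ B, ∀ v ∈ B, ⁅u, v⁆ ∈ A := fun u hu v hv => hBA (Subgroup.commutator_mem_commutator hu hv)
  have hAc : ∀ u ∈ A, ∀ v ∈ A, u * v = v * u := fun u hu v hv => congrArg Subtype.val (mul_comm' (⟨u, hu⟩ : A) ⟨v, hv⟩)
  -- elements of `A ∩ B` are moved within `A`
  have hABα : ∀ z ∈ A, z ∈ B → α z ∈ A ∧ b * z * b⁻¹ ∈ A := fun z hz hzB => by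
    constructor
    · have := mul_mem (hcomm b⁻¹ (inv_mem hb) z hzB) hz
      rwa [commutatorElement_def, inv_mul_cancel_right, inv_inv, ← hα] at this
    · have := mul_mem (hcomm b hb z hzB) hz
      rwa [commutatorElement_def, inv_mul_cancel_right] at this
  have hA'iff : ∀ y, y ∈ A.map α ↔ b * y * b⁻¹ ∈ A := fun y => by
    constructor
    · rintro ⟨a, ha, rfl⟩
      rw [hα, show b * (b⁻¹ * a * b) * b⁻¹ = a by group]; exact ha
    · exact fun h => ⟨_, h, by rw [hα]; group⟩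
  have hABI : A ⊓ B ≤ I := fun z hz => ⟨hz.1, (hA'iff z).2 (hABα z hz.1 hz.2).2⟩
  have hBBI : ∀ u ∈ B, ∀ v ∈ B, ⁅u, v⁆ ∈ I := fun u hu v hv =>
    hABI ⟨hcomm u hu v hv, Subgroup.commutator_le_right B B (Subgroup.commutator_mem_commutator hu hv)⟩
  have hIA : ∀ y ∈ I, α y ∈ A := by
    rintro y ⟨hy, hy'⟩
    have h1 := (hA'iff y).1 hy'
    have h2 : b * y * b⁻¹ * y⁻¹ ∈ A := mul_mem h1 (inv_mem hy)
    have h3 : b * y * b⁻¹ * y⁻¹ ∈ B := by
      rw [show b * y * b⁻¹ * y⁻¹ = b * (y * b⁻¹ * y⁻¹) by group]; exact mul_mem hb (hBn y _ (inv_mem hb))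
    have h4 := (hABα _ h2 h3).1
    have h5 : α (b * y * b⁻¹ * y⁻¹) = y * (α y)⁻¹ := by simp only [hα]; group
    rw [h5] at h4
    have := mul_mem (inv_mem h4) hy
    rwa [mul_inv_rev, inv_inv, inv_mul_cancel_right] at this
  have hIαI : ∀ y ∈ I, α y ∈ I := fun y hy => ⟨hIA y hy, ⟨y, hy.1, rfl⟩⟩
  -- `A` and its conjugate normalise each other
  have hA'N : ∀ d ∈ A, α d ∈ Subgroup.normalizer (A : Set S) := fun d hd => by
    rw [hα]
    exact ((Subgroup.mem_normalizer_iff''.1 hbN) d).1 (Subgroup.le_normalizer hd)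
  have hNA' : ∀ g ∈ Subgroup.normalizer (A : Set S), ∀ d ∈ A, ∃ d' ∈ A, g * α d * g⁻¹ = α d' := fun g hg d hd => by
    have hg' : b * g * b⁻¹ ∈ Subgroup.normalizer (A : Set S) := ((Subgroup.mem_normalizer_iff.1 hbN) g).1 hg
    exact ⟨_, ((Subgroup.mem_normalizer_iff.1 hg') d).1 hd, by simp only [hα]; group⟩
  have hβI : ∀ a ∈ A, ∀ d ∈ A, ⁅a, α d⁆ ∈ I := fun a ha d hd => by
    refine ⟨?_, ?_⟩
    · rw [show ⁅a, α d⁆ = a * (α d * a⁻¹ * (α d)⁻¹) by rw [commutatorElement_def]; group]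
      exact mul_mem ha (((Subgroup.mem_normalizer_iff.1 (hA'N d hd)) _).1 (inv_mem ha))
    · obtain ⟨d', hd', e⟩ := hNA' a (Subgroup.le_normalizer ha) d hd
      rw [commutatorElement_def, e, ← map_inv, ← map_mul]
      exact ⟨_, mul_mem hd' (inv_mem hd), rfl⟩
  have hIcA : ∀ z ∈ I, ∀ a ∈ A, z * a = a * z := fun z hz a ha => hAc z hz.1 a ha
  have hIcα : ∀ z ∈ I, ∀ a ∈ A, z * α a = α a * z := by
    rintro z ⟨-, z', hz', rfl⟩ a ha
    rw [← map_mul, ← map_mul, hAc z' hz' a ha]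
  have hIcc : ∀ z ∈ I, ∀ a ∈ A, z * c a = c a * z := fun z hz a ha => by
    have h1 : Commute z a := hIcA z hz a ha
    have h2 : Commute z (α a) := hIcα z hz a ha
    exact h1.mul_right h2.inv_right
  have hcB : ∀ a ∈ A, c a ∈ B := fun a _ => by
    simp only [hcdef, hα, mul_inv_rev, inv_inv]
    rw [show a * (b⁻¹ * (a⁻¹ * b)) = a * b⁻¹ * a⁻¹ * b by group]
    exact mul_mem (hBn a _ (inv_mem hb)) hb
  set β : S → S → S := fun a d => ⁅a, α d⁆
  set k : S → S → S := fun a d => ⁅(c a)⁻¹, (c d)⁻¹⁆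
  set x := b⁻¹ with hxdef
  have hxc : ∀ y, x * y * x⁻¹ = α y := fun y => by rw [hα, hxdef, inv_inv]
  have hβw : ∀ a ∈ A, ∀ d ∈ A, a * (c d)⁻¹ * a⁻¹ = β a d * (c d)⁻¹ := fun a ha d hd => by
    simp only [β, hcdef, commutatorElement_def, mul_inv_rev, inv_inv]
    rw [show a * (α d * d⁻¹) * a⁻¹ = a * α d * (d⁻¹ * a⁻¹) by group, ← mul_inv_rev, hAc a ha d hd, mul_inv_rev]
    group
  have hkβ : ∀ a ∈ A, ∀ d ∈ A, k a d = β d a * (β a d)⁻¹ := by
    intro a ha d hd
    have z1 : β d a ∈ I := hβI d hd a ha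
    have z2 : β a d ∈ I := hβI a ha d hd
    have h1 : ⁅a⁻¹, (c d)⁻¹⁆ = (β a d)⁻¹ := by
      have e0 : ⁅a⁻¹, d⁻¹⁆ = 1 := commutatorElement_eq_one_iff_commute.2 (hAc _ (inv_mem ha) _ (inv_mem hd))
      have hza : Commute (β a d) a := hIcA _ z2 a ha
      calc ⁅a⁻¹, (c d)⁻¹⁆ = ⁅a⁻¹, α d⁆ * (α d * ⁅a⁻¹, d⁻¹⁆ * (α d)⁻¹) := by
            simp only [hcdef, commutatorElement_def]; group
        _ = a⁻¹ * (β a d)⁻¹ * a := by rw [e0]; simp only [β, commutatorElement_def]; group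
        _ = _ := by rw [← (hza.inv_inv).eq, inv_mul_cancel_right]
    have h2 : ⁅α a, (c d)⁻¹⁆ = β d a := by
      have e0 : ⁅α a, α d⁆ = 1 := by
        rw [← map_commutatorElement, commutatorElement_eq_one_iff_commute.2 (hAc a ha d hd), map_one]
      have hzd : Commute (β d a) d := hIcA _ z1 d hd
      have hzα : Commute (β d a) (α d) := hIcα _ z1 d hd
      calc ⁅α a, (c d)⁻¹⁆ = ⁅α a, α d⁆ * (α d * ⁅α a, d⁻¹⁆ * (α d)⁻¹) := by
            simp only [hcdef, commutatorElement_def]; group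
        _ = α d * (d⁻¹ * β d a * d) * (α d)⁻¹ := by rw [e0]; simp only [β, commutatorElement_def]; group
        _ = _ := by rw [← (hzd.inv_right).eq, inv_mul_cancel_right, ← hzα.eq, mul_inv_cancel_right]
    have hzα : Commute (β a d) (α a) := hIcα _ z2 a ha
    calc k a d = ⁅α a * a⁻¹, (c d)⁻¹⁆ := by simp only [k, hcdef, mul_inv_rev, inv_inv]
      _ = α a * ⁅a⁻¹, (c d)⁻¹⁆ * (α a)⁻¹ * ⁅α a, (c d)⁻¹⁆ := by simp only [commutatorElement_def]; group
      _ = _ := by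
        rw [h1, h2, ← (hzα.inv_left).eq, mul_inv_cancel_right]
        exact hAc _ (inv_mem z2.1) _ z1.1
  have hkI : ∀ a ∈ A, ∀ d ∈ A, k a d ∈ I := fun a ha d hd => hBBI _ (inv_mem (hcB a ha)) _ (inv_mem (hcB d hd))
  have hδ : ∀ a ∈ A, ∀ d ∈ A, α (β a d) = k a d * β a d := by
    intro a ha d hd
    set z := β a d
    set v := (c a)⁻¹
    set w := (c d)⁻¹
    set q := ⁅x, w⁆
    have hz : z ∈ I := hβI a ha d hd
    have hq : q ∈ I := hBBI _ (inv_mem hb) _ (inv_mem (hcB d hd))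
    have hδz : ⁅x, z⁆ ∈ I := by
      rw [commutatorElement_def, hxc]
      exact mul_mem (hIαI z hz) (inv_mem hz)
    have hfix : a * q * a⁻¹ = q := by rw [← hIcA q hq a ha, mul_inv_cancel_right]
    have hax : a * x * a⁻¹ = (c a) * x := by
      simp only [hcdef, hα, hxdef]; group
    have haw : a * w * a⁻¹ = z * w := hβw a ha d hd
    have hca : ∀ y ∈ I, c a * y * (c a)⁻¹ = y := fun y hy => by rw [← hIcc y hy a ha, mul_inv_cancel_right]
    have e1 : q = ⁅x, z⁆ * q * ⁅c a, z * w⁆ := by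
      calc q = ⁅a * x * a⁻¹, a * w * a⁻¹⁆ := by rw [← conjugate_commutatorElement, hfix]
        _ = c a * ⁅x, z * w⁆ * (c a)⁻¹ * ⁅c a, z * w⁆ := by
          rw [hax, haw]; simp only [commutatorElement_def]; group
        _ = c a * (⁅x, z⁆ * (z * q * z⁻¹)) * (c a)⁻¹ * ⁅c a, z * w⁆ := by
          simp only [q, commutatorElement_def]; group
        _ = _ := by
          rw [show z * q * z⁻¹ = q by rw [hAc z hz.1 q hq.1, mul_inv_cancel_right], hca _ (mul_mem hδz hq)]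
    have e2 : ⁅c a, z * w⁆ = ⁅c a, w⁆ := by
      calc ⁅c a, z * w⁆ = ⁅c a, z⁆ * (z * ⁅c a, w⁆ * z⁻¹) := by simp only [commutatorElement_def]; group
        _ = _ := by
          have hm : ⁅c a, w⁆ ∈ I := hBBI _ (hcB a ha) _ (inv_mem (hcB d hd))
          rw [commutatorElement_eq_one_iff_commute.2 (hIcc z hz a ha).symm, one_mul, hAc z hz.1 _ hm.1,
            mul_inv_cancel_right]
    have e3 : ⁅c a, w⁆ = (k a d)⁻¹ := by
      have hm : ⁅c a, w⁆ ∈ I := hBBI _ (hcB a ha) _ (inv_mem (hcB d hd))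
      calc ⁅c a, w⁆ = c a * (k a d)⁻¹ * (c a)⁻¹ := by simp only [k, v, w, commutatorElement_def]; group
        _ = _ := hca _ (inv_mem (hkI a ha d hd))
    rw [e2, e3] at e1
    have e4 : ⁅x, z⁆ = k a d := by
      have : ⁅x, z⁆ * q * (k a d)⁻¹ * q⁻¹ = 1 := by rw [← e1, mul_inv_cancel]
      rw [mul_assoc ⁅x, z⁆, hAc q hq.1 _ (inv_mem (hkI a ha d hd)).1, mul_assoc, mul_assoc, mul_inv_cancel,
        mul_one, mul_inv_eq_one] at this
      exact this
    rw [← e4, commutatorElement_def, hxc, inv_mul_cancel_right]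
  -- the operator `α` is unipotent of `p`-power order, so `k = 1`
  have hk1 : ∀ a ∈ A, ∀ d ∈ A, k a d = 1 := by
    intro a ha d hd
    rcases eq_or_ne p 2 with h2 | h2
    · refine commutatorElement_eq_one_iff_commute.2 ?_
      have := hB2 h2
      exact congrArg Subtype.val (mul_comm' (⟨_, inv_mem (hcB a ha)⟩ : B) ⟨_, inv_mem (hcB d hd)⟩)
    set y := k a d
    have hy : α y = y⁻¹ := by
      have hc' : ∀ u ∈ A, ∀ v ∈ A, k u v = (k v u)⁻¹ := fun u _ v _ => (commutatorElement_inv _ _).symm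
      have e : y = β d a * (β a d)⁻¹ := hkβ a ha d hd
      conv_lhs => rw [e, map_mul, map_inv, hδ d hd a ha, hδ a ha d hd, hc' d hd a ha]
      rw [mul_inv_rev, show (k a d)⁻¹ * β d a * ((β a d)⁻¹ * (k a d)⁻¹) = (k a d)⁻¹ * (β d a * (β a d)⁻¹) * (k a d)⁻¹ by
        group, ← e, inv_mul_cancel, one_mul]
    obtain ⟨n, hn⟩ := hS x
    have hpow : ∀ m : ℕ, α^[m] y = y ^ ((-1 : ℤ) ^ m) := by
      intro m
      induction m with
      | zero => simp
      | succ m ih => rw [Function.iterate_succ_apply', ih, map_zpow, hy, inv_zpow', pow_succ, mul_neg_one]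
    have hiter : ∀ m : ℕ, α^[m] y = x ^ m * y * (x ^ m)⁻¹ := by
      intro m
      induction m with
      | zero => simp
      | succ m ih => rw [Function.iterate_succ_apply', ih, ← hxc, pow_succ']; group
    have hodd : Odd (p ^ n) := ((Fact.out : p.Prime).odd_of_ne_two h2).pow
    have h1 := (hpow (p ^ n)).symm.trans (hiter (p ^ n))
    rw [hn, one_mul, inv_one, mul_one, hodd.neg_one_pow, zpow_neg_one] at h1
    have hy2 : y ^ 2 = 1 := by rw [sq]; nth_rewrite 1 [← h1]; exact inv_mul_cancel y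
    obtain ⟨m, hm⟩ := hS y
    have hcop : Nat.Coprime 2 (p ^ m) :=
      ((Nat.coprime_primes Nat.prime_two (Fact.out : p.Prime)).mpr (Ne.symm h2)).pow_right m
    exact orderOf_eq_one_iff.mp
      (Nat.eq_one_of_dvd_coprimes hcop (orderOf_dvd_of_pow_eq_one hy2) (orderOf_dvd_of_pow_eq_one hm))
  have hcc : ∀ a ∈ A, ∀ d ∈ A, c a * c d = c d * c a := fun a ha d hd => by
    have := commutatorElement_eq_one_iff_commute.1 (hk1 a ha d hd)
    exact (Commute.inv_inv_iff.1 this).eq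
  set M := Subgroup.closure (c '' (A : Set S))
  have hMgen : ∀ a ∈ A, c a ∈ T := fun a ha => Subgroup.mem_sup_right (Subgroup.subset_closure ⟨a, ha, rfl⟩)
  have hTle : ∀ {K : Subgroup S}, I ≤ K → (∀ a ∈ A, c a ∈ K) → T ≤ K := fun h1 h2 =>
    sup_le h1 ((Subgroup.closure_le _).2 (by rintro _ ⟨a, ha, rfl⟩; exact h2 a ha))
  have hTc : ∀ u ∈ T, ∀ v ∈ T, u * v = v * u := by
    have h1 : ∀ a ∈ A, T ≤ Subgroup.centralizer ({c a} : Set S) := fun a ha => hTle
      (fun z hz => Subgroup.mem_centralizer_singleton_iff.2 (hIcc z hz a ha))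
      (fun d hd => Subgroup.mem_centralizer_singleton_iff.2 (hcc d hd a ha))
    have h2 : ∀ z ∈ I, T ≤ Subgroup.centralizer ({z} : Set S) := fun z hz => hTle
      (fun y hy => Subgroup.mem_centralizer_singleton_iff.2 (hAc y hy.1 z hz.1))
      (fun d hd => Subgroup.mem_centralizer_singleton_iff.2 (hIcc z hz d hd).symm)
    intro u hu v hv
    have h3 : T ≤ Subgroup.centralizer ({u} : Set S) := hTle
      (fun y hy => Subgroup.mem_centralizer_singleton_iff.2 (Subgroup.mem_centralizer_singleton_iff.1 (h2 y hy hu)).symm)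
      (fun d hd => Subgroup.mem_centralizer_singleton_iff.2 (Subgroup.mem_centralizer_singleton_iff.1 (h1 d hd hu)).symm)
    exact (Subgroup.mem_centralizer_singleton_iff.1 (h3 hv)).symm
  -- cardinality: `a ↦ c a` induces `A / I ≃ T / I`
  let J := I.subgroupOf T
  have : J.Normal := ⟨fun u hu g => by
    rw [show g * u * g⁻¹ = u by rw [show g * u = u * g from Subtype.ext (hTc g g.2 u u.2), mul_inv_cancel_right]]
    exact hu⟩
  let φ : ↥A →* ↥T ⧸ J := MonoidHom.mk' (fun a => ↑(⟨c a, hMgen a a.2⟩ : ↥T)) fun a d => by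
    rw [← QuotientGroup.mk_mul, QuotientGroup.eq, Subgroup.mem_subgroupOf]
    show (c (a * d))⁻¹ * (c a * c d) ∈ I
    have e : c ((a : S) * d) = (β a d)⁻¹ * (c a * c d) := by
      have e1 := hβw a a.2 d d.2
      have hz : Commute (β a d)⁻¹ (c d) := hIcc _ (inv_mem (hβI a a.2 d d.2)) d d.2
      have e2 : (a : S) * c d * (a : S)⁻¹ = c d * (β a d)⁻¹ := by
        calc (a : S) * c d * (a : S)⁻¹ = ((a : S) * (c d)⁻¹ * (a : S)⁻¹)⁻¹ := by group
          _ = _ := by rw [e1, mul_inv_rev, inv_inv]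
      have e3 : c ((a : S) * d) = (a : S) * c d * (a : S)⁻¹ * c a := by
        simp only [hcdef, map_mul]; group
      rw [e3, e2, ← hz.eq, mul_assoc, hcc d d.2 a a.2]
    rw [e, mul_inv_rev, inv_inv, mul_assoc,
      hIcc _ (hβI a a.2 d d.2) a a.2 |>.symm.trans rfl |>.symm |> fun h => (mul_assoc (β a d) (c a) (c d)).symm.trans
        ((congrArg (· * c d) h).trans ((mul_assoc (c a) (β a d) (c d)).trans
          ((congrArg (c a * ·) (hIcc _ (hβI a a.2 d d.2) d d.2)).trans (mul_assoc (c a) (c d) (β a d)).symm))),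
      inv_mul_cancel_left]
    exact hβI a a.2 d d.2
  have hφker : φ.ker = I.subgroupOf A := by
    ext a
    rw [MonoidHom.mem_ker, Subgroup.mem_subgroupOf]
    show ((⟨c a, hMgen a a.2⟩ : ↥T) : ↥T ⧸ J) = 1 ↔ _
    rw [QuotientGroup.eq_one_iff, Subgroup.mem_subgroupOf]
    refine ⟨fun h => ⟨a.2, ?_⟩, fun h => mul_mem h (inv_mem (hIαI _ h))⟩
    have e : (a : S) = c a * α a := by simp only [hcdef, inv_mul_cancel_right]
    rw [e]
    exact mul_mem h.2 ⟨a, a.2, rfl⟩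
  have hφs : Function.Surjective φ := by
    intro q
    obtain ⟨t, rfl⟩ := QuotientGroup.mk_surjective q
    have hle : T ≤ (φ.range.comap (QuotientGroup.mk' J)).map T.subtype := hTle
      (fun z hz => ⟨⟨z, Subgroup.mem_sup_left hz⟩, ⟨1, by
        rw [map_one]; exact ((QuotientGroup.eq_one_iff (N := J) _).2 hz).symm⟩, rfl⟩)
      (fun a ha => ⟨⟨c a, hMgen a ha⟩, ⟨⟨a, ha⟩, rfl⟩, rfl⟩)
    obtain ⟨t', ht', e⟩ := hle t.2
    obtain rfl : t' = t := Subtype.ext e
    exact ht'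
  have hIT : I ≤ T := le_sup_left
  have hcard : Nat.card ↥T = Nat.card A := by
    rw [Subgroup.card_eq_card_quotient_mul_card_subgroup J,
      Subgroup.card_eq_card_quotient_mul_card_subgroup φ.ker,
      Nat.card_congr (QuotientGroup.quotientKerEquivOfSurjective φ hφs).toEquiv,
      hφker, Nat.card_congr (Subgroup.subgroupOfEquivOfLe hIT).toEquiv,
      Nat.card_congr (Subgroup.subgroupOfEquivOfLe (inf_le_left : I ≤ A)).toEquiv]
  have hNI : ∀ g ∈ Subgroup.normalizer (A : Set S), ∀ y ∈ I, g * y * g⁻¹ ∈ I := by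
    rintro g hg y ⟨hy, d, hd, rfl⟩
    obtain ⟨d', hd', e⟩ := hNA' g hg d hd
    exact ⟨((Subgroup.mem_normalizer_iff.1 hg) _).1 hy, d', hd', e.symm⟩
  have hTN : T ≤ Subgroup.normalizer (A : Set S) := hTle (inf_le_left.trans Subgroup.le_normalizer)
    fun a ha => (Subgroup.normalizer (A : Set S)).mul_mem (Subgroup.le_normalizer ha) ((Subgroup.normalizer (A : Set S)).inv_mem (hA'N a ha))
  have hcI : ∀ y ∈ I, c y ∈ I := fun y hy => mul_mem hy (inv_mem (hIαI y hy))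
  -- `N(A)` normalises `T`
  have hNT : ∀ g ∈ Subgroup.normalizer (A : Set S), T ≤ T.comap (MulAut.conj g).toMonoidHom := fun g hg => hTle
    (fun y hy => hIT (hNI g hg y hy))
    (fun a ha => by
      have hg' : b * g * b⁻¹ ∈ Subgroup.normalizer (A : Set S) := ((Subgroup.mem_normalizer_iff.1 hbN) g).1 hg
      set a' := g * a * g⁻¹
      set w := b * g * b⁻¹ * g⁻¹
      have ha' : a' ∈ A := ((Subgroup.mem_normalizer_iff.1 hg) a).1 ha
      have hw : w ∈ Subgroup.normalizer (A : Set S) := mul_mem hg' (inv_mem hg)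
      have hwB : w ∈ B := by
        rw [show w = b * (g * b⁻¹ * g⁻¹) by simp only [w]; group]; exact mul_mem hb (hBn g _ (inv_mem hb))
      have hm : a' * w * a'⁻¹ * w⁻¹ ∈ I := by
        refine hABI ⟨?_, ?_⟩
        · rw [show a' * w * a'⁻¹ * w⁻¹ = a' * (w * a'⁻¹ * w⁻¹) by group]
          exact mul_mem ha' (((Subgroup.mem_normalizer_iff.1 hw) _).1 (inv_mem ha'))
        · exact B.mul_mem (hBn a' w hwB) (B.inv_mem hwB)
      show g * c a * g⁻¹ ∈ T
      have e : g * c a * g⁻¹ = c a' * α (a' * w * a'⁻¹ * w⁻¹) := by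
        simp only [hcdef, hα, a', w, hxdef]; group
      rw [e]
      exact mul_mem (hMgen a' ha') (hIT (hIαI _ hm)))
  have hbT : T ≤ T.comap α := hTle (fun y hy => hIT (hIαI y hy)) fun a ha => by
    show α (c a) ∈ T
    have := hBBI x (inv_mem hb) (c a) (hcB a ha)
    rw [commutatorElement_def, hxc] at this
    have := mul_mem (hIT this) (hMgen a ha)
    rwa [inv_mul_cancel_right] at this
  have hmemN : ∀ g, T ≤ T.comap (MulAut.conj g).toMonoidHom → g ∈ Subgroup.normalizer (T : Set S) := fun g h =>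
    CfsgLib.Glauberman.mem_normalizer_of_conj_mem fun y hy => h hy
  have hbNT : b ∈ Subgroup.normalizer (T : Set S) := by
    have := inv_mem (hmemN x hbT)
    rwa [hxdef, inv_inv] at this
  have hNle : Subgroup.normalizer (A : Set S) ≤ Subgroup.normalizer (T : Set S) := fun g hg => hmemN g (hNT g hg)
  refine ⟨hcard, ⟨⟨fun u v => Subtype.ext (hTc u u.2 v v.2)⟩⟩,
    fun y hy => hIT (hABI ⟨hBA hy, Subgroup.commutator_le_right B B hy⟩),
    lt_of_le_of_ne (le_inf (hABI.trans hIT) inf_le_right) fun h => hbA ?_,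
    lt_of_le_of_ne inf_le_right fun h => hbA ?_, Subgroup.le_normalizer.trans hNle, hTN, hbNT,
    lt_of_le_of_ne hNle fun h => hbA (h ▸ hbNT), fun hp2 => ?_⟩
  · have hx : x ∈ Subgroup.normalizer (A : Set S) := CfsgLib.Glauberman.mem_normalizer_of_conj_mem fun a ha => by
      have h1 : c a ∈ A := by
        have : c a ∈ A ⊓ B := by rw [h]; exact ⟨hMgen a ha, hcB a ha⟩
        exact this.1
      rw [hxc]
      have := mul_mem (inv_mem h1) ha
      rwa [show (c a)⁻¹ * a = α a by simp only [hcdef]; group] at this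
    have := inv_mem hx
    rwa [hxdef, inv_inv] at this
  · exact hTN ((h.ge hb).1)
  refine Monoid.exponent_dvd_of_forall_pow_eq_one ?_
  set e := Monoid.exponent A
  have hAe : ∀ a ∈ A, a ^ e = 1 := fun a ha => by
    simpa using congrArg Subtype.val (Monoid.pow_exponent_eq_one (⟨a, ha⟩ : A))
  have heodd : Odd e := by
    obtain ⟨n, hn⟩ := (IsPGroup.iff_card (p := p)).1 (hS.to_subgroup A)
    obtain ⟨m, -, hm⟩ := (Nat.dvd_prime_pow (Fact.out : p.Prime)).1 (hn ▸ (Group.exponent_dvd_nat_card (G := A)))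
    rw [show e = p ^ m from hm]
    exact ((Fact.out : p.Prime).odd_of_ne_two hp2).pow
  have hce : ∀ a ∈ A, c a ^ e = 1 := fun a ha => by
    set t := (β a a)⁻¹
    have htI : t ∈ I := inv_mem (hβI a ha a ha)
    have hac : a * c a * a⁻¹ = c a * t := by
      calc a * c a * a⁻¹ = (a * (c a)⁻¹ * a⁻¹)⁻¹ := by group
        _ = _ := by rw [hβw a ha a ha, mul_inv_rev, inv_inv]
    have hct : Commute (c a) t := (hIcc t htI a ha).symm
    have key : ∀ n : ℕ, c (a ^ n) = c a ^ n * t ^ n.choose 2 := by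
      intro n
      induction n with
      | zero => simp [hcdef]
      | succ n ih =>
        have h1 : c (a ^ (n + 1)) = a * c (a ^ n) * a⁻¹ * c a := by
          simp only [hcdef, pow_succ', map_mul]; group
        have h2 : a * t ^ n.choose 2 * a⁻¹ = t ^ n.choose 2 := by
          rw [← hIcA _ (pow_mem htI _) a ha, mul_inv_cancel_right]
        rw [h1, ih, show a * (c a ^ n * t ^ n.choose 2) * a⁻¹ = (a * c a ^ n * a⁻¹) * (a * t ^ n.choose 2 * a⁻¹) by group,
          ← conj_pow, hac, hct.mul_pow, h2, show (n + 1).choose 2 = n + n.choose 2 by rw [Nat.choose_succ_succ', Nat.choose_one_right],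
          pow_succ (c a) n, pow_add]
        simp only [mul_assoc]
        congr 1
        rw [← mul_assoc (t ^ n), ((hct.pow_right n).mul_right (hct.pow_right _)).eq]
    have h := key e
    rw [hAe a ha] at h
    obtain ⟨j, hj⟩ := heodd
    have hch : e.choose 2 = e * j := by
      rw [Nat.choose_two_right, hj, show 2 * j + 1 - 1 = 2 * j by omega,
        show (2 * j + 1) * (2 * j) = (2 * j + 1) * j * 2 by ring, Nat.mul_div_cancel _ (by norm_num)]
    rw [hch, pow_mul, hAe t htI.1, one_pow, mul_one] at h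
    rw [← h]; simp [hcdef]
  intro u
  refine Subtype.ext ?_
  rw [SubmonoidClass.coe_pow, OneMemClass.coe_one]
  let K : Subgroup S :=
    { carrier := {y | y ∈ T ∧ y ^ e = 1}
      mul_mem' := fun {y z} hy hz => ⟨mul_mem hy.1 hz.1, by
        rw [(show Commute y z from hTc y hy.1 z hz.1).mul_pow, hy.2, hz.2, one_mul]⟩
      one_mem' := ⟨one_mem _, one_pow _⟩
      inv_mem' := fun {y} hy => ⟨inv_mem hy.1, by rw [inv_pow, hy.2, inv_one]⟩ }
  have hK : T ≤ K := hTle (fun z hz => ⟨hIT hz, hAe z hz.1⟩) fun a ha => ⟨hMgen a ha, hce a ha⟩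
  exact (hK u.2).2

end Cfsg.Agent.S0650
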