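import Cfsg.Statements.S0654
import Cfsg.Agent.Lib.Glauberman.Core

set_option autoImplicit false
open Cfsg

namespace Cfsg.Agent.S0654

/-- The ZJ-Theorem for the elementary-abelian Thompson subgroup: for an odd prime p, a finite group G with C_G(O_p(G)) ≤ O_p(G) acting p-stably on its normal p-subgroups, and a Sylow p-subgroup S of G, the subgroup generated by the elements of order dividing p in Z(J_e(S)) is characteristic in G. -/
theorem result {G : Type*} [Group G] [Finite G] {p : ℕ} [Fact p.Prime] (hp : p ≠ 2) (hc : Subgroup.centralizer (Cfsg.pCore p G : Set G) ≤ Cfsg.pCore p G) (hst : ∀ (P : Subgroup G) [P.Normal], IsPGroup p P → Cfsg.IsPStableOn p P) (S : Sylow p G) : ((Cfsg.omegaCenterThompson p ↥(S : Subgroup G)).map (S : Subgroup G).subtype).Characteristic := by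
  have h : (Cfsg.omegaCenterThompson p ↥(S : Subgroup G)).map (S : Subgroup G).subtype =
      ⨅ A ∈ CfsgLib.ThompsonNPC.maxAb p (S : Subgroup G), A := by
    rw [← CfsgLib.Glauberman.omega_centerThompsonOf_eq, Cfsg.omegaCenterThompson, Cfsg.omegaOne, Cfsg.omegaOne,
      MonoidHom.map_closure]
    congr 1
    ext x
    constructor
    · rintro ⟨y, ⟨⟨hy1, hy2⟩, hy3⟩, rfl⟩
      refine ⟨⟨⟨y, hy1, rfl⟩, ?_⟩, congrArg Subtype.val hy3⟩
      refine Subgroup.mem_centralizer_iff.mpr ?_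
      rintro _ ⟨w, hw, rfl⟩
      exact congrArg Subtype.val (Subgroup.mem_centralizer_iff.mp hy2 w hw)
    · rintro ⟨⟨⟨y, hy1, rfl⟩, hy2⟩, hy3⟩
      refine ⟨y, ⟨⟨hy1, Subgroup.mem_centralizer_iff.mpr fun w hw => ?_⟩, Subtype.ext hy3⟩, rfl⟩
      exact Subtype.ext (Subgroup.mem_centralizer_iff.mp hy2 _ ⟨w, hw, rfl⟩)
  rw [h]
  exact CfsgLib.Glauberman.characteristic_of_normal S p (CfsgLib.Glauberman.zj_normal hp (Or.inr rfl) S S
    ⟨le_rfl, fun x _ g h => h⟩ (CfsgLib.Glauberman.stable_of_isPStableOn hst) hc)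

end Cfsg.Agent.S0654
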