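import Cfsg.Statements.S0655
import Cfsg.Agent.Lib.PLocal.Elementary
import Cfsg.Agent.Lib.LocalBasic
open CfsgLib.PLocal
open scoped commutatorElement Pointwise

set_option autoImplicit false
open Cfsg

namespace Cfsg.Agent.S0655

/-- In a p-group the intersection of all elementary abelian subgroups of largest order is the subgroup generated by the elements of order dividing p in the centre (equivalently the centralizer) of the elementary-version Thompson subgroup. -/
theorem result {S : Type*} [Group S] [Finite S] {p : ℕ} [Fact p.Prime] (hS : IsPGroup p S) : sInf (Cfsg.maxElementaryAbelianSubgroups p S) = Cfsg.omegaCenterThompson p S ∧ Cfsg.omegaCenterThompson p S = Cfsg.omegaOne p (Subgroup.centralizer (Cfsg.thompsonSubgroup p S : Set S)) := by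
  classical
  set J := Cfsg.thompsonSubgroup p S with hJ
  obtain ⟨A, hA⟩ := exists_max (G := S) (p := p)
  have hc : ∀ x ∈ sInf (Cfsg.maxElementaryAbelianSubgroups p S), x ∈ Subgroup.centralizer (J : Set S) := by
    have : sInf (Cfsg.maxElementaryAbelianSubgroups p S) ≤ Subgroup.centralizer (J : Set S) := by
      rw [Subgroup.le_centralizer_iff]
      refine sSup_le fun B hB => ?_
      rw [Subgroup.le_centralizer_iff]
      intro x hx
      haveI := hB.1.1
      exact Subgroup.mem_centralizer_iff.2 fun a ha => congrArg Subtype.val (mul_comm' (⟨a, ha⟩ : B) ⟨x, (sInf_le hB : sInf _ ≤ B) hx⟩)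
    exact fun x hx => this hx
  have h1 : Cfsg.omegaOne p (Subgroup.centralizer (J : Set S)) ≤ sInf (Cfsg.maxElementaryAbelianSubgroups p S) := by
    refine (Subgroup.closure_le _).2 fun x hx => ?_
    refine (le_sInf fun B hB => ?_ : Subgroup.zpowers x ≤ sInf (Cfsg.maxElementaryAbelianSubgroups p S)) (Subgroup.mem_zpowers x)
    exact Subgroup.zpowers_le.2 (mem_of_max_of_commute hB hx.2 (fun a ha => (Subgroup.mem_centralizer_iff.1 hx.1) a ((le_sSup hB : B ≤ J) ha)))
  have h2 : sInf (Cfsg.maxElementaryAbelianSubgroups p S) ≤ Cfsg.omegaCenterThompson p S := fun x hx =>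
    Subgroup.subset_closure ⟨⟨(le_sSup hA : A ≤ J) ((sInf_le hA : sInf _ ≤ A) hx), hc x hx⟩, hA.1.2 x ((sInf_le hA : sInf _ ≤ A) hx)⟩
  have h3 : Cfsg.omegaCenterThompson p S ≤ Cfsg.omegaOne p (Subgroup.centralizer (J : Set S)) :=
    Subgroup.closure_mono fun x hx => ⟨hx.1.2, hx.2⟩
  exact ⟨le_antisymm h2 (h3.trans h1), le_antisymm h3 (h1.trans h2)⟩

end Cfsg.Agent.S0655
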