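import Cfsg.Statements.S0662
import Mathlib

set_option autoImplicit false
open Cfsg

namespace Cfsg.Agent.S0662

section
variable {H : Type*} [Group H]

theorem lcs_class [Group.IsNilpotent H] : (⊤ : Subgroup H).lowerCentralSeries (Group.nilpotencyClass H) = ⊥ :=
  lowerCentralSeries_nilpotencyClass

theorem lcs_le_class [Group.IsNilpotent H] {k : ℕ} (h : (⊤ : Subgroup H).lowerCentralSeries k = ⊥) :
    Group.nilpotencyClass H ≤ k := by
  classical
  rw [← Subgroup.lowerCentralSeries_length_eq_nilpotencyClass]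
  classical exact Nat.find_le h

theorem lcs_strict [Group.IsNilpotent H] {j : ℕ} (h : (⊤ : Subgroup H).lowerCentralSeries j ≠ ⊥) :
    (⊤ : Subgroup H).lowerCentralSeries (j + 1) < (⊤ : Subgroup H).lowerCentralSeries j := by
  refine lt_of_le_of_ne (Subgroup.lowerCentralSeries_antitone _ (Nat.le_succ j)) fun e => h ?_
  have hst : ∀ i, (⊤ : Subgroup H).lowerCentralSeries (j + i) = (⊤ : Subgroup H).lowerCentralSeries j := by
    intro i
    induction i with
    | zero => rfl
    | succ i ih => rw [← Nat.add_assoc, Subgroup.lowerCentralSeries_succ, ih, ← Subgroup.lowerCentralSeries_succ, e]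
  refine le_bot_iff.mp ?_
  rw [← hst (Group.nilpotencyClass H), ← lcs_class (H := H)]
  exact Subgroup.lowerCentralSeries_antitone _ (Nat.le_add_left _ _)

theorem index_strict [Finite H] {p : ℕ} [Fact p.Prime] (hH : IsPGroup p H) (k m : ℕ) (hkm : k ≤ m)
    (hne : ∀ j, k ≤ j → j < m → (⊤ : Subgroup H).lowerCentralSeries j ≠ ⊥) :
    ∃ b, ((⊤ : Subgroup H).lowerCentralSeries m).index = ((⊤ : Subgroup H).lowerCentralSeries k).index * p ^ b ∧ m - k ≤ b := by
  have : Group.IsNilpotent H := hH.isNilpotent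
  induction m, hkm using Nat.le_induction with
  | base => exact ⟨0, by simp, by simp⟩
  | succ m hm ih =>
    obtain ⟨b, hb, hb'⟩ := ih fun j h1 h2 => hne j h1 (by omega)
    have hlt := lcs_strict (hne m hm (by omega))
    obtain ⟨c, hc⟩ : ∃ c, ((⊤ : Subgroup H).lowerCentralSeries (m + 1)).relIndex ((⊤ : Subgroup H).lowerCentralSeries m) = p ^ c := by
      obtain ⟨k', hk'⟩ := IsPGroup.iff_card.mp (hH.to_subgroup ((⊤ : Subgroup H).lowerCentralSeries m))
      obtain ⟨c, -, hc⟩ := (Nat.dvd_prime_pow (Fact.out : p.Prime)).mp (hk' ▸ Subgroup.relIndex_dvd_card _ _)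
      exact ⟨c, hc⟩
    have hc0 : c ≠ 0 := fun h => hlt.not_ge (Subgroup.relIndex_eq_one.mp (by rw [hc, h, pow_zero]))
    refine ⟨b + c, ?_, by omega⟩
    rw [← Subgroup.relIndex_mul_index hlt.le, hc, hb, pow_add]; ring

theorem lcs_one_eq_bot_of_cyclic [Group.IsNilpotent H] (h : IsCyclic (H ⧸ (⊤ : Subgroup H).lowerCentralSeries 1)) :
    (⊤ : Subgroup H).lowerCentralSeries 1 = ⊥ := by
  set M := (⊤ : Subgroup H).lowerCentralSeries 1 with hM
  obtain ⟨g, hg⟩ := IsCyclic.exists_generator (α := H ⧸ M)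
  obtain ⟨g, rfl⟩ := QuotientGroup.mk'_surjective M g
  have key : M ≤ (⊤ : Subgroup H).lowerCentralSeries 2 := by
    set M2 := (⊤ : Subgroup H).lowerCentralSeries 2 with hM2
    have hab : ∀ a b : H ⧸ M2, a * b = b * a := by
      intro a b
      obtain ⟨a, rfl⟩ := QuotientGroup.mk'_surjective M2 a
      obtain ⟨b, rfl⟩ := QuotientGroup.mk'_surjective M2 b
      have hcen : ∀ m ∈ M, ∀ x : H, Commute (QuotientGroup.mk' M2 m) (QuotientGroup.mk' M2 x) := fun m hm x => by
        rw [← commutatorElement_eq_one_iff_commute, ← map_commutatorElement, ← MonoidHom.mem_ker, QuotientGroup.ker_mk', hM2,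
          Subgroup.lowerCentralSeries_succ]
        exact Subgroup.commutator_mem_commutator hm trivial
      have hdec : ∀ x : H, ∃ i : ℤ, ∃ m ∈ M, x = g ^ i * m := fun x => by
        obtain ⟨i, hi⟩ := hg (QuotientGroup.mk' M x)
        exact ⟨i, (g ^ i)⁻¹ * x, QuotientGroup.eq.mp hi, by group⟩
      obtain ⟨i, m, hm, rfl⟩ := hdec a
      obtain ⟨j, m', hm', rfl⟩ := hdec b
      simp only [map_mul]
      have c1 : Commute (QuotientGroup.mk' M2 (g ^ i)) (QuotientGroup.mk' M2 (g ^ j)) :=
        ((Commute.refl g).zpow_zpow i j).map _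
      exact (c1.mul_right (hcen m' hm' _).symm).mul_left ((hcen m hm _).mul_right (hcen m hm _))
    rw [hM, Subgroup.lowerCentralSeries_succ, Subgroup.commutator_le]
    intro a _ b _
    rw [← QuotientGroup.ker_mk' M2, MonoidHom.mem_ker, map_commutatorElement, commutatorElement_eq_one_iff_mul_comm]
    exact hab _ _
  by_contra hne
  exact (lcs_strict hne).not_ge key

theorem index_lower [Finite H] {p : ℕ} [Fact p.Prime] (hH : IsPGroup p H) {k : ℕ} (hk : 1 ≤ k)
    (hne : (⊤ : Subgroup H).lowerCentralSeries (k - 1) ≠ ⊥)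
    (hcy : ¬ IsCyclic (H ⧸ (⊤ : Subgroup H).lowerCentralSeries 1)) :
    ∃ a, ((⊤ : Subgroup H).lowerCentralSeries k).index = p ^ a ∧ k + 1 ≤ a := by
  have : Group.IsNilpotent H := hH.isNilpotent
  have hne' : ∀ j, j ≤ k - 1 → (⊤ : Subgroup H).lowerCentralSeries j ≠ ⊥ := fun j hj h =>
    hne (le_bot_iff.mp (h ▸ Subgroup.lowerCentralSeries_antitone _ hj))
  obtain ⟨b, hb, hb'⟩ := index_strict hH 1 k hk fun j h1 h2 => hne' j (by omega)
  obtain ⟨c, hc⟩ := IsPGroup.iff_card.mp (hH.to_quotient ((⊤ : Subgroup H).lowerCentralSeries 1))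
  rw [← Subgroup.index_eq_card] at hc
  have hp := (Fact.out : p.Prime)
  have hnc : ¬ IsCyclic (H ⧸ (⊤ : Subgroup H).lowerCentralSeries 1) → 2 ≤ c := by
    intro hn
    by_contra hlt
    push Not at hlt
    interval_cases c
    · have : Subsingleton (H ⧸ (⊤ : Subgroup H).lowerCentralSeries 1) :=
        (Nat.card_eq_one_iff_unique.mp (by rw [← Subgroup.index_eq_card, hc, pow_zero])).1
      exact hn inferInstance
    · exact hn (isCyclic_of_prime_card (p := p) (by rw [← Subgroup.index_eq_card, hc, pow_one]))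
  refine ⟨c + b, by rw [hb, hc, pow_add], ?_⟩
  have := hnc hcy
  omega

theorem lcs_quotient_bot [Finite H] {p : ℕ} [Fact p.Prime] {r : ℕ} (hr : 2 ≤ r) (hH : Nat.card H = p ^ r) :
    (⊤ : Subgroup H).lowerCentralSeries (r - 1) = ⊥ := by
  have hPH : IsPGroup p H := IsPGroup.of_card hH
  have : Group.IsNilpotent H := hPH.isNilpotent
  by_contra hne
  have hcy : ¬ IsCyclic (H ⧸ (⊤ : Subgroup H).lowerCentralSeries 1) := fun h => hne (le_bot_iff.mp
    (lcs_one_eq_bot_of_cyclic h ▸ Subgroup.lowerCentralSeries_antitone _ (show 1 ≤ r - 1 by omega)))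
  obtain ⟨a, ha, hle⟩ := index_lower hPH (k := r) (by omega) hne hcy
  have := (Nat.pow_dvd_pow_iff_le_right (Fact.out : p.Prime).one_lt).mp (ha ▸ hH ▸ Subgroup.index_dvd_card _)
  omega

theorem count_subgroups_order_p [Finite H] {p : ℕ} [Fact p.Prime] (hH : Nat.card H = p ^ 2) (hnc : ¬ IsCyclic H) :
    Nat.card {K : Subgroup H // Nat.card K = p} = p + 1 := by
  classical
  have hp := (Fact.out : p.Prime)
  have hord : ∀ x : H, x ≠ 1 → orderOf x = p := by
    intro x hx
    obtain ⟨i, hi, hx'⟩ := (Nat.dvd_prime_pow hp).mp (hH ▸ orderOf_dvd_natCard x)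
    interval_cases i
    · exact absurd (orderOf_eq_one_iff.mp (by rwa [pow_zero] at hx')) hx
    · rwa [pow_one] at hx'
    · exact absurd (isCyclic_of_orderOf_eq_card x (by rw [hx', hH])) hnc
  let f : {x : H // x ≠ 1} → {K : Subgroup H // Nat.card K = p} := fun x =>
    ⟨Subgroup.zpowers x.1, by rw [Nat.card_zpowers, hord _ x.2]⟩
  have hfib : ∀ K, Nat.card {x // f x = K} = p - 1 := by
    intro K
    have e : {x // f x = K} ≃ {y : K.1 // y ≠ 1} :=
      { toFun := fun x => ⟨⟨x.1.1, by
          have := congrArg Subtype.val x.2; rw [← this]; exact Subgroup.mem_zpowers _⟩,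
          fun h => x.1.2 (congrArg Subtype.val h)⟩
        invFun := fun y => ⟨⟨y.1.1, fun h => y.2 (Subtype.ext h)⟩, Subtype.ext (by
          refine Subgroup.eq_of_le_of_card_ge (Subgroup.zpowers_le.mpr y.1.2) ?_
          rw [K.2, Nat.card_zpowers, hord _ fun h => y.2 (Subtype.ext h)])⟩
        left_inv := fun x => rfl
        right_inv := fun y => rfl }
    have : Fintype K.1 := Fintype.ofFinite _
    rw [Nat.card_congr e, Nat.card_eq_fintype_card, Fintype.card_subtype_compl, Fintype.card_subtype_eq,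
      ← Nat.card_eq_fintype_card, K.2]
  have hsum : Nat.card {x : H // x ≠ 1} = Nat.card {K : Subgroup H // Nat.card K = p} * (p - 1) := by
    have : Fintype {K : Subgroup H // Nat.card K = p} := Fintype.ofFinite _
    rw [← Nat.card_congr (Equiv.sigmaFiberEquiv f), Nat.card_sigma, Finset.sum_congr rfl fun K _ => hfib K,
      Finset.sum_const, smul_eq_mul, Finset.card_univ, Nat.card_eq_fintype_card]
  have : Fintype H := Fintype.ofFinite _
  rw [Nat.card_eq_fintype_card (α := {x : H // x ≠ 1}), Fintype.card_subtype_compl, Fintype.card_subtype_eq,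
    ← Nat.card_eq_fintype_card, hH] at hsum
  have h1 : p ^ 2 - 1 = (p + 1) * (p - 1) := by simpa using Nat.sq_sub_sq p 1
  rw [h1] at hsum
  exact (Nat.eq_of_mul_eq_mul_right (by have := hp.two_le; omega) hsum).symm

end

/-- In a p-group of maximal class of order at least p³ the normal subgroups of index at least p² are exactly the terms of the lower central series, and there are exactly p + 1 normal subgroups of index p. -/
theorem result {G : Type*} [Group G] [Finite G] {p : ℕ} [Fact p.Prime] (n : ℕ) (hG : Nat.card G = p ^ n) (hcl : Group.nilpotencyClass G = n - 1) (hn : 3 ≤ n) : (∀ (N : Subgroup G) [N.Normal] (r : ℕ), 2 ≤ r → N.index = p ^ r → N = (⊤ : Subgroup G).lowerCentralSeries (r - 1)) ∧ Nat.card {N : Subgroup G // N.Normal ∧ N.index = p} = p + 1 := by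
  classical
  have hp := (Fact.out : p.Prime)
  have hPG : IsPGroup p G := IsPGroup.of_card hG
  have hnilG : Group.IsNilpotent G := hPG.isNilpotent
  have hlast : (⊤ : Subgroup G).lowerCentralSeries (n - 1) = ⊥ := hcl ▸ lcs_class
  have hne : (⊤ : Subgroup G).lowerCentralSeries (n - 2) ≠ ⊥ := fun h => by
    have := lcs_le_class h
    omega
  have hidx : ∀ k, 1 ≤ k → k ≤ n - 1 → ((⊤ : Subgroup G).lowerCentralSeries k).index = p ^ (k + 1) := by
    intro k hk1 hk2
    have hnt : (⊤ : Subgroup G).lowerCentralSeries (k - 1) ≠ ⊥ := fun h => hne (le_bot_iff.mp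
      (h ▸ Subgroup.lowerCentralSeries_antitone _ (show k - 1 ≤ n - 2 by omega)))
    obtain ⟨a, ha, hka⟩ := index_lower hPG hk1 hnt fun h => hne (le_bot_iff.mp
      (lcs_one_eq_bot_of_cyclic h ▸ Subgroup.lowerCentralSeries_antitone _ (show 1 ≤ n - 2 by omega)))
    obtain ⟨b, hb, hkb⟩ := index_strict hPG k (n - 1) hk2 (fun j hj1 hj2 h => hne (le_bot_iff.mp
      (h ▸ Subgroup.lowerCentralSeries_antitone _ (show j ≤ n - 2 by omega))))
    rw [hlast, Subgroup.index_bot, hG, ha, ← pow_add] at hb
    have := Nat.pow_right_injective hp.two_le hb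
    rw [ha]
    congr 1
    omega
  refine ⟨fun N _ r hr hN => ?_, ?_⟩
  · have hQ : Nat.card (G ⧸ N) = p ^ r := by rw [← Subgroup.index_eq_card, hN]
    have hrn : r ≤ n := (Nat.pow_dvd_pow_iff_le_right hp.one_lt).mp (by rw [← hN, ← hG]; exact N.index_dvd_card)
    have hle : (⊤ : Subgroup G).lowerCentralSeries (r - 1) ≤ N := by
      have h1 := Subgroup.map_lowerCentralSeries (S := (⊤ : Subgroup G)) (QuotientGroup.mk' N) (r - 1)
      rw [Subgroup.map_top_of_surjective _ (QuotientGroup.mk'_surjective N), lcs_quotient_bot (p := p) hr hQ,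
        Subgroup.map_eq_bot_iff, QuotientGroup.ker_mk'] at h1
      exact h1
    refine (Subgroup.eq_of_le_of_card_ge hle ?_).symm
    have e1 := N.card_mul_index
    have e2 := ((⊤ : Subgroup G).lowerCentralSeries (r - 1)).card_mul_index
    rw [hN] at e1
    rw [hidx (r - 1) (by omega) (by omega), Nat.sub_add_cancel (by omega : 1 ≤ r)] at e2
    exact le_of_eq (Nat.eq_of_mul_eq_mul_right (pow_pos hp.pos r) (e1.trans e2.symm))
  · set M := (⊤ : Subgroup G).lowerCentralSeries 1 with hM
    have hMn : M.Normal := inferInstance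
    have hMidx : M.index = p ^ 2 := hidx 1 le_rfl (by omega)
    have hQ : Nat.card (G ⧸ M) = p ^ 2 := by rw [← Subgroup.index_eq_card, hMidx]
    have hnc : ¬ IsCyclic (G ⧸ M) := fun h => hne (le_bot_iff.mp
      (lcs_one_eq_bot_of_cyclic (H := G) h ▸ Subgroup.lowerCentralSeries_antitone _ (show 1 ≤ n - 2 by omega)))
    rw [← count_subgroups_order_p hQ hnc]
    have hsurj := QuotientGroup.mk'_surjective M
    have hMle : ∀ N : Subgroup G, N.Normal → N.index = p → M ≤ N := by
      intro N hN hNi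
      rw [hM, Subgroup.top_lowerCentralSeries_one, Subgroup.Normal.quotient_commutative_iff_commutator_le.symm]
      have : IsCyclic (G ⧸ N) := isCyclic_of_prime_card (p := p) (by rw [← Subgroup.index_eq_card, hNi])
      refine ⟨⟨fun a b => ?_⟩⟩
      show a * b = b * a
      exact by
        obtain ⟨g, hg⟩ := IsCyclic.exists_generator (α := G ⧸ N)
        obtain ⟨i, rfl⟩ := hg a
        obtain ⟨j, rfl⟩ := hg b
        exact (Commute.refl g).zpow_zpow i j
    have hcardmap : ∀ K : Subgroup (G ⧸ M), (K.comap (QuotientGroup.mk' M)).index * Nat.card K = p ^ 2 := by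
      intro K
      rw [Subgroup.index_comap_of_surjective K hsurj, mul_comm, K.card_mul_index, hQ]
    refine Nat.card_congr
      { toFun := fun N => ⟨N.1.map (QuotientGroup.mk' M), ?_⟩
        invFun := fun K => ⟨K.1.comap (QuotientGroup.mk' M), ?_, ?_⟩
        left_inv := fun N => Subtype.ext ?_
        right_inv := fun K => Subtype.ext (Subgroup.map_comap_eq_self_of_surjective hsurj _) }
    · have h := hcardmap (N.1.map (QuotientGroup.mk' M))
      rw [Subgroup.comap_map_eq_self (by rw [QuotientGroup.ker_mk']; exact hMle _ N.2.1 N.2.2), N.2.2, pow_two] at h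
      exact Nat.eq_of_mul_eq_mul_left hp.pos h
    · have hKn : (K.1).Normal := by
        have : IsMulCommutative (G ⧸ M) := by
          rw [Subgroup.Normal.quotient_commutative_iff_commutator_le] at *
          exact (Subgroup.top_lowerCentralSeries_one (G := G)).ge
        exact Subgroup.normal_of_comm _
      exact hKn.comap _
    · have h := hcardmap K.1
      rw [K.2, pow_two] at h
      exact Nat.eq_of_mul_eq_mul_right hp.pos h
    · exact Subgroup.comap_map_eq_self (by rw [QuotientGroup.ker_mk']; exact hMle _ N.2.1 N.2.2)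

end Cfsg.Agent.S0662
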