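import Cfsg.Statements.S5913
import Mathlib

set_option autoImplicit false
open Cfsg

namespace Cfsg.Agent.S5913

/-- Let S be a non-abelian simple group and n a natural number. Every normal subgroup N of the direct power S^n (functions Fin n → S) is a subproduct: there is a set T of coordinates such that N consists exactly of the elements whose coordinates outside T are trivial. In particular the minimal normal subgroups of S^n are its n factors. -/
theorem result {S : Type*} [Group S] [IsSimpleGroup S] (hS : ¬ IsMulCommutative S) (n : ℕ)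
    (N : Subgroup (Fin n → S)) [N.Normal] :
    ∃ T : Finset (Fin n), ∀ x : Fin n → S, x ∈ N ↔ ∀ i, i ∉ T → x i = 1 := by
  classical
  refine ⟨Finset.univ.filter fun i => ∃ x ∈ N, x i ≠ 1, fun x => ⟨fun hx i hi => ?_, fun hx => ?_⟩⟩
  · by_contra h
    exact hi (Finset.mem_filter.2 ⟨Finset.mem_univ i, x, hx, h⟩)
  have key : ∀ i, (∃ y ∈ N, y i ≠ 1) → ∀ s : S, Pi.mulSingle i s ∈ N := by
    rintro i ⟨y, hy, hyi⟩
    set A := N.comap (MonoidHom.mulSingle (fun _ : Fin n => S) i) with hA
    have hAn : A.Normal := Subgroup.Normal.comap ‹_› _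
    have hAne : A ≠ ⊥ := by
      obtain ⟨s, hs⟩ : ∃ s : S, y i * s * (y i)⁻¹ * s⁻¹ ≠ 1 := by
        by_contra hc
        push Not at hc
        have hz : y i ∈ Subgroup.center S := Subgroup.mem_center_iff.2 fun s => by
          have h1 := hc s
          rw [mul_inv_eq_one, mul_inv_eq_iff_eq_mul] at h1
          exact h1.symm
        rcases (Subgroup.instNormalCenter (G := S)).eq_bot_or_eq_top with h | h
        · rw [h, Subgroup.mem_bot] at hz; exact hyi hz
        · exact hS ⟨⟨fun a b => (Subgroup.mem_center_iff.1 (h ▸ Subgroup.mem_top a) b).symm⟩⟩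
      intro hbot
      apply hs
      have hm : y * Pi.mulSingle i s * y⁻¹ * (Pi.mulSingle i s)⁻¹ ∈ N := by
        rw [mul_assoc, mul_assoc]
        refine N.mul_mem hy ?_
        rw [← mul_assoc]
        exact ‹N.Normal›.conj_mem _ (N.inv_mem hy) _
      have e : y * Pi.mulSingle i s * y⁻¹ * (Pi.mulSingle i s)⁻¹ = Pi.mulSingle i (y i * s * (y i)⁻¹ * s⁻¹) := by
        ext j
        by_cases hj : j = i
        · subst hj; simp
        · simp [hj]
      have : y i * s * (y i)⁻¹ * s⁻¹ ∈ A := by
        rw [hA, Subgroup.mem_comap, MonoidHom.mulSingle_apply, ← e]; exact hm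
      rwa [hbot, Subgroup.mem_bot] at this
    intro s
    have : s ∈ A := (hAn.eq_bot_or_eq_top.resolve_left hAne) ▸ Subgroup.mem_top s
    exact this
  refine Subgroup.pi_mem_of_mulSingle_mem x fun i => ?_
  by_cases hi : i ∈ Finset.univ.filter fun i => ∃ y ∈ N, y i ≠ 1
  · exact key i (Finset.mem_filter.1 hi).2 _
  · rw [hx i hi, Pi.mulSingle_one]; exact one_mem _

end Cfsg.Agent.S5913
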