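import Cfsg.Statements.S5914
import Mathlib
import Cfsg.Agent.S5913

set_option autoImplicit false
open Cfsg

namespace Cfsg.Agent.S5914

private theorem char_simple_pow {S : Type} [Group S] [IsSimpleGroup S] (n : ℕ)
    (H : Subgroup (Fin n → S)) (hH : ∀ e : (Fin n → S) ≃* (Fin n → S), ∀ x ∈ H, e x ∈ H) : H = ⊥ ∨ H = ⊤ := by
  classical
  by_cases hS : IsMulCommutative S
  · by_cases hbot : H = ⊥
    · exact Or.inl hbot
    obtain ⟨x, hx, hx1⟩ := (Subgroup.bot_or_exists_ne_one H).resolve_left hbot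
    obtain ⟨i, hi⟩ := Function.ne_iff.1 hx1
    have hcomm : ∀ a b : S, a * b = b * a := fun a b => hS.is_comm.comm a b
    have hgen : ∀ a : S, a ≠ 1 → Subgroup.zpowers a = ⊤ := fun a ha => by
      have hn : (Subgroup.zpowers a).Normal := ⟨fun y hy g => by rwa [hcomm g y, mul_inv_cancel_right]⟩
      exact hn.eq_bot_or_eq_top.resolve_left fun h => ha (Subgroup.zpowers_eq_bot.1 h)
    have key : ∀ (y : Fin n → S), y ∈ H → ∀ a b : Fin n, a ≠ b → y a ≠ 1 → ∀ s, Pi.mulSingle b s ∈ H := by
      intro y hy a b hab hya s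
      let e : (Fin n → S) ≃* (Fin n → S) :=
        { toFun := fun z => z * Pi.mulSingle b (z a)
          invFun := fun z => z * Pi.mulSingle b (z a)⁻¹
          left_inv := fun z => by
            ext c; by_cases hc : c = b
            · subst hc; simp [hab]
            · simp [hc, hab]
          right_inv := fun z => by
            ext c; by_cases hc : c = b
            · subst hc; simp [hab]
            · simp [hc, hab]
          map_mul' := fun z w => by
            ext c; by_cases hc : c = b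
            · subst hc
              simp only [Pi.mul_apply, Pi.mulSingle_eq_same]
              rw [mul_assoc (z c), ← mul_assoc (w c), hcomm (w c) (z a)]; group
            · simp [hc] }
      have h1 : Pi.mulSingle b (y a) ∈ H := by
        have := mul_mem (inv_mem hy) (hH e y hy)
        rwa [show y⁻¹ * e y = Pi.mulSingle b (y a) from inv_mul_cancel_left y _] at this
      obtain ⟨k, rfl⟩ := Subgroup.mem_zpowers_iff.1 (hgen _ hya ▸ Subgroup.mem_top s : s ∈ Subgroup.zpowers (y a))
      rw [← MonoidHom.mulSingle_apply, map_zpow]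
      exact zpow_mem h1 k
    refine Or.inr ((Subgroup.eq_top_iff' H).2 fun z => Subgroup.pi_mem_of_mulSingle_mem z fun j => ?_)
    by_cases hj : i = j
    · subst hj
      by_cases h2 : ∃ c : Fin n, c ≠ i
      · obtain ⟨c, hc⟩ := h2
        exact key _ (key x hx i c (Ne.symm hc) hi (x i)) c i hc (by simpa using hi) _
      · push Not at h2
        obtain ⟨k, hk⟩ := Subgroup.mem_zpowers_iff.1 (hgen _ hi ▸ Subgroup.mem_top (z i) : z i ∈ Subgroup.zpowers (x i))
        convert zpow_mem hx k using 1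
        ext c
        rw [h2 c, Pi.mulSingle_eq_same, ← hk]
        rfl
    · exact key x hx i j hj hi _
  · haveI : H.Normal := ⟨fun y hy g => hH (MulAut.conj g) y hy⟩
    obtain ⟨T, hT⟩ := Cfsg.Agent.S5913.result hS n H
    obtain ⟨a, ha⟩ := exists_ne (1 : S)
    rcases T.eq_empty_or_nonempty with hT0 | ⟨i, hi⟩
    · refine Or.inl ((Subgroup.eq_bot_iff_forall _).2 fun y hy => funext fun i => (hT y).1 hy i (by simp [hT0]))
    · have hall : ∀ j, j ∈ T := by
        intro j
        by_contra hj
        let e : (Fin n → S) ≃* (Fin n → S) :=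
          { toEquiv := Equiv.arrowCongr (Equiv.swap i j) (Equiv.refl S)
            map_mul' := fun _ _ => rfl }
        have h1 : Pi.mulSingle i a ∈ H := (hT _).2 fun k hk => by simp [show k ≠ i from fun h => hk (h ▸ hi)]
        have h2 := (hT _).1 (hH e _ h1) j hj
        simp [e, Equiv.arrowCongr] at h2
        exact ha h2
      exact Or.inr ((Subgroup.eq_top_iff' H).2 fun y => (hT y).2 fun k hk => absurd (hall k) hk)

private theorem exists_decomp {G : Type*} [Group G] [Finite G] (N : Subgroup G) (hN : N.Normal)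
    (hmin : ∀ K : Subgroup G, K.Normal → K ≤ N → K = ⊥ ∨ K = N) (hN1 : N ≠ ⊥)
    (hchar : ∀ H : Subgroup G, H.Characteristic → H = ⊥ ∨ H = ⊤) :
    ∀ (d k : ℕ) (Φ : (Fin k → N) →* G), Function.Injective Φ → Φ.range.Normal →
      (∀ i, ∃ φ : MulAut G, ∀ x : N, Φ (Pi.mulSingle i x) = φ x) → Nat.card G - Nat.card Φ.range ≤ d →
      ∃ (k' : ℕ) (Ψ : (Fin k' → N) →* G), Function.Bijective Ψ ∧
        ∀ i, ∃ φ : MulAut G, ∀ x : N, Ψ (Pi.mulSingle i x) = φ x := by
  intro d
  induction d with
  | zero =>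
    intro k Φ hinj _ hi hd
    refine ⟨k, Φ, ⟨hinj, ?_⟩, hi⟩
    rw [← MonoidHom.range_eq_top]
    exact Subgroup.eq_top_of_card_eq _ (le_antisymm (Subgroup.card_le_card_group _) (by omega))
  | succ d ih =>
    intro k Φ hinj hnorm hi hd
    by_cases htop : Φ.range = ⊤
    · exact ⟨k, Φ, ⟨hinj, MonoidHom.range_eq_top.1 htop⟩, hi⟩
    obtain ⟨φ, hφ⟩ : ∃ φ : MulAut G, ¬ N.map φ.toMonoidHom ≤ Φ.range := by
      by_contra hc
      push Not at hc
      have hch : (⨆ φ : MulAut G, N.map φ.toMonoidHom).Characteristic := by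
        rw [Subgroup.characteristic_iff_map_le]
        intro ψ
        rw [Subgroup.map_iSup]
        refine iSup_le fun φ => ?_
        rw [Subgroup.map_map]
        exact le_iSup_of_le (φ.trans ψ) le_rfl
      rcases hchar _ hch with h | h
      · have := le_iSup (fun φ : MulAut G => N.map φ.toMonoidHom) (MulEquiv.refl G)
        rw [h, le_bot_iff, Subgroup.map_eq_bot_iff_of_injective _ (MulEquiv.injective _)] at this
        exact hN1 this
      · exact htop (top_le_iff.1 (h ▸ iSup_le hc))
    have hMn : (N.map φ.toMonoidHom).Normal := Subgroup.Normal.map hN _ φ.surjective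
    have hdis : Disjoint Φ.range (N.map φ.toMonoidHom) := by
      have hK : (Φ.range ⊓ N.map φ.toMonoidHom).comap φ.toMonoidHom ≤ N := by
        intro x hx
        obtain ⟨y, hy, hxy⟩ := (Subgroup.mem_inf.1 hx).2
        exact φ.injective hxy ▸ hy
      rcases hmin _ ((Subgroup.normal_inf_normal Φ.range (N.map φ.toMonoidHom)).comap _) hK with h | h
      · rw [disjoint_iff, Subgroup.eq_bot_iff_forall]
        intro x hx
        have : φ.symm x ∈ (Φ.range ⊓ N.map φ.toMonoidHom).comap φ.toMonoidHom := by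
          rw [Subgroup.mem_comap]; simpa using hx
        rw [h, Subgroup.mem_bot] at this
        simpa using congrArg φ this
      · exfalso
        apply hφ
        rintro _ ⟨x, hx, rfl⟩
        have : x ∈ (Φ.range ⊓ N.map φ.toMonoidHom).comap φ.toMonoidHom := h.symm ▸ hx
        exact (Subgroup.mem_inf.1 this).1
    have hcomm : ∀ (x : Fin k → N) (y : N), Commute (Φ x) (φ y) := fun x y =>
      Subgroup.commute_of_normal_of_disjoint _ _ hnorm hMn hdis _ _ ⟨x, rfl⟩ ⟨y, y.2, rfl⟩
    let Ψ : (Fin (k + 1) → N) →* G :=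
      { toFun := fun x => Φ (fun i => x i.succ) * φ (x 0 : G)
        map_one' := by
          rw [show (fun i : Fin k => (1 : Fin (k + 1) → N) i.succ) = 1 from rfl, map_one, one_mul, Pi.one_apply,
            OneMemClass.coe_one, map_one]
        map_mul' := fun x y => by
          rw [show (fun i : Fin k => (x * y) i.succ) = (fun i => x i.succ) * (fun i => y i.succ) from rfl, map_mul,
            Pi.mul_apply, Subgroup.coe_mul, map_mul]
          exact (hcomm _ _).mul_mul_mul_comm _ _ }
    have hΨinj : Function.Injective Ψ := by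
      rw [injective_iff_map_eq_one]
      intro x hx
      have h1 : Φ (fun i => x i.succ) ∈ Φ.range ⊓ N.map φ.toMonoidHom := ⟨⟨_, rfl⟩,
        (mul_eq_one_iff_eq_inv.1 hx) ▸ (N.map φ.toMonoidHom).inv_mem ⟨_, (x 0).2, rfl⟩⟩
      rw [hdis.eq_bot, Subgroup.mem_bot] at h1
      have h2 : φ (x 0 : G) = 1 := by rwa [MonoidHom.coe_mk, OneHom.coe_mk, h1, one_mul] at hx
      have h3 := hinj (h1.trans (map_one Φ).symm)
      funext i
      induction i using Fin.cases with
      | zero => exact Subtype.ext (φ.injective (h2.trans (map_one φ).symm))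
      | succ i => exact congrFun h3 i
    have hrange : Ψ.range = Φ.range ⊔ N.map φ.toMonoidHom := by
      refine le_antisymm ?_ (sup_le ?_ ?_)
      · rintro _ ⟨x, rfl⟩
        exact mul_mem (Subgroup.mem_sup_left ⟨_, rfl⟩) (Subgroup.mem_sup_right ⟨_, (x 0).2, rfl⟩)
      · rintro _ ⟨x, rfl⟩
        exact ⟨Fin.cons 1 x, by simp [Ψ]⟩
      · rintro _ ⟨x, hx, rfl⟩
        refine ⟨Fin.cons ⟨x, hx⟩ 1, ?_⟩
        show Φ (fun i => (Fin.cons (α := fun _ => N) ⟨x, hx⟩ (1 : Fin k → N)) i.succ) * φ (Fin.cons (α := fun _ => N) ⟨x, hx⟩ (1 : Fin k → N) 0 : N) = φ x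
        simp only [Fin.cons_succ, Fin.cons_zero]
        rw [show (fun i => (1 : Fin k → N) i) = 1 from rfl, map_one, one_mul]
    have hlt : Nat.card Φ.range < Nat.card Ψ.range := by
      refine Nat.lt_of_le_of_ne (Subgroup.card_le_of_le (hrange ▸ le_sup_left)) fun h => hφ ?_
      have := Subgroup.eq_of_le_of_card_ge (hrange ▸ le_sup_left : Φ.range ≤ Ψ.range) h.ge
      rw [this, hrange]; exact le_sup_right
    refine ih (k + 1) Ψ hΨinj (hrange ▸ Subgroup.sup_normal _ _) ?_ ?_
    · intro i
      induction i using Fin.cases with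
      | zero =>
        refine ⟨φ, fun x => ?_⟩
        show Φ (fun i => Pi.mulSingle (M := fun _ : Fin (k + 1) => N) 0 x i.succ) * φ (Pi.mulSingle (M := fun _ : Fin (k + 1) => N) 0 x 0 : N) = φ x
        rw [show (fun i : Fin k => Pi.mulSingle (M := fun _ : Fin (k + 1) => N) 0 x i.succ) = 1 by
          funext i; simp [Fin.succ_ne_zero i], map_one, one_mul, Pi.mulSingle_eq_same]
      | succ i =>
        obtain ⟨ψ, hψ⟩ := hi i
        refine ⟨ψ, fun x => ?_⟩
        show Φ (fun j => Pi.mulSingle (M := fun _ : Fin (k + 1) => N) i.succ x j.succ) * φ (Pi.mulSingle (M := fun _ : Fin (k + 1) => N) i.succ x 0 : N) = ψ x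
        rw [show (fun j : Fin k => Pi.mulSingle (M := fun _ : Fin (k + 1) => N) i.succ x j.succ) = Pi.mulSingle i x by
          funext j; by_cases h : j = i
          · subst h; simp
          · simp [h], hψ]
        simp [(Fin.succ_ne_zero i).symm]
    · have := Subgroup.card_le_card_group Ψ.range
      omega

/-- A non-trivial finite group G is characteristically simple (its only characteristic subgroups are 1 and G) if and only if G is isomorphic to a direct power S^n (n ≥ 1) of some simple group S (possibly cyclic of prime order). -/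
theorem result {G : Type*} [Group G] [Finite G] [Nontrivial G] :
    (∀ H : Subgroup G, H.Characteristic → H = ⊥ ∨ H = ⊤) ↔
    ∃ (S : Type) (_ : Group S) (_ : IsSimpleGroup S) (n : ℕ), 1 ≤ n ∧ Nonempty (G ≃* (Fin n → S)) := by
  constructor
  · intro hchar
    obtain ⟨N, ⟨hN, hN1⟩, hmin⟩ := wellFounded_lt.has_min {H : Subgroup G | H.Normal ∧ H ≠ ⊥} ⟨⊤, inferInstance, top_ne_bot⟩
    have hmin' : ∀ K : Subgroup G, K.Normal → K ≤ N → K = ⊥ ∨ K = N := fun K hK hle =>
      Classical.byContradiction fun h => by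
        push Not at h
        exact hmin K ⟨hK, h.1⟩ (lt_of_le_of_ne hle h.2)
    have h0r : (1 : (Fin 0 → N) →* G).range = ⊥ :=
      (Subgroup.eq_bot_iff_forall _).2 (by rintro _ ⟨y, rfl⟩; rfl)
    obtain ⟨k, Ψ, hb, hi⟩ := exists_decomp N hN hmin' hN1 hchar (Nat.card G) 0 1
      (Function.injective_of_subsingleton _) (h0r ▸ inferInstance) (fun i => i.elim0) (Nat.sub_le _ _)
    have hk : 1 ≤ k := by
      by_contra h
      obtain rfl : k = 0 := by omega
      have : Nontrivial (Fin 0 → N) := (MulEquiv.ofBijective Ψ hb).symm.toEquiv.symm.nontrivial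
      exact not_subsingleton (Fin 0 → N) inferInstance
    haveI : IsSimpleGroup N := by
      haveI : Nontrivial N := (Subgroup.nontrivial_iff_ne_bot N).2 hN1
      refine ⟨fun A hA => ?_⟩
      obtain ⟨φ, hφ⟩ := hi ⟨0, hk⟩
      have hK : ((A.map (MonoidHom.mulSingle (fun _ : Fin k => (N : Type _)) ⟨0, hk⟩)).map Ψ).Normal := by
        refine Subgroup.Normal.map ⟨?_⟩ Ψ hb.2
        rintro _ ⟨a, ha, rfl⟩ g
        refine ⟨g ⟨0, hk⟩ * a * (g ⟨0, hk⟩)⁻¹, hA.conj_mem a ha _, ?_⟩
        ext c
        by_cases hc : c = ⟨0, hk⟩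
        · subst hc; simp
        · simp [hc]
      have hle : (((A.map (MonoidHom.mulSingle (fun _ : Fin k => (N : Type _)) ⟨0, hk⟩)).map Ψ)).comap φ.toMonoidHom ≤ N := by
        rintro x ⟨_, ⟨a, -, rfl⟩, hx⟩
        rw [MonoidHom.mulSingle_apply, hφ] at hx
        exact φ.injective hx ▸ a.2
      rcases hmin' _ (hK.comap _) hle with h | h
      · refine Or.inl ((Subgroup.eq_bot_iff_forall _).2 fun a ha => ?_)
        have : (a : G) ∈ (((A.map (MonoidHom.mulSingle (fun _ : Fin k => (N : Type _)) ⟨0, hk⟩)).map Ψ)).comap φ.toMonoidHom :=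
          ⟨_, ⟨a, ha, rfl⟩, hφ a⟩
        rw [h, Subgroup.mem_bot] at this
        exact Subtype.ext this
      · refine Or.inr ((Subgroup.eq_top_iff' _).2 fun a => ?_)
        have : (a : G) ∈ (((A.map (MonoidHom.mulSingle (fun _ : Fin k => (N : Type _)) ⟨0, hk⟩)).map Ψ)).comap φ.toMonoidHom :=
          h.symm ▸ a.2
        obtain ⟨_, ⟨b, hb', rfl⟩, hx⟩ := this
        rw [MonoidHom.mulSingle_apply, hφ] at hx
        exact Subtype.ext (φ.injective hx) ▸ hb'
    obtain ⟨c, ⟨e0⟩⟩ := Finite.exists_equiv_fin N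
    let e : N ≃ {j : ℕ // j < c} := e0.trans Fin.equivSubtype
    letI : Group {j : ℕ // j < c} := e.symm.group
    let e' : {j : ℕ // j < c} ≃* N := e.symm.mulEquiv
    haveI : IsSimpleGroup {j : ℕ // j < c} := e'.isSimpleGroup
    exact ⟨{j : ℕ // j < c}, inferInstance, inferInstance, k, hk,
      ⟨(MulEquiv.ofBijective Ψ hb).symm.trans (MulEquiv.piCongrRight fun _ => e'.symm)⟩⟩
  · rintro ⟨S, _, _, n, -, ⟨e⟩⟩ H hH
    rcases char_simple_pow n (H.map e.toMonoidHom) (fun ψ x hx => by
        obtain ⟨y, hy, rfl⟩ := hx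
        refine ⟨(e.trans (ψ.trans e.symm)) y, ?_, by simp⟩
        exact Subgroup.characteristic_iff_le_comap.1 hH (e.trans (ψ.trans e.symm)) hy) with h | h
    · exact Or.inl ((Subgroup.map_eq_bot_iff_of_injective _ e.injective).1 h)
    · refine Or.inr ((Subgroup.eq_top_iff' H).2 fun g => ?_)
      exact (Subgroup.mem_map_iff_mem (f := e.toMonoidHom) e.injective).1 (h ▸ Subgroup.mem_top (e g))

end Cfsg.Agent.S5914
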