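import Cfsg.Statements.S0721
import Mathlib
import Cfsg.Agent.S5914

set_option autoImplicit false
open Cfsg

namespace Cfsg.Agent.S0721

set_option linter.style.haveILetI false

/-- A minimal normal subgroup of a finite group is isomorphic to a direct power `T ^ m` of a simple group `T` (possibly of prime order). -/
theorem result {H : Type*} [Group H] [Finite H] (N : Subgroup H) [N.Normal] (hN : N ≠ ⊥) (hmin : ∀ M : Subgroup H, M.Normal → M ≤ N → M = ⊥ ∨ M = N) : ∃ (T : Type) (_ : Group T) (m : ℕ), IsSimpleGroup T ∧ 0 < m ∧ Nonempty (N ≃* (Fin m → T)) := by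
  haveI : Nontrivial N := (Subgroup.nontrivial_iff_ne_bot N).2 hN
  have hchar : ∀ C : Subgroup N, C.Characteristic → C = ⊥ ∨ C = ⊤ := by
    intro C hC
    haveI := hC
    rcases hmin (C.map N.subtype) inferInstance (Subgroup.map_subtype_le C) with h | h
    · exact Or.inl ((Subgroup.map_eq_bot_iff_of_injective _ N.subtype_injective).1 h)
    · refine Or.inr ((Subgroup.eq_top_iff' C).2 fun x => ?_)
      exact (Subgroup.mem_map_iff_mem N.subtype_injective).1 (h.symm ▸ x.2 : (x : H) ∈ C.map N.subtype)
  obtain ⟨S, hS, hs, n, hn, he⟩ := Cfsg.Agent.S5914.result.1 hchar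
  exact ⟨S, hS, n, hs, hn, he⟩

end Cfsg.Agent.S0721
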