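import Cfsg.Statements.S0886
import Mathlib
import Cfsg.Agent.Lib.CharDegree

set_option autoImplicit false
open Cfsg

namespace Cfsg.Agent.S0886

/-- Let N be a normal subgroup of the finite group G with G / N cyclic, and ϑ an irreducible character of N invariant under conjugation by G. Then ϑ is the restriction of some irreducible character of G. -/
theorem result {G : Type*} [Group G] [Finite G] (N : Subgroup G) [hN : N.Normal] (hcyc : IsCyclic (G ⧸ N)) (ϑ : N → ℂ) (hϑ : Cfsg.IsIrrCharacter N ϑ) (hinv : ∀ (g : G) (n : N), ϑ ⟨g * n * g⁻¹, hN.conj_mem (n : G) n.2 g⟩ = ϑ n) : ∃ χ : G → ℂ, Cfsg.IsIrrCharacter G χ ∧ ∀ n : N, χ n = ϑ n := by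
  classical
  haveI := Fintype.ofFinite G
  haveI : Fintype N := Fintype.ofFinite N
  let θ : Cfsg.IrrCharacter N := ⟨ϑ, hϑ⟩
  have hinv' : ∀ g, CfsgLib.Chars.conjIrr N θ g = θ := fun g =>
    Subtype.ext (funext fun n => (CfsgLib.Chars.conjIrr_apply' N θ g n).trans (hinv g n))
  have hind := CfsgLib.Chars.IsCharacter.indFun N (CfsgLib.Chars.isCharacter_irr θ)
  obtain ⟨χ, hχ⟩ : ∃ χ : Cfsg.IrrCharacter G, Cfsg.classInner (Cfsg.indFun N (θ : N → ℂ)) (χ : G → ℂ) ≠ 0 := by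
    by_contra hc
    push Not at hc
    have h := CfsgLib.Chars.classFunction_expand (CfsgLib.Chars.IsCharacter.isClassFunction hind) 1
    simp only [hc, zero_mul, Finset.sum_const_zero, CfsgLib.Chars.indFun_one] at h
    exact mul_ne_zero (Nat.cast_ne_zero.2 N.index_ne_zero_of_finite) (CfsgLib.Chars.irr_one_ne_zero θ) h
  rw [CfsgLib.Chars.frobenius N _ (CfsgLib.Chars.IsCharacter.isClassFunction (CfsgLib.Chars.isCharacter_irr χ)),
    CfsgLib.Chars.classInner_character_comm (CfsgLib.Chars.isCharacter_irr θ)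
      (CfsgLib.Chars.IsCharacter.restrict (CfsgLib.Chars.isCharacter_irr χ) N)] at hχ
  obtain ⟨E, _, _, π, ι, α, hπ, hπι, hnorm, hcen, hα, hfac⟩ := CfsgLib.CharDegree.exists_factor N θ hinv'
  obtain ⟨β, hker, hprod, -⟩ := hfac χ hχ
  haveI := hnorm
  obtain ⟨β', hβ'⟩ := CfsgLib.Chars.exists_deflate ι.range β (by rintro _ ⟨n, rfl⟩; exact hker n)
  have hle : ι.range ≤ ((QuotientGroup.mk' N).comp π).ker := by
    rintro _ ⟨n, rfl⟩
    rw [MonoidHom.mem_ker, MonoidHom.comp_apply, hπι]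
    exact (QuotientGroup.eq_one_iff _).2 n.2
  let f : E ⧸ ι.range →* G ⧸ N := QuotientGroup.lift ι.range ((QuotientGroup.mk' N).comp π) hle
  have hf : f.ker ≤ Subgroup.center (E ⧸ ι.range) := by
    intro x hx
    obtain ⟨x, rfl⟩ := QuotientGroup.mk'_surjective ι.range x
    have hx' : π x ∈ N := (QuotientGroup.eq_one_iff _).1 hx
    have hz : x * (ι ⟨π x, hx'⟩)⁻¹ ∈ π.ker := by
      rw [MonoidHom.mem_ker, map_mul, map_inv, hπι]; exact mul_inv_cancel _
    refine Subgroup.mem_center_iff.2 fun y => ?_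
    obtain ⟨y, rfl⟩ := QuotientGroup.mk'_surjective ι.range y
    have h1 : QuotientGroup.mk' ι.range x = QuotientGroup.mk' ι.range (x * (ι ⟨π x, hx'⟩)⁻¹) := by
      rw [map_mul, map_inv, show QuotientGroup.mk' ι.range (ι ⟨π x, hx'⟩) = 1 from
        (QuotientGroup.eq_one_iff _).2 ⟨_, rfl⟩, inv_one, mul_one]
    rw [h1, ← map_mul, ← map_mul, Subgroup.mem_center_iff.1 (hcen hz) y]
  haveI : IsCyclic (G ⧸ N) := hcyc
  have hc : Subgroup.center (E ⧸ ι.range) = ⊤ := eq_top_iff.2 fun a _ => Subgroup.mem_center_iff.2 fun b =>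
    commutative_of_cyclic_center_quotient f hf b a
  obtain ⟨lam, hlam⟩ := CfsgLib.CharDegree.exists_central_hom β' (⊤ : Subgroup (E ⧸ ι.range)) (hc ▸ le_rfl)
  have h1 := CfsgLib.CharExtend.dvd_index_of_scalar β' ⊤ lam hlam
  rw [Subgroup.index_top, Nat.dvd_one] at h1
  have hβ1 : (β : E → ℂ) 1 = 1 := by
    rw [hβ', Function.comp_apply, QuotientGroup.mk_one, CfsgLib.Chars.irr_apply_one, h1, Nat.cast_one]
  refine ⟨χ, χ.2, fun n => ?_⟩
  have hval := hprod (ι n)
  rw [hπι, hα, hker, hβ1, mul_one] at hval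
  exact hval

end Cfsg.Agent.S0886
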