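import Cfsg.Statements.S0915
import Cfsg.Agent.Lib.Blocks.BrauerInduce
import Cfsg.Agent.Lib.Blocks.Orth
import Cfsg.Agent.Lib.PSolvable

set_option autoImplicit false
open Cfsg

namespace Cfsg.Agent.S0915

set_option linter.style.haveILetI false
open CfsgLib.Chars CfsgLib.Blocks

/-- Let G be a finite p-solvable group with trivial largest normal subgroup of order prime to p. Then any two irreducible characters of G lie in the same block relative to every maximal ideal M of the algebraic integers containing p: G has a single p-block. -/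
theorem result {G : Type*} [Group G] [Finite G] (p : ℕ) [Fact p.Prime] (M : Ideal Cfsg.AlgInt) (hM : Cfsg.IsPModular p M) (hsolv : Cfsg.IsPSolvable p G) (hcore : Cfsg.pPrimeCore p G = ⊥) (χ ψ : Cfsg.IrrCharacter G) : Cfsg.SameBlock M (χ : G → ℂ) (ψ : G → ℂ) := by
  classical
  haveI := Fintype.ofFinite G
  haveI := CfsgLib.Core.pCore_characteristic (G := G) p
  have hchar : CfsgLib.CharP.HasCharP p G := CfsgLib.PSolvable.charP hsolv hcore
  have hB : Cfsg.IsPBlock M (Cfsg.blockOf M (χ : G → ℂ)) := isPBlock_blockOf χ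
  set B := Cfsg.blockOf M (χ : G → ℂ)
  have hzero : ∀ g : G, g ≠ 1 → Cfsg.blockCoeff B g = 0 := by
    intro g hg
    by_cases hc : g ∈ Subgroup.centralizer (Cfsg.pCore p G : Set G)
    · obtain ⟨n, hn⟩ := IsPGroup.iff_orderOf.mp (CfsgLib.Core.isPGroup_pCore (G := G) p)
        ⟨g, hchar hc⟩
      rw [Subgroup.orderOf_mk] at hn
      refine blockCoeff_eq_zero_of_singular hM hB (hn ▸ dvd_pow_self p fun h0 => hg ?_)
      rw [h0, pow_zero] at hn
      exact orderOf_eq_one_iff.mp hn
    · exact blockCoeff_eq_zero_of_notMem hM (Cfsg.pCore p G)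
        (CfsgLib.Core.isPGroup_pCore (G := G) p) hB hc
  have hom : ∀ φ : Cfsg.IrrCharacter G,
      omega (φ : G → ℂ) (Cfsg.blockCoeff B) = Cfsg.blockCoeff B 1 := by
    intro φ
    rw [omega, Finset.sum_eq_single (1 : G) (fun g _ hg => by rw [hzero g hg, zero_mul]) (by simp),
      mul_div_assoc, div_self (irr_one_ne_zero φ), mul_one]
  have h1 := (omega_blockCoeff B χ).symm.trans (hom χ)
  have h2 := (omega_blockCoeff B ψ).symm.trans (hom ψ)
  by_contra hne
  rw [indic_of_mem (self_mem_blockOf hM χ)] at h1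
  rw [indic_of_notMem (show ψ ∉ B from hne), ← h1] at h2
  exact zero_ne_one h2

end Cfsg.Agent.S0915
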