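import Cfsg.Statements.S0994
import Mathlib
import Cfsg.Agent.Lib.SmallSimple

set_option autoImplicit false
open Cfsg

namespace Cfsg.Agent.S0994

/-- No finite simple group has order 1188 = 2^2 * 3^3 * 11. -/
theorem result {G : Type*} [Group G] [Finite G] [IsSimpleGroup G] : Nat.card G ≠ 1188 := by
  intro h
  have hnc : ¬ IsMulCommutative G := CfsgLib.SmallSimple.not_isMulCommutative_of_card (by rw [h]; norm_num)
  haveI : Fact (Nat.Prime 11) := ⟨by norm_num⟩
  obtain ⟨P⟩ := (inferInstance : Nonempty (Sylow 11 G))
  obtain ⟨hP, h1, h2⟩ := CfsgLib.SmallSimple.card_sylow_mem (k := 1) (m := 108) (by rw [h]; norm_num) (by norm_num) P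
  have h3 := CfsgLib.SmallSimple.card_sylow_ne_one hnc (p := 11) (by rw [h]; norm_num)
  have hn : Nat.card (Sylow 11 G) = 12 := by
    generalize Nat.card (Sylow 11 G) = n at h1 h2 h3 ⊢
    have := Nat.le_of_dvd (by norm_num) h1
    interval_cases n <;> simp_all
  refine CfsgLib.SmallSimple.not_normalizer_le_centralizer hnc (p := 11) (by rw [h]; norm_num) P ?_
  -- the normalizer has order 99, prime to `11 - 1`
  set N := Subgroup.normalizer ((P : Subgroup G) : Set G) with hN
  have hNcard : Nat.card N = 99 := by
    have h4 := Subgroup.index_mul_card N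
    rw [show N.index = Nat.card (Sylow 11 G) from (Sylow.card_eq_index_normalizer P).symm, hn, h] at h4
    omega
  have key := Subgroup.card_dvd_of_injective _
    (QuotientGroup.kerLift_injective (P : Subgroup G).normalizerMonoidHom)
  haveI : IsCyclic (P : Subgroup G) := isCyclic_of_prime_card (p := 11) (by rw [hP, pow_one])
  rw [Subgroup.normalizerMonoidHom_ker, ← Subgroup.index, ← Subgroup.relIndex, IsCyclic.card_mulAut, hP, pow_one,
    Nat.totient_prime (by norm_num)] at key
  refine Subgroup.relIndex_eq_one.1 (Nat.eq_one_of_dvd_coprimes (by norm_num : Nat.Coprime 99 10) ?_ key)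
  rw [← hNcard]
  exact Subgroup.relIndex_dvd_card _ _

end Cfsg.Agent.S0994
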