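import Cfsg.Statements.S1039
import Mathlib
import Cfsg.Agent.Lib.Chev.Group.WeylGroup
import Cfsg.Agent.Lib.Chev.Data.E6Tables
import Cfsg.Agent.Lib.Chev.Data.E6
import Cfsg.Agent.Lib.Chev.Data.E7
import Cfsg.Agent.Lib.Chev.Data.E8

set_option autoImplicit false
open Cfsg

namespace Cfsg.Agent.S1039

open Cfsg.Lie CfsgLib.Chev
/-- extension of a matrix to all indices -/
def ext {n : ℕ} (M : CoxeterMatrix (Fin n)) (i j : ℕ) : ℕ :=
  if h : i < n then (if h' : j < n then M ⟨i, h⟩ ⟨j, h'⟩ else 1) else 1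

/-- `N/H ≅ W`: there is a surjective homomorphism from `N` onto the Coxeter group of the type (Mathlib's Coxeter matrix G₂, B₂, F₄, E₆, E₇, E₈, nodes numbered as the fundamental roots) with kernel `H`, mapping each `n_{p_i}` to the `i`-th simple reflection. -/
theorem result {F : Type*} [Field F]
    (p : Cfsg.Lie.ChevalleyDatum × (Σ n : ℕ, CoxeterMatrix (Fin n)))
    (hp : p ∈ [(Cfsg.Lie.chevG2, ⟨2, CoxeterMatrix.G₂⟩), (Cfsg.Lie.chevB2, ⟨2, CoxeterMatrix.B 2⟩), (Cfsg.Lie.chevD4, ⟨4, Cfsg.Lie.coxeterD4⟩), (Cfsg.Lie.chevF4, ⟨4, CoxeterMatrix.F₄⟩),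
      (Cfsg.Lie.chevE6, ⟨6, CoxeterMatrix.E₆⟩), (Cfsg.Lie.chevE7, ⟨7, CoxeterMatrix.E₇⟩), (Cfsg.Lie.chevE8, ⟨8, CoxeterMatrix.E₈⟩)]) :
    ∃ φ : ↥(p.1.monomialSubgroup F) →* p.2.2.Group, Function.Surjective φ ∧
      φ.ker = (p.1.diagonalSubgroup F).subgroupOf (p.1.monomialSubgroup F) ∧
      ∀ (i : Fin p.2.1) (g : ↥(p.1.monomialSubgroup F)),
        ((g : GL p.1.Idx F) : Matrix p.1.Idx p.1.Idx F) = p.1.nMat F (p.1.simple i) 1 → φ g = p.2.2.simple i := by
  have key : ∀ (D : Cfsg.Lie.ChevalleyDatum) (hD : D ∈ Checks.dataList) {T : Tables.Tab}, Tables.Valid D T →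
      ∀ M : CoxeterMatrix (Fin D.rank), WeylGroup.matrixOK D T (ext M) = true →
      ∃ φ : ↥(D.monomialSubgroup F) →* M.Group, Function.Surjective φ ∧
        φ.ker = (D.diagonalSubgroup F).subgroupOf (D.monomialSubgroup F) ∧
        ∀ (i : Fin D.rank) (g : ↥(D.monomialSubgroup F)),
          ((g : GL D.Idx F) : Matrix D.Idx D.Idx F) = D.nMat F (D.simple i) 1 → φ g = M.simple i :=
    fun D hD T hT M hok => WeylGroup.exists_hom hD hT M (ext M) (fun i j => by simp [ext]) hok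
  simp only [List.mem_cons, List.not_mem_nil, or_false] at hp
  rcases hp with rfl | rfl | rfl | rfl | rfl | rfl | rfl
  · exact key Cfsg.Lie.chevG2 (by simp [Checks.dataList]) Data.G2.valid CoxeterMatrix.G₂ (by decide +kernel)
  · exact key Cfsg.Lie.chevB2 (by simp [Checks.dataList]) Data.B2.valid (CoxeterMatrix.B 2) (by decide +kernel)
  · exact key Cfsg.Lie.chevD4 (by simp [Checks.dataList]) Data.D4.valid Cfsg.Lie.coxeterD4 (by decide +kernel)
  · exact key Cfsg.Lie.chevF4 (by simp [Checks.dataList]) Data.F4.valid CoxeterMatrix.F₄ (by decide +kernel)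
  · exact key Cfsg.Lie.chevE6 (by simp [Checks.dataList]) Data.E6.valid CoxeterMatrix.E₆ (by decide +kernel)
  · exact key Cfsg.Lie.chevE7 (by simp [Checks.dataList]) Data.E7.valid CoxeterMatrix.E₇ (by decide +kernel)
  · exact key Cfsg.Lie.chevE8 (by simp [Checks.dataList]) Data.E8.valid CoxeterMatrix.E₈ (by decide +kernel)

end Cfsg.Agent.S1039
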