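import Cfsg.Statements.S1249
import Mathlib.GroupTheory.Sylow

set_option autoImplicit false
open Cfsg

namespace Cfsg.Agent.S1249

open scoped Pointwise

/-- Let P and Q be Sylow p-subgroups of the finite group G both containing the subgroup A. If A is strongly closed in P, then A is strongly closed in Q. -/
theorem result {G : Type*} [Group G] [Finite G] {p : ℕ} [Fact p.Prime] (P Q : Sylow p G) (A : Subgroup G) (hAQ : A ≤ Q) (hA : Cfsg.IsStronglyClosed A (P : Subgroup G)) : Cfsg.IsStronglyClosed A (Q : Subgroup G) := by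
  obtain ⟨h, rfl⟩ := MulAction.exists_smul_eq G P Q
  have hsm : ∀ w : G, w ∈ ((h • P : Sylow p G) : Subgroup G) → h⁻¹ * w * h ∈ P := fun w hw => by
    have := (Subgroup.mem_pointwise_smul_iff_inv_smul_mem).mp hw
    simp [mul_assoc] at this ⊢
    exact this
  have hsub : A ≤ MulAut.conj h • A := fun a ha => by
    rw [Subgroup.mem_pointwise_smul_iff_inv_smul_mem]
    simpa [mul_assoc] using hA.2 a ha h⁻¹ (by
      have := hsm a (hAQ ha); simp [mul_assoc] at this ⊢; exact this)
  have hAA : A = MulAut.conj h • A := Subgroup.eq_of_le_of_card_ge hsub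
    (Nat.card_congr (Subgroup.equivSMul (MulAut.conj h) A).toEquiv).ge
  refine ⟨hAQ, fun x hx g hg => ?_⟩
  have h1 := hsm _ hg
  rw [show h⁻¹ * (g * x * g⁻¹) * h = h⁻¹ * g * x * (h⁻¹ * g)⁻¹ by group] at h1
  rw [hAA, Subgroup.mem_pointwise_smul_iff_inv_smul_mem]
  simpa [mul_assoc] using hA.2 x hx _ h1

end Cfsg.Agent.S1249
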