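import Cfsg.Statements.S1250
import Mathlib.GroupTheory.Sylow

set_option autoImplicit false
open Cfsg

namespace Cfsg.Agent.S1250

/-- Let S be a Sylow p-subgroup of the finite group G, A ≤ S strongly closed in S, and N a normal subgroup. Then the image of A in G ⧸ N is strongly closed in the image of S (which is a Sylow p-subgroup of G ⧸ N). -/
theorem result {G : Type*} [Group G] [Finite G] {p : ℕ} [Fact p.Prime] (S : Sylow p G) (A : Subgroup G) (hA : Cfsg.IsStronglyClosed A (S : Subgroup G)) (N : Subgroup G) [N.Normal] : Cfsg.IsStronglyClosed (A.map (QuotientGroup.mk' N)) ((S : Subgroup G).map (QuotientGroup.mk' N)) := by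
  refine ⟨Subgroup.map_mono hA.1, ?_⟩
  rintro _ ⟨x, hx, rfl⟩ c hc
  induction c using QuotientGroup.induction_on with | _ g => ?_
  have hy : g * x * g⁻¹ ∈ (S : Subgroup G) ⊔ N := by
    obtain ⟨s, hs, hs'⟩ := hc
    have : s⁻¹ * (g * x * g⁻¹) ∈ N := by
      rw [← QuotientGroup.eq_one_iff]
      simp only [QuotientGroup.mk_mul, QuotientGroup.mk_inv, QuotientGroup.mk'_apply] at hs' ⊢
      rw [hs', inv_mul_cancel]
    rw [show g * x * g⁻¹ = s * (s⁻¹ * (g * x * g⁻¹)) by group]
    exact Subgroup.mul_mem_sup hs this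
  set M := (S : Subgroup G) ⊔ N
  have hyp : IsPGroup p (Subgroup.zpowers (g * x * g⁻¹)) := by
    have h1 : IsPGroup p ((S : Subgroup G).map (MulAut.conj g).toMonoidHom) := S.isPGroup'.map _
    exact h1.to_le (Subgroup.zpowers_le.mpr ⟨x, hA.1 hx, rfl⟩)
  obtain ⟨R, hR⟩ := (hyp.comap_subtype (K := M)).exists_le_sylow
  obtain ⟨m, hm⟩ := MulAction.exists_smul_eq M R (S.subtype (le_sup_left : (S : Subgroup G) ≤ M))
  have hmS : (m : G) * (g * x * g⁻¹) * (m : G)⁻¹ ∈ S := by
    have := Subgroup.smul_mem_pointwise_smul (⟨_, hy⟩ : M) (MulAut.conj m) _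
      (hR (Subgroup.mem_zpowers (g * x * g⁻¹)))
    rw [← Sylow.coe_subgroup_smul, hm, Sylow.coe_subtype, Subgroup.mem_subgroupOf] at this
    simp at this ⊢
    exact this
  obtain ⟨s, hs, n, hn, hsn⟩ := Subgroup.mem_sup_of_normal_right.mp m.2
  rw [← hsn] at hmS
  have hnS : n * (g * x * g⁻¹) * n⁻¹ ∈ S := by
    have := mul_mem (mul_mem (inv_mem (hs : s ∈ S)) hmS) (hs : s ∈ S)
    convert this using 1
    group
    exact Iff.rfl
  have := hA.2 x hx (n * g) (by convert hnS using 1; group; exact Iff.rfl)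
  refine ⟨_, this, ?_⟩
  simp [(QuotientGroup.eq_one_iff n).mpr hn]

end Cfsg.Agent.S1250
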