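import Cfsg.Statements.S1251
import Cfsg.Agent.Lib.Fusion.ZStarCenter
import Cfsg.Agent.Lib.Core

set_option autoImplicit false
open Cfsg

namespace CfsgLib.S1251Aux

/-- The index of `P` over a normal subgroup and in its product with it agree. -/
theorem relIndex_sup_normal {M : Type*} [Group M] [Finite M] (P H : Subgroup M) [H.Normal] :
    P.relIndex (P ⊔ H) = P.relIndex H := by
  have h1 := Subgroup.relIndex_mul_relIndex ⊥ P (P ⊔ H) bot_le le_sup_left
  have h2 := Subgroup.relIndex_mul_relIndex ⊥ H (P ⊔ H) bot_le le_sup_right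
  rw [Subgroup.relIndex_sup_right] at h2
  have h3 := Subgroup.relIndex_mul_relIndex ⊥ (H ⊓ P) P bot_le inf_le_right
  rw [Subgroup.inf_relIndex_right] at h3
  have h4 := Subgroup.relIndex_mul_relIndex ⊥ (P ⊓ H) H bot_le inf_le_right
  rw [Subgroup.inf_relIndex_right] at h4
  simp only [Subgroup.relIndex_bot_left] at h1 h2 h3 h4
  rw [inf_comm] at h4
  have hP : 0 < Nat.card P := Nat.card_pos
  apply Nat.eq_of_mul_eq_mul_left hP
  rw [h1, ← h2, ← h3, ← h4]
  ring

end CfsgLib.S1251Aux

open Cfsg CfsgLib.S1251Aux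

namespace Cfsg.Agent.S1251

/-- Let S be a Sylow 2-subgroup of the finite group G and A ≤ S strongly closed in S. If H is a subgroup normalized by A with no nontrivial normal subgroup of odd order and A ∩ H = 1, then A ≤ C_G(H). -/
theorem result {G : Type*} [Group G] [Finite G] (S : Sylow 2 G) (A : Subgroup G) (hA : Cfsg.IsStronglyClosed A (S : Subgroup G)) (H : Subgroup G) (hAH : A ≤ Subgroup.normalizer (H : Set G)) (hO : Cfsg.oddCore ↥H = ⊥) (hdisj : A ⊓ H = ⊥) : A ≤ Subgroup.centralizer (H : Set G) := by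
    classical
    haveI : Fact (Nat.Prime 2) := ⟨Nat.prime_two⟩
    set M := A ⊔ H with hM
    haveI hHn : (H.subgroupOf M).Normal := by
      refine Subgroup.normal_subgroupOf_iff_le_normalizer le_sup_right |>.2 ?_
      exact sup_le hAH Subgroup.le_normalizer
    set H' := H.subgroupOf M with hH'
    have hAp : IsPGroup 2 (A.subgroupOf M) := (S.2.to_le hA.1).comap_subtype
    obtain ⟨T, hT⟩ := hAp.exists_le_sylow
    obtain ⟨R, hR⟩ := (T.2.map M.subtype).exists_le_sylow
    obtain ⟨g, hg⟩ := MulAction.exists_smul_eq G R S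
    have hRS : ∀ x ∈ (R : Subgroup G), g * x * g⁻¹ ∈ (S : Subgroup G) := fun x hx => by
      rw [← hg]
      exact Subgroup.smul_mem_pointwise_smul x (MulAut.conj g) (R : Subgroup G) hx
    have hAR : ∀ x ∈ A, x ∈ (R : Subgroup G) := fun x hx =>
      hR ⟨⟨x, Subgroup.mem_sup_left hx⟩, hT hx, rfl⟩
    have hgA : A.map (MulAut.conj g).toMonoidHom = A := by
      refine Subgroup.eq_of_le_of_card_ge ?_ ?_
      · rintro _ ⟨x, hx, rfl⟩
        exact hA.2 x hx g (hRS x (hAR x hx))
      · rw [← Nat.card_congr (Subgroup.equivMapOfInjective A _ (MulAut.conj g).injective).toEquiv]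
    have hclosed : ∀ x ∈ A, ∀ m : M, (m : G) * x * (m : G)⁻¹ ∈ (R : Subgroup G) → (m : G) * x * (m : G)⁻¹ ∈ A := by
      intro x hx m hm
      have h1 : g * ((m : G) * x * (m : G)⁻¹) * g⁻¹ ∈ A := by
        have e : g * ((m : G) * x * (m : G)⁻¹) * g⁻¹ = g * m * x * (g * m)⁻¹ := by group
        rw [e]
        exact hA.2 x hx _ (e ▸ hRS _ hm)
      obtain ⟨w, hw, he⟩ : g * ((m : G) * x * (m : G)⁻¹) * g⁻¹ ∈ A.map (MulAut.conj g).toMonoidHom := hgA.symm ▸ h1
      have h2 : w = (m : G) * x * (m : G)⁻¹ := (MulAut.conj g).injective he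
      exact h2 ▸ hw
    have hodd : ∀ K : Subgroup M, H' ≤ K → (K : Subgroup M) ⊓ (T : Subgroup M) ⊔ H' = K →
        ¬ 2 ∣ ((T : Subgroup M) ⊓ K).relIndex K := by
      intro K hK hKT h
      have e1 := relIndex_sup_normal ((T : Subgroup M) ⊓ K) H'
      rw [inf_comm] at hKT
      rw [hKT] at e1
      rw [e1] at h
      have e2 : ((T : Subgroup M) ⊓ K).relIndex H' = (T : Subgroup M).relIndex H' := by
        rw [← Subgroup.inf_relIndex_right, inf_assoc, inf_eq_right.2 hK, Subgroup.inf_relIndex_right]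
      rw [e2, ← relIndex_sup_normal (T : Subgroup M) H'] at h
      exact T.not_dvd_index (h.trans (Subgroup.relIndex_dvd_index_of_le le_sup_left))
    intro a ha
    refine Subgroup.mem_centralizer_iff.2 fun h hh => ?_
    set a' : M := ⟨a, Subgroup.mem_sup_left ha⟩ with ha'
    set K : Subgroup M := Subgroup.zpowers a' ⊔ H' with hK
    have haT : a' ∈ (T : Subgroup M) := hT ha
    have hKT : K ⊓ (T : Subgroup M) ⊔ H' = K :=
      le_antisymm (sup_le inf_le_left le_sup_right)
        (sup_le ((Subgroup.zpowers_le.2 (show a' ∈ K ⊓ (T : Subgroup M) from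
          ⟨Subgroup.mem_sup_left (Subgroup.mem_zpowers _), haT⟩)).trans le_sup_left)
          le_sup_right)
    let P : Sylow 2 K := IsPGroup.toSylow (P := ((T : Subgroup M) ⊓ K).subgroupOf K)
      ((T.2.to_le inf_le_left).comap_subtype) (hodd K le_sup_right hKT)
    have haK : a' ∈ K := Subgroup.mem_sup_left (Subgroup.mem_zpowers _)
    have hfix : ∀ y ∈ H', ((y : G) * a * (y : G)⁻¹ ∈ A → (y : G) * a * (y : G)⁻¹ = a) := by
      intro y hy h1
      have h2 : (y : G) * a * (y : G)⁻¹ * a⁻¹ ∈ H := by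
        have h3 : a * (y : G)⁻¹ * a⁻¹ ∈ H := (Subgroup.mem_normalizer_iff.1 (hAH ha) _).1 (H.inv_mem hy)
        simpa [mul_assoc] using H.mul_mem hy h3
      have h4 : (y : G) * a * (y : G)⁻¹ * a⁻¹ ∈ A ⊓ H := ⟨A.mul_mem h1 (A.inv_mem ha), h2⟩
      rw [hdisj, Subgroup.mem_bot] at h4
      exact mul_inv_eq_one.1 h4
    have hw : ∀ k : K, k * ⟨a', haK⟩ * k⁻¹ ∈ (P : Subgroup K) → k * ⟨a', haK⟩ * k⁻¹ = ⟨a', haK⟩ := by
      intro k hk
      have h1 : (k : M) * a' * (k : M)⁻¹ ∈ (T : Subgroup M) := hk.1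
      have h2 : ((k : M) : G) * a * ((k : M) : G)⁻¹ ∈ A :=
        hclosed a ha (k : M) (hR ⟨_, h1, rfl⟩)
      obtain ⟨p, hp, y, hy, he⟩ := Subgroup.mem_sup_of_normal_right.1 k.2
      obtain ⟨i, rfl⟩ := Subgroup.mem_zpowers_iff.1 hp
      have hk' : ((k : M) : G) = a ^ i * (y : G) := by rw [← he]; rfl
      have h3 : (y : G) * a * (y : G)⁻¹ ∈ A := by
        have := A.mul_mem (A.mul_mem (A.inv_mem (A.zpow_mem ha i)) h2) (A.zpow_mem ha i)
        rw [hk'] at this
        simpa [mul_assoc] using this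
      apply Subtype.ext
      apply Subtype.ext
      show ((k : M) : G) * a * ((k : M) : G)⁻¹ = a
      rw [hk']
      calc a ^ i * (y : G) * a * (a ^ i * (y : G))⁻¹ = a ^ i * ((y : G) * a * (y : G)⁻¹) * (a ^ i)⁻¹ := by group
        _ = a := by rw [hfix y hy h3, (Commute.refl a).zpow_left i |>.eq, mul_inv_cancel_right]
    have hz := CfsgLib.Fusion.central_mod_oddCore _ P (⟨a', haK⟩ : K) rfl
      (show (⟨a', haK⟩ : K) ∈ (P : Subgroup K) from ⟨haT, haK⟩) hw
      ⟨⟨h, Subgroup.mem_sup_right hh⟩, Subgroup.mem_sup_right hh⟩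
    -- the odd core of the product is trivial
    have hbot : oddCore K = ⊥ := by
      haveI hOn : (oddCore K).Normal := CfsgLib.ZStar.oddCore_normal
      have hOodd : Odd (Nat.card (oddCore K)) := CfsgLib.ZStar.oddCore_odd
      haveI : (H'.subgroupOf K).Normal := inferInstance
      have hOH : oddCore K ≤ H'.subgroupOf K := by
        intro x hx
        rw [← QuotientGroup.eq_one_iff (N := H'.subgroupOf K) x]
        obtain ⟨j, hj⟩ : ∃ j, (QuotientGroup.mk x : K ⧸ H'.subgroupOf K) ^ 2 ^ j = 1 := by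
          obtain ⟨p, hp, y, hy, he⟩ := Subgroup.mem_sup_of_normal_right.1 x.2
          obtain ⟨i, rfl⟩ := Subgroup.mem_zpowers_iff.1 hp
          obtain ⟨j, hj⟩ := T.2 ⟨a', haT⟩
          refine ⟨j, ?_⟩
          have e1 : (QuotientGroup.mk x : K ⧸ H'.subgroupOf K) = (QuotientGroup.mk (⟨a', haK⟩ : K)) ^ i := by
            rw [← QuotientGroup.mk_zpow, QuotientGroup.eq]
            show (x : M)⁻¹ * a' ^ i ∈ H'
            rw [← he]
            simpa [mul_assoc] using H'.inv_mem hy
          have hj' : a' ^ 2 ^ j = 1 := congrArg Subtype.val hj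
          rw [e1, ← zpow_natCast, ← zpow_mul, mul_comm, zpow_mul, zpow_natCast, ← QuotientGroup.mk_pow,
            show (⟨a', haK⟩ : K) ^ 2 ^ j = 1 from Subtype.ext hj', QuotientGroup.mk_one, one_zpow]
        have h1 : orderOf (QuotientGroup.mk x : K ⧸ H'.subgroupOf K) ∣ 2 ^ j := orderOf_dvd_of_pow_eq_one hj
        have h2 : orderOf (QuotientGroup.mk x : K ⧸ H'.subgroupOf K) ∣ Nat.card (oddCore K) :=
          (orderOf_map_dvd (QuotientGroup.mk' (H'.subgroupOf K)) x).trans
            (Subgroup.orderOf_dvd_natCard _ hx)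
        exact orderOf_eq_one_iff.1 (Nat.dvd_one.1
          ((Nat.Coprime.pow_left j (Nat.coprime_two_left.2 hOodd)).gcd_eq_one ▸ Nat.dvd_gcd h1 h2))
      let f : H →* K :=
        { toFun := fun y => ⟨⟨(y : G), Subgroup.mem_sup_right y.2⟩, Subgroup.mem_sup_right y.2⟩
          map_one' := rfl
          map_mul' := fun _ _ => rfl }
      have hfinj : Function.Injective f := fun u v e =>
        Subtype.ext (congrArg (fun t : K => ((t : M) : G)) e)
      set O' := (oddCore K).comap f with hO'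
      haveI : O'.Normal := hOn.comap f
      have hO'odd : Odd (Nat.card O') := by
        refine Odd.of_dvd_nat hOodd ?_
        rw [Nat.card_congr (Subgroup.equivMapOfInjective O' f hfinj).toEquiv]
        exact Subgroup.card_dvd_of_le (Subgroup.map_comap_le f _)
      have hO'bot : O' = ⊥ := by
        rw [← le_bot_iff, ← hO]
        exact CfsgLib.Core.le_pPrimeCore inferInstance (Nat.coprime_two_right.2 hO'odd)
      rw [eq_bot_iff]
      intro x hx
      have hxH : ((x : M) : G) ∈ H := hOH hx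
      have h1 : (⟨((x : M) : G), hxH⟩ : H) ∈ O' := hx
      rw [hO'bot, Subgroup.mem_bot] at h1
      rw [Subgroup.mem_bot]
      exact Subtype.ext (Subtype.ext (congrArg (Subtype.val : H → G) h1))
    rw [hbot, Subgroup.mem_bot] at hz
    have h5 : h * a * h⁻¹ = a := (inv_mul_eq_one.1 (congrArg (fun t : K => ((t : M) : G)) hz)).symm
    exact mul_inv_eq_iff_eq_mul.1 h5

end Cfsg.Agent.S1251
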