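import Cfsg.Statements.S1292
import Cfsg.Agent.Lib.PComponents2

set_option autoImplicit false
open Cfsg

namespace Cfsg.Agent.S1292
open CfsgLib.GenFitting

/-- Let G be a finite group such that F*(C_G(t)) = O_2(C_G(t)) for every involution t. Then F*(N_G(T)) = O_2(N_G(T)) for every nontrivial 2-subgroup T of G. -/
theorem result {G : Type*} [Group G] [Finite G] (h : ∀ t : G, orderOf t = 2 → Cfsg.generalizedFittingSubgroup ↥(Subgroup.centralizer ({t} : Set G)) = Cfsg.pCore 2 ↥(Subgroup.centralizer ({t} : Set G))) (T : Subgroup G) (hT : IsPGroup 2 ↥T) (hT1 : T ≠ ⊥) : Cfsg.generalizedFittingSubgroup ↥(Subgroup.normalizer (T : Set G)) = Cfsg.pCore 2 ↥(Subgroup.normalizer (T : Set G)) := by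
  haveI : Nontrivial ↥T := T.nontrivial_iff_ne_bot.mpr hT1
  haveI := hT.center_nontrivial
  obtain ⟨k, hk⟩ := IsPGroup.iff_card.mp (hT.to_subgroup (Subgroup.center ↥T))
  have hk0 : k ≠ 0 := by
    rintro rfl
    rw [pow_zero] at hk
    exact absurd hk (ne_of_gt (Finite.one_lt_card_iff_nontrivial.mpr inferInstance))
  obtain ⟨z, hz⟩ := exists_prime_orderOf_dvd_card' (G := ↥(Subgroup.center ↥T)) 2 (hk ▸ dvd_pow_self 2 hk0)
  set t : G := ((z : ↥T) : G) with htdef
  have ht : orderOf t = 2 := by rw [htdef, Subgroup.orderOf_coe, Subgroup.orderOf_coe, hz]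
  have hTX : T ≤ Subgroup.centralizer ({t} : Set G) := fun y hy => Subgroup.mem_centralizer_singleton_iff.mpr
    (congrArg Subtype.val (Subgroup.mem_center_iff.mp z.2 ⟨y, hy⟩))
  set X := Subgroup.centralizer ({t} : Set G) with hX
  have hCX : Subgroup.centralizer (T : Set G) ≤ X := by
    intro c hc
    exact Subgroup.mem_centralizer_singleton_iff.mpr (hc t (z : ↥T).2).symm
  have hch := CfsgLib.PConstrained.charP_centralizer (charP_of_genFitting_eq (h t ht)) (hT.comap_subtype (H := T) (K := X))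
  have heq : (Subgroup.centralizer ((T.subgroupOf X : Subgroup ↥X) : Set ↥X)).map X.subtype = Subgroup.centralizer (T : Set G) := by
    ext c
    constructor
    · rintro ⟨c, hc, rfl⟩ y hy
      exact congrArg Subtype.val (hc ⟨y, hTX hy⟩ (Subgroup.mem_subgroupOf.mpr hy))
    · exact fun hc => ⟨⟨c, hCX hc⟩, fun y hy => Subtype.ext (hc y (Subgroup.mem_subgroupOf.mp hy)), rfl⟩
  have hch1 : CfsgLib.CharP.HasCharP 2 ↥(Subgroup.centralizer (T : Set G)) := CfsgLib.CharP.charP_congr
    ((Subgroup.equivMapOfInjective _ X.subtype X.subtype_injective).trans (MulEquiv.subgroupCongr heq)) hch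
  set N := Subgroup.normalizer (T : Set G) with hN
  set C2 := (Subgroup.centralizer (T : Set G)).subgroupOf N with hC2
  haveI : C2.Normal := (Subgroup.normal_subgroupOf_iff_le_normalizer (Subgroup.centralizer_le_normalizer _)).mpr
    (CfsgLib.LocalBasic.normalizer_centralizer_ge le_rfl)
  have hch2 : CfsgLib.CharP.HasCharP 2 ↥C2 := CfsgLib.CharP.charP_congr
    (Subgroup.subgroupOfEquivOfLe (Subgroup.centralizer_le_normalizer _)).symm hch1
  refine genFitting_eq_of_charP (CfsgLib.CharP.charP_of_forall fun c hc hcR => ?_)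
  have hTle : T.subgroupOf N ≤ Cfsg.pCore 2 ↥N :=
    CfsgLib.Core.le_pCore inferInstance hT.comap_subtype
  have hcC : c ∈ C2 := Subgroup.mem_subgroupOf.mpr fun y hy =>
    (congrArg Subtype.val (hcR ⟨y, Subgroup.le_normalizer hy⟩ (hTle (Subgroup.mem_subgroupOf.mpr hy)))).symm
  have h1 : (⟨c, hcC⟩ : ↥C2) = 1 := by
    refine CfsgLib.CharP.eq_one_of_centralizes hch2 (by rwa [Subgroup.orderOf_mk]) fun x hx => Subtype.ext ?_
    exact hcR _ (CfsgLib.Core.pCore_subgroup_map_le 2 C2 ⟨x, hx, rfl⟩)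
  exact congrArg Subtype.val h1

end Cfsg.Agent.S1292
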