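import Cfsg.Statements.S1293
import Cfsg.Agent.Lib.PComponents2

set_option autoImplicit false
open Cfsg

namespace Cfsg.Agent.S1293
open CfsgLib.PComponents

/-- Let G be finite with L_{p'}(G) = 1, and H = N_G(P) for a nontrivial p-subgroup P. Then L_{p'}(H) = 1 and O_{p'}(H) ≤ O_{p'}(G). -/
theorem result {G : Type*} [Group G] [Finite G] (p : ℕ) [Fact p.Prime] (hL : Cfsg.pLayer p G = ⊥) (P : Subgroup G) (hP : IsPGroup p ↥P) (hP1 : P ≠ ⊥) : Cfsg.pLayer p ↥(Subgroup.normalizer (P : Set G)) = ⊥ ∧ (Cfsg.pPrimeCore p ↥(Subgroup.normalizer (P : Set G))).map (Subgroup.normalizer (P : Set G)).subtype ≤ Cfsg.pPrimeCore p G := by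
  have hG := constrained_iff_pLayer.2 hL
  refine ⟨constrained_iff_pLayer.1 (CfsgLib.PConstrained.normalizer hG hP), ?_⟩
  set f := QuotientGroup.mk' (Cfsg.pPrimeCore p G) with hf
  have hker : (Nat.card f.ker).Coprime p := by
    rw [QuotientGroup.ker_mk']; exact CfsgLib.Core.card_pPrimeCore_coprime p
  have hch := CfsgLib.PConstrained.charP_normalizer (CfsgLib.PConstrained.isPConstrained_iff.1 hG) (hP.map f)
  rw [← CfsgLib.PConstrained.normalizer_map_eq f (QuotientGroup.mk'_surjective _) hker hP] at hch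
  have h := CfsgLib.Core.pPrimeCore_map_le (f.subgroupMap (Subgroup.normalizer (P : Set G)))
    (f.subgroupMap_surjective _) p
  rw [CfsgLib.PConstrained.charP_pPrimeCore_eq_bot hch] at h
  rintro _ ⟨x, hx, rfl⟩
  exact (QuotientGroup.eq_one_iff _).mp (congrArg Subtype.val (Subgroup.mem_bot.mp (h ⟨x, hx, rfl⟩)))

end Cfsg.Agent.S1293
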