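import Cfsg.Statements.S1323
import Cfsg.Agent.Lib.AltStd.Standard

set_option autoImplicit false
set_option linter.all false
open Cfsg

namespace Cfsg.Agent.S1323

/-- For n ≥ 9, the subgroup of the alternating group on Fin n fixing each of the points 0, 1, 2, 3 is a standard subgroup. -/
theorem result (n : ℕ) (h4 : 4 ≤ n) (hn : 9 ≤ n) : Cfsg.IsStandardSubgroup (⨅ i : Fin 4, MulAction.stabilizer ↥(alternatingGroup (Fin n)) (Fin.castLE h4 i : Fin n)) := by
  classical
  let S : Finset (Fin n) := Finset.univ.map (Fin.castLEEmb h4)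
  have hS : S.card = 4 := by simp [S]
  have heq : (⨅ i : Fin 4, MulAction.stabilizer ↥(alternatingGroup (Fin n)) (Fin.castLE h4 i : Fin n)) =
      CfsgLib.AltStd.fixS S := by
    ext g
    simp only [Subgroup.mem_iInf, MulAction.mem_stabilizer_iff]
    constructor
    · intro h x hx
      obtain ⟨i, -, rfl⟩ := Finset.mem_map.mp hx
      exact h i
    · intro h i
      exact h _ (Finset.mem_map.mpr ⟨i, Finset.mem_univ _, rfl⟩)
  rw [heq]
  exact CfsgLib.AltStd.standard_fixS hS (by rw [Fintype.card_fin]; exact hn)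

end Cfsg.Agent.S1323
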