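import Cfsg.Statements.S1339
import Cfsg.Agent.Lib.GenFitting
import Cfsg.Agent.Lib.CharP

set_option autoImplicit false
open Cfsg

namespace Cfsg.Agent.S1339

open Matrix

theorem main {F : Type*} [Field F] [Fintype F] [DecidableEq F] (hF : Fintype.card F = 2) (n : ℕ)
    (i j : Fin n) (hij : i ≠ j) (t : Matrix.SpecialLinearGroup (Fin n) F)
    (ht : (t : Matrix (Fin n) (Fin n) F) = Matrix.transvection i j 1) :
    CfsgLib.CharP.HasCharP 2 ↥(Subgroup.centralizer ({t} : Set (Matrix.SpecialLinearGroup (Fin n) F))) := by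
  classical
  haveI : Fact (Nat.Prime 2) := ⟨Nat.prime_two⟩
  have hone : ∀ x : F, x ≠ 0 → x = 1 := fun x hx => by
    have h := FiniteField.pow_card_sub_one_eq_one x hx
    rw [hF] at h
    simpa using h
  have h2 : ∀ x : F, x + x = 0 := fun x => by
    have h : (-1 : F) = 1 := hone _ (neg_ne_zero.mpr one_ne_zero)
    calc x + x = x + 1 * x := by rw [one_mul]
      _ = 0 := by rw [← h, neg_mul, one_mul, add_neg_cancel]
  set C := Subgroup.centralizer ({t} : Set (Matrix.SpecialLinearGroup (Fin n) F)) with hC
  let M : ↥C → Matrix (Fin n) (Fin n) F := fun g => ((g : Matrix.SpecialLinearGroup (Fin n) F) : Matrix (Fin n) (Fin n) F)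
  have hmul : ∀ g h : ↥C, M (g * h) = M g * M h := fun g h => rfl
  have hMinj : ∀ g h : ↥C, M g = M h → g = h := fun g h e => Subtype.ext (Subtype.ext e)
  have hone' : M 1 = 1 := rfl
  have hE : ∀ g : ↥C, M g * Matrix.single i j (1 : F) = Matrix.single i j (1 : F) * M g := by
    intro g
    have h := congrArg (fun x : Matrix.SpecialLinearGroup (Fin n) F => (x : Matrix (Fin n) (Fin n) F))
      (Subgroup.mem_centralizer_singleton_iff.mp g.2)
    simp only [Matrix.SpecialLinearGroup.coe_mul, ht, Matrix.transvection, mul_add, add_mul, mul_one, one_mul] at h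
    exact add_left_cancel h
  have hcol : ∀ (g : ↥C) k, k ≠ i → M g k i = 0 := by
    intro g k hk
    have h := congrFun (congrFun (hE g) k) j
    rw [mul_single_apply_same, single_mul_apply_of_ne (h := hk)] at h
    simpa using h
  have hrow : ∀ (g : ↥C) l, l ≠ j → M g j l = 0 := by
    intro g l hl
    have h := congrFun (congrFun (hE g) i) l
    rw [mul_single_apply_of_ne (hbj := hl), single_mul_apply_same] at h
    simpa using h.symm
  have hdiag : ∀ g : ↥C, M g i i = 1 ∧ M g j j = 1 := by
    intro g
    have hne : M g i i ≠ 0 := fun h0 => by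
      have hdet : (M g).det = 0 := Matrix.det_eq_zero_of_column_eq_zero i fun k => by
        by_cases hk : k = i
        · rw [hk]; exact h0
        · exact hcol g k hk
      have h1 : (M g).det = 1 := (g : Matrix.SpecialLinearGroup (Fin n) F).2
      rw [hdet] at h1
      exact zero_ne_one h1
    have h := congrFun (congrFun (hE g) i) j
    rw [mul_single_apply_same, single_mul_apply_same, mul_one, one_mul] at h
    exact ⟨hone _ hne, by rw [← h]; exact hone _ hne⟩
  -- action on the middle section
  let φ : ↥C →* Matrix {k : Fin n // k ≠ i ∧ k ≠ j} {k : Fin n // k ≠ i ∧ k ≠ j} F :=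
    { toFun := fun g => fun k l => M g k l
      map_one' := by
        ext k l
        show M 1 k l = _
        rw [hone', Matrix.one_apply, Matrix.one_apply]
        simp [Subtype.ext_iff]
      map_mul' := by
        intro g h
        ext k l
        show M (g * h) k l = ∑ m : {k : Fin n // k ≠ i ∧ k ≠ j}, M g k m * M h m l
        rw [hmul, Matrix.mul_apply,
          ← Finset.sum_subtype (Finset.univ.filter fun m : Fin n => m ≠ i ∧ m ≠ j) (fun x => by simp)
            (fun m => M g k m * M h m l)]
        refine (Finset.sum_subset (Finset.filter_subset _ _) fun m _ hm => ?_).symm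
        simp only [Finset.mem_filter, Finset.mem_univ, true_and, not_and_or, not_not] at hm
        rcases hm with rfl | rfl
        · rw [hcol g k k.2.1, zero_mul]
        · rw [hrow h l l.2.2, mul_zero] }
  have hker : ∀ g : ↥C, g ∈ φ.ker ↔ ∀ k l, k ≠ i → l ≠ j → M g k l = (1 : Matrix (Fin n) (Fin n) F) k l := by
    intro g
    rw [MonoidHom.mem_ker]
    refine ⟨fun h k l hk hl => ?_, fun h => ?_⟩
    · by_cases hkj : k = j
      · subst hkj
        rw [hrow g l hl, Matrix.one_apply_ne (Ne.symm hl)]
      · by_cases hli : l = i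
        · subst hli
          rw [hcol g k hk, Matrix.one_apply_ne hk]
        · have := congrFun (congrFun h ⟨k, hk, hkj⟩) ⟨l, hli, hl⟩
          change M g k l = _ at this
          rw [this, Matrix.one_apply, Matrix.one_apply]
          simp [Subtype.ext_iff]
    · ext k l
      show M g k l = _
      rw [h k l k.2.1 l.2.2, Matrix.one_apply, Matrix.one_apply]
      simp [Subtype.ext_iff]
  have hp : IsPGroup 2 ↥φ.ker := by
    rintro ⟨g, hg⟩
    refine ⟨2, Subtype.ext (hMinj _ _ ?_)⟩
    have hsq : ∀ N : Matrix (Fin n) (Fin n) F, (1 + N) * (1 + N) = 1 + N * N := fun N => by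
      have : N + N = 0 := by ext k l; exact h2 _
      calc (1 + N) * (1 + N) = 1 + (N + N) + N * N := by noncomm_ring
        _ = 1 + N * N := by rw [this, add_zero]
    obtain ⟨N, hN⟩ : ∃ N, N = M g - 1 := ⟨_, rfl⟩
    have hg1 : M g = 1 + N := by rw [hN]; abel
    have hN0 : ∀ k l, k ≠ i → l ≠ j → N k l = 0 := fun k l hk hl => by
      rw [hN, Matrix.sub_apply, (hker g).mp hg k l hk hl, sub_self]
    have hNi : ∀ k, N k i = 0 := fun k => by
      by_cases hk : k = i
      · subst hk
        rw [hN, Matrix.sub_apply, (hdiag g).1, Matrix.one_apply_eq, sub_self]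
      · exact hN0 k i hk hij
    have hNj : ∀ l, N j l = 0 := fun l => by
      by_cases hl : l = j
      · subst hl
        rw [hN, Matrix.sub_apply, (hdiag g).2, Matrix.one_apply_eq, sub_self]
      · exact hN0 j l hij.symm hl
    have hNN : ∀ k l, (k ≠ i ∨ l ≠ j) → (N * N) k l = 0 := fun k l h => by
      rw [Matrix.mul_apply]
      refine Finset.sum_eq_zero fun m _ => ?_
      rcases h with hk | hl
      · by_cases hm : m = j
        · rw [hm, hNj, mul_zero]
        · rw [hN0 k m hk hm, zero_mul]
      · by_cases hm : m = i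
        · rw [hm, hNi, zero_mul]
        · rw [hN0 m l hm hl, mul_zero]
    have hN4 : (N * N) * (N * N) = 0 := by
      ext k l
      rw [Matrix.mul_apply]
      refine Finset.sum_eq_zero fun m _ => ?_
      by_cases hm : m = j
      · rw [hNN m l (Or.inl (hm ▸ hij.symm)), mul_zero]
      · rw [hNN k m (Or.inr hm), zero_mul]
    calc M (((⟨g, hg⟩ : ↥φ.ker) ^ 2 ^ 2 : ↥φ.ker) : ↥C) = (M g * M g) * (M g * M g) := by
          simp only [SubmonoidClass.coe_pow]
          norm_num [pow_succ, pow_zero]
          simp [hmul, mul_assoc]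
      _ = 1 := by rw [hg1, hsq, hsq, hN4, add_zero]
      _ = _ := hone'.symm
  refine CfsgLib.CharP.charP_of_forall fun c hc hcQ => ?_
  have hQ : φ.ker ≤ Cfsg.pCore 2 ↥C := CfsgLib.Core.le_pCore inferInstance hp
  -- elementary matrices in the kernel
  have hel : ∀ a b, a ≠ b → a ≠ j → b ≠ i → (a = i ∨ b = j) →
      M c * Matrix.single a b (1 : F) = Matrix.single a b (1 : F) * M c := by
    intro a b hab haj hbi hor
    let s : Matrix.SpecialLinearGroup (Fin n) F := ⟨Matrix.transvection a b 1, Matrix.det_transvection_of_ne a b hab 1⟩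
    have hs : s ∈ C := by
      refine Subgroup.mem_centralizer_singleton_iff.mpr (Subtype.ext ?_)
      show Matrix.transvection a b 1 * (t : Matrix (Fin n) (Fin n) F) = (t : Matrix (Fin n) (Fin n) F) * Matrix.transvection a b 1
      rw [ht, Matrix.transvection, Matrix.transvection]
      simp only [mul_add, add_mul, mul_one, one_mul, Matrix.single_mul_single_of_ne _ _ _ _ hbi,
        Matrix.single_mul_single_of_ne _ _ _ _ (Ne.symm haj)]
      abel
    have hsk : (⟨s, hs⟩ : ↥C) ∈ φ.ker := by
      rw [hker]
      intro k l hk hl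
      show (Matrix.transvection a b (1 : F)) k l = _
      rw [Matrix.transvection, Matrix.add_apply, Matrix.single_apply_of_ne, add_zero]
      rintro ⟨rfl, rfl⟩
      exact hor.elim hk hl
    have h := congrArg M (hcQ _ (hQ hsk))
    rw [hmul, hmul] at h
    have hMs : M ⟨s, hs⟩ = 1 + Matrix.single a b (1 : F) := rfl
    rw [hMs, mul_add, add_mul, mul_one, one_mul] at h
    exact add_left_cancel h
  have hck : c ∈ φ.ker := by
    rw [hker]
    intro k l hk hl
    by_cases hkj : k = j
    · subst hkj
      rw [hrow c l hl, Matrix.one_apply_ne (Ne.symm hl)]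
    · -- compare with the transvection from i to k
      have h := congrFun (congrFun (hel i k (Ne.symm hk) hij hk (Or.inl rfl)) i) l
      rw [single_mul_apply_same, one_mul] at h
      rw [← h]
      by_cases hlk : l = k
      · subst hlk
        rw [mul_single_apply_same, mul_one, (hdiag c).1, Matrix.one_apply_eq]
      · rw [mul_single_apply_of_ne (hbj := hlk), Matrix.one_apply_ne (Ne.symm hlk)]
  obtain ⟨m, hm⟩ := hp ⟨c, hck⟩
  have h := pow_gcd_eq_one.mpr ⟨pow_orderOf_eq_one c, (by simpa using congrArg Subtype.val hm : c ^ 2 ^ m = 1)⟩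
  rwa [hc.pow_right m, pow_one] at h


/-- Let F be a field with 2 elements, n ≥ 3, and t ∈ SL(n, F) a transvection (t = 1 + E_{ij}, i ≠ j). Then the generalized Fitting subgroup of C(t) is O_2(C(t)). -/
theorem result {F : Type*} [Field F] [Fintype F] [DecidableEq F] (hF : Fintype.card F = 2) (n : ℕ) (hn : 3 ≤ n) (i j : Fin n) (hij : i ≠ j) (t : Matrix.SpecialLinearGroup (Fin n) F) (ht : (t : Matrix (Fin n) (Fin n) F) = Matrix.transvection i j 1) : Cfsg.generalizedFittingSubgroup ↥(Subgroup.centralizer ({t} : Set (Matrix.SpecialLinearGroup (Fin n) F))) = Cfsg.pCore 2 ↥(Subgroup.centralizer ({t} : Set (Matrix.SpecialLinearGroup (Fin n) F))) := by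
  haveI : Fact (Nat.Prime 2) := ⟨Nat.prime_two⟩
  exact CfsgLib.GenFitting.genFitting_eq_of_charP (main hF n i j hij t ht)

end Cfsg.Agent.S1339
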