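import Cfsg.Agent.Lib.Linear.Generation
import Cfsg.Agent.Lib.PComponents2
-- import your own Cfsg.Agent.* helpers here

set_option autoImplicit false
open Cfsg

namespace Cfsg.Agent.S1340

/-- Let F be a finite field of odd order and n ≥ 3 with (n, |F|) ≠ (3, 3). Then GL(n, F) has a non-central involution t such that C(t) / O(C(t)) has a component. -/
theorem result {F : Type*} [Field F] [Fintype F] [DecidableEq F] (hF : Odd (Fintype.card F)) (n : ℕ) (hn : 3 ≤ n) (h33 : ¬ (n = 3 ∧ Fintype.card F = 3)) : ∃ t : Matrix.GeneralLinearGroup (Fin n) F, orderOf t = 2 ∧ t ∉ Subgroup.center (Matrix.GeneralLinearGroup (Fin n) F) ∧ Cfsg.HasComponent (↥(Subgroup.centralizer ({t} : Set (Matrix.GeneralLinearGroup (Fin n) F))) ⧸ Cfsg.oddCore ↥(Subgroup.centralizer ({t} : Set (Matrix.GeneralLinearGroup (Fin n) F)))) := by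
  classical
  obtain ⟨m, rfl⟩ : ∃ m, n = 1 + m := ⟨n - 1, by omega⟩
  have h2 : (2 : F) ≠ 0 := by
    intro h
    haveI : CharP F 2 := CharTwo.of_one_ne_zero_of_two_eq_zero one_ne_zero h
    obtain ⟨k, -, hk⟩ := FiniteField.card F 2
    exact Nat.not_even_iff_odd.mpr hF (hk ▸ (even_iff_two_dvd.mpr (dvd_pow_self 2 k.pos.ne')))
  have hne : (-1 : F) ≠ 1 := fun h => h2 (by linear_combination -h)
  let Φ : GL (Fin 1 ⊕ Fin m) F ≃* GL (Fin (1 + m)) F :=
    Units.mapEquiv (Matrix.reindexAlgEquiv F F finSumFinEquiv).toMulEquiv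
  let em : Matrix.SpecialLinearGroup (Fin m) F →* GL (Fin 1 ⊕ Fin m) F := MonoidHom.toHomUnits
    { toFun := fun S => Matrix.fromBlocks 1 0 0 (S : Matrix (Fin m) (Fin m) F)
      map_one' := by simp
      map_mul' := fun a b => by simp [Matrix.fromBlocks_multiply] }
  have hem : ∀ S, ((em S : GL (Fin 1 ⊕ Fin m) F) : Matrix (Fin 1 ⊕ Fin m) (Fin 1 ⊕ Fin m) F) =
      Matrix.fromBlocks 1 0 0 (S : Matrix (Fin m) (Fin m) F) := fun S => rfl
  let t₀ : GL (Fin 1 ⊕ Fin m) F :=
    ⟨Matrix.fromBlocks (-1) 0 0 1, Matrix.fromBlocks (-1) 0 0 1, by simp [Matrix.fromBlocks_multiply],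
      by simp [Matrix.fromBlocks_multiply]⟩
  have ht1 : t₀ ≠ 1 := fun h => hne (by
    simpa [t₀] using congrArg (fun u : GL (Fin 1 ⊕ Fin m) F => (u : Matrix (Fin 1 ⊕ Fin m) (Fin 1 ⊕ Fin m) F) (Sum.inl 0) (Sum.inl 0)) h)
  have ht2 : t₀ * t₀ = 1 := Units.ext (by simp [t₀, Matrix.fromBlocks_multiply])
  -- an element of order two in the lower block
  have hm2 : 2 ≤ m := by omega
  let i0 : Fin m := ⟨0, by omega⟩
  let i1 : Fin m := ⟨1, by omega⟩
  let d : Fin m → F := fun i => if i = i0 ∨ i = i1 then -1 else 1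
  have hd : (Matrix.diagonal d).det = 1 := by
    rw [Matrix.det_diagonal, Finset.prod_ite, Finset.prod_const, Finset.prod_const_one, mul_one]
    rw [show Finset.univ.filter (fun i => i = i0 ∨ i = i1) = {i0, i1} by ext i; simp,
      Finset.card_pair (by simp [i0, i1])]
    norm_num
  let s : Matrix.SpecialLinearGroup (Fin m) F := ⟨Matrix.diagonal d, hd⟩
  have hs1 : s ≠ 1 := fun h => hne (by
    have h0 := congrFun (congrFun (congrArg (fun u : Matrix.SpecialLinearGroup (Fin m) F => (u : Matrix (Fin m) (Fin m) F)) h) i0) i0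
    simpa [s, d] using h0)
  have hs2 : s * s = 1 := Subtype.ext (by
    show Matrix.diagonal d * Matrix.diagonal d = 1
    rw [Matrix.diagonal_mul_diagonal, ← Matrix.diagonal_one]
    congr 1; ext i; simp only [d]; split_ifs <;> ring)
  set t := Φ t₀ with ht
  have hcen : t ∉ Subgroup.center (GL (Fin (1 + m)) F) := by
    intro h
    let B : Matrix (Fin 1) (Fin m) F := Matrix.of fun _ _ => 1
    let w : GL (Fin 1 ⊕ Fin m) F :=
      ⟨Matrix.fromBlocks 1 B 0 1, Matrix.fromBlocks 1 (-B) 0 1, by simp [Matrix.fromBlocks_multiply],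
        by simp [Matrix.fromBlocks_multiply]⟩
    have h0 : w * t₀ = t₀ * w := Φ.injective (by rw [map_mul, map_mul]; exact Subgroup.mem_center_iff.mp h (Φ w))
    have h1 : Matrix.fromBlocks 1 B 0 1 * Matrix.fromBlocks (-1) 0 0 1 =
        Matrix.fromBlocks (-1) 0 0 1 * Matrix.fromBlocks 1 B 0 1 := congrArg Units.val h0
    simp only [Matrix.fromBlocks_multiply, Matrix.fromBlocks_inj, Matrix.mul_zero, Matrix.zero_mul, add_zero, zero_add, Matrix.mul_one, Matrix.one_mul, Matrix.neg_mul] at h1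
    have h3 := congrFun (congrFun h1.2.1 0) i0
    simp [B] at h3
    exact hne h3.symm
  refine ⟨t, ?_, hcen, ?_⟩
  · refine orderOf_eq_prime (by rw [pow_two, ← map_mul, ht2, map_one]) fun h => ht1 (Φ.injective (h.trans (map_one Φ).symm))
  set C := Subgroup.centralizer ({t} : Set (GL (Fin (1 + m)) F)) with hC
  let f : Matrix.SpecialLinearGroup (Fin m) F →* C := (Φ.toMonoidHom.comp em).codRestrict C fun S =>
    Subgroup.mem_centralizer_singleton_iff.mpr (by
      show Φ (em S) * Φ t₀ = Φ t₀ * Φ (em S)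
      rw [← map_mul, ← map_mul]
      exact congrArg Φ (Units.ext (by simp [t₀, hem, Matrix.fromBlocks_multiply])))
  have hf : Function.Injective f := fun a b h => by
    have h0 := congrArg Units.val (Φ.injective (congrArg Subtype.val h))
    rw [hem, hem, Matrix.fromBlocks_inj] at h0
    exact Subtype.ext h0.2.2.2
  haveI hn : f.range.Normal := ⟨by
    rintro _ ⟨S, rfl⟩ g
    obtain ⟨h, hh⟩ := Φ.surjective (g : GL (Fin (1 + m)) F)
    have hcomm : h * t₀ = t₀ * h := Φ.injective (by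
      rw [map_mul, map_mul, hh]; exact Subgroup.mem_centralizer_singleton_iff.mp g.2)
    obtain ⟨A, B, C', D, hM⟩ : ∃ A B C' D, (h : Matrix (Fin 1 ⊕ Fin m) (Fin 1 ⊕ Fin m) F) = Matrix.fromBlocks A B C' D :=
      ⟨_, _, _, _, (Matrix.fromBlocks_toBlocks _).symm⟩
    have hc : (h : Matrix (Fin 1 ⊕ Fin m) (Fin 1 ⊕ Fin m) F) * Matrix.fromBlocks (-1) 0 0 1 =
        Matrix.fromBlocks (-1) 0 0 1 * (h : Matrix (Fin 1 ⊕ Fin m) (Fin 1 ⊕ Fin m) F) := congrArg Units.val hcomm
    rw [hM, Matrix.fromBlocks_multiply, Matrix.fromBlocks_multiply, Matrix.fromBlocks_inj] at hc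
    simp only [Matrix.mul_zero, Matrix.zero_mul, add_zero, zero_add, Matrix.mul_one, Matrix.one_mul, Matrix.mul_neg, Matrix.neg_mul] at hc
    have hB : B = 0 := by
      ext i j
      have h3 := congrFun (congrFun hc.2.1 i) j
      simp only [Matrix.neg_apply] at h3
      exact (mul_eq_zero.mp (show (2 : F) * B i j = 0 by linear_combination h3)).resolve_left h2
    have hC' : C' = 0 := by
      ext i j
      have h3 := congrFun (congrFun hc.2.2.1 i) j
      simp only [Matrix.neg_apply] at h3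
      exact (mul_eq_zero.mp (show (2 : F) * C' i j = 0 by linear_combination -h3)).resolve_left h2
    subst hB hC'
    have hdet : IsUnit D.det := by
      have hu : IsUnit (h : Matrix (Fin 1 ⊕ Fin m) (Fin 1 ⊕ Fin m) F).det :=
        (Matrix.isUnit_iff_isUnit_det _).mp h.isUnit
      rw [hM, Matrix.det_fromBlocks_zero₂₁] at hu
      exact isUnit_of_mul_isUnit_right hu
    let S' : Matrix.SpecialLinearGroup (Fin m) F := ⟨D * (S : Matrix (Fin m) (Fin m) F) * D⁻¹, by
      rw [Matrix.det_mul, Matrix.det_mul, S.prop, mul_one, ← Matrix.det_mul, Matrix.mul_nonsing_inv _ hdet, Matrix.det_one]⟩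
    refine ⟨S', Subtype.ext ?_⟩
    show Φ (em S') = (g : GL (Fin (1 + m)) F) * Φ (em S) * (g : GL (Fin (1 + m)) F)⁻¹
    rw [← hh, ← map_mul, ← map_inv, ← map_mul]
    refine congrArg Φ (eq_mul_inv_iff_mul_eq.mpr (Units.ext ?_))
    rw [Units.val_mul, Units.val_mul, hem, hem, hM, Matrix.fromBlocks_multiply, Matrix.fromBlocks_multiply]
    simp [S', Matrix.mul_assoc, Matrix.nonsing_inv_mul _ hdet]⟩
  haveI : Nontrivial (Fin m) := Fin.nontrivial_iff_two_le.2 hm2
  have hcond : 3 ≤ Fintype.card (Fin m) ∨ ∃ x : F, x ≠ 0 ∧ x ^ 2 ≠ 1 := by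
    rcases Nat.lt_or_ge m 3 with hm | hm
    · right
      by_contra hcon
      push Not at hcon
      have hle : (Finset.univ : Finset F) ⊆ {0, 1, -1} := fun x _ => by
        by_cases hx : x = 0
        · simp [hx]
        · rcases sq_eq_one_iff.mp (hcon x hx) with h | h <;> simp [h]
      have h4 := (Finset.card_le_card hle).trans Finset.card_le_three
      rw [Finset.card_univ] at h4
      have h5 := Fintype.one_lt_card (α := F)
      refine h33 ⟨by omega, ?_⟩
      obtain ⟨j, hj⟩ := hF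
      omega
    · left; rwa [Fintype.card_fin]
  have hperf := CfsgLib.Linear.Generation.commutator_SL_eq_top (F := F) hcond
  have hQ : Cfsg.IsQuasisimple (Matrix.SpecialLinearGroup (Fin m) F) :=
    ⟨⟨hperf⟩, CfsgLib.Linear.Generation.isSimpleGroup_PSL (F := F) hcond⟩
  haveI : (Cfsg.oddCore C).Normal := CfsgLib.PConstrained.pPrimeCore_normal
  set q := QuotientGroup.mk' (Cfsg.oddCore C) with hq
  let g := q.comp f
  have hgr : g.range = f.range.map q := (MonoidHom.range_comp _ _)
  haveI : g.range.Normal := by rw [hgr]; exact hn.map q (QuotientGroup.mk'_surjective _)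
  refine ⟨g.range, Subgroup.Normal.isSubnormal inferInstance, ?_⟩
  refine (CfsgLib.PComponents.quasisimple_iff_of_central_ker g.rangeRestrict g.rangeRestrict_surjective
    (by rw [← commutator_def]; exact hperf) ?_).1 hQ
  rw [MonoidHom.ker_rangeRestrict]
  refine (CfsgLib.Components.quasisimple_normal_cases hQ g.ker).resolve_left fun htop => hs1 (hf ?_)
  have hmem : f s ∈ Cfsg.oddCore C := (QuotientGroup.eq_one_iff _).mp (MonoidHom.mem_ker.mp (htop ▸ Subgroup.mem_top s))
  rw [map_one]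
  refine orderOf_eq_one_iff.mp (Nat.eq_one_of_dvd_coprimes (CfsgLib.Core.card_pPrimeCore_coprime 2)
    (Subgroup.orderOf_dvd_natCard _ hmem) (orderOf_dvd_of_pow_eq_one ?_))
  rw [pow_two, ← map_mul, hs2, map_one]

end Cfsg.Agent.S1340
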