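import Cfsg.Statements.S1910
import Mathlib.GroupTheory.Sylow

set_option autoImplicit false
open Cfsg

namespace Cfsg.Agent.S1910

variable {G : Type*} [Group G] [Finite G]

theorem mem_cj {g x : G} {H : Subgroup G} : x ∈ H.map (MulAut.conj g).toMonoidHom ↔ g⁻¹ * x * g ∈ H := by
  rw [Subgroup.mem_map_equiv, MulAut.conj_symm_apply]

/-- A two-subgroup of a subgroup is conjugate into a Sylow subgroup of it. -/
theorem conj_into {K S R : Subgroup G} (hSK : S ≤ K) (hS : IsPGroup 2 ↥S) (hidx : ¬ 2 ∣ S.relIndex K) (hRK : R ≤ K)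
    (hR : IsPGroup 2 ↥R) : ∃ k ∈ K, ∀ r ∈ R, k⁻¹ * r * k ∈ S := by
  haveI : Fact (Nat.Prime 2) := ⟨Nat.prime_two⟩
  let P : Sylow 2 ↥K := (hS.comap_subtype (K := K)).toSylow hidx
  obtain ⟨P', hP'⟩ := (hR.comap_subtype (K := K)).exists_le_sylow
  obtain ⟨k, hk⟩ := MulAction.exists_smul_eq ↥K P P'
  refine ⟨k, k.2, fun r hr => ?_⟩
  have h : (⟨r, hRK hr⟩ : ↥K) ∈ (P' : Subgroup ↥K) := hP' hr
  rw [← hk, ← SetLike.mem_coe, Sylow.coe_subgroup_smul] at h
  obtain ⟨z, hz, he⟩ := h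
  have he' : (k : G) * (z : G) * (k : G)⁻¹ = r := by simpa [MulAut.conj_apply] using congrArg Subtype.val he
  rw [← he', show (k : G)⁻¹ * ((k : G) * (z : G) * (k : G)⁻¹) * (k : G) = (z : G) by group]
  exact hz

theorem tight_bot {Q : Subgroup G} (hQ : Cfsg.IsTightlyEmbedded Q) {X : Subgroup G} (hX : IsPGroup 2 ↥X) {x : G}
    (hx : x ∉ Subgroup.normalizer (Q : Set G)) (hle : X ≤ Q ⊓ Q.map (MulAut.conj x).toMonoidHom) : X = ⊥ := by
  haveI : Fact (Nat.Prime 2) := ⟨Nat.prime_two⟩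
  obtain ⟨n, hn⟩ := hX.exists_card_eq
  refine Subgroup.eq_bot_of_card_eq X ?_
  have hodd := (hQ.2 x hx).of_dvd_nat (Subgroup.card_dvd_of_le hle)
  rw [hn] at hodd ⊢
  rcases n with _ | n
  · rfl
  · exact absurd hodd (Nat.not_odd_iff_even.mpr ⟨2 ^ n, by rw [pow_succ]; omega⟩)

theorem conj_normalizer {Q : Subgroup G} {g x : G} (h : g⁻¹ * x * g ∈ Subgroup.normalizer (Q : Set G)) :
    x ∈ Subgroup.normalizer ((Q.map (MulAut.conj g).toMonoidHom : Subgroup G) : Set G) := by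
  rw [Subgroup.mem_normalizer_iff] at h ⊢
  intro y
  rw [mem_cj, mem_cj, h (g⁻¹ * y * g)]
  rw [show g⁻¹ * x * g * (g⁻¹ * y * g) * (g⁻¹ * x * g)⁻¹ = g⁻¹ * (x * y * x⁻¹) * g by group]

theorem tight_conj {Q : Subgroup G} (hQ : Cfsg.IsTightlyEmbedded Q) (g : G) :
    Cfsg.IsTightlyEmbedded (Q.map (MulAut.conj g).toMonoidHom) := by
  refine ⟨by rw [Subgroup.card_map_of_injective (MulAut.conj g).injective]; exact hQ.1, fun x hx => ?_⟩
  have h := hQ.2 (g⁻¹ * x * g) fun h => hx (conj_normalizer h)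
  have e : Q.map (MulAut.conj g).toMonoidHom ⊓ (Q.map (MulAut.conj g).toMonoidHom).map (MulAut.conj x).toMonoidHom =
      (Q ⊓ Q.map (MulAut.conj (g⁻¹ * x * g)).toMonoidHom).map (MulAut.conj g).toMonoidHom := by
    ext y
    simp only [Subgroup.mem_inf, mem_cj]
    refine and_congr_right fun _ => ?_
    rw [show g⁻¹ * (x⁻¹ * y * x) * g = (g⁻¹ * x * g)⁻¹ * (g⁻¹ * y * g) * (g⁻¹ * x * g) by group]
  rw [e, Subgroup.card_map_of_injective (MulAut.conj g).injective]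
  exact h

/-- Normalising a nontrivial two-subgroup of a conjugate normalises the conjugate. -/
theorem normalizes {Q : Subgroup G} (hQ : Cfsg.IsTightlyEmbedded Q) {X : Subgroup G} (hX : IsPGroup 2 ↥X) (hX1 : X ≠ ⊥)
    (hXQ : X ≤ Q) {x : G} (hle : ∀ a ∈ X, x⁻¹ * a * x ∈ Q) : x ∈ Subgroup.normalizer (Q : Set G) := by
  by_contra hx
  exact hX1 (tight_bot hQ hX hx (le_inf hXQ fun a ha => mem_cj.mpr (hle a ha)))

/-- The embedding of the given subgroup in the centralised part. -/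
theorem embed {Q : Subgroup G} (hQ : Cfsg.IsTightlyEmbedded Q) {g : G} (hg : g ∉ Subgroup.normalizer (Q : Set G))
    {T : Subgroup G} (hT1 : T ≠ ⊥) (hT : T ≤ Q.map (MulAut.conj g).toMonoidHom ⊓ Subgroup.normalizer (Q : Set G))
    (hTsyl : IsPGroup 2 T ∧ ¬ 2 ∣ T.relIndex (Q.map (MulAut.conj g).toMonoidHom ⊓ Subgroup.normalizer (Q : Set G)))
    {S : Subgroup G} (hTS : T ≤ S) (hS : S ≤ Q ⊔ T) (hSsyl : IsPGroup 2 S ∧ ¬ 2 ∣ S.relIndex (Q ⊔ T)) :
    T ⊓ Q = ⊥ ∧ ⁅T, S ⊓ Subgroup.normalizer (T : Set G) ⊓ Q⁆ = ⊥ ∧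
    T ⊔ (S ⊓ Subgroup.normalizer (T : Set G) ⊓ Q) = S ⊓ Subgroup.normalizer (T : Set G) ∧
    S ⊓ Subgroup.normalizer (T : Set G) ⊓ Q ≤ Q ⊓ Subgroup.normalizer ((Q.map (MulAut.conj g).toMonoidHom : Subgroup G) : Set G) ∧
    ∃ f : ↥T →* ↥(S ⊓ Subgroup.normalizer (T : Set G) ⊓ Q), Function.Injective f := by
  haveI : Fact (Nat.Prime 2) := ⟨Nat.prime_two⟩
  set Q' := Q.map (MulAut.conj g).toMonoidHom with hQ'
  set U := S ⊓ Subgroup.normalizer (T : Set G) ⊓ Q with hU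
  set M := S ⊓ Subgroup.normalizer (T : Set G) with hM
  have hTQ' : T ≤ Q' := hT.trans inf_le_left
  have hTN : T ≤ Subgroup.normalizer (Q : Set G) := hT.trans inf_le_right
  have hTQ : T ⊓ Q = ⊥ := tight_bot hQ (hTsyl.1.to_le inf_le_left) hg
    (le_inf inf_le_right (inf_le_left.trans hTQ'))
  have hSN : S ≤ Subgroup.normalizer (Q : Set G) := hS.trans (sup_le Subgroup.le_normalizer hTN)
  have hTU : ∀ t ∈ T, ∀ v ∈ U, t * v = v * t := by
    intro t ht v hv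
    obtain ⟨hvM, hvQ⟩ := Subgroup.mem_inf.mp hv
    obtain ⟨-, hvN⟩ := Subgroup.mem_inf.mp hvM
    have h : t * v * t⁻¹ * v⁻¹ ∈ T ⊓ Q := Subgroup.mem_inf.mpr ⟨by
      rw [show t * v * t⁻¹ * v⁻¹ = t * (v * t⁻¹ * v⁻¹) by group]
      exact mul_mem ht ((Subgroup.mem_normalizer_iff.mp hvN _).mp (inv_mem ht)),
      mul_mem ((Subgroup.mem_normalizer_iff.mp (hTN ht) _).mp hvQ) (inv_mem hvQ)⟩
    rw [hTQ, Subgroup.mem_bot, mul_inv_eq_one, mul_inv_eq_iff_eq_mul] at h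
    exact h
  have hcomm : ⁅T, U⁆ = ⊥ := le_bot_iff.mp (Subgroup.commutator_le.mpr fun t ht v hv =>
    Subgroup.mem_bot.mpr (commutatorElement_eq_one_iff_mul_comm.mpr (hTU t ht v hv)))
  have hdec : ∀ x ∈ M, ∃ v ∈ U, ∃ t ∈ T, x = v * t := by
    intro x hx
    obtain ⟨hxS, hxN⟩ := Subgroup.mem_inf.mp hx
    have h := hS hxS
    rw [← SetLike.mem_coe, Subgroup.coe_mul_of_right_le_normalizer_left Q T hTN] at h
    obtain ⟨q, hq, t, ht, rfl⟩ := h
    refine ⟨q, Subgroup.mem_inf.mpr ⟨Subgroup.mem_inf.mpr ⟨?_, ?_⟩, hq⟩, t, ht, rfl⟩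
    · have := mul_mem hxS (inv_mem (hTS ht)); rwa [mul_inv_cancel_right] at this
    · have := mul_mem hxN (inv_mem (Subgroup.le_normalizer (H := T) ht)); rwa [mul_inv_cancel_right] at this
  have hMeq : T ⊔ U = M := by
    refine le_antisymm (sup_le (le_inf hTS Subgroup.le_normalizer) inf_le_left) fun x hx => ?_
    obtain ⟨v, hv, t, ht, rfl⟩ := hdec x hx
    exact mul_mem (Subgroup.mem_sup_right hv) (Subgroup.mem_sup_left ht)
  have hUN : U ≤ Q ⊓ Subgroup.normalizer (Q' : Set G) := fun v hv => Subgroup.mem_inf.mpr ⟨(Subgroup.mem_inf.mp hv).2,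
    normalizes (tight_conj hQ g) hTsyl.1 hT1 hTQ' fun a ha => by
      rw [mul_assoc, hTU a ha v hv, inv_mul_cancel_left]; exact hTQ' ha⟩
  refine ⟨hTQ, hcomm, hMeq, hUN, ?_⟩
  by_cases hnorm : S ≤ Subgroup.normalizer (T : Set G)
  · -- `T` normal in `S`
    set R := T.map (MulAut.conj g⁻¹).toMonoidHom with hR
    have hRQ : R ≤ Q := by
      rintro _ ⟨t, ht, rfl⟩
      have := mem_cj.mp (hTQ' ht)
      simpa [MulAut.conj_apply] using this
    obtain ⟨k, hk, hkR⟩ := conj_into hS hSsyl.1 hSsyl.2 (hRQ.trans le_sup_left) (hTsyl.1.map _)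
    have hkN : k ∈ Subgroup.normalizer (Q : Set G) := sup_le Subgroup.le_normalizer hTN hk
    have hmem : ∀ t : ↥T, k⁻¹ * (g⁻¹ * t * g) * k ∈ U := fun t => by
      have h1 : g⁻¹ * (t : G) * g ∈ R := ⟨t, t.2, by simp [MulAut.conj_apply]⟩
      refine Subgroup.mem_inf.mpr ⟨Subgroup.mem_inf.mpr ⟨hkR _ h1, hnorm (hkR _ h1)⟩, ?_⟩
      have := (Subgroup.mem_normalizer_iff.mp (inv_mem hkN) _).mp (hRQ h1)
      rwa [inv_inv] at this
    refine ⟨MonoidHom.mk' (fun t => ⟨_, hmem t⟩) (fun a b => Subtype.ext (by simp only [Subgroup.coe_mul]; group)), ?_⟩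
    intro a b hab
    exact Subtype.ext (by simpa using congrArg Subtype.val hab)
  · obtain ⟨x, hxS, hxMN, hxM⟩ : ∃ x ∈ S, x ∈ Subgroup.normalizer (M : Set G) ∧ x ∉ M := by
      have hlt : M.subgroupOf S < ⊤ := lt_top_iff_ne_top.mpr fun e =>
        hnorm fun s hs => (Subgroup.mem_inf.mp (Subgroup.subgroupOf_eq_top.mp e hs)).2
      haveI := hSsyl.1.isNilpotent
      obtain ⟨x, hx, hxM⟩ := SetLike.exists_of_lt (Group.normalizerCondition_of_isNilpotent _ hlt)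
      refine ⟨x, x.2, ?_, hxM⟩
      rw [Subgroup.mem_normalizer_iff]
      intro y
      constructor
      · intro hy
        exact (Subgroup.mem_normalizer_iff.mp hx ⟨y, (Subgroup.mem_inf.mp hy).1⟩).mp hy
      · intro hy
        have hyS : y ∈ S := by
          have := mul_mem (mul_mem (inv_mem x.2) (Subgroup.mem_inf.mp hy).1) x.2
          simpa [mul_assoc] using this
        exact (Subgroup.mem_normalizer_iff.mp hx ⟨y, hyS⟩).mpr hy
    have hTM : T ≤ M := hMeq ▸ le_sup_left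
    have hMQ' : M ⊓ Q' = T := by
      refine le_antisymm ?_ (le_inf hTM hTQ')
      have hle : M ⊓ Q' ≤ Q' ⊓ Subgroup.normalizer (Q : Set G) :=
        le_inf inf_le_right (inf_le_left.trans (inf_le_left.trans hSN))
      have hp : IsPGroup 2 ↥(M ⊓ Q') := hSsyl.1.to_le (inf_le_left.trans inf_le_left)
      obtain ⟨k, hk, hkR⟩ := conj_into hT hTsyl.1 hTsyl.2 hle hp
      refine (Subgroup.eq_of_le_of_card_ge (le_inf hTM hTQ') ?_).ge
      refine Nat.card_le_card_of_injective (fun r => (⟨k⁻¹ * r * k, hkR r r.2⟩ : ↥T)) fun a b hab => ?_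
      exact Subtype.ext (by simpa using congrArg Subtype.val hab)
    set T' := T.map (MulAut.conj x).toMonoidHom with hT'
    have hT'M : ∀ t ∈ T, x * t * x⁻¹ ∈ M := fun t ht => (Subgroup.mem_normalizer_iff.mp hxMN t).mp (hTM ht)
    have hT'T : ∀ t ∈ T, x * t * x⁻¹ ∈ T → t = 1 := by
      intro t ht hxt
      by_contra ht1
      have hxQ' : x⁻¹ ∈ Subgroup.normalizer (Q' : Set G) := by
        refine normalizes (tight_conj hQ g) (hTsyl.1.to_le (Subgroup.zpowers_le.mpr ht)) (by simpa using ht1)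
          ((Subgroup.zpowers_le.mpr ht).trans hTQ') fun a ha => ?_
        obtain ⟨i, rfl⟩ := Subgroup.mem_zpowers_iff.mp ha
        rw [inv_inv, show x * t ^ i * x⁻¹ = (x * t * x⁻¹) ^ i from (conj_zpow).symm]
        exact zpow_mem (hTQ' hxt) i
      refine hxM (Subgroup.mem_inf.mpr ⟨hxS, Subgroup.mem_normalizer_fintype fun a ha => ?_⟩)
      show x * a * x⁻¹ ∈ T
      rw [← hMQ']
      exact Subgroup.mem_inf.mpr ⟨hT'M a ha, (Subgroup.mem_normalizer_iff.mp (inv_inv x ▸ inv_mem hxQ') a).mp (hTQ' ha)⟩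
    choose v hv t' ht' hvt using fun t : ↥T => hdec _ (hT'M t t.2)
    have huniq : ∀ {a b c d : G}, a ∈ U → b ∈ T → c ∈ U → d ∈ T → a * b = c * d → a = c := by
      intro a b c d ha hb hc hd h
      have h1 : c⁻¹ * a = d * b⁻¹ := by rw [eq_mul_inv_iff_mul_eq, mul_assoc, h, inv_mul_cancel_left]
      have h2 : c⁻¹ * a ∈ T ⊓ Q := Subgroup.mem_inf.mpr ⟨h1 ▸ mul_mem hd (inv_mem hb),
        mul_mem (inv_mem (Subgroup.mem_inf.mp hc).2) (Subgroup.mem_inf.mp ha).2⟩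
      rw [hTQ, Subgroup.mem_bot, inv_mul_eq_one] at h2
      exact h2.symm
    refine ⟨MonoidHom.mk' (fun t => ⟨v t, hv t⟩) (fun a b => Subtype.ext ?_), ?_⟩
    · refine huniq (hv (a * b)) (ht' (a * b)) (mul_mem (hv a) (hv b)) (mul_mem (ht' a) (ht' b)) ?_
      rw [← hvt, Subgroup.coe_mul]
      show x * ((a : G) * b) * x⁻¹ = v a * v b * (t' a * t' b)
      rw [show v a * v b * (t' a * t' b) = v a * (v b * t' a) * t' b by group, ← hTU _ (ht' a) _ (hv b),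
        show v a * (t' a * v b) * t' b = (v a * t' a) * (v b * t' b) by group, ← hvt, ← hvt]
      group
    · intro a b hab
      have hab' : v a = v b := congrArg Subtype.val hab
      have h3 : x * ((b : G)⁻¹ * a) * x⁻¹ ∈ T := by
        rw [show x * ((b : G)⁻¹ * a) * x⁻¹ = (x * b * x⁻¹)⁻¹ * (x * a * x⁻¹) by group, hvt a, hvt b, hab',
          show (v b * t' b)⁻¹ * (v b * t' a) = (t' b)⁻¹ * t' a by group]
        exact mul_mem (inv_mem (ht' b)) (ht' a)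
      exact Subtype.ext (inv_mul_eq_one.mp (hT'T _ (mul_mem (inv_mem b.2) a.2) h3)).symm

/-- Let Q be a tightly embedded subgroup of a finite group G, g an element outside N_G(Q), T a nontrivial Sylow 2-subgroup of Q^g ∩ N_G(Q), and S a Sylow 2-subgroup of QT containing T. Then T ∩ Q = 1, and N_S(T) is the direct product of T and N_S(T) ∩ Q, with N_S(T) ∩ Q isomorphic to T. -/
theorem result {G : Type*} [Group G] [Finite G] (Q : Subgroup G) (hQ : Cfsg.IsTightlyEmbedded Q)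
    (g : G) (hg : g ∉ Subgroup.normalizer (Q : Set G))
    (T : Subgroup G) (hT1 : T ≠ ⊥) (hT : T ≤ Q.map (MulAut.conj g).toMonoidHom ⊓ Subgroup.normalizer (Q : Set G))
    (hTsyl : IsPGroup 2 T ∧ ¬ 2 ∣ T.relIndex (Q.map (MulAut.conj g).toMonoidHom ⊓ Subgroup.normalizer (Q : Set G)))
    (S : Subgroup G) (hTS : T ≤ S) (hS : S ≤ Q ⊔ T) (hSsyl : IsPGroup 2 S ∧ ¬ 2 ∣ S.relIndex (Q ⊔ T)) :
    T ⊓ Q = ⊥ ∧
      T ⊓ (S ⊓ Subgroup.normalizer (T : Set G) ⊓ Q) = ⊥ ∧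
      ⁅T, S ⊓ Subgroup.normalizer (T : Set G) ⊓ Q⁆ = ⊥ ∧
      T ⊔ (S ⊓ Subgroup.normalizer (T : Set G) ⊓ Q) = S ⊓ Subgroup.normalizer (T : Set G) ∧
      Nonempty (↥(S ⊓ Subgroup.normalizer (T : Set G) ⊓ Q) ≃* T) := by
  haveI : Fact (Nat.Prime 2) := ⟨Nat.prime_two⟩
  set U := S ⊓ Subgroup.normalizer (T : Set G) ⊓ Q with hU
  set Q' := Q.map (MulAut.conj g).toMonoidHom with hQ'
  obtain ⟨hTQ, hcomm, hsup, hUN, f₀, hf₀⟩ := embed hQ hg hT1 hT hTsyl hTS hS hSsyl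
  refine ⟨hTQ, le_bot_iff.mp ((inf_le_inf_left T inf_le_right).trans hTQ.le), hcomm, hsup, ?_⟩
  set W := Q ⊓ Subgroup.normalizer (Q' : Set G) with hW
  have hUp : IsPGroup 2 ↥U := hSsyl.1.to_le (inf_le_left.trans inf_le_left)
  obtain ⟨P, hP⟩ := (hUp.comap_subtype (K := W)).exists_le_sylow
  set V := (P : Subgroup ↥W).map W.subtype with hV
  have hUV : U ≤ V := fun v hv => ⟨⟨v, hUN hv⟩, hP hv, rfl⟩
  have hle : Nat.card ↥T ≤ Nat.card ↥U := Nat.card_le_card_of_injective f₀ hf₀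
  have hV1 : V ≠ ⊥ := fun e => hT1 (Subgroup.eq_bot_of_card_le T (hle.trans (by
    rw [show U = ⊥ from le_bot_iff.mp (hUV.trans e.le), Subgroup.card_bot])))
  have e' : Q'.map (MulAut.conj g⁻¹).toMonoidHom = Q := by
    ext y; simp [hQ', mem_cj, mul_assoc]
  have hg' : g⁻¹ ∉ Subgroup.normalizer (Q' : Set G) := fun h => hg (by
    have h1 := conj_normalizer (Q := Q') (g := g⁻¹) (x := g) (by
      rw [inv_inv, show g * g * g⁻¹ = g by group]
      exact inv_inv g ▸ inv_mem h)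
    rwa [e'] at h1)
  have hVle : V ≤ Q'.map (MulAut.conj g⁻¹).toMonoidHom ⊓ Subgroup.normalizer (Q' : Set G) := by
    rw [e']; exact Subgroup.map_subtype_le _
  have hVsyl : IsPGroup 2 ↥V ∧ ¬ 2 ∣ V.relIndex (Q'.map (MulAut.conj g⁻¹).toMonoidHom ⊓ Subgroup.normalizer (Q' : Set G)) := by
    refine ⟨P.2.map _, ?_⟩
    rw [e', ← hW, hV, Subgroup.relIndex, Subgroup.subgroupOf, Subgroup.comap_map_eq_self_of_injective W.subtype_injective]
    exact P.not_dvd_index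
  obtain ⟨P', hP'⟩ := ((P.2.map W.subtype).comap_subtype (K := Q' ⊔ V)).exists_le_sylow
  set S' := (P' : Subgroup ↥(Q' ⊔ V)).map (Q' ⊔ V).subtype with hS'
  have hVS' : V ≤ S' := fun v hv => ⟨⟨v, Subgroup.mem_sup_right hv⟩, hP' hv, rfl⟩
  have hS'syl : IsPGroup 2 ↥S' ∧ ¬ 2 ∣ S'.relIndex (Q' ⊔ V) := by
    refine ⟨P'.2.map _, ?_⟩
    rw [hS', Subgroup.relIndex, Subgroup.subgroupOf, Subgroup.comap_map_eq_self_of_injective (Q' ⊔ V).subtype_injective]
    exact P'.not_dvd_index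
  set U' := S' ⊓ Subgroup.normalizer (V : Set G) ⊓ Q' with hU'
  obtain ⟨-, -, -, hUN', f₁, hf₁⟩ := embed (tight_conj hQ g) hg' hV1 hVle hVsyl hVS' (Subgroup.map_subtype_le _) hS'syl
  rw [e'] at hUN'
  obtain ⟨k, -, hkR⟩ := conj_into hT hTsyl.1 hTsyl.2 hUN' (hS'syl.1.to_le (inf_le_left.trans inf_le_left))
  have hle' : Nat.card ↥U' ≤ Nat.card ↥T :=
    Nat.card_le_card_of_injective (fun r => (⟨k⁻¹ * r * k, hkR r r.2⟩ : ↥T)) fun a b hab =>
      Subtype.ext (by simpa using congrArg Subtype.val hab)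
  have hcard : Nat.card ↥T = Nat.card ↥U :=
    le_antisymm hle ((Subgroup.card_le_of_le hUV).trans ((Nat.card_le_card_of_injective f₁ hf₁).trans hle'))
  exact ⟨(MulEquiv.ofBijective f₀ ((Nat.bijective_iff_injective_and_card f₀).mpr ⟨hf₀, hcard⟩)).symm⟩

end Cfsg.Agent.S1910
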