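import Cfsg.Statements.S1921
import Cfsg.Agent.Lib.Components

set_option autoImplicit false
open Cfsg

namespace Cfsg.Agent.S1921
open CfsgLib.Components CfsgLib.LocalBasic

/-- Let a be an involution of a finite group H and L a component of H with a L a⁻¹ ≠ L; put M = ⟨L, aLa⁻¹⟩ and let J be the subgroup generated by the elements x · a x a⁻¹ with x ∈ L (the diagonal). Then every element of M outside J·Z(M) generates M together with J. -/
theorem result {H : Type*} [Group H] [Finite H] (a : H) (ha : orderOf a = 2) (L : Subgroup H) (hL : Cfsg.IsComponent L)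
    (hLa : L.map (MulAut.conj a).toMonoidHom ≠ L) (x : H) (hxM : x ∈ L ⊔ L.map (MulAut.conj a).toMonoidHom)
    (hxJ : x ∉ Subgroup.closure {y : H | ∃ l ∈ L, y = l * (a * l * a⁻¹)} ⊔
      ((L ⊔ L.map (MulAut.conj a).toMonoidHom) ⊓ Subgroup.centralizer ((L ⊔ L.map (MulAut.conj a).toMonoidHom : Subgroup H) : Set H))) :
    Subgroup.closure {y : H | ∃ l ∈ L, y = l * (a * l * a⁻¹)} ⊔ Subgroup.zpowers x = L ⊔ L.map (MulAut.conj a).toMonoidHom := by
  set L' := L.map (MulAut.conj a).toMonoidHom with hL'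
  set J := Subgroup.closure {y : H | ∃ l ∈ L, y = l * (a * l * a⁻¹)}
  set M := L ⊔ L' with hM
  have hc : ∀ u ∈ L, ∀ v ∈ L', u * v = v * u := fun u hu v hv =>
    (Subgroup.commutator_eq_bot_iff_le_centralizer.mp (component_comm hL (component_map_conj hL a) (Ne.symm hLa)) hu v hv).symm
  have hconjL : ∀ l ∈ L, a * l * a⁻¹ ∈ L' := fun l hl => ⟨l, hl, rfl⟩
  have hJM : J ≤ M := (Subgroup.closure_le _).mpr (by
    rintro _ ⟨l, hl, rfl⟩; exact Subgroup.mul_mem_sup hl (hconjL l hl))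
  set X := J ⊔ Subgroup.zpowers x with hX
  have hXM : X ≤ M := sup_le hJM (Subgroup.zpowers_le.mpr hxM)
  refine le_antisymm hXM ?_
  have hgen : ∀ l ∈ L, l * (a * l * a⁻¹) ∈ X := fun l hl => Subgroup.mem_sup_left (Subgroup.subset_closure ⟨l, hl, rfl⟩)
  -- `X ∩ L` is normal in `L`
  have hn : L ≤ Subgroup.normalizer ((X ⊓ L : Subgroup H) : Set H) := by
    intro l hl
    refine mem_normalizer_of_conj_map_eq (Subgroup.eq_of_le_of_card_ge ?_
      (Subgroup.card_map_of_injective (MulEquiv.injective _)).ge)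
    rintro _ ⟨z, ⟨hzX, hzL⟩, rfl⟩
    refine Subgroup.mem_inf.mpr ⟨?_, mul_mem (mul_mem hl hzL) (inv_mem hl)⟩
    show l * z * l⁻¹ ∈ X
    have h2 := hc z hzL _ (hconjL l hl)
    rw [show l * z * l⁻¹ = l * (a * l * a⁻¹) * z * (l * (a * l * a⁻¹))⁻¹ by
      calc l * z * l⁻¹ = l * (z * (a * l * a⁻¹)) * (a * l * a⁻¹)⁻¹ * l⁻¹ := by group
        _ = l * ((a * l * a⁻¹) * z) * (a * l * a⁻¹)⁻¹ * l⁻¹ := by rw [h2]
        _ = _ := by group]
    exact mul_mem (mul_mem (hgen l hl) hzX) (inv_mem (hgen l hl))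
  haveI : ((X ⊓ L).subgroupOf L).Normal := (Subgroup.normal_subgroupOf_iff_le_normalizer inf_le_right).mpr hn
  rcases quasisimple_normal_cases hL.2 ((X ⊓ L).subgroupOf L) with h | h
  · have hLX : L ≤ X := (Subgroup.subgroupOf_eq_top.mp h).trans inf_le_left
    refine sup_le hLX ?_
    rintro _ ⟨l, hl, rfl⟩
    show a * l * a⁻¹ ∈ X
    rw [show a * l * a⁻¹ = l⁻¹ * (l * (a * l * a⁻¹)) by group]
    exact mul_mem (inv_mem (hLX hl)) (hgen l hl)
  · exfalso
    refine hxJ ?_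
    have hn' : L' ≤ Subgroup.normalizer (L : Set H) := fun v hv =>
      Subgroup.centralizer_le_normalizer _ fun u hu => hc u hu v hv
    have hx' : x ∈ ((L ⊔ L' : Subgroup H) : Set H) := hxM
    rw [Subgroup.coe_mul_of_right_le_normalizer_left _ _ hn'] at hx'
    obtain ⟨u, hu, _, ⟨w, hw, rfl⟩, rfl⟩ := hx'
    show u * (a * w * a⁻¹) ∈ _
    have hz : u * w⁻¹ ∈ X ⊓ L := by
      refine Subgroup.mem_inf.mpr ⟨?_, mul_mem hu (inv_mem hw)⟩
      have h2 := mul_mem (Subgroup.mem_sup_right (Subgroup.mem_zpowers _) : u * (a * w * a⁻¹) ∈ X) (inv_mem (hgen w hw))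
      rwa [show u * (a * w * a⁻¹) * (w * (a * w * a⁻¹))⁻¹ = u * w⁻¹ by group] at h2
    have hzC : u * w⁻¹ ∈ Subgroup.centralizer (M : Set H) := by
      intro m hm
      refine Subgroup.mem_centralizer_singleton_iff.mp ?_
      refine (sup_le (fun v hv => ?_) (fun v hv => ?_) : M ≤ Subgroup.centralizer ({u * w⁻¹} : Set H)) hm <;>
        rw [Subgroup.mem_centralizer_singleton_iff]
      · exact congrArg Subtype.val (Subgroup.mem_center_iff.mp (h (Subgroup.mem_subgroupOf.mpr hz :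
          (⟨_, hz.2⟩ : ↥L) ∈ _)) ⟨v, hv⟩)
      · exact (hc _ hz.2 v hv).symm
    rw [show u * (a * w * a⁻¹) = (u * w⁻¹) * (w * (a * w * a⁻¹)) by group]
    exact mul_mem (Subgroup.mem_sup_right ⟨Subgroup.mem_sup_left (mul_mem hu (inv_mem hw)), hzC⟩)
      (Subgroup.mem_sup_left (Subgroup.subset_closure ⟨w, hw, rfl⟩))

end Cfsg.Agent.S1921
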