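import Cfsg.Statements.S1922
import Cfsg.Agent.Lib.InvolutionCount
import Cfsg.Agent.Lib.LocalBasic

set_option autoImplicit false
open Cfsg

namespace Cfsg.Agent.S1922
open scoped commutatorElement Pointwise

theorem odd_of_involutive {α : Type*} [Finite α] (f : α → α) (hf : Function.Involutive f) (a : α)
    (hfix : ∀ x, f x = x ↔ x = a) : Odd (Nat.card α) := by
  classical
  letI := Fintype.ofFinite α
  haveI : Fact (Nat.Prime 2) := ⟨Nat.prime_two⟩
  have hσ : hf.toPerm f ^ 2 ^ 1 = 1 := Equiv.ext fun x => by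
    rw [pow_one, pow_two, Equiv.Perm.mul_apply, Equiv.Perm.one_apply]; exact hf x
  have h := Equiv.Perm.card_compl_support_modEq (p := 2) hσ
  have hs : ((hf.toPerm f).supportᶜ : Finset α) = {a} := by
    ext x; simp [hfix]
  rw [hs, Finset.card_singleton, ← Nat.card_eq_fintype_card] at h
  exact Nat.odd_iff.mpr h.symm

variable {G : Type*} [Group G] [Finite G] {H : Subgroup G} {z : G}

theorem fix_iff (x : G) (g : G) : x • (g : G ⧸ H) = (g : G ⧸ H) ↔ x ∈ H.map (MulAut.conj g).toMonoidHom := by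
  rw [show x • (g : G ⧸ H) = ((x * g : G) : G ⧸ H) from rfl, QuotientGroup.eq]
  constructor
  · intro h
    refine ⟨g⁻¹ * x * g, ?_, by simp [mul_assoc]⟩
    have := inv_mem h
    simpa [mul_assoc] using this
  · rintro ⟨a, ha, rfl⟩
    simpa [mul_assoc] using inv_mem ha

variable (hz : orderOf z = 2) (h0 : ∀ g : G, z ∈ H.map (MulAut.conj g).toMonoidHom ↔ g ∈ H)

include h0 in
theorem fix_z (y : G ⧸ H) : z • y = y ↔ y = ((1 : G) : G ⧸ H) := by
  induction y using QuotientGroup.induction_on with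
  | H g => rw [fix_iff, h0, QuotientGroup.eq, mul_one, inv_mem_iff]

include h0 in
theorem centralizer_le : Subgroup.centralizer ({z} : Set G) ≤ H := by
  intro c hc
  have hc' := Subgroup.mem_centralizer_singleton_iff.mp hc
  refine (h0 c).mp ⟨z, ?_, ?_⟩
  · obtain ⟨a, ha, e⟩ := (h0 1).mpr H.one_mem
    simp only [MulEquiv.coe_toMonoidHom, MulAut.conj_apply, one_mul, inv_one, mul_one] at e
    exact e ▸ ha
  · show c * z * c⁻¹ = z
    rw [hc', mul_inv_cancel_right]

theorem mul_self_of_order (hz : orderOf z = 2) {x : G} (hx : IsConj z x) : x * x = 1 := by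
  obtain ⟨c, rfl⟩ := isConj_iff.mp hx
  have : z * z = 1 := by rw [← pow_two, ← hz, pow_orderOf_eq_one]
  rw [show c * z * c⁻¹ * (c * z * c⁻¹) = c * (z * z) * c⁻¹ by group, this]; group

include h0 in
/-- Every conjugate fixes exactly one point. -/
theorem uniq_fix {x : G} (hx : IsConj z x) : ∃! y : G ⧸ H, x • y = y := by
  obtain ⟨c, rfl⟩ := isConj_iff.mp hx
  have h : ∀ y : G ⧸ H, (c * z * c⁻¹) • y = y ↔ y = c • ((1 : G) : G ⧸ H) := fun y => by
    rw [mul_smul, mul_smul, smul_eq_iff_eq_inv_smul, fix_z h0, inv_smul_eq_iff]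
  exact ⟨_, (h _).mpr rfl, fun y hy => (h y).mp hy⟩

/-- Condition (A). -/
def CondA (z : G) (H : Subgroup G) : Prop :=
  ∀ t : G, IsConj z t → t ≠ z → t * z = z * t → ∀ y : G ⧸ H, (z * t) • y = y → y = ((1 : G) : G ⧸ H)

include h0 in
/-- The product of two distinct commuting conjugates fixes only their common point. -/
theorem pair_fix (hA : CondA z H) {a b : G} (ha : IsConj z a) (hb : IsConj z b) (hne : b ≠ a) (hc : b * a = a * b)
    {y : G ⧸ H} (hy : (a * b) • y = y) : a • y = y := by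
  obtain ⟨c, rfl⟩ := isConj_iff.mp ha
  have ht : IsConj z (c⁻¹ * b * c) := hb.trans (isConj_iff.mpr ⟨c⁻¹, by group⟩)
  have e : z * (c⁻¹ * b * c) = c⁻¹ * (c * z * c⁻¹ * b) * c := by group
  have h1 := hA _ ht (fun h => hne (by rw [← h]; group))
    (by rw [e, ← hc]; group) (c⁻¹ • y) (by rw [e, mul_smul, smul_inv_smul, mul_smul, hy])
  rw [mul_smul, mul_smul, h1, (fix_z h0 _).mpr rfl, ← h1, smul_inv_smul]

theorem mem_class_of_pow {a b : G} (ha : a * a = 1) (hb : b * b = 1) (k : ℕ) :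
    IsConj a (a * (a * b) ^ k) ∨ IsConj b (a * (a * b) ^ k) := by
  have hia : a⁻¹ = a := inv_eq_of_mul_eq_one_right ha
  have hib : b⁻¹ = b := inv_eq_of_mul_eq_one_right hb
  have hinv : ((a * b) : G)⁻¹ = b * a := by rw [mul_inv_rev, hia, hib]
  have hconj : ∀ j : ℕ, (a * b) ^ j * a = a * ((a * b) ^ j)⁻¹ := by
    intro j
    induction j with
    | zero => simp
    | succ j ih =>
      calc (a * b) ^ (j + 1) * a = (a * b) ^ j * a * (b * a) := by rw [pow_succ]; group
        _ = a * ((a * b) ^ j)⁻¹ * (a * b)⁻¹ := by rw [ih, hinv]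
        _ = a * ((a * b) ^ (j + 1))⁻¹ := by simp only [pow_succ', mul_inv_rev, mul_assoc]
  rcases Nat.even_or_odd' k with ⟨j, rfl | rfl⟩
  · left
    refine isConj_iff.mpr ⟨((a * b) ^ j)⁻¹, ?_⟩
    rw [inv_inv, two_mul, pow_add]
    have h1 : ((a * b) ^ j)⁻¹ * a = a * (a * b) ^ j := by
      rw [inv_mul_eq_iff_eq_mul, ← mul_assoc, hconj j, inv_mul_cancel_right]
    rw [h1, mul_assoc]
  · right
    have hbq : a * (a * b) = b := by rw [← mul_assoc, ha, one_mul]
    refine isConj_iff.mpr ⟨((a * b) ^ j)⁻¹, ?_⟩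
    rw [inv_inv]
    have h1 : ((a * b) ^ j)⁻¹ * a = a * (a * b) ^ j := by
      rw [inv_mul_eq_iff_eq_mul, ← mul_assoc, hconj j, inv_mul_cancel_right]
    calc ((a * b) ^ j)⁻¹ * b * (a * b) ^ j = ((a * b) ^ j)⁻¹ * (a * (a * b)) * (a * b) ^ j := by rw [hbq]
      _ = ((a * b) ^ j)⁻¹ * a * (a * b) * (a * b) ^ j := by group
      _ = a * ((a * b) ^ j * (a * b) * (a * b) ^ j) := by rw [h1]; group
      _ = a * (a * b) ^ (2 * j + 1) := by rw [← pow_succ, ← pow_add, show j + 1 + j = 2 * j + 1 by omega]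

include hz h0 in
/-- The product of two conjugates with no common fixed point has odd order. -/
theorem odd_of_no_common (hA : CondA z H) {a b : G} (ha : IsConj z a) (hb : IsConj z b)
    (hno : ∀ y : G ⧸ H, a • y = y → b • y ≠ y) : Odd (orderOf (a * b)) := by
  by_contra hev
  obtain ⟨k, hk⟩ := Nat.not_odd_iff_even.mp hev
  have ha2 := mul_self_of_order hz ha
  have hb2 := mul_self_of_order hz hb
  set w := (a * b) ^ k with hw
  have hw2 : w * w = 1 := by rw [hw, ← pow_add, ← hk, pow_orderOf_eq_one]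
  have hw1 : w ≠ 1 := by
    intro h
    have h1 := orderOf_dvd_of_pow_eq_one h
    have h2 := Nat.le_of_dvd (by have := orderOf_pos (a * b); omega) h1
    have := orderOf_pos (a * b); omega
  have hia : a⁻¹ = a := inv_eq_of_mul_eq_one_right ha2
  have hib : b⁻¹ = b := inv_eq_of_mul_eq_one_right hb2
  have hiw : w⁻¹ = w := inv_eq_of_mul_eq_one_right hw2
  have hwa : a * w = w * a := by
    have h := (MulAut.conj a).toMonoidHom.map_pow (a * b) k
    simp only [MulEquiv.coe_toMonoidHom, MulAut.conj_apply] at h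
    rw [show a * (a * b) * a⁻¹ = (a * b)⁻¹ by rw [mul_inv_rev, hib, hia, ← mul_assoc, ha2, one_mul], inv_pow, ← hw, hiw] at h
    exact mul_inv_eq_iff_eq_mul.mp h
  have hwb : b * w = w * b := by
    have h := (Commute.pow_self (a * b) k).eq
    rw [← hw] at h
    calc b * w = a * (a * b) * w := by rw [← mul_assoc a a b, ha2, one_mul]
      _ = a * (w * (a * b)) := by rw [mul_assoc, ← h]
      _ = w * b := by rw [← mul_assoc, hwa, mul_assoc, ← mul_assoc a a b, ha2, one_mul]
  obtain ⟨ya, hya, huya⟩ := uniq_fix h0 ha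
  obtain ⟨yb, hyb, huyb⟩ := uniq_fix h0 hb
  simp only at hya huya hyb huyb
  have hwya : w • ya = ya := huya _ (by rw [← mul_smul, hwa, mul_smul, hya])
  have hwyb : w • yb = yb := huyb _ (by rw [← mul_smul, hwb, mul_smul, hyb])
  have ht : IsConj z (a * w) := by
    rcases mem_class_of_pow ha2 hb2 k with h | h
    · exact ha.trans h
    · exact hb.trans h
  have hne : a * w ≠ a := fun h => hw1 (by simpa using h)
  have hcom : a * w * a = a * (a * w) := by rw [mul_assoc, ← hwa]
  have hprod : a * (a * w) = w := by rw [← mul_assoc, ha2, one_mul]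
  refine hno yb (pair_fix h0 hA ha ht hne hcom (by rw [hprod]; exact hwyb)) hyb

include h0 in
theorem card_swap_odd (hz : orderOf z = 2) (hA : CondA z H) (hH : H ≠ ⊤) :
    Odd (Nat.card {x : G // IsConj z x}) := by
  classical
  letI := Fintype.ofFinite G
  letI := Fintype.ofFinite (G ⧸ H)
  set y₀ : G ⧸ H := ((1 : G) : G ⧸ H) with hy₀
  obtain ⟨g, hg⟩ : ∃ g, g ∉ H := by
    by_contra h; push Not at h; exact hH (eq_top_iff.mpr fun x _ => h x)
  set β : G ⧸ H := (g : G ⧸ H) with hβ
  have hβ0 : β ≠ y₀ := fun h => hg (by rw [hβ, hy₀, QuotientGroup.eq, mul_one, inv_mem_iff] at h; exact h)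
  have hzz : z * z = 1 := mul_self_of_order hz (IsConj.refl z)
  have hn : Odd (Nat.card (G ⧸ H)) := odd_of_involutive (fun y => z • y)
    (fun y => show z • z • y = y by rw [← mul_smul, hzz, one_smul]) y₀ (fun y => fix_z h0 y)
  have hfib : ∀ y : G ⧸ H, Nat.card {x : G // IsConj z x ∧ x • y = y} = Nat.card {x : G // IsConj z x ∧ x • y₀ = y₀} := by
    intro y
    obtain ⟨c, rfl⟩ := QuotientGroup.mk_surjective y
    have hc : (c : G ⧸ H) = c • y₀ := by rw [hy₀]; show _ = ((c * 1 : G) : G ⧸ H); rw [mul_one]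
    refine Nat.card_congr ((MulAut.conj c⁻¹).toEquiv.subtypeEquiv fun x => ?_)
    show IsConj z x ∧ _ ↔ IsConj z (c⁻¹ * x * c⁻¹⁻¹) ∧ (c⁻¹ * x * c⁻¹⁻¹) • y₀ = y₀
    refine and_congr ⟨fun h => h.trans (isConj_iff.mpr ⟨c⁻¹, rfl⟩), fun h => h.trans (isConj_iff.mpr ⟨c, by group⟩)⟩ ?_
    rw [inv_inv, mul_smul, mul_smul, inv_smul_eq_iff, hc]
  have hsum : Nat.card {x : G // IsConj z x} = Nat.card (G ⧸ H) * Nat.card {x : G // IsConj z x ∧ x • y₀ = y₀} := by
    choose π hπ hπu using fun x : {x : G // IsConj z x} => uniq_fix h0 x.2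
    rw [← Nat.card_prod]
    let e : {x : G // IsConj z x} ≃ Σ y : G ⧸ H, {x : G // IsConj z x ∧ x • y = y} :=
      { toFun := fun x => ⟨π x, x.1, x.2, hπ x⟩
        invFun := fun s => ⟨s.2.1, s.2.2.1⟩
        left_inv := fun x => rfl
        right_inv := by
          rintro ⟨y, x, hx, hy⟩
          obtain rfl := hπu ⟨x, hx⟩ y hy
          rfl }
    rw [Nat.card_congr e, Nat.card_sigma, Finset.sum_congr rfl fun y _ => hfib y, Finset.sum_const, Finset.card_univ,
      Nat.card_prod, smul_eq_mul]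
    simp [Nat.card_eq_fintype_card]
  rw [hsum]
  refine hn.mul ?_
  -- bijection with the swapping conjugates
  rw [← hfib β]
  let V := {v : G // IsConj z v ∧ v • y₀ = β}
  have hsw : ∀ v : V, v.1 • β = y₀ := fun v =>
    calc v.1 • β = v.1 • v.1 • y₀ := congrArg (v.1 • ·) v.2.2.symm
      _ = y₀ := by rw [← mul_smul, mul_self_of_order hz v.2.1, one_smul]
  have hmove : ∀ {x : G}, IsConj z x → ∀ {y y'}, x • y = y → x • y' = y' → y = y' :=
    fun hx _ _ h1 h2 => (uniq_fix h0 hx).unique h1 h2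
  let sq : V → {x : G // IsConj z x ∧ x • β = β} := fun v =>
    ⟨v.1 * z * v.1, (isConj_iff.mpr ⟨v.1, by rw [inv_eq_of_mul_eq_one_right (mul_self_of_order hz v.2.1)]⟩),
      by rw [mul_smul, mul_smul, hsw v, (fix_z h0 _).mpr rfl, v.2.2]⟩
  have hodd : ∀ {v : G}, IsConj z v → v • y₀ = β → Odd (orderOf (z * v)) := fun {v} hv hvy =>
    odd_of_no_common hz h0 hA (IsConj.refl z) hv fun y hy hvy' => hβ0 (by
      have := (fix_z h0 y).mp hy
      subst this
      exact hvy.symm.trans hvy')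
  have hsqrt : ∀ q : G, Odd (orderOf q) → q = (q * q) ^ ((orderOf q + 1) / 2) := by
    intro q ⟨j, hj⟩
    rw [← pow_two, ← pow_mul, hj, show 2 * ((2 * j + 1 + 1) / 2) = (2 * j + 1) + 1 by omega, pow_succ, ← hj,
      pow_orderOf_eq_one, one_mul]
  have hinj : Function.Injective sq := by
    intro v v' h
    have h' : v.1 * z * v.1 = v'.1 * z * v'.1 := congrArg Subtype.val h
    have e : ∀ u : V, z * u.1 * (z * u.1) = z * (u.1 * z * u.1) := fun u => by group
    have hq : z * v.1 * (z * v.1) = z * v'.1 * (z * v'.1) := by rw [e, e, h']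
    have ho : orderOf (z * v.1) = orderOf (z * v'.1) := by
      have aux : ∀ u : V, orderOf (z * u.1 * (z * u.1)) = orderOf (z * u.1) := fun u => by
        rw [← pow_two, Nat.Coprime.orderOf_pow]
        exact (Nat.coprime_two_right.mpr (hodd u.2.1 u.2.2))
      rw [← aux v, ← aux v', hq]
    refine Subtype.ext (mul_left_cancel (a := z) ?_)
    rw [hsqrt _ (hodd v.2.1 v.2.2), hsqrt _ (hodd v'.2.1 v'.2.2), hq, ho]
  have hsurj : Function.Surjective sq := by
    rintro ⟨s, hs, hsy⟩
    have hs2 := mul_self_of_order hz hs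
    obtain ⟨j, hj⟩ := odd_of_no_common hz h0 hA (IsConj.refl z) hs fun y hy hsy' => hβ0
      ((hmove hs hsy hsy').trans ((fix_z h0 y).mp hy))
    set v := z * (z * s) ^ (j + 1) with hv
    have hvc : IsConj z v := by
      rcases mem_class_of_pow hzz hs2 (j + 1) with h | h
      · exact h
      · exact hs.trans h
    have hvv := mul_self_of_order hz hvc
    have hsq : v * z * v = s := by
      have h1 : v * z * v = v * z * v * v * v := by rw [mul_assoc (v * z * v), hvv, mul_one]
      calc v * z * v = z * (z * v * (z * v)) := by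
            rw [← mul_assoc z (z * v), ← mul_assoc z z v, hzz, one_mul]; group
        _ = z * ((z * s) ^ (j + 1) * (z * s) ^ (j + 1)) := by rw [hv, ← mul_assoc z z, hzz, one_mul]
        _ = z * (z * s) := by
            rw [← pow_add, show j + 1 + (j + 1) = (2 * j + 1) + 1 by omega, pow_succ, ← hj, pow_orderOf_eq_one, one_mul]
        _ = s := by rw [← mul_assoc, hzz, one_mul]
    have hvy : v • y₀ = β := hmove hs (by
      have hvi : v⁻¹ = v := inv_eq_of_mul_eq_one_right hvv
      rw [← mul_smul, ← hsq, show v * z * v * v = v * z by rw [mul_assoc, hvv, mul_one], mul_smul,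
        (fix_z h0 _).mpr rfl]) hsy
    exact ⟨⟨v, hvc, hvy⟩, Subtype.ext hsq⟩
  rw [← Nat.card_eq_of_bijective sq ⟨hinj, hsurj⟩]
  obtain ⟨v₀, -⟩ := hsurj ⟨g * z * g⁻¹, isConj_iff.mpr ⟨g, rfl⟩, by
    rw [hβ, show (g : G ⧸ H) = g • y₀ by rw [hy₀]; show _ = ((g * 1 : G) : G ⧸ H); rw [mul_one], mul_smul, mul_smul,
      inv_smul_smul, (fix_z h0 _).mpr rfl]⟩
  have hvi : v₀.1⁻¹ = v₀.1 := inv_eq_of_mul_eq_one_right (mul_self_of_order hz v₀.2.1)
  let τ : V → V := fun v => ⟨v₀.1 * v.1 * v₀.1,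
    v.2.1.trans (isConj_iff.mpr ⟨v₀.1, by rw [hvi]⟩), by rw [mul_smul, mul_smul, v₀.2.2, hsw v, v₀.2.2]⟩
  refine odd_of_involutive τ (fun v => Subtype.ext ?_) v₀ fun v => ⟨fun h => ?_, fun h => ?_⟩
  · show v₀.1 * (v₀.1 * v.1 * v₀.1) * v₀.1 = v.1
    rw [show v₀.1 * (v₀.1 * v.1 * v₀.1) * v₀.1 = v₀.1 * v₀.1 * v.1 * (v₀.1 * v₀.1) by group,
      mul_self_of_order hz v₀.2.1, one_mul, mul_one]
  · by_contra hne
    have h' : v₀.1 * v.1 * v₀.1 = v.1 := congrArg Subtype.val h
    have hcom : v.1 * v₀.1 = v₀.1 * v.1 := by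
      calc v.1 * v₀.1 = v₀.1 * v.1 * v₀.1 * v₀.1 := by rw [h']
        _ = v₀.1 * v.1 := by rw [mul_assoc, mul_self_of_order hz v₀.2.1, mul_one]
    have hfx : (v₀.1 * v.1) • β = β := by rw [mul_smul, hsw v, v₀.2.2]
    have := pair_fix h0 hA v₀.2.1 v.2.1 (fun h => hne (Subtype.ext h)) hcom hfx
    exact hβ0 (this.symm.trans (hsw v₀))
  · subst h
    apply Subtype.ext
    show v.1 * v.1 * v.1 = v.1
    rw [mul_self_of_order hz v.2.1, one_mul]

/-- Let z be an involution of a finite group G and H a proper subgroup such that z lies in gHg⁻¹ exactly when g ∈ H. Then the following are equivalent: (1) for every conjugate t ≠ z of z commuting with z, the product zt lies in gHg⁻¹ exactly when g ∈ H; (2) z lies in the centre of some Sylow 2-subgroup of G, and for every conjugate t ≠ z of z commuting with z, the centralizer of zt is contained in H. -/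
theorem result {G : Type*} [Group G] [Finite G] (z : G) (hz : orderOf z = 2) (H : Subgroup G) (hH : H ≠ ⊤)
    (h0 : ∀ g : G, z ∈ H.map (MulAut.conj g).toMonoidHom ↔ g ∈ H) :
    (∀ t : G, IsConj z t → t ≠ z → t * z = z * t → ∀ g : G, z * t ∈ H.map (MulAut.conj g).toMonoidHom ↔ g ∈ H) ↔
      ((∃ P : Sylow 2 G, z ∈ (Subgroup.center ↥(P : Subgroup G)).map (P : Subgroup G).subtype) ∧
        ∀ t : G, IsConj z t → t ≠ z → t * z = z * t → Subgroup.centralizer ({z * t} : Set G) ≤ H) := by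
  classical
  constructor
  · intro hA'
    have hA : CondA z H := fun t ht hne hc y hy => by
      obtain ⟨g, rfl⟩ := QuotientGroup.mk_surjective y
      rw [QuotientGroup.eq, mul_one, inv_mem_iff]
      exact (hA' t ht hne hc g).mp ((fix_iff _ g).mp hy)
    refine ⟨?_, fun t ht hne hc c hcc => ?_⟩
    · haveI : Fact (Nat.Prime 2) := ⟨Nat.prime_two⟩
      have hodd := card_swap_odd h0 hz hA hH
      have hmul := CfsgLib.InvolutionCount.card_class_mul_card_centralizer z
      obtain ⟨Q⟩ := (inferInstance : Nonempty (Sylow 2 ↥(Subgroup.centralizer ({z} : Set G))))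
      have hcard : Nat.card ↥((Q : Subgroup ↥(Subgroup.centralizer ({z} : Set G))).map
          (Subgroup.centralizer ({z} : Set G)).subtype) = 2 ^ (Nat.card G).factorization 2 := by
        rw [Subgroup.card_map_of_injective (Subgroup.subtype_injective _), Q.card_eq_multiplicity, ← hmul,
          Nat.factorization_mul (by obtain ⟨k, hk⟩ := hodd; omega) Nat.card_pos.ne', Finsupp.add_apply,
          Nat.factorization_eq_zero_of_not_dvd (fun h => Nat.not_even_iff_odd.mpr hodd (even_iff_two_dvd.mpr h)), zero_add]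
      let P : Sylow 2 G := Sylow.ofCard _ hcard
      have hzQ : (⟨z, Subgroup.mem_centralizer_singleton_iff.mpr rfl⟩ : ↥(Subgroup.centralizer ({z} : Set G))) ∈
          (Q : Subgroup ↥(Subgroup.centralizer ({z} : Set G))) := by
        set z' : ↥(Subgroup.centralizer ({z} : Set G)) := ⟨z, Subgroup.mem_centralizer_singleton_iff.mpr rfl⟩
        have hcz : Subgroup.zpowers z' ≤ Subgroup.center _ := Subgroup.zpowers_le.mpr
          (Subgroup.mem_center_iff.mpr fun c => Subtype.ext (Subgroup.mem_centralizer_singleton_iff.mp c.2))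
        have hp : IsPGroup 2 ↥(Subgroup.zpowers z') :=
          IsPGroup.of_card (n := 1) (by rw [Nat.card_zpowers, ← Subgroup.orderOf_coe, pow_one]; exact hz)
        haveI : (Subgroup.zpowers z').Normal := ⟨fun n hn g => by
          rw [Subgroup.mem_center_iff.mp (hcz hn) g, mul_inv_cancel_right]; exact hn⟩
        have hsup : IsPGroup 2 ↥((Q : Subgroup ↥(Subgroup.centralizer ({z} : Set G))) ⊔ Subgroup.zpowers z') :=
          IsPGroup.to_sup_of_normal_right Q.2 hp
        rw [← Q.3 hsup le_sup_left]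
        exact Subgroup.mem_sup_right (Subgroup.mem_zpowers z')
      refine ⟨P, ⟨z, ⟨_, hzQ, rfl⟩⟩, Subgroup.mem_center_iff.mpr fun a => Subtype.ext ?_, rfl⟩
      obtain ⟨a', -, ha⟩ := a.2
      show (a : G) * z = z * a
      rw [← ha]
      exact Subgroup.mem_centralizer_singleton_iff.mp a'.2
    · refine (hA' t ht hne hc c).mp ⟨z * t, ?_, ?_⟩
      · obtain ⟨a, ha, e⟩ := (hA' t ht hne hc 1).mpr H.one_mem
        simp only [MulEquiv.coe_toMonoidHom, MulAut.conj_apply, one_mul, inv_one, mul_one] at e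
        exact e ▸ ha
      · show c * (z * t) * c⁻¹ = z * t
        rw [Subgroup.mem_centralizer_singleton_iff.mp hcc, mul_inv_cancel_right]
  · rintro ⟨⟨P, zP, hzc, rfl⟩, hB⟩ t ht hne hc g
    have hPH : (P : Subgroup G) ≤ H := fun x hx => centralizer_le h0 (Subgroup.mem_centralizer_singleton_iff.mpr
      (congrArg Subtype.val (Subgroup.mem_center_iff.mp hzc ⟨x, hx⟩)))
    have hzH : (zP : G) ∈ H := hPH zP.2
    have htH : t ∈ H := centralizer_le h0 (Subgroup.mem_centralizer_singleton_iff.mpr hc)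
    have hzt : (zP : G) * t ∈ H := mul_mem hzH htH
    refine ⟨fun hg => ?_, fun hg => ⟨g⁻¹ * ((zP : G) * t) * g, mul_mem (mul_mem (inv_mem hg) hzt) hg, by simp [mul_assoc]⟩⟩
    -- move a central Sylow into the point stabiliser
    set w := (zP : G) * t with hw
    haveI : Fact (Nat.Prime 2) := ⟨Nat.prime_two⟩
    obtain ⟨a, ha, he⟩ := hg
    have he' : g * a * g⁻¹ = w := he
    have hw2 : w ^ 2 = 1 := by
      have h1 : (zP : G) * zP = 1 := mul_self_of_order hz (IsConj.refl _)
      have h2 := mul_self_of_order hz ht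
      rw [pow_two, hw, show (zP : G) * t * ((zP : G) * t) = zP * (t * zP) * t by group, show t * (zP : G) = zP * t from hc,
        show (zP : G) * (zP * t) * t = zP * zP * (t * t) by group, h1, h2, one_mul]
    have ea : a = g⁻¹ * w * g⁻¹⁻¹ := by rw [← he']; group
    have ha2 : (⟨a, ha⟩ : ↥H) ^ 2 = 1 := Subtype.ext (by
      show a ^ 2 = 1
      rw [ea, conj_pow, hw2]; group)
    have haP : IsPGroup 2 ↥(Subgroup.zpowers (⟨a, ha⟩ : ↥H)) := CfsgLib.LocalBasic.isPGroup_zpowers_of_pow_eq_one (k := 1) (by rw [pow_one]; exact ha2)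
    obtain ⟨R, hR⟩ := haP.exists_le_sylow
    obtain ⟨h, hh⟩ := MulAction.exists_smul_eq ↥H (P.subtype hPH) R
    have haR := hR (Subgroup.mem_zpowers _)
    rw [← hh] at haR
    obtain ⟨b, hb, hba⟩ := haR
    have hbP : ((b : ↥H) : G) ∈ (P : Subgroup G) := Subgroup.mem_subgroupOf.mp hb
    have hcomm := congrArg Subtype.val (Subgroup.mem_center_iff.mp hzc ⟨_, hbP⟩)
    have hae : (h : G) * (b : G) * (h : G)⁻¹ = a := congrArg Subtype.val hba
    set c := g * (h : G) with hcdef
    have hs : c * zP * c⁻¹ ∈ Subgroup.centralizer ({w} : Set G) := by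
      refine Subgroup.mem_centralizer_singleton_iff.mpr ?_
      have hwc : w = c * b * c⁻¹ := by rw [← he', ← hae, hcdef]; group
      rw [hwc]
      calc c * zP * c⁻¹ * (c * b * c⁻¹) = c * (zP * b) * c⁻¹ := by group
        _ = c * (b * zP) * c⁻¹ := by rw [show ((b : ↥H) : G) * (zP : G) = zP * b from hcomm]
        _ = _ := by group
    have hcH : c * zP * c⁻¹ ∈ H := hB t ht hne hc hs
    have hcinv : c⁻¹ ∈ H := (h0 c⁻¹).mp ⟨c * zP * c⁻¹, hcH, by simp [mul_assoc]⟩
    have := inv_mem hcinv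
    rw [inv_inv, hcdef] at this
    simpa using mul_mem this (inv_mem h.2)

end Cfsg.Agent.S1922
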