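import Cfsg.Statements.S2010
import Cfsg.Agent.Lib.FourAct
import Cfsg.Agent.Lib.PLocal.Elementary
import Cfsg.Agent.Lib.PLocal.Omega
import Cfsg.Agent.Lib.GroupB.CoprimeAbelian
import Cfsg.Agent.Lib.PConstrained
import Cfsg.Agent.Lib.LocalBasic
import Cfsg.Agent.Lib.Thompson.Main
import Cfsg.Agent.S0044

set_option autoImplicit false
open Cfsg

namespace Cfsg.Agent.S2010

open scoped commutatorElement
open CfsgLib.LocalBasic

universe u

variable {G : Type u} [Group G] [Finite G]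

/-- An involution inverting an odd-order element that moves a subgroup of index at most two of its fixed points gives a symmetric section. -/
theorem transvection_false (hfree : CfsgLib.ThompsonNPC.S4Free G) {W W1 : Subgroup G} (hW : IsPGroup 2 ↥W)
    (hWab : ∀ v ∈ W, ∀ w ∈ W, v * w = w * v) (hW1W : W1 ≤ W) (hidx : Nat.card ↥W ≤ 2 * Nat.card ↥W1)
    {a x : G} (ha : ∃ j, orderOf a = 2 ^ j) (haW : a ∈ Subgroup.normalizer (W : Set G)) (haW1 : ∀ w ∈ W1, a * w = w * a)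
    (hxW : x ∈ Subgroup.normalizer (W : Set G)) (hxo : (orderOf x).Coprime 2)
    (hinv : a * x * a⁻¹ * x ∈ Subgroup.centralizer (W : Set G)) (hxC : x ∉ Subgroup.centralizer (W : Set G)) : False := by
  classical
  haveI : Fact (Nat.Prime 2) := ⟨Nat.prime_two⟩
  haveI : Fact (Nat.Prime 3) := ⟨Nat.prime_three⟩
  set f : G → G := fun w => ⁅x, w⁆ with hf
  have hcon : ∀ w ∈ W, x * w * x⁻¹ ∈ W := fun w hw => (Subgroup.mem_normalizer_iff.mp hxW w).mp hw
  have hfW : ∀ w ∈ W, ⁅x, w⁆ ∈ W := fun w hw => by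
    rw [commutatorElement_def]; exact mul_mem (hcon w hw) (inv_mem hw)
  -- an element of the form `⁅x, w⁆` fixed by `x` is trivial
  have hfpf : ∀ w ∈ W, x * ⁅x, w⁆ = ⁅x, w⁆ * x → ⁅x, w⁆ = 1 := by
    intro w hw hc
    obtain ⟨j, hj⟩ := hW ⟨_, hfW w hw⟩
    exact commutatorElement_eq_one_iff_mul_comm.mpr
      (commute_of_commutator_fixed hc (j := j) (by simpa using congrArg Subtype.val hj) hxo)
  let D : Subgroup G :=
    { carrier := {d | ∃ w ∈ W, ⁅x, w⁆ = d}
      one_mem' := ⟨1, one_mem W, commutatorElement_one_right x⟩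
      mul_mem' := by
        rintro _ _ ⟨v, hv, rfl⟩ ⟨w, hw, rfl⟩
        refine ⟨v * w, mul_mem hv hw, ?_⟩
        rw [show ⁅x, v * w⁆ = ⁅x, v⁆ * (v * ⁅x, w⁆ * v⁻¹) by simp only [commutatorElement_def]; group,
          hWab v hv _ (hfW w hw), mul_inv_cancel_right]
      inv_mem' := by
        rintro _ ⟨v, hv, rfl⟩
        refine ⟨v⁻¹, inv_mem hv, ?_⟩
        rw [show ⁅x, v⁻¹⁆ = v⁻¹ * ⁅x, v⁆⁻¹ * v by simp only [commutatorElement_def]; group,
          hWab _ (inv_mem hv) _ (inv_mem (hfW v hv)), inv_mul_cancel_right] }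
  have hDW : D ≤ W := by rintro _ ⟨w, hw, rfl⟩; exact hfW w hw
  have hDfpf : ∀ d ∈ D, x * d = d * x → d = 1 := by rintro _ ⟨w, hw, rfl⟩ hc; exact hfpf w hw hc
  have hDx : ∀ d ∈ D, x * d * x⁻¹ ∈ D := by
    rintro _ ⟨w, hw, rfl⟩
    exact ⟨x * w * x⁻¹, hcon w hw, by simp only [commutatorElement_def]; group⟩
  -- the common fixed points of `a` and its conjugate
  set W0 := W1 ⊓ W1.map (MulAut.conj x).toMonoidHom with hW0
  have hxW1 : W1.map (MulAut.conj x).toMonoidHom ≤ W := by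
    rintro _ ⟨w, hw, rfl⟩; exact hcon w (hW1W hw)
  have hW0fix : ∀ w ∈ W0, x * w = w * x := by
    intro w hw
    obtain ⟨hw1, hw2⟩ := Subgroup.mem_inf.mp hw
    have hwW := hW1W hw1
    obtain ⟨v, hv, hvw⟩ := hw2
    have hvw' : x * v * x⁻¹ = w := hvw
    have e1 : a * w * a⁻¹ = w := by rw [haW1 w hw1, mul_inv_cancel_right]
    have e2 : (x * a * x⁻¹) * w * (x * a * x⁻¹)⁻¹ = w := by
      rw [← hvw', show x * a * x⁻¹ * (x * v * x⁻¹) * (x * a * x⁻¹)⁻¹ = x * (a * v * a⁻¹) * x⁻¹ by group, haW1 v hv,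
        mul_inv_cancel_right]
    set c := a * x * a⁻¹ * x with hcdef
    have hcw : c⁻¹ * w * c = w := by
      rw [mul_assoc, hinv w hwW, inv_mul_cancel_left]
    have hu : (x * a * x⁻¹) * a⁻¹ = x * x * c⁻¹ := by rw [hcdef]; group
    have h2 : (x * x) * w * (x * x)⁻¹ = w := by
      calc (x * x) * w * (x * x)⁻¹ = (x * x * c⁻¹) * (c * w * c⁻¹) * (x * x * c⁻¹)⁻¹ := by group
        _ = (x * a * x⁻¹ * a⁻¹) * w * (x * a * x⁻¹ * a⁻¹)⁻¹ := by
          rw [← hu, ← hinv w hwW, mul_inv_cancel_right]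
        _ = (x * a * x⁻¹) * (a⁻¹ * (a * w * a⁻¹) * a) * (x * a * x⁻¹)⁻¹ := by rw [e1]; group
        _ = w := by rw [show a⁻¹ * (a * w * a⁻¹) * a = w by group, e2]
    have hc2 : Commute (x ^ 2) w := by rw [pow_two]; exact mul_inv_eq_iff_eq_mul.mp h2
    obtain ⟨k, hk⟩ : ∃ k, orderOf x = 2 * k + 1 := Nat.Coprime.odd_of_right hxo
    have := hc2.pow_left (k + 1)
    rwa [← pow_mul, show 2 * (k + 1) = orderOf x + 1 by omega, pow_succ, pow_orderOf_eq_one, one_mul] at this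
  -- at most four commutators
  have hW0W : W0 ≤ W := inf_le_left.trans hW1W
  have hidx0 : W0.relIndex W ≤ 4 := by
    have h1 : W1.relIndex W ≤ 2 := by
      have h := Subgroup.card_mul_index (W1.subgroupOf W)
      rw [Nat.card_congr (Subgroup.subgroupOfEquivOfLe hW1W).toEquiv] at h
      exact Nat.le_of_mul_le_mul_left (h.le.trans (by rw [mul_comm]; exact hidx)) Nat.card_pos
    have h2 : (W1.map (MulAut.conj x).toMonoidHom).relIndex W ≤ 2 := by
      have h := Subgroup.card_mul_index ((W1.map (MulAut.conj x).toMonoidHom).subgroupOf W)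
      rw [Nat.card_congr (Subgroup.subgroupOfEquivOfLe hxW1).toEquiv,
        Subgroup.card_map_of_injective (MulAut.conj x).injective] at h
      exact Nat.le_of_mul_le_mul_left (h.le.trans (by rw [mul_comm]; exact hidx)) Nat.card_pos
    exact (Subgroup.relIndex_inf_le).trans (Nat.mul_le_mul h1 h2)
  have hcardD : Nat.card ↥D ≤ 4 := by
    let φ : ↥W →* ↥D := MonoidHom.mk' (fun w => ⟨⁅x, (w : G)⁆, w, w.2, rfl⟩) (fun v w => Subtype.ext (by
      show ⁅x, (v : G) * w⁆ = ⁅x, (v : G)⁆ * ⁅x, (w : G)⁆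
      rw [show ⁅x, (v : G) * w⁆ = ⁅x, (v : G)⁆ * ((v : G) * ⁅x, (w : G)⁆ * (v : G)⁻¹) by simp only [commutatorElement_def]; group,
        hWab v v.2 _ (hfW w w.2), mul_inv_cancel_right]))
    have hφ : Function.Surjective φ := by rintro ⟨_, w, hw, rfl⟩; exact ⟨⟨w, hw⟩, rfl⟩
    have hker : W0.subgroupOf W ≤ φ.ker := fun w hw => Subtype.ext
      (commutatorElement_eq_one_iff_mul_comm.mpr (hW0fix _ (Subgroup.mem_subgroupOf.mp hw)))
    have h2 : Nat.card ↥D = φ.ker.index := by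
      rw [Subgroup.index_ker, MonoidHom.range_eq_top.mpr hφ, Subgroup.card_top]
    rw [h2]
    exact (Nat.le_of_dvd (Nat.pos_of_ne_zero Subgroup.index_ne_zero_of_finite) (Subgroup.index_dvd_of_le hker)).trans hidx0
  -- the cube centralises
  have hx2 : ∀ d ∈ D, x * x * d * (x * x)⁻¹ = d → d = 1 := by
    intro d hd h
    have hc2 : Commute (x ^ 2) d := by rw [pow_two]; exact mul_inv_eq_iff_eq_mul.mp h
    obtain ⟨k, hk⟩ : ∃ k, orderOf x = 2 * k + 1 := Nat.Coprime.odd_of_right hxo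
    have := hc2.pow_left (k + 1)
    rw [← pow_mul, show 2 * (k + 1) = orderOf x + 1 by omega, pow_succ, pow_orderOf_eq_one, one_mul] at this
    exact hDfpf d hd this
  have h3D : ∀ d ∈ D, x * (x * (x * d * x⁻¹) * x⁻¹) * x⁻¹ = d := by
    intro d hd
    rcases eq_or_ne d 1 with rfl | hd1
    · simp
    set d1 := x * d * x⁻¹ with hd1'
    set d2 := x * d1 * x⁻¹ with hd2'
    set d3 := x * d2 * x⁻¹
    have m1 : d1 ∈ D := hDx d hd
    have m2 : d2 ∈ D := hDx d1 m1
    have m3 : d3 ∈ D := hDx d2 m2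
    have n1 : d1 ≠ 1 := fun h => hd1 (conj_eq_one_iff.mp h)
    have n2 : d2 ≠ 1 := fun h => n1 (conj_eq_one_iff.mp h)
    have n3 : d3 ≠ 1 := fun h => n2 (conj_eq_one_iff.mp h)
    have f0 : d1 ≠ d := fun h => hd1 (hDfpf d hd (mul_inv_eq_iff_eq_mul.mp h))
    have f1 : d2 ≠ d1 := fun h => n1 (hDfpf d1 m1 (mul_inv_eq_iff_eq_mul.mp h))
    have f2 : d3 ≠ d2 := fun h => n2 (hDfpf d2 m2 (mul_inv_eq_iff_eq_mul.mp h))
    have g0 : d2 ≠ d := fun h => hd1 (hx2 d hd (Eq.trans (by rw [hd2', hd1']; group) h))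
    have g1 : d3 ≠ d1 := fun h => n1 (hx2 d1 m1 (Eq.trans (by show _ = x * (x * d1 * x⁻¹) * x⁻¹; group) h))
    by_contra hne
    have hsub : ({1, d, d1, d2, d3} : Set G) ⊆ (D : Set G) := by
      intro z hz
      rcases hz with rfl | rfl | rfl | rfl | rfl
      exacts [one_mem D, hd, m1, m2, m3]
    have hc := Set.ncard_le_ncard hsub (Set.toFinite _)
    rw [← Nat.card_coe_set_eq (D : Set G)] at hc
    have h5 : ({1, d, d1, d2, d3} : Set G).ncard = 5 := by
      rw [Set.ncard_eq_toFinset_card']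
      simp [hd1.symm, n1.symm, n2.symm, n3.symm, f0.symm, f1.symm, f2.symm, g0.symm, g1.symm, Ne.symm hne]
    have : Nat.card ↥D ≤ 4 := hcardD
    rw [h5] at hc
    exact absurd (hc.trans this) (by omega)
  have hcube : x ^ 3 ∈ Subgroup.centralizer (W : Set G) := by
    intro w hw
    set d := ⁅x, w⁆ with hd
    have hdD : d ∈ D := ⟨w, hw, rfl⟩
    set d1 := x * d * x⁻¹ with hd1
    set d2 := x * d1 * x⁻¹ with hd2
    have hyD : d2 * d1 * d ∈ D := mul_mem (mul_mem (hDx _ (hDx _ hdD)) (hDx _ hdD)) hdD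
    have hy : d2 * d1 * d = 1 := by
      refine hDfpf _ hyD (mul_inv_eq_iff_eq_mul.mp ?_)
      calc x * (d2 * d1 * d) * x⁻¹ = x * d2 * x⁻¹ * (x * d1 * x⁻¹) * (x * d * x⁻¹) := by group
        _ = d * d2 * d1 := by rw [show x * d2 * x⁻¹ = d from h3D d hdD]
        _ = d2 * d1 * d := by
          rw [mul_assoc, hWab d (hDW hdD) _ (hDW (mul_mem (hDx _ (hDx _ hdD)) (hDx _ hdD)))]
    have e : x ^ 3 * w * (x ^ 3)⁻¹ = d2 * d1 * d * w := by
      rw [hd2, hd1, hd, commutatorElement_def, pow_succ, pow_two]; group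
    rw [hy, one_mul] at e
    exact (mul_inv_eq_iff_eq_mul.mp e).symm
  -- pass to the three part
  obtain ⟨α, β, hα, hβ, hab, ⟨j, hj⟩, hcop⟩ := CfsgLib.ThompsonNPC.exists_mul_parts 3 x
  have hzN : Subgroup.zpowers x ≤ Subgroup.normalizer (W : Set G) := Subgroup.zpowers_le.mpr hxW
  obtain ⟨i, hiα⟩ := Subgroup.mem_zpowers_iff.mp hα
  obtain ⟨l, hlβ⟩ := Subgroup.mem_zpowers_iff.mp hβ
  have hpow3 : ∀ z : ℤ, (x ^ z) ^ 3 ∈ Subgroup.centralizer (W : Set G) := fun z => by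
    rw [← zpow_natCast (x ^ z), ← zpow_mul, mul_comm, zpow_mul, zpow_natCast]
    exact zpow_mem hcube z
  have hβC : β ∈ Subgroup.centralizer (W : Set G) := by
    have hb3 : β ^ 3 ∈ Subgroup.centralizer (W : Set G) := hlβ ▸ hpow3 l
    obtain ⟨m, hm⟩ := exists_pow_eq_self_of_coprime (x := β) (n := 3) hcop.symm
    rw [← hm]
    exact pow_mem hb3 m
  have hαC : α ∉ Subgroup.centralizer (W : Set G) := fun h => hxC (hab ▸ mul_mem h hβC)
  have hαinv : a * α * a⁻¹ * α ∈ Subgroup.centralizer (W : Set G) := by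
    set N := Subgroup.normalizer (W : Set G)
    let φ := Subgroup.normalizerMonoidHom W
    have hker : ∀ n : ↥N, φ n = 1 ↔ (n : G) ∈ Subgroup.centralizer (W : Set G) := fun n => by
      rw [← MonoidHom.mem_ker, Subgroup.normalizerMonoidHom_ker, Subgroup.mem_subgroupOf]
    have h1 : φ ⟨a, haW⟩ * φ ⟨x, hxW⟩ * (φ ⟨a, haW⟩)⁻¹ = (φ ⟨x, hxW⟩)⁻¹ := by
      rw [eq_inv_iff_mul_eq_one, ← map_inv, ← map_mul, ← map_mul, ← map_mul, hker]
      exact hinv
    have h2 : φ ⟨a, haW⟩ * φ (⟨x, hxW⟩ ^ i) * (φ ⟨a, haW⟩)⁻¹ = (φ (⟨x, hxW⟩ ^ i))⁻¹ := by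
      rw [map_zpow, ← conj_zpow, h1, inv_zpow]
    rw [eq_inv_iff_mul_eq_one, ← map_inv, ← map_mul, ← map_mul, ← map_mul, hker] at h2
    rw [← hiα]
    simpa using h2
  refine CfsgLib.FourAct.not_s4Free hW (hzN hα) haW ?_ ha hαC (hiα ▸ hpow3 i) hαinv hfree
  obtain ⟨m, -, hm⟩ := (Nat.dvd_prime_pow Nat.prime_three).mp (orderOf_dvd_of_pow_eq_one hj)
  exact ⟨m, hm⟩

theorem thompson_eq_of_le {Q P : Subgroup G} (hQP : Q ≤ P)
    (h : ∀ A ∈ Cfsg.maxElementaryAbelianSubgroups 2 ↥P, A.map P.subtype ≤ Q) :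
    Cfsg.thompsonSubgroupOf 2 P = Cfsg.thompsonSubgroupOf 2 Q := by
  set ι := Subgroup.inclusion hQP
  have hcomp : P.subtype.comp ι = Q.subtype := rfl
  have hι : Function.Injective ι := Subgroup.inclusion_injective hQP
  obtain ⟨A0, hA0⟩ := CfsgLib.PLocal.exists_max (G := ↥P) (p := 2)
  have hlift : ∀ A ∈ Cfsg.maxElementaryAbelianSubgroups 2 ↥P, (A.comap ι).map ι = A := by
    intro A hA
    rw [Subgroup.map_comap_eq, inf_eq_right]
    intro a ha
    exact ⟨⟨a, h A hA ⟨a, ha, rfl⟩⟩, rfl⟩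
  have hmaxQ : ∀ A ∈ Cfsg.maxElementaryAbelianSubgroups 2 ↥P, A.comap ι ∈ Cfsg.maxElementaryAbelianSubgroups 2 ↥Q := by
    intro A hA
    refine ⟨CfsgLib.PLocal.el_comap ι hι hA.1, fun B hB => ?_⟩
    rw [← Subgroup.card_map_of_injective (f := ι) hι (K := A.comap ι), hlift A hA, ← Subgroup.card_map_of_injective (f := ι) hι (K := B)]
    exact hA.2 _ (CfsgLib.PLocal.el_map ι hB)
  have hmaxP : ∀ B ∈ Cfsg.maxElementaryAbelianSubgroups 2 ↥Q, B.map ι ∈ Cfsg.maxElementaryAbelianSubgroups 2 ↥P := by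
    intro B hB
    refine ⟨CfsgLib.PLocal.el_map ι hB.1, fun C hC => (hA0.2 C hC).trans ?_⟩
    rw [← hlift A0 hA0, Subgroup.card_map_of_injective (f := ι) hι, Subgroup.card_map_of_injective (f := ι) hι]
    exact hB.2 _ (CfsgLib.PLocal.el_comap ι hι hA0.1)
  unfold Cfsg.thompsonSubgroupOf Cfsg.thompsonSubgroup
  refine le_antisymm ?_ ?_
  · rw [Subgroup.map_le_iff_le_comap]
    refine sSup_le fun A hA => ?_
    rw [← Subgroup.map_le_iff_le_comap, ← hlift A hA, Subgroup.map_map, hcomp]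
    exact Subgroup.map_mono (le_sSup (hmaxQ A hA))
  · rw [Subgroup.map_le_iff_le_comap]
    refine sSup_le fun B hB => ?_
    rw [← Subgroup.map_le_iff_le_comap, ← hcomp, ← Subgroup.map_map]
    exact Subgroup.map_mono (le_sSup (hmaxP B hB))

theorem thompson_char (H : Type u) [Group H] [Finite H] : (Cfsg.thompsonSubgroup 2 H).Characteristic := by
  rw [Subgroup.characteristic_iff_map_le]
  intro φ
  rw [Subgroup.map_le_iff_le_comap]
  refine sSup_le fun A hA => ?_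
  rw [← Subgroup.map_le_iff_le_comap]
  exact le_sSup (CfsgLib.PLocal.max_map φ hA)

/-- The Thompson subgroup is normal in a characteristic-two group without symmetric sections and of class two. -/
theorem normal_thompson (S : Sylow 2 G) (hfree : CfsgLib.ThompsonNPC.S4Free G)
    (hcl : Subgroup.lowerCentralSeries (S : Subgroup G) 2 = ⊥)
    (hc : Subgroup.centralizer ((Cfsg.pCore 2 G : Subgroup G) : Set G) ≤ Cfsg.pCore 2 G)
    (hO : ∀ [(Cfsg.pCore 2 G).Normal], Subgroup.centralizer ((Cfsg.pPrimeCore 2 (G ⧸ Cfsg.pCore 2 G) : Subgroup (G ⧸ Cfsg.pCore 2 G)) : Set (G ⧸ Cfsg.pCore 2 G)) ≤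
      Cfsg.pPrimeCore 2 (G ⧸ Cfsg.pCore 2 G)) :
    (Cfsg.thompsonSubgroupOf 2 (S : Subgroup G)).Normal := by
  classical
  haveI : Fact (Nat.Prime 2) := ⟨Nat.prime_two⟩
  haveI := CfsgLib.Core.pCore_characteristic (G := G) 2
  set Q := Cfsg.pCore 2 G with hQdef
  have hQS : Q ≤ (S : Subgroup G) := CfsgLib.Core.pCore_le_sylow S
  by_cases hall : ∀ A ∈ Cfsg.maxElementaryAbelianSubgroups 2 ↥(S : Subgroup G), A.map (S : Subgroup G).subtype ≤ Q
  · rw [thompson_eq_of_le hQS hall]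
    haveI := thompson_char ↥Q
    exact (inferInstance : ((Cfsg.thompsonSubgroup 2 ↥Q).map Q.subtype).Normal)
  exfalso
  push Not at hall
  obtain ⟨A₁, hA₁, hAQ⟩ := hall
  set A := A₁.map (S : Subgroup G).subtype with hAdef
  have hAS : A ≤ (S : Subgroup G) := Subgroup.map_subtype_le _
  obtain ⟨hAab, hA2⟩ := CfsgLib.PLocal.el_map (S : Subgroup G).subtype hA₁.1
  have hAc : ∀ a ∈ A, ∀ b ∈ A, a * b = b * a := fun a ha b hb => congrArg Subtype.val (hAab.is_comm.comm ⟨a, ha⟩ ⟨b, hb⟩)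
  have hmax : ∀ E : Subgroup G, E ≤ (S : Subgroup G) → Cfsg.IsElementaryAbelian 2 E → Nat.card ↥E ≤ Nat.card ↥A := by
    intro E hES hE
    rw [hAdef, Subgroup.card_map_of_injective (S : Subgroup G).subtype_injective,
      ← Nat.card_congr (Subgroup.subgroupOfEquivOfLe hES).toEquiv]
    exact hA₁.2 _ (CfsgLib.PLocal.el_comap _ (S : Subgroup G).subtype_injective hE)
  -- the module
  set C := Q ⊓ Subgroup.centralizer (Q : Set G) with hCdef
  have hCab : ∀ v ∈ C, ∀ w ∈ C, v * w = w * v := fun v hv w hw =>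
    ((Subgroup.mem_inf.mp hv).2 w (Subgroup.mem_inf.mp hw).1).symm
  haveI hCn : C.Normal := inferInstance
  let V : Subgroup G :=
    { carrier := {v | v ∈ C ∧ v ^ 2 = 1}
      one_mem' := ⟨one_mem C, one_pow 2⟩
      mul_mem' := fun {v w} hv hw => ⟨mul_mem hv.1 hw.1, by
        rw [(show Commute v w from hCab v hv.1 w hw.1).mul_pow, hv.2, hw.2, one_mul]⟩
      inv_mem' := fun {v} hv => ⟨inv_mem hv.1, by rw [inv_pow, hv.2, inv_one]⟩ }
  haveI hVn : V.Normal := ⟨fun v hv g => ⟨hCn.conj_mem v hv.1 g, by rw [conj_pow, hv.2, mul_one, mul_inv_cancel]⟩⟩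
  have hVC : ∀ {v}, v ∈ V → v ∈ C := fun hv => hv.1
  have hQV : ∀ q ∈ Q, ∀ v ∈ V, q * v = v * q := fun q hq v hv => (Subgroup.mem_inf.mp (hVC hv)).2 q hq
  -- the quotient
  set π := QuotientGroup.mk' Q with hπdef
  have hπs : Function.Surjective π := QuotientGroup.mk'_surjective Q
  have hQeq : ∀ {g : G}, π g = 1 → g ∈ Q := fun {g} h => (QuotientGroup.eq_one_iff g).mp h
  set K := Cfsg.pPrimeCore 2 (G ⧸ Q) with hKdef
  haveI hKn : K.Normal := by
    haveI := CfsgLib.Core.pPrimeCore_characteristic (G := G ⧸ Q) 2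
    infer_instance
  set Ab := A.map π with hAb
  have hKodd : (Nat.card ↥K).Coprime 2 := CfsgLib.Core.card_pPrimeCore_coprime 2
  have hAbp : IsPGroup 2 ↥Ab := ((S.2.to_le hAS).map π)
  have hAne : ¬ Ab ≤ Subgroup.centralizer (K : Set (G ⧸ Q)) := by
    intro hle
    have h := CfsgLib.PConstrained.inf_eq_bot_of_coprime hAbp hKodd
    rw [inf_eq_left.mpr (hle.trans hO), hAb, Subgroup.map_eq_bot_iff, QuotientGroup.ker_mk'] at h
    exact hAQ h
  have hcopA : (Nat.card ↥Ab).Coprime (Nat.card ↥K) := by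
    obtain ⟨n, hn⟩ := hAbp.exists_card_eq
    rw [hn]; exact hKodd.symm.pow_left n
  have hgen := CfsgLib.GroupB.CoprimeAbelian.iSup_centralizer_eq (A := Ab) (G := K) (Subgroup.map_isMulCommutative A π)
    (by rw [Subgroup.normalizer_eq_top]; exact le_top) hcopA
  obtain ⟨Bb, hBb, hBne⟩ : ∃ Bb ∈ CfsgLib.GroupB.CoprimeAbelian.cocyclic Ab,
      ¬ K ⊓ Subgroup.centralizer (Bb : Set (G ⧸ Q)) ≤ Subgroup.centralizer (Ab : Set (G ⧸ Q)) := by
    by_contra h
    push Not at h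
    refine hAne fun z hz k hk => ?_
    exact ((iSup₂_le h) (hgen.ge hk) z hz).symm
  obtain ⟨hBA, ab, hab, hBsup⟩ := hBb
  obtain ⟨a, haA, rfl⟩ := hab
  obtain ⟨yb, hyb, hyne⟩ := SetLike.not_le_iff_exists.mp hBne
  obtain ⟨hyK, hyB⟩ := Subgroup.mem_inf.mp hyb
  have hay : ¬ π a * yb = yb * π a := fun h => hyne (by
    intro z hz
    have hle : Ab ≤ Subgroup.centralizer ({yb} : Set (G ⧸ Q)) := by
      rw [← hBsup]
      exact sup_le (fun b hb => Subgroup.mem_centralizer_singleton_iff.mpr (hyB b hb))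
        (Subgroup.zpowers_le.mpr (Subgroup.mem_centralizer_singleton_iff.mpr h))
    exact Subgroup.mem_centralizer_singleton_iff.mp (hle hz))
  obtain ⟨y, rfl⟩ := hπs yb
  have haS : a ∈ (S : Subgroup G) := hAS haA
  have ha2 : a * a = 1 := by rw [← pow_two]; exact hA2 a haA
  -- lift of the inverted element
  set x0 := ⁅a, y⁆ with hx0
  have hx0K : π x0 ∈ K := by
    rw [hx0, map_commutatorElement, commutatorElement_def]
    exact mul_mem (hKn.conj_mem _ hyK _) (inv_mem hyK)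
  obtain ⟨α, x, hα, hxz, hab', ⟨j, hj⟩, hxo⟩ := CfsgLib.ThompsonNPC.exists_mul_parts 2 x0
  have hπx : π x = π x0 := by
    have h1 : π α ∈ K := by
      obtain ⟨i, rfl⟩ := Subgroup.mem_zpowers_iff.mp hα
      rw [map_zpow]; exact zpow_mem hx0K i
    have h2 : π α = 1 := orderOf_eq_one_iff.mp (Nat.eq_one_of_dvd_coprimes (hKodd.pow_right j)
      ((Subgroup.orderOf_mk (π α) h1).symm ▸ orderOf_dvd_natCard (⟨π α, h1⟩ : ↥K))
      (orderOf_dvd_of_pow_eq_one (by rw [← map_pow, hj, map_one])))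
    rw [← hab', map_mul, h2, one_mul]
  have hx1 : π x0 ≠ 1 := fun h => hay (commutatorElement_eq_one_iff_mul_comm.mp (by rw [← map_commutatorElement]; exact h))
  have hinvQ : a * x * a⁻¹ * x ∈ Q := by
    refine hQeq ?_
    have e : a * a = 1 := ha2
    rw [map_mul, map_mul, map_mul, map_inv, hπx, hx0, map_commutatorElement, commutatorElement_def]
    have e' : (π a)⁻¹ = π a := by rw [inv_eq_iff_mul_eq_one, ← map_mul, e, map_one]
    have e'' : π a * π a = 1 := by rw [← map_mul, e, map_one]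
    calc π a * (π a * π y * (π a)⁻¹ * (π y)⁻¹) * (π a)⁻¹ * (π a * π y * (π a)⁻¹ * (π y)⁻¹)
        = (π a * π a) * π y * (π a)⁻¹ * (π a)⁻¹ * (π y)⁻¹ := by
          rw [e']; simp only [← mul_assoc]
          rw [show π a * π a * π y * π a * (π y)⁻¹ * π a * π a * π y * π a * (π y)⁻¹ =
            π a * π a * π y * π a * (π y)⁻¹ * (π a * π a) * π y * π a * (π y)⁻¹ by simp only [mul_assoc], e'', mul_one,
            one_mul, inv_mul_cancel_right, mul_assoc (π y) (π a) (π a), e'', mul_one]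
      _ = 1 := by
          rw [e', mul_assoc (π a * π a * π y) (π a) (π a), e'', mul_one, one_mul, mul_inv_cancel]
  -- elements of the Sylow subgroup act trivially on `Q` modulo its centre
  have hS2 : ∀ s ∈ (S : Subgroup G), ∀ t ∈ (S : Subgroup G), ∀ u ∈ (S : Subgroup G), ⁅s, t⁆ * u = u * ⁅s, t⁆ := by
    intro s hs t ht u hu
    refine commutatorElement_eq_one_iff_mul_comm.mp (Subgroup.mem_bot.mp (hcl ▸ ?_))
    exact Subgroup.commutator_mem_commutator (Subgroup.commutator_mem_commutator hs ht) hu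
  let N0 : Subgroup G :=
    { carrier := {g | ∀ q ∈ Q, ⁅g, q⁆ ∈ C}
      one_mem' := fun q _ => by rw [commutatorElement_one_left]; exact one_mem C
      mul_mem' := fun {g h} hg hh q hq => by
        rw [show ⁅g * h, q⁆ = g * ⁅h, q⁆ * g⁻¹ * ⁅g, q⁆ by simp only [commutatorElement_def]; group]
        exact mul_mem (hCn.conj_mem _ (hh q hq) g) (hg q hq)
      inv_mem' := fun {g} hg q hq => by
        rw [show ⁅g⁻¹, q⁆ = g⁻¹ * ⁅g, q⁆⁻¹ * g⁻¹⁻¹ by simp only [commutatorElement_def]; group]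
        exact hCn.conj_mem _ (inv_mem (hg q hq)) g⁻¹ }
  haveI hN0n : N0.Normal := ⟨fun g hg h q hq => by
    rw [show ⁅h * g * h⁻¹, q⁆ = h * ⁅g, h⁻¹ * q * h⁻¹⁻¹⁆ * h⁻¹ by simp only [commutatorElement_def]; group]
    exact hCn.conj_mem _ (hg _ ((inferInstance : Q.Normal).conj_mem q hq h⁻¹)) h⟩
  have hSN0 : (S : Subgroup G) ≤ N0 := fun s hs q hq => by
    refine Subgroup.mem_inf.mpr ⟨?_, fun u hu => (hS2 s hs q (hQS hq) u (hQS hu)).symm⟩
    rw [commutatorElement_def]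
    exact mul_mem ((inferInstance : Q.Normal).conj_mem q hq s) (inv_mem hq)
  have hxN0 : x ∈ N0 := by
    have h : x0 ∈ N0 := by
      rw [hx0, commutatorElement_def, mul_assoc a y a⁻¹, mul_assoc a (y * a⁻¹) y⁻¹]
      exact mul_mem (hSN0 haS) (hN0n.conj_mem _ (inv_mem (hSN0 haS)) y)
    exact Subgroup.zpowers_le.mpr h hxz
  have hxV : x ∉ Subgroup.centralizer (V : Set G) := by
    intro h
    have hC2 : ∀ v ∈ C, x * v = v * x := CfsgLib.ThompsonNPC.centralize_of_omega (p := 2)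
      ((CfsgLib.Core.isPGroup_pCore 2).to_le inf_le_left) hCab
      (by rw [Subgroup.normalizer_eq_top]; trivial) hxo fun v hv hv2 => (h v ⟨hv, hv2⟩).symm
    have hxQ : x ∈ Q := hc fun q hq => by
      obtain ⟨i, hi⟩ := CfsgLib.Core.isPGroup_pCore (G := G) 2 ⟨_, (Subgroup.mem_inf.mp (hxN0 q hq)).1⟩
      exact (commute_of_commutator_fixed (hC2 _ (hxN0 q hq)) (j := i) (by simpa using congrArg Subtype.val hi) hxo).symm
    exact hx1 (by rw [← hπx]; exact (QuotientGroup.eq_one_iff x).mpr hxQ)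
  -- the hyperplane
  set B := A ⊓ Bb.comap π with hBdef
  set W := V ⊓ Subgroup.centralizer (B : Set G) with hWdef
  set W1 := V ⊓ A with hW1def
  have hBab : ∀ b ∈ B, π b ∈ Bb ∧ b ∈ A := fun b hb => ⟨(Subgroup.mem_inf.mp hb).2, (Subgroup.mem_inf.mp hb).1⟩
  have hBx : ∀ b ∈ B, b * x * b⁻¹ * x⁻¹ ∈ Q := by
    intro b hb
    refine hQeq ?_
    have h1 : Commute (π b) (π y) := hyB _ (hBab b hb).1
    have h2 : Commute (π b) (π a) := by
      show π b * π a = π a * π b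
      rw [← map_mul, ← map_mul, hAc b (hBab b hb).2 a haA]
    have h3 : Commute (π b) (π x) := by
      rw [hπx, hx0, map_commutatorElement, commutatorElement_def]
      exact ((h2.mul_right h1).mul_right h2.inv_right).mul_right h1.inv_right
    rw [map_mul, map_mul, map_mul, map_inv, map_inv, h3.eq, mul_inv_cancel_right, mul_inv_cancel]
  have hmove : x ∉ Subgroup.centralizer (W : Set G) := by
    intro h
    let D : Subgroup G :=
      { carrier := {d | ∃ v ∈ V, ⁅x, v⁆ = d}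
        one_mem' := ⟨1, one_mem V, commutatorElement_one_right x⟩
        mul_mem' := by
          rintro _ _ ⟨v, hv, rfl⟩ ⟨w, hw, rfl⟩
          refine ⟨v * w, mul_mem hv hw, ?_⟩
          have hwV : ⁅x, w⁆ ∈ V := by rw [commutatorElement_def]; exact mul_mem (hVn.conj_mem w hw x) (inv_mem hw)
          rw [show ⁅x, v * w⁆ = ⁅x, v⁆ * (v * ⁅x, w⁆ * v⁻¹) by simp only [commutatorElement_def]; group,
            hCab v (hVC hv) _ (hVC hwV), mul_inv_cancel_right]
        inv_mem' := by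
          rintro _ ⟨v, hv, rfl⟩
          refine ⟨v⁻¹, inv_mem hv, ?_⟩
          have hvV : ⁅x, v⁆ ∈ V := by rw [commutatorElement_def]; exact mul_mem (hVn.conj_mem v hv x) (inv_mem hv)
          rw [show ⁅x, v⁻¹⁆ = v⁻¹ * ⁅x, v⁆⁻¹ * v by simp only [commutatorElement_def]; group,
            hCab _ (hVC (inv_mem hv)) _ (inv_mem (hVC hvV)), inv_mul_cancel_right] }
    have hDV : D ≤ V := by
      rintro _ ⟨v, hv, rfl⟩
      rw [commutatorElement_def]; exact mul_mem (hVn.conj_mem v hv x) (inv_mem hv)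
    have hBD : B ≤ Subgroup.normalizer (D : Set G) := fun b hb => Subgroup.mem_normalizer_fintype fun d hd => by
      obtain ⟨v, hv, rfl⟩ := hd
      refine ⟨b * v * b⁻¹, hVn.conj_mem v hv b, ?_⟩
      have e := hQV _ (hBx b hb) (x * (b * v * b⁻¹) * x⁻¹) (hVn.conj_mem _ (hVn.conj_mem v hv b) x)
      calc ⁅x, b * v * b⁻¹⁆ = (x * (b * v * b⁻¹) * x⁻¹) * (b * v * b⁻¹)⁻¹ := rfl
        _ = ((b * x * b⁻¹ * x⁻¹) * (x * (b * v * b⁻¹) * x⁻¹) * (b * x * b⁻¹ * x⁻¹)⁻¹) * (b * v * b⁻¹)⁻¹ := by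
          rw [e, mul_inv_cancel_right]
        _ = b * ⁅x, v⁆ * b⁻¹ := by rw [commutatorElement_def]; group
    have hD1 : D ≠ ⊥ := fun e => hxV fun v hv => by
      have hd : ⁅x, v⁆ ∈ D := ⟨v, hv, rfl⟩
      rw [e, Subgroup.mem_bot] at hd
      exact (commutatorElement_eq_one_iff_mul_comm.mp hd).symm
    have hBp : IsPGroup 2 ↥B := S.2.to_le (inf_le_left.trans hAS)
    have hDp : IsPGroup 2 ↥D := (CfsgLib.Core.isPGroup_pCore 2).to_le (hDV.trans fun v hv => (Subgroup.mem_inf.mp (hVC hv)).1)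
    letI : MulAction ↥B ↥D :=
      { smul := fun b d => ⟨(b : G) * d * (b : G)⁻¹, (Subgroup.mem_normalizer_iff.mp (hBD b.2) d).mp d.2⟩
        one_smul := fun d => Subtype.ext (show (1 : G) * d * (1 : G)⁻¹ = d by simp)
        mul_smul := fun b b' d => Subtype.ext (show ((b : G) * b') * d * ((b : G) * b')⁻¹ = b * (b' * d * (b' : G)⁻¹) * (b : G)⁻¹ by group) }
    obtain ⟨m, hm⟩ := IsPGroup.iff_card.mp hDp
    have hm0 : m ≠ 0 := fun h0 => hD1 (Subgroup.card_eq_one.mp (by rw [hm, h0, pow_zero]))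
    have h1fix : (1 : ↥D) ∈ MulAction.fixedPoints ↥B ↥D := fun b => Subtype.ext (show (b : G) * 1 * (b : G)⁻¹ = 1 by simp)
    obtain ⟨d, hd, hd1⟩ := hBp.exists_fixed_point_of_prime_dvd_card_of_fixed_point ↥D (hm ▸ dvd_pow_self 2 hm0) h1fix
    have hdW : (d : G) ∈ W := Subgroup.mem_inf.mpr ⟨hDV d.2, fun b hb =>
      mul_inv_eq_iff_eq_mul.mp (congrArg Subtype.val (hd ⟨b, hb⟩))⟩
    obtain ⟨v, hv, hve⟩ := d.2
    have hfix : x * ⁅x, v⁆ = ⁅x, v⁆ * x := by rw [hve]; exact (h _ hdW).symm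
    obtain ⟨i, hi⟩ := hDp ⟨_, v, hv, rfl⟩
    have h1 := commute_of_commutator_fixed hfix (j := i) (by simpa using congrArg Subtype.val hi) hxo
    exact hd1 (Subtype.ext (by rw [← hve, commutatorElement_eq_one_iff_mul_comm.mpr h1]; rfl))
  have hW1W : W1 ≤ W := fun w hw => Subgroup.mem_inf.mpr ⟨(Subgroup.mem_inf.mp hw).1,
    fun b hb => hAc b (hBab b hb).2 w (Subgroup.mem_inf.mp hw).2⟩
  have hQA : ∀ q ∈ A, q ∈ Q → q ∈ B := fun q hq hqQ => Subgroup.mem_inf.mpr ⟨hq, by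
    rw [Subgroup.mem_comap, show π q = 1 from (QuotientGroup.eq_one_iff q).mpr hqQ]; exact one_mem Bb⟩
  have hAB : A ≤ B ⊔ Subgroup.zpowers a := by
    intro z hz
    have h : π z ∈ Bb ⊔ Subgroup.zpowers (π a) := hBsup ▸ Subgroup.mem_map_of_mem π hz
    rw [← SetLike.mem_coe, Subgroup.coe_mul_of_left_le_normalizer_right Bb _ (fun b hb => ?_)] at h
    · obtain ⟨b, hb, _, ⟨i, rfl⟩, he⟩ := h
      have hzb : π (z * (a ^ i)⁻¹) = b := by
        rw [map_mul, map_inv, map_zpow, ← he]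
        simp
      have : z * (a ^ i)⁻¹ ∈ B := Subgroup.mem_inf.mpr ⟨mul_mem hz (inv_mem (zpow_mem haA i)), by
        rw [Subgroup.mem_comap, hzb]; exact hb⟩
      simpa using Subgroup.mul_mem_sup this (Subgroup.zpow_mem_zpowers a i)
    · refine Subgroup.centralizer_le_normalizer _ ?_
      rintro _ ⟨i, rfl⟩
      obtain ⟨b', hb', rfl⟩ := hBA hb
      show π a ^ i * π b' = π b' * π a ^ i
      rw [← map_zpow, ← map_mul, ← map_mul, hAc _ (zpow_mem haA i) _ hb']
  have hW1card : Nat.card ↥W ≤ 2 * Nat.card ↥W1 := by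
    have hBel : Cfsg.IsElementaryAbelian 2 B :=
      CfsgLib.PLocal.el_mono ⟨hAab, hA2⟩ inf_le_left
    have hWel : Cfsg.IsElementaryAbelian 2 W := ⟨⟨⟨fun v w => Subtype.ext
      (hCab _ (hVC (Subgroup.mem_inf.mp v.2).1) _ (hVC (Subgroup.mem_inf.mp w.2).1))⟩⟩, fun v hv => (Subgroup.mem_inf.mp hv).1.2⟩
    have hWS : W ≤ (S : Subgroup G) := fun w hw => hQS (Subgroup.mem_inf.mp (hVC (Subgroup.mem_inf.mp hw).1)).1
    have hE := hmax (B ⊔ W) (sup_le (inf_le_left.trans hAS) hWS)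
      (CfsgLib.PLocal.el_sup hBel hWel fun b hb w hw => (Subgroup.mem_inf.mp hw).2 b hb)
    have hWN : W ≤ Subgroup.normalizer (B : Set G) := fun w hw =>
      Subgroup.centralizer_le_normalizer _ (Subgroup.mem_inf.mp hw).2
    have hcard1 : Nat.card ↥A ≤ 2 * Nat.card ↥B := by
      have h2 : Nat.card ↥(Subgroup.zpowers a) ≤ 2 := by
        rw [Nat.card_zpowers]
        exact Nat.le_of_dvd two_pos (orderOf_dvd_of_pow_eq_one (hA2 a haA))
      have h3 : B.relIndex (B ⊔ Subgroup.zpowers a) ≤ 2 := by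
        rw [CfsgLib.GroupB.Coprime.relIndex_sup_of_le_normalizer (Subgroup.zpowers_le.mpr
          (Subgroup.centralizer_le_normalizer _ fun b hb => hAc b (hBab b hb).2 a haA))]
        exact (Nat.le_of_dvd Nat.card_pos (Subgroup.relIndex_dvd_card B _)).trans h2
      calc Nat.card ↥A ≤ Nat.card ↥(B ⊔ Subgroup.zpowers a) := Subgroup.card_le_of_le hAB
        _ = Nat.card ↥B * B.relIndex (B ⊔ Subgroup.zpowers a) := by
          have h := Subgroup.relIndex_mul_relIndex ⊥ B (B ⊔ Subgroup.zpowers a) bot_le le_sup_left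
          rw [Subgroup.relIndex_bot_left, Subgroup.relIndex_bot_left] at h
          exact h.symm
        _ ≤ Nat.card ↥B * 2 := Nat.mul_le_mul le_rfl h3
        _ = 2 * Nat.card ↥B := mul_comm _ _
    have hcard2 : Nat.card ↥B * B.relIndex W ≤ 2 * Nat.card ↥B := by
      refine le_trans (le_of_eq ?_) (hE.trans hcard1)
      have h := Subgroup.relIndex_mul_relIndex ⊥ B (B ⊔ W) bot_le le_sup_left
      rw [Subgroup.relIndex_bot_left, Subgroup.relIndex_bot_left, CfsgLib.GroupB.Coprime.relIndex_sup_of_le_normalizer hWN] at h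
      exact h
    have h2 : B.relIndex W ≤ 2 := Nat.le_of_mul_le_mul_left (hcard2.trans (le_of_eq (mul_comm _ _))) Nat.card_pos
    have hinf : B ⊓ W = W1 := le_antisymm
      (fun w hw => Subgroup.mem_inf.mpr ⟨(Subgroup.mem_inf.mp (Subgroup.mem_inf.mp hw).2).1, (hBab w (Subgroup.mem_inf.mp hw).1).2⟩)
      (fun w hw => Subgroup.mem_inf.mpr ⟨hQA w (Subgroup.mem_inf.mp hw).2 (Subgroup.mem_inf.mp (hVC (Subgroup.mem_inf.mp hw).1)).1, hW1W hw⟩)
    have h4 := Subgroup.relIndex_mul_relIndex ⊥ W1 W bot_le hW1W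
    rw [Subgroup.relIndex_bot_left, Subgroup.relIndex_bot_left] at h4
    rw [← h4, ← hinf, Subgroup.inf_relIndex_right, mul_comm 2 _]
    exact Nat.mul_le_mul le_rfl h2
  have hxW : x ∈ Subgroup.normalizer (W : Set G) := Subgroup.mem_normalizer_fintype fun w hw => by
    obtain ⟨hwV, hwB⟩ := Subgroup.mem_inf.mp hw
    refine Subgroup.mem_inf.mpr ⟨hVn.conj_mem w hwV x, fun b hb => ?_⟩
    have e := hQV _ (hBx b hb) (x * w * x⁻¹) (hVn.conj_mem w hwV x)
    calc b * (x * w * x⁻¹) = (b * x * b⁻¹ * x⁻¹) * x * (b * w) * x⁻¹ := by group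
      _ = (b * x * b⁻¹ * x⁻¹) * x * (w * b) * x⁻¹ := by rw [hwB b hb]
      _ = (b * x * b⁻¹ * x⁻¹) * (x * w * x⁻¹) * (x * b * x⁻¹) := by group
      _ = (x * w * x⁻¹) * (b * x * b⁻¹ * x⁻¹) * (x * b * x⁻¹) := by rw [e]
      _ = x * w * x⁻¹ * b := by group
  refine transvection_false hfree (W := W) (W1 := W1) ((CfsgLib.Core.isPGroup_pCore 2).to_le fun w hw =>
      (Subgroup.mem_inf.mp (hVC (Subgroup.mem_inf.mp hw).1)).1)
    (fun v hv w hw => hCab _ (hVC (Subgroup.mem_inf.mp hv).1) _ (hVC (Subgroup.mem_inf.mp hw).1)) hW1W hW1card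
    (a := a) (x := x) ?_ ?_ (fun w hw => hAc a haA w (Subgroup.mem_inf.mp hw).2) hxW hxo
    (fun w hw => (hQV _ hinvQ w (Subgroup.mem_inf.mp hw).1).symm) hmove
  · obtain ⟨i, -, hi⟩ := (Nat.dvd_prime_pow Nat.prime_two).mp (orderOf_dvd_of_pow_eq_one (hA2 a haA) : orderOf a ∣ 2 ^ 1)
    exact ⟨i, hi⟩
  · refine Subgroup.mem_normalizer_fintype fun w hw => Subgroup.mem_inf.mpr ⟨hVn.conj_mem w (Subgroup.mem_inf.mp hw).1 a, fun b hb => ?_⟩
    have hc1 : Commute b a := hAc b (hBab b hb).2 a haA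
    exact ((hc1.mul_right ((Subgroup.mem_inf.mp hw).2 b hb : Commute b w)).mul_right hc1.inv_right).eq


/-- Let G be a finite solvable group with no section isomorphic to the symmetric group of degree 4, whose Sylow 2-subgroup S has nilpotency class at most 2. Then G = N_G(J_e(S)) · O_{2'}(G), where J_e(S) is the subgroup generated by the elementary abelian subgroups of S of largest order. -/
theorem result {G : Type*} [Group G] [Finite G]
    [Group.IsSolvable G] (hS4 : ¬ Cfsg.Involves (Equiv.Perm (Fin 4)) G) (S : Sylow 2 G)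
    (hcl : Subgroup.lowerCentralSeries (S : Subgroup G) 2 = ⊥) :
    Subgroup.normalizer ((Cfsg.thompsonSubgroupOf 2 (S : Subgroup G)) : Set G) ⊔ Cfsg.pPrimeCore 2 G = ⊤ := by
  haveI : Fact (Nat.Prime 2) := ⟨Nat.prime_two⟩
  set O := Cfsg.pPrimeCore 2 G with hOdef
  haveI := CfsgLib.Core.pPrimeCore_characteristic (G := G) 2
  set π := QuotientGroup.mk' O with hπdef
  have hπs : Function.Surjective π := QuotientGroup.mk'_surjective O
  let Sb : Sylow 2 (G ⧸ O) := S.mapSurjective hπs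
  have hSb : (Sb : Subgroup (G ⧸ O)) = (S : Subgroup G).map π := rfl
  have hfree : CfsgLib.ThompsonNPC.S4Free (G ⧸ O) :=
    (CfsgLib.ThompsonNPC.s4Free_of_not_involves hS4).of_surjective π hπs
  have hclb : Subgroup.lowerCentralSeries (Sb : Subgroup (G ⧸ O)) 2 = ⊥ := by
    rw [hSb]
    show ⁅⁅(S : Subgroup G).map π, (S : Subgroup G).map π⁆, (S : Subgroup G).map π⁆ = ⊥
    rw [← Subgroup.map_commutator, ← Subgroup.map_commutator,
      show ⁅⁅(S : Subgroup G), (S : Subgroup G)⁆, (S : Subgroup G)⁆ = ⊥ from hcl, Subgroup.map_bot]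
  haveI : Group.IsSolvable (G ⧸ O) := Group.isSolvable_of_surjective hπs
  have hsolv : ∀ (H : Type _) [Group H] [Finite H] [Group.IsSolvable H], Cfsg.pPrimeCore 2 H = ⊥ →
      Subgroup.centralizer ((Cfsg.pCore 2 H : Subgroup H) : Set H) ≤ Cfsg.pCore 2 H := by
    intro H _ _ _ h1
    have hF : Cfsg.fittingSubgroup H = Cfsg.pCore 2 H := by
      refine le_antisymm ?_ (CfsgLib.Core.pCore_le_fittingSubgroup Nat.prime_two)
      rw [CfsgLib.Core.fittingSubgroup_eq_iSup_pCore]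
      refine iSup_le fun q => ?_
      rcases eq_or_ne (q : ℕ) 2 with hq | hq
      · rw [hq]
      haveI := Fact.mk q.2
      haveI := CfsgLib.Core.pCore_characteristic (G := H) q
      refine le_trans ?_ (bot_le : (⊥ : Subgroup H) ≤ _)
      rw [← h1]
      refine CfsgLib.Core.le_pPrimeCore inferInstance ?_
      obtain ⟨n, hn⟩ := (CfsgLib.Core.isPGroup_pCore (G := H) q).exists_card_eq
      rw [hn]
      exact ((Nat.coprime_primes q.2 Nat.prime_two).mpr hq).pow_left n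
    have := Cfsg.Agent.S0044.result (G := H)
    rwa [hF] at this
  have hred := CfsgLib.Core.pPrimeCore_quotient_eq_bot (G := G) 2
  have hJ := normal_thompson Sb hfree hclb (hsolv (G ⧸ O) hred) (fun {hn} => by
    haveI : Group.IsSolvable ((G ⧸ O) ⧸ Cfsg.pCore 2 (G ⧸ O)) := Group.isSolvable_of_surjective (QuotientGroup.mk'_surjective _)
    have h1 := CfsgLib.Core.pCore_quotient_eq_bot (G := G ⧸ O) 2
    set H := (G ⧸ O) ⧸ Cfsg.pCore 2 (G ⧸ O)
    have hF : Cfsg.fittingSubgroup H ≤ Cfsg.pPrimeCore 2 H := by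
      rw [CfsgLib.Core.fittingSubgroup_eq_iSup_pCore]
      refine iSup_le fun q => ?_
      rcases eq_or_ne (q : ℕ) 2 with hq | hq
      · rw [hq, h1]; exact bot_le
      haveI := Fact.mk q.2
      haveI := CfsgLib.Core.pCore_characteristic (G := H) q
      refine CfsgLib.Core.le_pPrimeCore inferInstance ?_
      obtain ⟨n, hn⟩ := (CfsgLib.Core.isPGroup_pCore (G := H) q).exists_card_eq
      rw [hn]
      exact ((Nat.coprime_primes q.2 Nat.prime_two).mpr hq).pow_left n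
    exact (Subgroup.centralizer_le (SetLike.coe_subset_coe.mpr hF)).trans ((Cfsg.Agent.S0044.result (G := H)).trans hF))
  set J := Cfsg.thompsonSubgroupOf 2 (S : Subgroup G) with hJdef
  have hinj : Function.Injective (π.comp (S : Subgroup G).subtype) := by
    rw [← MonoidHom.ker_eq_bot_iff, eq_bot_iff]
    intro s hs
    have h : (s : G) ∈ (S : Subgroup G) ⊓ O := Subgroup.mem_inf.mpr ⟨s.2, (QuotientGroup.eq_one_iff (s : G)).mp hs⟩
    rw [CfsgLib.PConstrained.inf_eq_bot_of_coprime S.2 (CfsgLib.Core.card_pPrimeCore_coprime 2), Subgroup.mem_bot] at h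
    exact Subgroup.mem_bot.mpr (Subtype.ext h)
  rw [hSb, CfsgLib.PLocal.thompsonOf_map π _ hinj] at hJ
  rw [eq_top_iff]
  intro g _
  have hg : π g ∈ Subgroup.normalizer ((J.map π : Subgroup (G ⧸ O)) : Set (G ⧸ O)) := by
    rw [Subgroup.normalizer_eq_top_iff.mpr hJ]; trivial
  obtain ⟨n, hn, hne⟩ := CfsgLib.PConstrained.mem_normalizer_lift π
    (by rw [hπdef, QuotientGroup.ker_mk']; exact CfsgLib.Core.card_pPrimeCore_coprime 2)
    (S.2.to_le (Subgroup.map_subtype_le _)) hg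
  have h : n⁻¹ * g ∈ O := by
    rw [← QuotientGroup.eq_one_iff]
    show π (n⁻¹ * g) = 1
    rw [map_mul, map_inv, hne, inv_mul_cancel]
  have h2 := Subgroup.mul_mem_sup hn h
  rwa [mul_inv_cancel_left] at h2

end Cfsg.Agent.S2010
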