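import Cfsg.Statements.S1932
import Cfsg.Agent.Lib.OffenderSym
import Cfsg.Agent.S2010

set_option autoImplicit false
open Cfsg

namespace Cfsg.Agent.S1932

open scoped commutatorElement
open CfsgLib.LocalBasic

universe u

/-- Order of a subgroup through a homomorphism. -/
theorem card_ker_map {G H : Type*} [Group G] [Group H] (f : G →* H) (A : Subgroup G) :
    Nat.card ↥A = Nat.card ↥(A.map f) * Nat.card ↥(A ⊓ f.ker) := by
  rw [Subgroup.card_eq_card_quotient_mul_card_subgroup (f.comp A.subtype).ker]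
  congr 1
  · rw [Nat.card_congr (QuotientGroup.quotientKerEquivRange (f.comp A.subtype)).toEquiv, MonoidHom.range_comp,
      Subgroup.range_subtype]
  · rw [← Subgroup.card_map_of_injective (f := A.subtype) A.subtype_injective, ← MonoidHom.comap_ker,
      Subgroup.map_comap_eq, Subgroup.range_subtype]

/-- The Thompson subgroup is normal in a characteristic-two group without symmetric sections and of class two. -/
theorem normal_thompson {G : Type u} [Group G] [Finite G] (S : Sylow 2 G) (hfree : CfsgLib.ThompsonNPC.S4Free G)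
    (hcl : Subgroup.lowerCentralSeries (S : Subgroup G) 2 = ⊥)
    (hc : Subgroup.centralizer ((Cfsg.pCore 2 G : Subgroup G) : Set G) ≤ Cfsg.pCore 2 G) :
    (Cfsg.thompsonSubgroupOf 2 (S : Subgroup G)).Normal := by
  classical
  haveI : Fact (Nat.Prime 2) := ⟨Nat.prime_two⟩
  haveI := CfsgLib.Core.pCore_characteristic (G := G) 2
  set Q := Cfsg.pCore 2 G with hQdef
  have hQS : Q ≤ (S : Subgroup G) := CfsgLib.Core.pCore_le_sylow S
  by_cases hall : ∀ A ∈ Cfsg.maxElementaryAbelianSubgroups 2 ↥(S : Subgroup G), A.map (S : Subgroup G).subtype ≤ Q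
  · rw [Cfsg.Agent.S2010.thompson_eq_of_le hQS hall]
    haveI := Cfsg.Agent.S2010.thompson_char ↥Q
    exact (inferInstance : ((Cfsg.thompsonSubgroup 2 ↥Q).map Q.subtype).Normal)
  exfalso
  push Not at hall
  obtain ⟨A₁, hA₁, hAQ⟩ := hall
  set A := A₁.map (S : Subgroup G).subtype with hAdef
  have hAS : A ≤ (S : Subgroup G) := Subgroup.map_subtype_le _
  have hAel := CfsgLib.PLocal.el_map (S : Subgroup G).subtype hA₁.1
  have hAc : ∀ a ∈ A, ∀ b ∈ A, a * b = b * a := fun a ha b hb => congrArg Subtype.val (hAel.1.is_comm.comm ⟨a, ha⟩ ⟨b, hb⟩)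
  set C := Q ⊓ Subgroup.centralizer (Q : Set G) with hCdef
  have hCab : ∀ v ∈ C, ∀ w ∈ C, v * w = w * v := fun v hv w hw =>
    ((Subgroup.mem_inf.mp hv).2 w (Subgroup.mem_inf.mp hw).1).symm
  haveI hCn : C.Normal := inferInstance
  let V : Subgroup G :=
    { carrier := {v | v ∈ C ∧ v ^ 2 = 1}
      one_mem' := ⟨one_mem C, one_pow 2⟩
      mul_mem' := fun {v w} hv hw => ⟨mul_mem hv.1 hw.1, by
        rw [(show Commute v w from hCab v hv.1 w hw.1).mul_pow, hv.2, hw.2, one_mul]⟩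
      inv_mem' := fun {v} hv => ⟨inv_mem hv.1, by rw [inv_pow, hv.2, inv_one]⟩ }
  haveI hVn : V.Normal := ⟨fun v hv g => ⟨hCn.conj_mem v hv.1 g, by rw [conj_pow, hv.2, mul_one, mul_inv_cancel]⟩⟩
  have hVS : V ≤ (S : Subgroup G) := fun v hv => hQS (Subgroup.mem_inf.mp hv.1).1
  have hVc : ∀ v ∈ V, ∀ w ∈ V, v * w = w * v := fun v hv w hw => hCab v hv.1 w hw.1
  letI : CommGroup ↥V := { (inferInstance : Group ↥V) with mul_comm := fun v w => Subtype.ext (hVc v v.2 w w.2) }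
  have hexp : ∀ v : ↥V, v * v = 1 := fun v => Subtype.ext (by rw [Subgroup.coe_mul, ← pow_two]; exact v.2.2)
  have hS2 : ∀ s ∈ (S : Subgroup G), ∀ t ∈ (S : Subgroup G), ∀ u ∈ (S : Subgroup G), ⁅s, t⁆ * u = u * ⁅s, t⁆ := by
    intro s hs t ht u hu
    refine commutatorElement_eq_one_iff_mul_comm.mp (Subgroup.mem_bot.mp (hcl ▸ ?_))
    exact Subgroup.commutator_mem_commutator (Subgroup.commutator_mem_commutator hs ht) hu
  set φ : G →* MulAut ↥V := MulAut.conjNormal with hφ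
  have hφv : ∀ g (v : ↥V), ((φ g v : ↥V) : G) = g * v * g⁻¹ := fun g v => MulAut.conjNormal_apply g v
  have hφC : ∀ g (v : ↥V), φ g v = v ↔ g * (v : G) = v * g := fun g v => by
    rw [Subtype.ext_iff, hφv, mul_inv_eq_iff_eq_mul]
  let N0 : Subgroup G :=
    { carrier := {g | ∀ q ∈ Q, ⁅g, q⁆ ∈ C}
      one_mem' := fun q _ => by rw [commutatorElement_one_left]; exact one_mem C
      mul_mem' := fun {g h} hg hh q hq => by
        rw [show ⁅g * h, q⁆ = g * ⁅h, q⁆ * g⁻¹ * ⁅g, q⁆ by simp only [commutatorElement_def]; group]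
        exact mul_mem (hCn.conj_mem _ (hh q hq) g) (hg q hq)
      inv_mem' := fun {g} hg q hq => by
        rw [show ⁅g⁻¹, q⁆ = g⁻¹ * ⁅g, q⁆⁻¹ * g⁻¹⁻¹ by simp only [commutatorElement_def]; group]
        exact hCn.conj_mem _ (inv_mem (hg q hq)) g⁻¹ }
  haveI hN0n : N0.Normal := ⟨fun g hg h q hq => by
    rw [show ⁅h * g * h⁻¹, q⁆ = h * ⁅g, h⁻¹ * q * h⁻¹⁻¹⁆ * h⁻¹ by simp only [commutatorElement_def]; group]
    exact hCn.conj_mem _ (hg _ ((inferInstance : Q.Normal).conj_mem q hq h⁻¹)) h⟩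
  have hSN0 : (S : Subgroup G) ≤ N0 := fun s hs q hq => by
    refine Subgroup.mem_inf.mpr ⟨?_, fun u hu => (hS2 s hs q (hQS hq) u (hQS hu)).symm⟩
    rw [commutatorElement_def]
    exact mul_mem ((inferInstance : Q.Normal).conj_mem q hq s) (inv_mem hq)
  -- the kernel is a two-group inside `N0`
  have hodd : ∀ x : G, x ∈ N0 → φ x = 1 → (orderOf x).Coprime 2 → x = 1 := by
    intro x hxN0 hx1 hxo
    have hC2 : ∀ v ∈ C, x * v = v * x := CfsgLib.ThompsonNPC.centralize_of_omega (p := 2)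
      ((CfsgLib.Core.isPGroup_pCore 2).to_le inf_le_left) hCab
      (by rw [Subgroup.normalizer_eq_top]; trivial) hxo fun v hv hv2 => (hφC x ⟨v, hv, hv2⟩).mp (by rw [hx1]; rfl)
    have hxQ : x ∈ Q := hc fun q hq => by
      obtain ⟨i, hi⟩ := CfsgLib.Core.isPGroup_pCore (G := G) 2 ⟨_, (Subgroup.mem_inf.mp (hxN0 q hq)).1⟩
      exact (commute_of_commutator_fixed (hC2 _ (hxN0 q hq)) (j := i) (by simpa using congrArg Subtype.val hi) hxo).symm
    obtain ⟨i, hi⟩ := CfsgLib.Core.isPGroup_pCore (G := G) 2 ⟨x, hxQ⟩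
    exact orderOf_eq_one_iff.mp (Nat.eq_one_of_dvd_coprimes (hxo.pow_right i) dvd_rfl
      (orderOf_dvd_of_pow_eq_one (by simpa using congrArg Subtype.val hi)))
  -- the offender
  set E : Subgroup ↥φ.range := A.map φ.rangeRestrict with hEdef
  have hEp : IsPGroup 2 ↥E := (S.2.to_le hAS).map _
  have hEO : ¬ E ≤ Cfsg.pCore 2 ↥φ.range := by
    intro hle
    haveI := CfsgLib.Core.pCore_characteristic (G := ↥φ.range) 2
    set P := (Cfsg.pCore 2 ↥φ.range).comap φ.rangeRestrict ⊓ N0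
    have hP : IsPGroup 2 ↥P := by
      rintro ⟨g, hg⟩
      obtain ⟨hg1, hg2⟩ := Subgroup.mem_inf.mp hg
      obtain ⟨i, hi⟩ := CfsgLib.Core.isPGroup_pCore (G := ↥φ.range) 2 ⟨_, hg1⟩
      have hi' : φ (g ^ 2 ^ i) = 1 := by
        rw [map_pow]; exact congrArg (fun z : ↥(Cfsg.pCore 2 ↥φ.range) => ((z : ↥φ.range) : MulAut ↥V)) hi
      obtain ⟨α, x, hα, hxz, hab, ⟨j, hj⟩, hxo⟩ := CfsgLib.ThompsonNPC.exists_mul_parts 2 (g ^ 2 ^ i)
      have hx1 : x = 1 := hodd x (Subgroup.zpowers_le.mpr (pow_mem hg2 _) hxz)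
        (MonoidHom.mem_ker.mp (Subgroup.zpowers_le.mpr (MonoidHom.mem_ker.mpr hi') hxz)) hxo
      refine ⟨i + j, Subtype.ext ?_⟩
      show g ^ 2 ^ (i + j) = 1
      rw [pow_add, pow_mul, ← hab, hx1, mul_one, hj]
    exact hAQ (le_trans (fun a ha => Subgroup.mem_inf.mpr ⟨hle ⟨a, ha, rfl⟩, hSN0 (hAS ha)⟩)
      (CfsgLib.Core.le_pCore inferInstance hP))
  have hq : ∀ P : Subgroup ↥φ.range, IsPGroup 2 ↥P → ∀ a ∈ P, ∀ b ∈ P, ∀ v,
      φ.range.subtype b (φ.range.subtype a v * v) = φ.range.subtype a v * v := by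
    intro P hP
    have hs := φ.rangeRestrict_surjective
    obtain ⟨T, hT⟩ := hP.exists_le_sylow
    obtain ⟨γ, hγ⟩ := MulAction.exists_smul_eq ↥φ.range (S.mapSurjective hs) T
    obtain ⟨g, rfl⟩ := hs γ
    have hlift : ∀ a ∈ P, ∃ s ∈ (S : Subgroup G), φ (g * s * g⁻¹) = (a : MulAut ↥V) := by
      intro a ha
      have h := hT ha
      rw [← hγ, Sylow.coe_subgroup_smul] at h
      obtain ⟨_, ⟨s, hs', rfl⟩, rfl⟩ := h
      exact ⟨s, hs', by rw [map_mul, map_mul, map_inv]; rfl⟩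
    intro a ha b hb v
    obtain ⟨s, hs', ea⟩ := hlift a ha
    obtain ⟨t, ht, eb⟩ := hlift b hb
    show (b : MulAut ↥V) ((a : MulAut ↥V) v * v) = (a : MulAut ↥V) v * v
    rw [← ea, ← eb, hφC]
    have hw := hVn.conj_mem _ v.2 g⁻¹
    rw [inv_inv] at hw
    set w := g⁻¹ * (v : G) * g with hwdef
    have hw2 : w⁻¹ = w := inv_eq_of_mul_eq_one_right (by rw [← pow_two]; exact hw.2)
    have e : ((φ (g * s * g⁻¹) v * v : ↥V) : G) = g * ⁅s, w⁆ * g⁻¹ := by
      rw [Subgroup.coe_mul, hφv, commutatorElement_def, hw2, hwdef]; group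
    rw [e, show g * t * g⁻¹ * (g * ⁅s, w⁆ * g⁻¹) = g * (t * ⁅s, w⁆) * g⁻¹ by group, ← hS2 s hs' w (hVS hw) t ht]
    group
  have hbest : ∀ B ≤ E, Nat.card ↥B * Nat.card ↥(CfsgLib.OffenderSym.fix φ.range.subtype B) ≤
      Nat.card ↥E * Nat.card ↥(CfsgLib.OffenderSym.fix φ.range.subtype E) := by
    intro B hB
    set B' := A ⊓ B.comap φ.rangeRestrict with hB'
    have hmapB : B'.map φ.rangeRestrict = B := by
      refine le_antisymm (Subgroup.map_le_iff_le_comap.mpr inf_le_right) fun b hb => ?_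
      obtain ⟨a, ha, rfl⟩ := hB hb
      exact ⟨a, Subgroup.mem_inf.mpr ⟨ha, hb⟩, rfl⟩
    have hkerB : B' ⊓ φ.rangeRestrict.ker = A ⊓ φ.rangeRestrict.ker :=
      le_antisymm (inf_le_inf_right _ inf_le_left) (le_inf (le_inf inf_le_left (inf_le_right.trans fun g hg => by
        rw [Subgroup.mem_comap, MonoidHom.mem_ker.mp hg]; exact one_mem B)) inf_le_right)
    set W := (CfsgLib.OffenderSym.fix φ.range.subtype B).map V.subtype with hW
    have hWV : W ≤ V := Subgroup.map_subtype_le _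
    have hBW : ∀ b ∈ B', ∀ w ∈ W, b * w = w * b := by
      rintro b hb _ ⟨v, hv, rfl⟩
      exact (hφC b v).mp (hv _ (Subgroup.mem_inf.mp hb).2)
    have hWel : Cfsg.IsElementaryAbelian 2 W :=
      ⟨⟨⟨fun v w => Subtype.ext (hVc _ (hWV v.2) _ (hWV w.2))⟩⟩, fun v hv => (hWV hv).2⟩
    have hmax : Nat.card ↥(B' ⊔ W) ≤ Nat.card ↥A :=
      CfsgLib.PLocal.card_le_of_subgroup _ hA₁ (CfsgLib.PLocal.el_sup (CfsgLib.PLocal.el_mono hAel inf_le_left) hWel hBW)
        (sup_le (inf_le_left.trans hAS) (hWV.trans hVS))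
    have hprod := CfsgLib.OffenderSym.card_prod (H := B') (K := W)
      (fun w hw => Subgroup.centralizer_le_normalizer _ fun b hb => hBW b hb w hw)
    have hinf : Nat.card ↥(B' ⊓ W) ≤ Nat.card ↥(CfsgLib.OffenderSym.fix φ.range.subtype E) := by
      rw [← Subgroup.card_map_of_injective (f := V.subtype) V.subtype_injective (K := CfsgLib.OffenderSym.fix φ.range.subtype E)]
      refine Subgroup.card_le_of_le fun w hw => ?_
      obtain ⟨hw1, hw2⟩ := Subgroup.mem_inf.mp hw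
      refine ⟨⟨w, hWV hw2⟩, ?_, rfl⟩
      rintro _ ⟨a, ha, rfl⟩
      exact (hφC a _).mpr (hAc a ha w (Subgroup.mem_inf.mp hw1).1)
    have h1 := card_ker_map φ.rangeRestrict B'
    have h2 := card_ker_map φ.rangeRestrict A
    rw [hmapB, hkerB] at h1
    rw [← hEdef] at h2
    refine Nat.le_of_mul_le_mul_right ?_ (Nat.card_pos (α := ↥(A ⊓ φ.rangeRestrict.ker)))
    calc Nat.card ↥B * Nat.card ↥(CfsgLib.OffenderSym.fix φ.range.subtype B) * Nat.card ↥(A ⊓ φ.rangeRestrict.ker)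
        = Nat.card ↥B' * Nat.card ↥W := by
          rw [h1, hW, Subgroup.card_map_of_injective (f := V.subtype) V.subtype_injective]; ring
      _ = Nat.card ↥(B' ⊔ W) * Nat.card ↥(B' ⊓ W) := hprod.symm
      _ ≤ Nat.card ↥A * Nat.card ↥(CfsgLib.OffenderSym.fix φ.range.subtype E) := Nat.mul_le_mul hmax hinf
      _ = _ := by rw [h2]; ring
  obtain ⟨a, b, U, haa, hbb, hinv, hbraid, v₀, hv₀, hv₀ne⟩ := CfsgLib.OffenderSym.hasSym _ φ.range.subtype rfl
    φ.range.subtype_injective hexp hq E hEp hbest hEO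
  obtain ⟨ga, hga⟩ := a.2
  obtain ⟨gb, hgb⟩ := b.2
  set T := U.map V.subtype with hT
  have hTp : IsPGroup 2 ↥T := S.2.to_le ((Subgroup.map_subtype_le _).trans hVS)
  have hmemC : ∀ g, g ∈ Subgroup.centralizer (T : Set G) ↔ ∀ v ∈ U, φ g v = v := fun g => by
    constructor
    · exact fun h v hv => (hφC g v).mpr (h _ ⟨v, hv, rfl⟩).symm
    · rintro h _ ⟨v, hv, rfl⟩
      exact ((hφC g v).mp (h v hv)).symm
  have hmemN : ∀ g, (∀ v ∈ U, φ g v ∈ U) → g ∈ Subgroup.normalizer (T : Set G) := fun g h =>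
    Subgroup.mem_normalizer_fintype fun w hw => by
      obtain ⟨v, hv, rfl⟩ := hw
      exact ⟨φ g v, h v hv, hφv g v⟩
  have haT : ga ∈ Subgroup.normalizer (T : Set G) := hmemN _ fun v hv => by rw [hga]; exact (hinv v hv).1
  have hbT : gb ∈ Subgroup.normalizer (T : Set G) := hmemN _ fun v hv => by rw [hgb]; exact (hinv v hv).2
  -- the involution
  obtain ⟨t, r, ht, hr, htr, ⟨j, hj⟩, hro⟩ := CfsgLib.ThompsonNPC.exists_mul_parts 2 ga
  have hφa2 : φ ga * φ ga = 1 := by rw [hga]; exact congrArg Subtype.val haa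
  have hφb2 : φ gb * φ gb = 1 := by rw [hgb]; exact congrArg Subtype.val hbb
  have hφr : φ r = 1 := by
    obtain ⟨i, rfl⟩ := Subgroup.mem_zpowers_iff.mp hr
    refine orderOf_eq_one_iff.mp (Nat.eq_one_of_dvd_coprimes hro (orderOf_map_dvd φ _) (orderOf_dvd_of_pow_eq_one ?_))
    rw [map_zpow, ← zpow_natCast, ← zpow_mul, mul_comm, zpow_mul, zpow_natCast, pow_two, hφa2, one_zpow]
  have hφt : φ t = φ ga := by rw [← htr, map_mul, hφr, mul_one]
  -- the element of order three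
  set x := ga * gb with hx
  obtain ⟨y, s, hy, hs, hys, ⟨k, hk⟩, hso⟩ := CfsgLib.ThompsonNPC.exists_mul_parts 3 x
  have hx3 : x ^ 3 ∈ Subgroup.centralizer (T : Set G) := (hmemC _).mpr fun v hv => by
    have e : φ (x ^ 3) = φ.range.subtype (a * b * a) * φ.range.subtype (b * a * b) := by
      rw [← map_mul]
      simp only [hx, map_pow, map_mul, hga, hgb, Subgroup.coe_subtype]
      simp only [pow_succ, pow_zero, one_mul, mul_assoc]
    have hw : φ.range.subtype (b * a * b) v ∈ U := by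
      simp only [map_mul, MulAut.mul_apply]
      exact (hinv _ (hinv _ (hinv v hv).2).1).2
    rw [e, MulAut.mul_apply, hbraid _ hw, ← MulAut.mul_apply, ← map_mul,
      show b * a * b * (b * a * b) = b * a * (b * b) * a * b by group, hbb, mul_one, mul_assoc b a a, haa, mul_one, hbb,
      map_one, MulAut.one_apply]
  obtain ⟨i, hiy⟩ := Subgroup.mem_zpowers_iff.mp hy
  obtain ⟨l, hls⟩ := Subgroup.mem_zpowers_iff.mp hs
  have hpow3 : ∀ z : ℤ, (x ^ z) ^ 3 ∈ Subgroup.centralizer (T : Set G) := fun z => by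
    rw [← zpow_natCast (x ^ z), ← zpow_mul, mul_comm, zpow_mul, zpow_natCast]
    exact zpow_mem hx3 z
  have hsC : s ∈ Subgroup.centralizer (T : Set G) := by
    obtain ⟨m, hm⟩ := exists_pow_eq_self_of_coprime (x := s) (n := 3) hso.symm
    rw [← hm]
    exact pow_mem (hls ▸ hpow3 l) m
  refine CfsgLib.FourAct.not_s4Free hTp (y := y) (t := t) (Subgroup.zpowers_le.mpr (mul_mem haT hbT) hy)
    (Subgroup.zpowers_le.mpr haT ht) ?_ ?_ (fun h => ?_) (hiy ▸ hpow3 i) ((hmemC _).mpr fun v _ => ?_) hfree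
  · obtain ⟨m, -, hm⟩ := (Nat.dvd_prime_pow Nat.prime_three).mp (orderOf_dvd_of_pow_eq_one hk)
    exact ⟨m, hm⟩
  · obtain ⟨m, -, hm⟩ := (Nat.dvd_prime_pow Nat.prime_two).mp (orderOf_dvd_of_pow_eq_one hj)
    exact ⟨m, hm⟩
  · refine hv₀ne ?_
    have h2 := (hmemC _).mp (hys ▸ mul_mem h hsC : x ∈ _) v₀ hv₀
    rw [hx, map_mul, hga, hgb] at h2
    exact h2
  · have h1 : φ ga * φ x * (φ ga)⁻¹ = (φ x)⁻¹ := by
      have ea : (φ ga)⁻¹ = φ ga := inv_eq_of_mul_eq_one_right hφa2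
      have eb : (φ gb)⁻¹ = φ gb := inv_eq_of_mul_eq_one_right hφb2
      rw [hx, map_mul, mul_inv_rev, ea, eb, ← mul_assoc (φ ga), hφa2, one_mul]
    have h2 : φ (t * y * t⁻¹ * y) = 1 := by
      rw [map_mul, map_mul, map_mul, map_inv, hφt, ← hiy, map_zpow, ← conj_zpow, h1, inv_zpow, inv_mul_cancel]
    rw [h2, MulAut.one_apply]

/-- Let G be a finite group that is 2-constrained and has no section isomorphic to the symmetric group of degree 4, and let S be a Sylow 2-subgroup of G of nilpotency class at most 2. Then G = N_G(J(S))·O_{2'}(G), where J(S) is the Thompson subgroup generated by the elementary abelian subgroups of S of largest order. -/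
theorem result {G : Type*} [Group G] [Finite G] (hcon : Cfsg.IsPConstrained 2 G) (hS4 : ¬ Cfsg.Involves (Equiv.Perm (Fin 4)) G) (S : Sylow 2 G) (hcl : Subgroup.lowerCentralSeries (S : Subgroup G) 2 = ⊥) : Subgroup.normalizer ((Cfsg.thompsonSubgroupOf 2 (S : Subgroup G)) : Set G) ⊔ Cfsg.pPrimeCore 2 G = ⊤ := by
  haveI : Fact (Nat.Prime 2) := ⟨Nat.prime_two⟩
  set O := Cfsg.pPrimeCore 2 G with hOdef
  haveI := CfsgLib.Core.pPrimeCore_characteristic (G := G) 2
  set π := QuotientGroup.mk' O with hπdef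
  have hπs : Function.Surjective π := QuotientGroup.mk'_surjective O
  let Sb : Sylow 2 (G ⧸ O) := S.mapSurjective hπs
  have hSb : (Sb : Subgroup (G ⧸ O)) = (S : Subgroup G).map π := rfl
  have hfree : CfsgLib.ThompsonNPC.S4Free (G ⧸ O) :=
    (CfsgLib.ThompsonNPC.s4Free_of_not_involves hS4).of_surjective π hπs
  have hclb : Subgroup.lowerCentralSeries (Sb : Subgroup (G ⧸ O)) 2 = ⊥ := by
    rw [hSb]
    show ⁅⁅(S : Subgroup G).map π, (S : Subgroup G).map π⁆, (S : Subgroup G).map π⁆ = ⊥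
    rw [← Subgroup.map_commutator, ← Subgroup.map_commutator,
      show ⁅⁅(S : Subgroup G), (S : Subgroup G)⁆, (S : Subgroup G)⁆ = ⊥ from hcl, Subgroup.map_bot]
  have hJ := normal_thompson Sb hfree hclb (CfsgLib.PConstrained.isPConstrained_iff.mp hcon)
  set J := Cfsg.thompsonSubgroupOf 2 (S : Subgroup G) with hJdef
  have hinj : Function.Injective (π.comp (S : Subgroup G).subtype) := by
    rw [← MonoidHom.ker_eq_bot_iff, eq_bot_iff]
    intro s hs
    have h : (s : G) ∈ (S : Subgroup G) ⊓ O := Subgroup.mem_inf.mpr ⟨s.2, (QuotientGroup.eq_one_iff (s : G)).mp hs⟩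
    rw [CfsgLib.PConstrained.inf_eq_bot_of_coprime S.2 (CfsgLib.Core.card_pPrimeCore_coprime 2), Subgroup.mem_bot] at h
    exact Subgroup.mem_bot.mpr (Subtype.ext h)
  rw [hSb, CfsgLib.PLocal.thompsonOf_map π _ hinj] at hJ
  rw [eq_top_iff]
  intro g _
  have hg : π g ∈ Subgroup.normalizer ((J.map π : Subgroup (G ⧸ O)) : Set (G ⧸ O)) := by
    rw [Subgroup.normalizer_eq_top_iff.mpr hJ]; trivial
  obtain ⟨n, hn, hne⟩ := CfsgLib.PConstrained.mem_normalizer_lift π
    (by rw [hπdef, QuotientGroup.ker_mk']; exact CfsgLib.Core.card_pPrimeCore_coprime 2)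
    (S.2.to_le (Subgroup.map_subtype_le _)) hg
  have h : n⁻¹ * g ∈ O := by
    rw [← QuotientGroup.eq_one_iff]
    show π (n⁻¹ * g) = 1
    rw [map_mul, map_inv, hne, inv_mul_cancel]
  have h2 := Subgroup.mul_mem_sup hn h
  rwa [mul_inv_cancel_left] at h2

end Cfsg.Agent.S1932
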