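import Cfsg.Statements.S2231
import Cfsg.Agent.Lib.Linear.GL2Unipotent
import Cfsg.Agent.Lib.Unipotent.Basic

set_option autoImplicit false
open Cfsg

namespace Cfsg.Agent.S2231

open Matrix

universe u v

/-- All `p`-subgroups of `G` are commutative. -/
def AbelianPSubgroups (p : ℕ) (G : Type u) [Group G] : Prop :=
  ∀ (Q : Subgroup G), IsPGroup p Q → ∀ a ∈ Q, ∀ b ∈ Q, a * b = b * a

theorem abelianPSubgroups_of_surjective {p : ℕ} [Fact p.Prime] {A : Type u} {B : Type v} [Group A]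
    [Finite A] [Group B] (f : A →* B) (hf : Function.Surjective f) (h : AbelianPSubgroups p A) :
    AbelianPSubgroups p B := by
  intro Q hQ a ha b hb
  obtain ⟨P', hP'⟩ := hQ.exists_le_sylow
  obtain ⟨P, hP⟩ := Sylow.mapSurjective_surjective hf p P'
  have hmap : (P' : Subgroup B) = (P : Subgroup A).map f := by rw [← hP]; rfl
  obtain ⟨x, hx, rfl⟩ := (hmap ▸ hP' ha : a ∈ (P : Subgroup A).map f)
  obtain ⟨y, hy, rfl⟩ := (hmap ▸ hP' hb : b ∈ (P : Subgroup A).map f)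
  rw [← map_mul, ← map_mul, h _ P.isPGroup' x hx y hy]

theorem abelianPSubgroups_subgroup {p : ℕ} {A : Type u} [Group A] (h : AbelianPSubgroups p A)
    (K : Subgroup A) : AbelianPSubgroups p K := by
  intro Q hQ a ha b hb
  exact Subtype.ext (h (Q.map K.subtype) (hQ.map _) _ ⟨a, ha, rfl⟩ _ ⟨b, hb, rfl⟩)

theorem abelianPSubgroups_sl2 {p : ℕ} [Fact p.Prime] {K : Type u} [Field K] [Fintype K] [CharP K p] :
    AbelianPSubgroups p (Matrix.SpecialLinearGroup (Fin 2) K) := by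
  intro Q hQ a ha b hb
  obtain ⟨P, hP⟩ := hQ.exists_le_sylow
  obtain ⟨g, hg⟩ := CfsgLib.Linear.GL2Unipotent.exists_conj_V p P
  obtain ⟨_, ⟨x, rfl⟩, rfl⟩ := (hg ▸ hP ha : a ∈ (CfsgLib.Linear.GL2Unipotent.V).map _)
  obtain ⟨_, ⟨y, rfl⟩, rfl⟩ := (hg ▸ hP hb : b ∈ (CfsgLib.Linear.GL2Unipotent.V).map _)
  rw [← map_mul, ← map_mul]
  congr 1
  apply Subtype.ext
  simp [Matrix.SpecialLinearGroup.coe_mul, add_comm]

/-- The unitriangular group in degree three. -/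
def unitri (p : ℕ) [Fact p.Prime] : Subgroup (Matrix.SpecialLinearGroup (Fin 3) (ZMod p)) where
  carrier := {M | M.1 1 0 = 0 ∧ M.1 2 0 = 0 ∧ M.1 2 1 = 0 ∧ M.1 0 0 = 1 ∧ M.1 1 1 = 1 ∧ M.1 2 2 = 1}
  one_mem' := by simp
  mul_mem' := by
    rintro A B ⟨a1, a2, a3, a4, a5, a6⟩ ⟨b1, b2, b3, b4, b5, b6⟩
    simp [Matrix.SpecialLinearGroup.coe_mul, Matrix.mul_apply, Fin.sum_univ_three, a1, a2, a3, a4,
      a5, a6, b1, b2, b3, b4, b5, b6]
  inv_mem' := by
    rintro A ⟨a1, a2, a3, a4, a5, a6⟩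
    simp [Matrix.SpecialLinearGroup.coe_inv, Matrix.adjugate_fin_three, a1, a2, a3, a4, a5, a6]

theorem isPGroup_unitri (p : ℕ) [Fact p.Prime] : IsPGroup p (unitri p) := by
  rintro ⟨M, a1, a2, a3, a4, a5, a6⟩
  refine ⟨2, Subtype.ext (Subtype.ext ?_)⟩
  show ((M ^ (p ^ 2) : Matrix.SpecialLinearGroup (Fin 3) (ZMod p)) : Matrix (Fin 3) (Fin 3) (ZMod p)) = 1
  rw [Matrix.SpecialLinearGroup.coe_pow, ← sub_eq_zero, ← CfsgLib.Unipotent.sub_one_pow p]
  refine pow_eq_zero_of_le ?_ (n := p ^ 2) (m := 3) ?_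
  · have := (Fact.out : p.Prime).two_le
    nlinarith
  · ext i j
    fin_cases i <;> fin_cases j <;>
      simp [pow_succ, Matrix.mul_apply, Fin.sum_univ_three, a1, a2, a3, a4, a5, a6]

theorem not_abelian_qd (p : ℕ) [Fact p.Prime] : ¬ AbelianPSubgroups p ↥(Cfsg.qd p) := by
  intro h
  let a : Matrix.SpecialLinearGroup (Fin 3) (ZMod p) :=
    ⟨!![1, 1, 0; 0, 1, 0; 0, 0, 1], by simp [Matrix.det_fin_three]⟩
  let b : Matrix.SpecialLinearGroup (Fin 3) (ZMod p) :=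
    ⟨!![1, 0, 0; 0, 1, 1; 0, 0, 1], by simp [Matrix.det_fin_three]⟩
  have haq : a ∈ Cfsg.qd p := Subgroup.subset_closure ⟨rfl, rfl, rfl⟩
  have hbq : b ∈ Cfsg.qd p := Subgroup.subset_closure ⟨rfl, rfl, rfl⟩
  have hP : IsPGroup p ((unitri p).subgroupOf (Cfsg.qd p)) :=
    (isPGroup_unitri p).comap_of_injective _ Subtype.val_injective
  have h' := h _ hP ⟨a, haq⟩ (show a ∈ unitri p from ⟨rfl, rfl, rfl, rfl, rfl, rfl⟩) ⟨b, hbq⟩
    (show b ∈ unitri p from ⟨rfl, rfl, rfl, rfl, rfl, rfl⟩)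
  have e : (!![1, 1, 0; 0, 1, 0; 0, 0, 1] : Matrix (Fin 3) (Fin 3) (ZMod p)) *
      !![1, 0, 0; 0, 1, 1; 0, 0, 1] = !![1, 0, 0; 0, 1, 1; 0, 0, 1] * !![1, 1, 0; 0, 1, 0; 0, 0, 1] :=
    congrArg Subtype.val (congrArg Subtype.val h')
  have e' := congrFun (congrFun e 0) 2
  simp [Matrix.mul_apply, Fin.sum_univ_three] at e'

/-- Let p be an odd prime and K a finite field of characteristic p. Then Qd(p) (the natural semidirect product of an elementary abelian group of order p² by SL₂(p)) is not involved in the projective special linear group PSL₂(K). -/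
theorem result {p : ℕ} [Fact p.Prime] (hp : p ≠ 2) {K : Type*} [Field K] [Fintype K] [CharP K p] : ¬ Cfsg.Involves ↥(Cfsg.qd p) (Matrix.ProjectiveSpecialLinearGroup (Fin 2) K) := by
  rintro ⟨L, R, hn, ⟨e⟩⟩
  have h1 : AbelianPSubgroups p (Matrix.ProjectiveSpecialLinearGroup (Fin 2) K) :=
    abelianPSubgroups_of_surjective
      (QuotientGroup.mk' (Subgroup.center (Matrix.SpecialLinearGroup (Fin 2) K)))
      (QuotientGroup.mk'_surjective _) abelianPSubgroups_sl2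
  exact not_abelian_qd p (abelianPSubgroups_of_surjective
    (e.toMonoidHom.comp (QuotientGroup.mk' (R.subgroupOf L)))
    (e.surjective.comp (QuotientGroup.mk'_surjective _)) (abelianPSubgroups_subgroup h1 L))

end Cfsg.Agent.S2231
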