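import Cfsg.Statements.S2247
import Mathlib
import Cfsg.Agent.Lib.Suzuki.Maximal

set_option autoImplicit false
open Cfsg

namespace Cfsg.Agent.S2247

open CfsgLib.Suzuki

/-- In the Suzuki group with q = 2^(2m+1), m ≥ 1 (realised as the stabiliser in SL₄ of the Suzuki–Tits ovoid), the normalizer of a Sylow 2-subgroup P is a maximal subgroup and is the only maximal subgroup containing P. -/
theorem result {F : Type*} [Field F] [Fintype F] {m : ℕ} (hm : 1 ≤ m) (hF : Fintype.card F = 2 ^ (2 * m + 1)) (P : Sylow 2 ↥(Cfsg.Sz F m)) :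
    IsCoatom (Subgroup.normalizer ((P : Subgroup ↥(Cfsg.Sz F m)) : Set ↥(Cfsg.Sz F m))) ∧
    ∀ M : Subgroup ↥(Cfsg.Sz F m), IsCoatom M → (P : Subgroup ↥(Cfsg.Sz F m)) ≤ M → M = Subgroup.normalizer ((P : Subgroup ↥(Cfsg.Sz F m)) : Set ↥(Cfsg.Sz F m)) := by
  have h : Hyp F m := ⟨hm, hF⟩
  obtain ⟨c, hc⟩ := h.sylow_two_conj P
  have hmem : ∀ x, x ∈ h.Q → c * x * c⁻¹ ∈ (P : Subgroup (Cfsg.Sz F m)) := fun x hx => hc ▸ ⟨x, hx, rfl⟩
  have hN : Subgroup.normalizer ((P : Subgroup (Cfsg.Sz F m)) : Set (Cfsg.Sz F m)) =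
      (MulAut.conj c).mapSubgroup (MulAction.stabilizer (Cfsg.Sz F m) (oI F m)) := by
    rw [← h.normalizer_Q, hc]
    exact (Subgroup.map_equiv_normalizer_eq h.Q (MulAut.conj c)).symm
  refine ⟨hN ▸ ((MulAut.conj c).mapSubgroup.isCoatom_iff _).mpr h.isCoatom_stab, fun M hM hPM => ?_⟩
  set M' := (MulAut.conj c).mapSubgroup.symm M with hM'def
  have hM' : IsCoatom M' := ((MulAut.conj c).mapSubgroup.symm.isCoatom_iff _).mpr hM
  have hQM : h.Q ≤ M' := by
    rw [hM'def, OrderIso.le_symm_apply]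
    exact (le_of_eq hc.symm).trans hPM
  have hle : M' ≤ MulAction.stabilizer (Cfsg.Sz F m) (oI F m) := by
    intro g hg
    by_contra hgI
    exact hM'.1 (h.overgroup hQM hg (fun e => hgI (MulAction.mem_stabilizer_iff.mpr e)))
  have heq : M' = MulAction.stabilizer (Cfsg.Sz F m) (oI F m) := by
    rcases eq_or_lt_of_le hle with e | e
    · exact e
    · exact absurd (hM'.2 _ e) h.stab_ne_top
  rw [hN, ← heq, hM'def, OrderIso.apply_symm_apply]

end Cfsg.Agent.S2247
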