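import Cfsg.Statements.S2271


set_option autoImplicit false
open Cfsg

namespace Cfsg.Agent.S2271

open Equiv in
theorem swap_off {α : Type*} [DecidableEq α] {x y z : α} (h1 : z ≠ x) (h2 : z ≠ y) : Equiv.swap x y z = z :=
  Equiv.swap_apply_of_ne_of_ne h1 h2

/-- Agreements of a conjugate of `b` with `c`. -/
def agree {n : ℕ} (c b g : Equiv.Perm (Fin n)) : Finset (Fin n) := Finset.univ.filter fun x => g (b (g.symm x)) = c x

theorem mem_agree {n : ℕ} {c b g : Equiv.Perm (Fin n)} {x : Fin n} : x ∈ agree c b g ↔ g (b (g.symm x)) = c x := by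
  simp [agree]

theorem agree_apply {n : ℕ} (c b g : Equiv.Perm (Fin n)) (u : Fin n) (h : g (b u) = c (g u)) : g u ∈ agree c b g := by
  rw [mem_agree, Equiv.symm_apply_apply, h]

theorem agree_symm {n : ℕ} (c b g : Equiv.Perm (Fin n)) : (agree b c g⁻¹).card = (agree c b g).card := by
  refine Finset.card_bij (fun x _ => g x) (fun x hx => ?_) (fun x _ y _ h => g.injective h)
    (fun x hx => ⟨g.symm x, ?_, g.apply_symm_apply x⟩)
  · rw [mem_agree, Equiv.Perm.inv_def, Equiv.symm_symm] at hx
    rw [mem_agree, Equiv.symm_apply_apply, ← hx, Equiv.apply_symm_apply]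
  · rw [mem_agree] at hx
    rw [mem_agree, Equiv.Perm.inv_def, Equiv.symm_symm, Equiv.apply_symm_apply, ← hx, Equiv.symm_apply_apply]

theorem five (c : Equiv.Perm (Fin 5)) :
    (Finset.univ.filter fun x => c x = x).card = 1 → Equiv.Perm.sign c = -1 ∨ c * c = 1 := by
  revert c; decide +kernel

theorem fix_lt {n : ℕ} {c : Equiv.Perm (Fin n)} (hc : c ≠ 1) : ∃ x, c x ≠ x := by
  by_contra h; simp only [not_exists, not_not] at h
  exact hc (Equiv.ext h)

theorem average {n : ℕ} (hn : 5 ≤ n) (c b : Equiv.Perm (Fin n)) (N : ℕ)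
    (hN : ∀ g ∈ alternatingGroup (Fin n), (agree c b g).card = N) :
    N * (n * (n - 1)) = (Finset.univ.filter fun x => c x = x).card * (Finset.univ.filter fun x => b x = x).card * (n - 1)
      + (Finset.univ.filter fun x => ¬ c x = x).card * (Finset.univ.filter fun x => ¬ b x = x).card := by
  classical
  set A : Finset (Equiv.Perm (Fin n)) := Finset.univ.filter fun g => g ∈ alternatingGroup (Fin n) with hA
  set T : Fin n → Fin n → Fin n → Fin n → ℕ := fun u w x y => (A.filter fun g => g u = x ∧ g w = y).card with hT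
  -- even permutations are transitive on ordered pairs
  have trans : ∀ u w x y : Fin n, u ≠ w → x ≠ y → ∃ h ∈ alternatingGroup (Fin n), h u = x ∧ h w = y := by
    intro u w x y huw hxy
    let h1 := Equiv.swap u x
    let h2 := Equiv.swap (h1 w) y * h1
    have e1 : h1 w ≠ x := fun e => huw (h1.injective (by rw [Equiv.swap_apply_left, e]))
    have hu : h2 u = x := by
      show Equiv.swap (h1 w) y (h1 u) = x
      rw [Equiv.swap_apply_left, swap_off e1.symm hxy]
    have hw : h2 w = y := Equiv.swap_apply_left _ _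
    obtain ⟨p, q, hpq, hp, hq⟩ : ∃ p q, p ≠ q ∧ p ∉ ({u, w} : Finset (Fin n)) ∧ q ∉ ({u, w} : Finset (Fin n)) := by
      have h3 : 1 < (({u, w} : Finset (Fin n))ᶜ).card := by
        rw [Finset.card_compl, Fintype.card_fin, Finset.card_pair huw]; omega
      obtain ⟨p, hp, q, hq, hpq⟩ := Finset.one_lt_card.1 h3
      exact ⟨p, q, hpq, Finset.mem_compl.1 hp, Finset.mem_compl.1 hq⟩
    simp only [Finset.mem_insert, Finset.mem_singleton, not_or] at hp hq
    rcases Int.units_eq_one_or (Equiv.Perm.sign h2) with h | h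
    · exact ⟨h2, Equiv.Perm.mem_alternatingGroup.2 h, hu, hw⟩
    · refine ⟨h2 * Equiv.swap p q, Equiv.Perm.mem_alternatingGroup.2 ?_, ?_, ?_⟩
      · rw [map_mul, h, Equiv.Perm.sign_swap hpq]; rfl
      · rw [Equiv.Perm.mul_apply, swap_off (Ne.symm hp.1) (Ne.symm hq.1), hu]
      · rw [Equiv.Perm.mul_apply, swap_off (Ne.symm hp.2) (Ne.symm hq.2), hw]
  obtain ⟨i0, i1, h01⟩ : ∃ i j : Fin n, i ≠ j := ⟨⟨0, by omega⟩, ⟨1, by omega⟩, by simp [Fin.ext_iff]⟩
  set M := T i0 i1 i0 i1 with hM
  have hMpos : 0 < M := Finset.card_pos.2 ⟨1, by simp [hA]⟩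
  have hTM : ∀ u w x y, u ≠ w → x ≠ y → T u w x y = M := by
    intro u w x y huw hxy
    obtain ⟨k, hk, hk0, hk1⟩ := trans u w i0 i1 huw h01
    obtain ⟨l, hl, hl0, hl1⟩ := trans i0 i1 x y h01 hxy
    symm
    refine Finset.card_bij (fun g _ => l * g * k) (fun g hg => ?_) (fun g _ g' _ h => mul_left_cancel (mul_right_cancel h))
      (fun g hg => ⟨l⁻¹ * g * k⁻¹, ?_, by group⟩)
    · simp only [Finset.mem_filter, hA, Finset.mem_univ, true_and] at hg ⊢
      exact ⟨mul_mem (mul_mem hl hg.1) hk, by simp [hk0, hg.2.1, hl0], by simp [hk1, hg.2.2, hl1]⟩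
    · simp only [Finset.mem_filter, hA, Finset.mem_univ, true_and] at hg ⊢
      refine ⟨mul_mem (mul_mem (inv_mem hl) hg.1) (inv_mem hk), ?_, ?_⟩
      · rw [Equiv.Perm.mul_apply, Equiv.Perm.mul_apply, ← hk0, show k⁻¹ (k u) = u by simp, hg.2.1, ← hl0, hk0]; simp
      · rw [Equiv.Perm.mul_apply, Equiv.Perm.mul_apply, ← hk1, show k⁻¹ (k w) = w by simp, hg.2.2, ← hl1, hk1]; simp
  have h1 : ∀ u x, (A.filter fun g => g u = x).card = (n - 1) * M := by
    intro u x
    obtain ⟨w, hw⟩ : ∃ w, u ≠ w := by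
      by_cases e : u = i0
      · exact ⟨i1, e ▸ h01⟩
      · exact ⟨i0, e⟩
    rw [Finset.card_eq_sum_card_fiberwise (t := Finset.univ.erase x) (f := fun g => g w) (fun g hg => by
      simp only [Finset.coe_filter, Set.mem_setOf_eq] at hg
      simp only [Finset.coe_erase, Finset.coe_univ, Set.mem_diff, Set.mem_univ, Set.mem_singleton_iff, true_and]
      exact fun e => hw (g.injective (hg.2.trans e.symm)))]
    rw [Finset.sum_congr rfl fun y hy => show _ = M from by
      rw [Finset.filter_filter]; exact hTM u w x y hw (Ne.symm (Finset.mem_erase.1 hy).1)]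
    simp
  have hAcard : A.card = n * ((n - 1) * M) := by
    rw [Finset.card_eq_sum_card_fiberwise (t := Finset.univ) (f := fun g => g i0) (fun g _ => by simp)]
    simp [h1]
  have hx : ∀ x, (A.filter fun g => x ∈ agree c b g).card =
      if c x = x then (Finset.univ.filter fun u => b u = u).card * ((n - 1) * M)
      else (Finset.univ.filter fun u => ¬ b u = u).card * M := by
    intro x
    rw [Finset.card_eq_sum_card_fiberwise (t := Finset.univ) (f := fun g => g⁻¹ x) (fun g _ => by simp)]
    have e : ∀ u, ((A.filter fun g => x ∈ agree c b g).filter fun g => g⁻¹ x = u) = A.filter fun g => g u = x ∧ g (b u) = c x := by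
      intro u
      rw [Finset.filter_filter]
      refine Finset.filter_congr fun g _ => ?_
      rw [mem_agree]
      constructor
      · rintro ⟨ha, rfl⟩; exact ⟨by simp, ha⟩
      · rintro ⟨rfl, ha⟩; exact ⟨by rw [Equiv.symm_apply_apply]; exact ha, by simp⟩
    simp only [e]
    split
    · next hcx =>
      rw [← smul_eq_mul, ← Finset.sum_const, Finset.sum_filter]
      refine Finset.sum_congr rfl fun u _ => ?_
      split
      · next hbu => rw [hbu, hcx]; simp only [and_self]; exact h1 u x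
      · next hbu =>
        rw [Finset.card_eq_zero, Finset.filter_eq_empty_iff]
        rintro g _ ⟨e1, e2⟩
        exact hbu (g.injective (by rw [e2, hcx, e1]))
    · next hcx =>
      rw [← smul_eq_mul, ← Finset.sum_const, Finset.sum_filter]
      refine Finset.sum_congr rfl fun u _ => ?_
      split
      · next hbu => exact hTM u (b u) x (c x) (Ne.symm hbu) (Ne.symm hcx)
      · next hbu =>
        rw [Finset.card_eq_zero, Finset.filter_eq_empty_iff]
        rintro g _ ⟨e1, e2⟩
        rw [not_not] at hbu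
        exact hcx (by rw [← e2, hbu, e1])
  have hsum : ∑ g ∈ A, (agree c b g).card = ∑ x, (A.filter fun g => x ∈ agree c b g).card := by
    simp only [Finset.card_filter, mem_agree]
    rw [Finset.sum_comm]
    exact Finset.sum_congr rfl fun g _ => by rw [agree, Finset.card_filter]
  rw [Finset.sum_congr rfl fun g hg => hN g (by simpa [hA] using hg), Finset.sum_const, smul_eq_mul, hAcard] at hsum
  simp only [hx, Finset.sum_ite, Finset.sum_const, smul_eq_mul] at hsum
  refine Nat.eq_of_mul_eq_mul_right hMpos ?_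
  linear_combination hsum

/-- Extend a matching by a transposition. -/
theorem fix_parity {n : ℕ} (c b g : Equiv.Perm (Fin n)) (D : Finset (Fin n)) {p q : Fin n} (hpq : p ≠ q) (k : ℕ)
    (hk : k ≤ D.card) (hg : ∀ u ∈ D, g (b u) = c (g u))
    (hg' : ∀ u ∈ D, (g * Equiv.swap p q) (b u) = c ((g * Equiv.swap p q) u)) :
    ∃ h ∈ alternatingGroup (Fin n), k ≤ (agree c b h).card := by
  have key : ∀ h : Equiv.Perm (Fin n), (∀ u ∈ D, h (b u) = c (h u)) → k ≤ (agree c b h).card := fun h hh =>
    hk.trans (Finset.card_le_card_of_injOn h (fun u hu => agree_apply c b h u (hh u hu)) h.injective.injOn)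
  rcases Int.units_eq_one_or (Equiv.Perm.sign g) with h | h
  · exact ⟨g, Equiv.Perm.mem_alternatingGroup.2 h, key g hg⟩
  · refine ⟨g * Equiv.swap p q, Equiv.Perm.mem_alternatingGroup.2 ?_, key _ hg'⟩
    rw [map_mul, h, Equiv.Perm.sign_swap hpq]; rfl

theorem big {n : ℕ} (hn : 5 ≤ n) (c b : Equiv.Perm (Fin n)) (hc : c ≠ 1) (hb : b ≠ 1)
    (hle : (Finset.univ.filter fun x => b x = x).card ≤ (Finset.univ.filter fun x => c x = x).card) :
    ∃ g ∈ alternatingGroup (Fin n), (Finset.univ.filter fun x => b x = x).card + 1 ≤ (agree c b g).card := by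
  classical
  set P := Finset.univ.filter fun x => b x = x with hP
  set R := Finset.univ.filter fun x => c x = x with hR
  obtain ⟨T, hT, hTc⟩ := Finset.exists_subset_card_eq hle
  obtain ⟨x, hx⟩ := fix_lt hc
  obtain ⟨u, hu⟩ := fix_lt hb
  let g0 : Equiv.Perm (Fin n) := Equiv.extendSubtype (p := fun z => z ∈ P) (q := fun z => z ∈ T) (Finset.equivOfCardEq hTc.symm)
  have h0 : ∀ z ∈ P, g0 z ∈ T := fun z hz => Equiv.extendSubtype_mem _ z hz
  have h0' : ∀ z ∉ P, g0 z ∉ T := fun z hz => Equiv.extendSubtype_not_mem _ z hz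
  have hTR : ∀ z ∈ T, c z = z := fun z hz => by simpa [hR] using hT hz
  have huP : u ∉ P := by simp [hP, hu]
  have hbuP : b u ∉ P := by simp [hP, hu]
  have hxT : x ∉ T := fun h => hx (hTR x h)
  have hcxT : c x ∉ T := fun h => hx (c.injective (hTR _ h))
  let g1 := Equiv.swap (g0 u) x * g0
  have e1 : g1 u = x := Equiv.swap_apply_left _ _
  have k1 : ∀ z ∈ P, g1 z = g0 z := fun z hz =>
    swap_off (fun e => huP (g0.injective e ▸ hz)) (fun e => hxT (e ▸ h0 z hz))
  let g := Equiv.swap (g1 (b u)) (c x) * g1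
  have e2 : g (b u) = c x := Equiv.swap_apply_left _ _
  have e3 : g u = x := by
    show Equiv.swap (g1 (b u)) (c x) (g1 u) = x
    rw [e1]; exact swap_off (fun e => hu (g1.injective (e1.trans e)).symm) (Ne.symm hx)
  have k2 : ∀ z ∈ P, g z = g0 z := fun z hz => by
    show Equiv.swap (g1 (b u)) (c x) (g1 z) = g0 z
    rw [k1 z hz]
    exact swap_off (fun e => hbuP (g1.injective ((k1 z hz).trans e) ▸ hz)) (fun e => hcxT (e ▸ h0 z hz))
  have hgR : ∀ z ∈ P, c (g z) = g z := fun z hz => by rw [k2 z hz]; exact hTR _ (h0 z hz)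
  have hfix : ∀ z ∈ P, b z = z := fun z hz => by simpa [hP] using hz
  have hg : ∀ z ∈ insert u P, g (b z) = c (g z) := by
    intro z hz
    rcases Finset.mem_insert.1 hz with rfl | hz
    · rw [e2, e3]
    · rw [hfix z hz, hgR z hz]
  have hcard : P.card + 1 ≤ (insert u P).card := by rw [Finset.card_insert_of_notMem huP]
  by_cases h2 : 2 ≤ P.card
  · obtain ⟨p, hp, q, hq, hpq⟩ := Finset.one_lt_card.1 h2
    refine fix_parity c b g _ hpq _ hcard hg fun z hz => ?_
    rcases Finset.mem_insert.1 hz with rfl | hz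
    · have w1 : Equiv.swap p q (b z) = b z := swap_off (fun e => hbuP (e ▸ hp)) (fun e => hbuP (e ▸ hq))
      have w2 : Equiv.swap p q z = z := swap_off (fun e => huP (e ▸ hp)) (fun e => huP (e ▸ hq))
      rw [Equiv.Perm.mul_apply g (Equiv.swap p q), Equiv.Perm.mul_apply g (Equiv.swap p q), w1, w2, e2, e3]
    · rw [Equiv.Perm.mul_apply g (Equiv.swap p q), Equiv.Perm.mul_apply g (Equiv.swap p q), hfix z hz]
      have : Equiv.swap p q z ∈ P := by
        rw [Equiv.swap_apply_def]; split
        · exact hq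
        · split
          · exact hp
          · exact hz
      exact (hgR _ this).symm
  · have h3 : 1 < ((insert (b u) (insert u P))ᶜ).card := by
      rw [Finset.card_compl, Fintype.card_fin, Finset.card_insert_of_notMem (by simp [hu, hbuP]),
        Finset.card_insert_of_notMem huP]
      omega
    obtain ⟨p, hp, q, hq, hpq⟩ := Finset.one_lt_card.1 h3
    rw [Finset.mem_compl] at hp hq
    refine fix_parity c b g _ hpq _ hcard hg fun z hz => ?_
    have hzm : ∀ w ∈ insert (b u) (insert u P), Equiv.swap p q w = w := fun w hw =>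
      swap_off (fun e => hp (e ▸ hw)) (fun e => hq (e ▸ hw))
    have hbz : b z ∈ insert (b u) (insert u P) := by
      rcases Finset.mem_insert.1 hz with rfl | hz'
      · exact Finset.mem_insert_self _ _
      · rw [hfix z hz']; simp [hz']
    rw [Equiv.Perm.mul_apply g (Equiv.swap p q), Equiv.Perm.mul_apply g (Equiv.swap p q), hzm _ hbz, hzm z (Finset.mem_insert_of_mem hz)]
    exact hg z hz

theorem big2 {n : ℕ} (hn : 5 ≤ n) (c b : Equiv.Perm (Fin n)) (hb : ∀ z, b z ≠ z)
    (hc1 : (Finset.univ.filter fun x => c x = x).card = 1) : ∃ g ∈ alternatingGroup (Fin n), 2 ≤ (agree c b g).card := by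
  classical
  have pickPair : ∀ (d : Equiv.Perm (Fin n)) (Z : Finset (Fin n)), Z.card ≤ 1 → (∀ z ∉ Z, d z ≠ z) →
      ∃ u v, d u ≠ u ∧ d v ≠ v ∧ v ≠ u ∧ v ≠ d u ∧ d v ≠ u ∧ d v ≠ d u := by
    intro d Z hZ hd
    obtain ⟨u, -, hu⟩ := Finset.exists_mem_notMem_of_card_lt_card (s := Z) (t := Finset.univ) (by
      rw [Finset.card_univ, Fintype.card_fin]; omega)
    obtain ⟨v, -, hv⟩ := Finset.exists_mem_notMem_of_card_lt_card (s := Z ∪ {u, d u, d⁻¹ u}) (t := Finset.univ) (by
      rw [Finset.card_univ, Fintype.card_fin]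
      have := Finset.card_union_le Z {u, d u, d⁻¹ u}
      have := Finset.card_le_three (a := u) (b := d u) (c := d⁻¹ u)
      omega)
    simp only [Finset.mem_union, Finset.mem_insert, Finset.mem_singleton, not_or] at hv
    exact ⟨u, v, hd u hu, hd v hv.1, hv.2.1, hv.2.2.1, fun e => hv.2.2.2 (by rw [← e]; simp), fun e => hv.2.1 (d.injective e)⟩
  obtain ⟨u, v, hu, hv, n1, n2, n3, n4⟩ := pickPair b ∅ (by simp) (fun z _ => hb z)
  obtain ⟨x, y, hx, hy, m1, m2, m3, m4⟩ := pickPair c (Finset.univ.filter fun x => c x = x) hc1.le (fun z hz => by simpa using hz)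
  let g1 := Equiv.swap u x
  let g2 := Equiv.swap (g1 (b u)) (c x) * g1
  let g3 := Equiv.swap (g2 v) y * g2
  let g := Equiv.swap (g3 (b v)) (c y) * g3
  have a1 : g1 u = x := Equiv.swap_apply_left _ _
  have a2 : g2 u = x := by
    show Equiv.swap _ _ (g1 u) = x
    rw [a1]; exact swap_off (fun e => hu (g1.injective (a1.trans e)).symm) (Ne.symm hx)
  have b2 : g2 (b u) = c x := Equiv.swap_apply_left _ _
  have a3 : g3 u = x := by
    show Equiv.swap _ _ (g2 u) = x
    rw [a2]; exact swap_off (fun e => n1 (g2.injective (a2.trans e)).symm) (Ne.symm m1)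
  have b3 : g3 (b u) = c x := by
    show Equiv.swap _ _ (g2 (b u)) = c x
    rw [b2]; exact swap_off (fun e => n2 (g2.injective (b2.trans e)).symm) (Ne.symm m2)
  have c3 : g3 v = y := Equiv.swap_apply_left _ _
  have a4 : g u = x := by
    show Equiv.swap _ _ (g3 u) = x
    rw [a3]; exact swap_off (fun e => n3 (g3.injective (a3.trans e)).symm) (Ne.symm m3)
  have b4 : g (b u) = c x := by
    show Equiv.swap _ _ (g3 (b u)) = c x
    rw [b3]; exact swap_off (fun e => n4 (g3.injective (b3.trans e)).symm) (Ne.symm m4)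
  have c4 : g v = y := by
    show Equiv.swap _ _ (g3 v) = y
    rw [c3]; exact swap_off (fun e => hv (g3.injective (c3.trans e)).symm) (Ne.symm hy)
  have d4 : g (b v) = c y := Equiv.swap_apply_left _ _
  have hg : ∀ z ∈ ({u, v} : Finset (Fin n)), g (b z) = c (g z) := by
    intro z hz
    rcases Finset.mem_insert.1 hz with rfl | hz
    · rw [a4, b4]
    · rw [Finset.mem_singleton.1 hz, c4, d4]
  have hD : 2 ≤ ({u, v} : Finset (Fin n)).card := by rw [Finset.card_pair (Ne.symm n1)]
  by_cases h6 : 6 ≤ n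
  · have h3 : 1 < (({u, b u, v, b v} : Finset (Fin n))ᶜ).card := by
      rw [Finset.card_compl, Fintype.card_fin]
      have := Finset.card_le_four (a := u) (b := b u) (c := v) (d := b v)
      omega
    obtain ⟨p, hp, q, hq, hpq⟩ := Finset.one_lt_card.1 h3
    rw [Finset.mem_compl] at hp hq
    refine fix_parity c b g _ hpq _ hD hg fun z hz => ?_
    have hzm : ∀ w ∈ ({u, b u, v, b v} : Finset (Fin n)), Equiv.swap p q w = w := fun w hw =>
      swap_off (fun e => hp (e ▸ hw)) (fun e => hq (e ▸ hw))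
    have hz' := hg z hz
    rcases Finset.mem_insert.1 hz with rfl | h
    · rw [Equiv.Perm.mul_apply g (Equiv.swap p q), Equiv.Perm.mul_apply g (Equiv.swap p q), hzm _ (by simp), hzm _ (by simp)]; exact hz'
    · rw [Finset.mem_singleton] at h; subst h
      rw [Equiv.Perm.mul_apply g (Equiv.swap p q), Equiv.Perm.mul_apply g (Equiv.swap p q), hzm _ (by simp), hzm _ (by simp)]; exact hz'
  · obtain rfl : n = 5 := by omega
    obtain ⟨σ, hσs, hσ⟩ : ∃ σ : Equiv.Perm (Fin 5), Equiv.Perm.sign σ = -1 ∧ ∀ z, σ (c z) = c (σ z) := by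
      rcases five c hc1 with h | h
      · exact ⟨c, h, fun z => rfl⟩
      · have hcc : ∀ z, c (c z) = z := fun z => Equiv.Perm.ext_iff.1 h z
        refine ⟨Equiv.swap x (c x), Equiv.Perm.sign_swap (Ne.symm hx), fun z => ?_⟩
        by_cases e1 : z = x
        · subst e1; rw [Equiv.swap_apply_right, Equiv.swap_apply_left, hcc]
        by_cases e2 : z = c x
        · subst e2; rw [hcc, Equiv.swap_apply_left, Equiv.swap_apply_right]
        rw [swap_off e1 e2, swap_off (fun e => e2 (by rw [← e, hcc])) (fun e => e1 (c.injective e))]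
    have key : ∀ h : Equiv.Perm (Fin 5), (∀ z ∈ ({u, v} : Finset (Fin 5)), h (b z) = c (h z)) → 2 ≤ (agree c b h).card := fun h hh =>
      hD.trans (Finset.card_le_card_of_injOn h (fun z hz => agree_apply c b h z (hh z hz)) h.injective.injOn)
    rcases Int.units_eq_one_or (Equiv.Perm.sign g) with h | h
    · exact ⟨g, Equiv.Perm.mem_alternatingGroup.2 h, key g hg⟩
    · refine ⟨σ * g, Equiv.Perm.mem_alternatingGroup.2 (by rw [map_mul, h, hσs]; rfl), key _ fun z hz => ?_⟩
      rw [Equiv.Perm.mul_apply σ g, Equiv.Perm.mul_apply σ g, hg z hz, hσ]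

theorem main {n : ℕ} (hn : 5 ≤ n) (c b : Equiv.Perm (Fin n)) (hc : c ≠ 1) (hb : b ≠ 1)
    (hle : (Finset.univ.filter fun x => b x = x).card ≤ (Finset.univ.filter fun x => c x = x).card) (N : ℕ)
    (hN : ∀ g ∈ alternatingGroup (Fin n), (agree c b g).card = N) : False := by
  classical
  have h := average hn c b N hN
  have hsc := Finset.card_filter_add_card_filter_not (s := Finset.univ) (fun x => c x = x)
  have hsb := Finset.card_filter_add_card_filter_not (s := Finset.univ) (fun x => b x = x)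
  rw [Finset.card_univ, Fintype.card_fin] at hsc hsb
  obtain ⟨g, hg, h1⟩ := big hn c b hc hb hle
  rw [hN g hg] at h1
  generalize hβ : (Finset.univ.filter fun x => b x = x).card = β at *
  generalize hβ' : (Finset.univ.filter fun x => ¬ b x = x).card = β' at *
  generalize hα : (Finset.univ.filter fun x => c x = x).card = α at *
  generalize hα' : (Finset.univ.filter fun x => ¬ c x = x).card = α' at *
  obtain ⟨d, rfl⟩ : ∃ d, n = d + 1 := ⟨n - 1, by omega⟩
  rw [Nat.add_sub_cancel] at h
  rcases Nat.eq_zero_or_pos β with hb0 | hb0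
  · subst hb0
    rw [Nat.mul_zero, Nat.zero_mul, Nat.zero_add, show β' = d + 1 by omega] at h
    have h4 : N * d = α' := Nat.eq_of_mul_eq_mul_left (show 0 < d + 1 by omega) (by linear_combination h)
    have hN1 : N = 1 := by
      by_contra hne
      have h5 : 2 * d ≤ N * d := Nat.mul_le_mul_right d (by omega)
      omega
    subst hN1
    have hα1 : α = 1 := by omega
    obtain ⟨g', hg', h2⟩ := big2 hn c b (fun z hz => by
      have : z ∈ Finset.univ.filter fun x => b x = x := by simp [hz]
      rw [Finset.card_eq_zero] at hβ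
      rw [hβ] at this; exact Finset.notMem_empty _ this) (hα.trans hα1)
    rw [hN g' hg'] at h2; omega
  · have h5 : (β + 1) * ((d + 1) * d) ≤ N * ((d + 1) * d) := Nat.mul_le_mul_right _ h1
    have e : α * β * d + α' * β' + α' * ((d + 1) * β) = (d + 1) * β * d + α' * (d + 1) := by
      linear_combination (β * d) * hsc + α' * hsb
    have h6 : α' * (d + 1) * 1 ≤ α' * (d + 1) * β := Nat.mul_le_mul_left _ hb0
    nlinarith

/-- Let n ≥ 5 and let a, b be non-identity permutations in the symmetric group S_n. Then the number of fixed points is not constant on the set of products a′b′ with a′ conjugate to a and b′ conjugate to b under the alternating group: there are even permutations g₁, h₁, g₂, h₂ such that (g₁ a g₁⁻¹)(h₁ b h₁⁻¹) and (g₂ a g₂⁻¹)(h₂ b h₂⁻¹) have different numbers of fixed points. -/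
theorem result (n : ℕ) (hn : 5 ≤ n) (a b : Equiv.Perm (Fin n)) (ha : a ≠ 1) (hb : b ≠ 1) :
    ∃ g₁ h₁ g₂ h₂ : Equiv.Perm (Fin n), g₁ ∈ alternatingGroup (Fin n) ∧ h₁ ∈ alternatingGroup (Fin n) ∧ g₂ ∈ alternatingGroup (Fin n) ∧ h₂ ∈ alternatingGroup (Fin n) ∧
      Nat.card (Function.fixedPoints ⇑(g₁ * a * g₁⁻¹ * (h₁ * b * h₁⁻¹))) ≠
        Nat.card (Function.fixedPoints ⇑(g₂ * a * g₂⁻¹ * (h₂ * b * h₂⁻¹))) := by
  classical
  have hfix : ∀ g : Equiv.Perm (Fin n), Nat.card (Function.fixedPoints ⇑(1 * a * 1⁻¹ * (g * b * g⁻¹))) = (agree a⁻¹ b g).card := by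
    intro g
    rw [Nat.card_eq_fintype_card, Fintype.card_subtype]
    refine congrArg Finset.card (Finset.ext fun x => ?_)
    simp only [mem_agree, Finset.mem_filter, Finset.mem_univ, true_and, Function.mem_fixedPoints, Function.IsFixedPt,
      one_mul, inv_one, mul_one, Equiv.Perm.mul_apply, Equiv.Perm.inv_def]
    exact (Equiv.eq_symm_apply a).symm
  by_contra hc
  simp only [not_exists, not_and, not_not] at hc
  have hall : ∀ g ∈ alternatingGroup (Fin n), (agree a⁻¹ b g).card = (agree a⁻¹ b 1).card := fun g hg => by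
    rw [← hfix, ← hfix]; exact hc 1 g 1 1 (one_mem _) hg (one_mem _) (one_mem _)
  rcases le_total (Finset.univ.filter fun x => b x = x).card (Finset.univ.filter fun x => a⁻¹ x = x).card with h | h
  · exact main hn a⁻¹ b (inv_ne_one.2 ha) hb h _ hall
  · refine main hn b a⁻¹ hb (inv_ne_one.2 ha) h ((agree a⁻¹ b 1).card) fun g hg => ?_
    rw [← inv_inv g, agree_symm]
    exact hall _ (inv_mem hg)

end Cfsg.Agent.S2271
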