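import Cfsg.Statements.S2277

set_option autoImplicit false
open Cfsg

open scoped Pointwise

namespace CfsgLib.CoprimePairs

universe u

theorem fix_of_quotient {X : Type u} [Group X] (f : MulAut X) (U : Subgroup X) (hU : ∀ y ∈ U, f y = y) (x : X)
    (h : f x * x⁻¹ ∈ U) {k : ℕ} (hk : f ^ k = 1) (hcop : k.Coprime (Nat.card X)) : f x = x := by
  set y := f x * x⁻¹ with hy
  have h1 : f x = y * x := by simp [hy]
  have h2 : ∀ i : ℕ, (f ^ i) x = y ^ i * x := by
    intro i
    induction i with
    | zero => simp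
    | succ i ih => rw [pow_succ', MulAut.mul_apply, ih, map_mul, map_pow, hU y h, h1, ← mul_assoc, ← pow_succ]
  have h3 := h2 k
  rw [hk, MulAut.one_apply] at h3
  have h4 : y ^ k = 1 := mul_right_cancel (h3.symm.trans (one_mul x).symm)
  have h5 : orderOf y ∣ Nat.gcd k (Nat.card X) := Nat.dvd_gcd (orderOf_dvd_of_pow_eq_one h4) (orderOf_dvd_natCard y)
  rw [hcop.gcd_eq_one, Nat.dvd_one, orderOf_eq_one_iff] at h5
  rw [h1, h5, one_mul]

/-- The fixed subgroup of an automorphism. -/
def fixed {X : Type u} [Group X] (f : MulAut X) : Subgroup X where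
  carrier := {x | f x = x}
  one_mem' := map_one f
  mul_mem' := fun {a b} ha hb => by
    show f (a * b) = a * b
    rw [map_mul, show f a = a from ha, show f b = b from hb]
  inv_mem' := fun {a} ha => by
    show f a⁻¹ = a⁻¹
    rw [map_inv, show f a = a from ha]

theorem cube_le {V : Type u} [CommGroup V] [Finite V] (c a w : MulAut V) (h : c * a = w * (a * c))
    (hwa : w * a = a * w) (hwc : w * c = c * w) (h1 : ∀ v, w v = v → v = 1) (h2 : ∀ v, w (w v) = v → v = 1) :
    Nat.card (fixed c) ^ 3 ≤ Nat.card V := by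
  have hca : ∀ v, c (a v) = w (a (c v)) := fun v => by
    have := congrArg (fun f : MulAut V => f v) h; simpa using this
  have hcw : ∀ v, c (w v) = w (c v) := fun v => by
    have := congrArg (fun f : MulAut V => f v) hwc; simpa using this.symm
  have haw : ∀ v, a (w v) = w (a v) := fun v => by
    have := congrArg (fun f : MulAut V => f v) hwa; simpa using this.symm
  let Φ : (fixed c × fixed c × fixed c) →* V :=
    { toFun := fun t => (t.1 : V) * a (t.2.1 : V) * a (a (t.2.2 : V))
      map_one' := by simp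
      map_mul' := fun s t => by
        simp only [Prod.fst_mul, Prod.snd_mul, Subgroup.coe_mul, map_mul]
        simp only [mul_assoc, mul_comm, mul_left_comm] }
  have hinj : Function.Injective Φ := by
    rw [injective_iff_map_eq_one]
    rintro ⟨⟨v0, h0 : c v0 = v0⟩, ⟨v1, hv1 : c v1 = v1⟩, ⟨v2, hv2 : c v2 = v2⟩⟩ ht
    change v0 * a v1 * a (a v2) = 1 at ht
    have he1 : c (a v1) = w (a v1) := by rw [hca, hv1]
    have he2 : c (a (a v2)) = w (w (a (a v2))) := by rw [hca, hca, hv2, haw]
    generalize e1_eq : a v1 = e1 at ht he1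
    have key : e1 = 1 → a (a v2) = 1 → (⟨v0, h0⟩ : fixed c) = 1 := fun h h' => by
      rw [h, h', mul_one, mul_one] at ht
      exact Subtype.ext ht
    have hc1 : v0 * w e1 * w (w (a (a v2))) = 1 := by
      have := congrArg c ht
      rwa [map_mul, map_mul, map_one, h0, he1, he2] at this
    have ha1 : w e1 * w (w (a (a v2))) = e1 * a (a v2) := by
      rw [mul_assoc] at hc1 ht
      exact mul_left_cancel (hc1.trans ht.symm)
    have hc2 : w (w e1) * w (w (w (w (a (a v2))))) = w e1 * w (w (a (a v2))) := by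
      have := congrArg c ha1
      rwa [map_mul, map_mul, hcw, hcw, hcw, he1, he2] at this
    have hw1 : w (w e1) * w (w (w (a (a v2)))) = w e1 * w (a (a v2)) := by
      have := congrArg w ha1
      rwa [map_mul, map_mul] at this
    generalize g_eq : a (a v2) = g at ha1 hc2 hw1 key
    have hdiv : w (w (w (w g))) / w (w (w g)) = w (w g) / w g := by
      rw [← mul_div_mul_left_eq_div _ _ (w (w e1)), hc2, hw1, mul_div_mul_left_eq_div]
    have hg : g = 1 := by
      apply h1
      apply div_eq_one.1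
      apply h2
      apply w.injective
      simpa only [map_div] using hdiv
    have he : e1 = 1 := by
      apply h1
      simpa [hg] using ha1
    have hv1' : v1 = 1 := a.injective (by rw [map_one]; exact e1_eq ▸ he)
    exact Prod.ext (key he hg) (Prod.ext (Subtype.ext hv1') (Subtype.ext (show v2 = 1 from a.injective (a.injective (by rw [map_one, map_one]; exact g_eq ▸ hg)))))
  refine le_trans (le_of_eq ?_) (Nat.card_le_card_of_injective Φ hinj)
  rw [Nat.card_prod, Nat.card_prod]; ring

variable {P : Type*} [Group P] [Finite P]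

/-- A subgroup stable under the action. -/
def Inv {Q : Type u} [Group Q] (φ : P →* MulAut Q) (U : Subgroup Q) : Prop := ∀ r, ∀ x ∈ U, φ r x ∈ U

/-- Every invariant subgroup is a product of two fixed subgroups. -/
def Hyp (C D : Set P) {Q : Type u} [Group Q] (φ : P →* MulAut Q) : Prop :=
  ∀ U : Subgroup Q, Inv φ U → ∀ x ∈ U, ∀ c ∈ C, ∀ d ∈ D, ∃ a ∈ U, ∃ b ∈ U, φ d a = a ∧ φ c b = b ∧ x = a * b

theorem restrict_hom {Q : Type u} [Group Q] (φ : P →* MulAut Q) (U : Subgroup Q) (hU : Inv φ U) :
    ∃ ψ : P →* MulAut U, ∀ r (x : U), (ψ r x : Q) = φ r x :=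
  ⟨{ toFun := fun r =>
      { toFun := fun x => ⟨φ r x, hU r x x.2⟩
        invFun := fun x => ⟨φ r⁻¹ x, hU r⁻¹ x x.2⟩
        left_inv := fun x => Subtype.ext (by show φ r⁻¹ (φ r (x : Q)) = x; rw [map_inv]; exact (φ r).symm_apply_apply x)
        right_inv := fun x => Subtype.ext (by show φ r (φ r⁻¹ (x : Q)) = x; rw [map_inv]; exact (φ r).apply_symm_apply x)
        map_mul' := fun x y => Subtype.ext (map_mul (φ r) (x : Q) y) }
     map_one' := MulEquiv.ext fun x => Subtype.ext (by simp)
     map_mul' := fun r s => MulEquiv.ext fun x => Subtype.ext (by simp) }, fun _ _ => rfl⟩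

theorem quot_hom {Q : Type u} [Group Q] (φ : P →* MulAut Q) (U : Subgroup Q) [U.Normal] (hU : Inv φ U) :
    ∃ ψ : P →* MulAut (Q ⧸ U), ∀ r (x : Q), ψ r (x : Q ⧸ U) = (φ r x : Q) := by
  have hmap : ∀ r, U.map ((φ r : Q ≃* Q) : Q →* Q) = U := fun r => by
    refine le_antisymm ?_ fun x hx => ⟨φ r⁻¹ x, hU r⁻¹ x hx, by rw [map_inv]; exact (φ r).apply_symm_apply x⟩
    rintro - ⟨x, hx, rfl⟩
    exact hU r x hx
  refine ⟨{ toFun := fun r => QuotientGroup.congr U U (φ r) (hmap r)
            map_one' := MulEquiv.ext fun x => QuotientGroup.induction_on x fun x => by simp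
            map_mul' := fun r s => MulEquiv.ext fun x => QuotientGroup.induction_on x fun x => by simp },
    fun r x => QuotientGroup.congr_mk U U (φ r) (hmap r) x⟩

theorem eq_one_of_gen {M : Type*} [Monoid M] (C : Set P) (hC : Subgroup.closure C = ⊤) (f : P →* M)
    (h : ∀ c ∈ C, f c = 1) (r : P) : f r = 1 := by
  have : Subgroup.closure C ≤ f.ker := (Subgroup.closure_le _).2 h
  exact this (by rw [hC]; trivial)

theorem core {p q : ℕ} [Fact p.Prime] [Fact q.Prime] (hp3 : 3 ≤ p) (hpq : p ≠ q) (hP : IsPGroup p P) (C D : Set P)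
    (hC : Subgroup.closure C = ⊤) (hD : Subgroup.closure D = ⊤) :
    ∀ (n : ℕ) (Q : Type u) [Group Q] [Finite Q], Nat.card Q ≤ n → IsPGroup q Q → ∀ φ : P →* MulAut Q,
      Hyp C D φ → ∀ r x, φ r x = x := by
  intro n
  induction n with
  | zero => intro Q _ _ hn; exact absurd hn (by have := Nat.card_pos (α := Q); omega)
  | succ n ih =>
    intro Q _ _ hn hQ φ hyp r x
    have hcop : ∀ s : P, (orderOf s).Coprime (Nat.card Q) := fun s => by
      obtain ⟨i, hi⟩ := IsPGroup.iff_orderOf.1 hP s
      obtain ⟨j, hj⟩ := hQ.exists_card_eq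
      rw [hi, hj]
      exact Nat.Coprime.pow i j ((Nat.coprime_primes (Fact.out : p.Prime) (Fact.out : q.Prime)).2 hpq)
    by_cases hred : ∃ U : Subgroup Q, U.Normal ∧ Inv φ U ∧ U ≠ ⊥ ∧ U ≠ ⊤
    · obtain ⟨U, hUn, hU, hb, ht⟩ := hred
      obtain ⟨ψ, hψ⟩ := restrict_hom φ U hU
      obtain ⟨χ, hχ⟩ := quot_hom φ U hU
      have hlt : Nat.card U < Nat.card Q :=
        lt_of_le_of_ne (Subgroup.card_le_card_group U) fun h => ht (Subgroup.eq_top_of_card_eq U h)
      have hlt' : Nat.card (Q ⧸ U) < Nat.card Q := by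
        rw [U.card_eq_card_quotient_mul_card_subgroup]
        exact lt_mul_of_one_lt_right Nat.card_pos ((U.one_lt_card_iff_ne_bot).2 hb)
      have hfix : ∀ y ∈ U, φ r y = y := by
        intro y hy
        have := ih U (by omega) (hQ.to_subgroup U) ψ (fun W hW z hz c hc d hd => by
          have hW' : Inv φ (W.map U.subtype) := by
            rintro s - ⟨w, hw, rfl⟩
            exact ⟨ψ s w, hW s w hw, hψ s w⟩
          obtain ⟨-, ⟨a, ha, rfl⟩, -, ⟨b, hb, rfl⟩, h1, h2, h3⟩ := hyp _ hW' _ ⟨z, hz, rfl⟩ c hc d hd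
          exact ⟨a, ha, b, hb, Subtype.ext ((hψ d a).trans h1), Subtype.ext ((hψ c b).trans h2), Subtype.ext h3⟩) r ⟨y, hy⟩
        exact (hψ r ⟨y, hy⟩).symm.trans (congrArg Subtype.val this)
      have hq := ih (Q ⧸ U) (by omega) (hQ.to_quotient U) χ (fun W hW z hz c hc d hd => by
          obtain ⟨z, rfl⟩ := QuotientGroup.mk_surjective z
          have hW' : Inv φ (W.comap (QuotientGroup.mk' U)) := fun s w hw => by
            have := hW s _ hw
            rwa [QuotientGroup.mk'_apply, hχ] at this
          obtain ⟨a, ha, b, hb, h1, h2, h3⟩ := hyp _ hW' z hz c hc d hd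
          exact ⟨_, ha, _, hb, by rw [QuotientGroup.mk'_apply, hχ, h1], by rw [QuotientGroup.mk'_apply, hχ, h2],
            by rw [h3]; rfl⟩) r (x : Q ⧸ U)
      rw [hχ] at hq
      refine fix_of_quotient (φ r) U hfix x ?_ (by rw [← map_pow, pow_orderOf_eq_one, map_one]) (hcop r)
      have := QuotientGroup.eq_iff_div_mem.1 hq
      rwa [div_eq_mul_inv] at this
    · push Not at hred
      by_cases hQ1 : Subsingleton Q
      · exact Subsingleton.elim _ _
      rw [not_subsingleton_iff_nontrivial] at hQ1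
      have hcinv : Inv φ (Subgroup.center Q) := fun s y hy => by
        rw [Subgroup.mem_center_iff] at hy ⊢
        intro g
        obtain ⟨g', rfl⟩ := (φ s).surjective g
        rw [← map_mul, ← map_mul, hy g']
      have hcz : Subgroup.center Q = ⊤ :=
        hred _ inferInstance hcinv (by
          haveI := hQ.center_nontrivial
          exact (Subgroup.nontrivial_iff_ne_bot _).1 inferInstance)
      have hcomm : ∀ a b : Q, a * b = b * a := fun a b =>
        (Subgroup.mem_center_iff.1 (show b ∈ Subgroup.center Q by rw [hcz]; trivial) a)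
      letI : CommGroup Q := { (inferInstance : Group Q) with mul_comm := hcomm }
      have hirr : ∀ f : MulAut Q, (∀ s, Commute (φ s) f) → f ≠ 1 → ∀ v, f v = v → v = 1 := by
        intro f hf hne v hv
        have hinv : Inv φ (fixed f) := fun s y (hy : f y = y) => by
          show f (φ s y) = φ s y
          rw [← MulAut.mul_apply, ← (hf s).eq, MulAut.mul_apply, hy]
        haveI : (fixed f).Normal := ⟨fun a ha b => by rwa [hcomm b a, mul_inv_cancel_right]⟩
        by_contra hv1
        have htop := hred _ inferInstance hinv (fun h => hv1 (by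
          have : v ∈ fixed f := hv
          rwa [h, Subgroup.mem_bot] at this))
        exact hne (MulEquiv.ext fun y => (show y ∈ fixed f by rw [htop]; trivial))
      by_contra hne
      have hnone : φ r ≠ 1 := fun h => hne (by rw [h]; rfl)
      by_cases hab : ∀ s t, Commute (φ s) (φ t)
      · -- abelian image
        obtain ⟨c, hc, hc1⟩ : ∃ c ∈ C, φ c ≠ 1 := by
          by_contra h; push Not at h; exact hnone (eq_one_of_gen C hC φ h r)
        refine hnone (eq_one_of_gen D hD φ (fun d hd => MulEquiv.ext fun y => ?_) r)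
        obtain ⟨a, -, b, -, h1, h2, rfl⟩ := hyp ⊤ (fun _ _ _ => trivial) y trivial c hc d hd
        rw [hirr _ (fun s => hab s c) hc1 b h2, mul_one, h1]; rfl
      · push Not at hab
        let R := φ.range
        have hR : IsPGroup p R := hP.of_surjective φ.rangeRestrict φ.rangeRestrict_surjective
        obtain ⟨s0, t0, hst⟩ := hab
        have hZ : Subgroup.center R ≠ ⊤ := fun h => hst (by
          have := Subgroup.mem_center_iff.1 (show (⟨φ t0, t0, rfl⟩ : R) ∈ Subgroup.center R by rw [h]; trivial) ⟨φ s0, s0, rfl⟩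
          exact congrArg Subtype.val this)
        haveI : Nontrivial (R ⧸ Subgroup.center R) := QuotientGroup.nontrivial_iff.2 hZ
        haveI := (hR.to_quotient (Subgroup.center R)).center_nontrivial
        obtain ⟨⟨ā, hā⟩, hne'⟩ := exists_ne (1 : Subgroup.center (R ⧸ Subgroup.center R))
        obtain ⟨a, rfl⟩ := QuotientGroup.mk_surjective ā
        have haZ : a ∉ Subgroup.center R := fun h => hne' (Subtype.ext ((QuotientGroup.eq_one_iff a).2 h))
        have hcube : ∀ S : Set P, Subgroup.closure S = ⊤ → ∃ c ∈ S, Nat.card (fixed (φ c)) ^ 3 ≤ Nat.card Q := by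
          intro S hS
          obtain ⟨c, hc, hnc⟩ : ∃ c ∈ S, ¬ Commute (a : MulAut Q) (φ c) := by
            by_contra h; push Not at h
            refine haZ (Subgroup.mem_center_iff.2 fun g => ?_)
            obtain ⟨-, s, rfl⟩ := g
            have : Subgroup.closure S ≤ (Subgroup.centralizer {(a : MulAut Q)}).comap φ :=
              (Subgroup.closure_le _).2 fun c hc => Subgroup.mem_centralizer_singleton_iff.2 (h c hc).eq.symm
            exact Subtype.ext (Subgroup.mem_centralizer_singleton_iff.1 (this (show s ∈ Subgroup.closure S by rw [hS]; trivial)))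
          refine ⟨c, hc, ?_⟩
          let g : R := ⟨φ c, c, rfl⟩
          let w : R := g * a * g⁻¹ * a⁻¹
          have hw : w ∈ Subgroup.center R := by
            rw [← QuotientGroup.eq_one_iff]
            have := Subgroup.mem_center_iff.1 hā (g : R ⧸ Subgroup.center R)
            simp only [w, QuotientGroup.mk_mul, QuotientGroup.mk_inv]
            rw [this, mul_inv_cancel_right, mul_inv_cancel]
          have hwc : ∀ s, Commute (φ s) (w : MulAut Q) := fun s =>
            congrArg Subtype.val (Subgroup.mem_center_iff.1 hw ⟨φ s, s, rfl⟩)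
          have hw1 : (w : MulAut Q) ≠ 1 := fun h => hnc (by
            have h' : w = 1 := Subtype.ext h
            have h'' : g * a = a * g := by
              simp only [w] at h'
              rw [mul_inv_eq_one, mul_inv_eq_iff_eq_mul] at h'
              exact h'
            exact (congrArg Subtype.val h'').symm)
          have hw2 : (w : MulAut Q) * w ≠ 1 := fun h => hw1 (by
            obtain ⟨i, hi⟩ := IsPGroup.iff_orderOf.1 hR w
            have h2 : orderOf w ∣ 2 := orderOf_dvd_of_pow_eq_one (by rw [pow_two]; exact Subtype.ext h)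
            have hodd : ¬ 2 ∣ orderOf w := by
              rw [hi]
              exact fun hd => absurd ((Nat.prime_dvd_prime_iff_eq Nat.prime_two (Fact.out : p.Prime)).1 (Nat.prime_two.dvd_of_dvd_pow hd)) (by omega)
            rcases (Nat.dvd_prime Nat.prime_two).1 h2 with h3 | h3
            · rw [orderOf_eq_one_iff.1 h3]; rfl
            · exact absurd (h3 ▸ dvd_rfl) hodd)
          refine cube_le (φ c) (a : MulAut Q) (w : MulAut Q) ?_ ?_ (hwc c).eq.symm
            (hirr _ hwc hw1) (fun v hv => hirr _ (fun s => (hwc s).mul_right (hwc s)) hw2 v hv)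
          · have : g * a = w * (a * g) := by simp only [w]; group
            exact congrArg Subtype.val this
          · exact congrArg Subtype.val (Subgroup.mem_center_iff.1 hw a).symm
        obtain ⟨c, hc, hcc⟩ := hcube C hC
        obtain ⟨d, hd, hdd⟩ := hcube D hD
        have hsur : Function.Surjective fun t : fixed (φ d) × fixed (φ c) => (t.1 : Q) * t.2 := fun y => by
          obtain ⟨a, -, b, -, h1, h2, rfl⟩ := hyp ⊤ (fun _ _ _ => trivial) y trivial c hc d hd
          exact ⟨(⟨a, h1⟩, ⟨b, h2⟩), rfl⟩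
        have hle := Nat.card_le_card_of_surjective _ hsur
        rw [Nat.card_prod] at hle
        have h3 := Nat.pow_le_pow_left hle 3
        rw [mul_pow] at h3
        have h4 := h3.trans (Nat.mul_le_mul hdd hcc)
        have h5 : 1 < Nat.card Q := Finite.one_lt_card
        nlinarith [h4, h5, mul_lt_mul_of_pos_left h5 (Nat.mul_pos (Nat.zero_lt_of_lt h5) (Nat.zero_lt_of_lt h5))]

end CfsgLib.CoprimePairs

namespace Cfsg.Agent.S2277

/-- Let p ≥ 3 be prime and G a finite group with a Sylow p-subgroup P and a normal p-complement N (N normal, of order prime to p, with NP = G). Suppose P is generated by a subset C and also by a subset D, and that ⟨x c x⁻¹, d⟩ is a p-group for all x ∈ N, c ∈ C, d ∈ D. Then P centralizes N, so that G = N × P. -/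
theorem result {G : Type*} [Group G] [Finite G] (p : ℕ) [Fact p.Prime] (hp3 : 3 ≤ p) (P : Sylow p G)
    (N : Subgroup G) [N.Normal] (hN : (Nat.card N).Coprime p) (hNP : N ⊔ (P : Subgroup G) = ⊤)
    (C D : Set G) (hC : Subgroup.closure C = (P : Subgroup G)) (hD : Subgroup.closure D = (P : Subgroup G))
    (h : ∀ x ∈ N, ∀ c ∈ C, ∀ d ∈ D, IsPGroup p ↥(Subgroup.closure ({x * c * x⁻¹, d} : Set G))) :
    ⁅(P : Subgroup G), N⁆ = ⊥ := by
  classical
  have hp : p.Prime := Fact.out
  have hdisj : ∀ y, y ∈ N → y ∈ (P : Subgroup G) → y = 1 := fun y hy hy' => by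
    obtain ⟨i, hi⟩ := IsPGroup.iff_orderOf.1 P.2 ⟨y, hy'⟩
    rw [Subgroup.orderOf_mk] at hi
    have h1 := Subgroup.orderOf_dvd_natCard N hy
    rw [hi] at h1
    have := Nat.Coprime.eq_one_of_dvd (Nat.Coprime.pow_left i hN.symm) h1
    rw [this, orderOf_eq_one_iff] at hi
    exact hi
  have hCP : ∀ c ∈ C, c ∈ (P : Subgroup G) := fun c hc => hC ▸ Subgroup.subset_closure hc
  have hDP : ∀ d ∈ D, d ∈ (P : Subgroup G) := fun d hd => hD ▸ Subgroup.subset_closure hd
  have hprod : ∀ Q : Subgroup G, Q ≤ N → (P : Subgroup G) ≤ Subgroup.normalizer (Q : Set G) → ∀ x ∈ Q, ∀ c ∈ C, ∀ d ∈ D,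
      ∃ a ∈ Q, ∃ b ∈ Q, d * a * d⁻¹ = a ∧ c * b * c⁻¹ = b ∧ x = a * b := by
    intro Q hQN hPQ x hx c hc d hd
    set L : Subgroup G := Q ⊔ (P : Subgroup G) with hL
    set H := Subgroup.closure ({x * c * x⁻¹, d} : Set G) with hH
    have hQL : Q ≤ L := le_sup_left
    have hPL : (P : Subgroup G) ≤ L := le_sup_right
    have hHL : H ≤ L := by
      rw [hH, Subgroup.closure_le]
      rintro y (rfl | rfl)
      · exact L.mul_mem (L.mul_mem (hQL hx) (hPL (hCP c hc))) (L.inv_mem (hQL hx))
      · exact hPL (hDP _ hd)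
    obtain ⟨S, hS⟩ := IsPGroup.exists_le_sylow ((h x (hQN hx) c hc d hd).comap_subtype (K := L))
    obtain ⟨g, hg⟩ := MulAction.exists_smul_eq L (P.subtype hPL) S
    have hgm : (g : G) ∈ (Q : Set G) * ((P : Subgroup G) : Set G) := by
      rw [← Subgroup.coe_mul_of_right_le_normalizer_left Q (P : Subgroup G) hPQ]
      exact g.2
    obtain ⟨y, hy, r, hr, hyr⟩ := Set.mem_mul.1 hgm
    have hconj : ∀ z ∈ H, y⁻¹ * z * y ∈ (P : Subgroup G) := by
      intro z hz
      have hzS : (⟨z, hHL hz⟩ : L) ∈ (S : Subgroup L) := hS hz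
      rw [← hg, Sylow.coe_subgroup_smul, Subgroup.mem_pointwise_smul_iff_inv_smul_mem] at hzS
      have hzP : (g : G)⁻¹ * z * g ∈ (P : Subgroup G) := by
        simpa [MulAut.smul_def, Sylow.coe_subtype, Subgroup.mem_subgroupOf, MulAut.conj_apply, mul_assoc] using hzS
      rw [← hyr] at hzP
      have := (P : Subgroup G).mul_mem ((P : Subgroup G).mul_mem hr hzP) ((P : Subgroup G).inv_mem hr)
      simpa [mul_assoc] using this
    have key : ∀ v ∈ N, ∀ e ∈ (P : Subgroup G), v * e * v⁻¹ ∈ (P : Subgroup G) → e * v * e⁻¹ = v := by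
      intro v hv e he hve
      have h1 : v * e * v⁻¹ * e⁻¹ ∈ N := by
        rw [mul_assoc v e, mul_assoc v]
        exact N.mul_mem hv (Subgroup.Normal.conj_mem inferInstance _ (N.inv_mem hv) e)
      have h2 := hdisj _ h1 ((P : Subgroup G).mul_mem hve ((P : Subgroup G).inv_mem he))
      rw [mul_inv_eq_one, mul_inv_eq_iff_eq_mul] at h2
      rw [← h2, mul_inv_cancel_right]
    have hd' := key y⁻¹ (N.inv_mem (hQN hy)) d (hDP d hd) (by
      simpa using hconj d (Subgroup.subset_closure (by simp)))
    have hc' := key (y⁻¹ * x) (N.mul_mem (N.inv_mem (hQN hy)) (hQN hx)) c (hCP c hc) (by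
      simpa [mul_assoc] using hconj (x * c * x⁻¹) (Subgroup.subset_closure (by simp)))
    exact ⟨y, hy, y⁻¹ * x, Q.mul_mem (Q.inv_mem hy) hx, by simpa [mul_assoc] using congrArg (·⁻¹) hd', hc', by simp⟩
  have hgen : ∀ S : Set G, Subgroup.closure S = (P : Subgroup G) →
      Subgroup.closure {s : (P : Subgroup G) | (s : G) ∈ S} = ⊤ := fun S hS => by
    apply Subgroup.map_injective (P : Subgroup G).subtype_injective
    rw [MonoidHom.map_closure, ← MonoidHom.range_eq_map, Subgroup.range_subtype]
    refine Eq.trans (congrArg _ ?_) hS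
    ext z
    exact ⟨fun ⟨s, hs, e⟩ => e ▸ hs, fun hz => ⟨⟨z, hS ▸ Subgroup.subset_closure hz⟩, hz, rfl⟩⟩
  rw [Subgroup.commutator_eq_bot_iff_le_centralizer]
  suffices hNc : N ≤ Subgroup.centralizer ((P : Subgroup G) : Set G) by
    intro r hr
    exact Subgroup.mem_centralizer_iff.2 fun n hn => (Subgroup.mem_centralizer_iff.1 (hNc hn) r hr).symm
  set Z := N ⊓ Subgroup.centralizer ((P : Subgroup G) : Set G) with hZ
  suffices hcard : Nat.card N ∣ Nat.card Z by
    have : Z = N := Subgroup.eq_of_le_of_card_ge inf_le_left (Nat.le_of_dvd Nat.card_pos hcard)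
    exact this ▸ inf_le_right
  rw [Nat.dvd_iff_prime_pow_dvd_dvd]
  intro q k hq hqk
  rcases Nat.eq_zero_or_pos k with rfl | hk
  · simp
  haveI : Fact q.Prime := ⟨hq⟩
  have hpq : p ≠ q := fun e => by
    subst e
    have := Nat.Coprime.eq_one_of_dvd hN.symm ((dvd_pow_self p hk.ne').trans hqk)
    exact hp.ne_one this
  obtain ⟨Q0⟩ : Nonempty (Sylow q N) := inferInstance
  have hfr := Sylow.normalizer_sup_eq_top Q0
  set K := Subgroup.normalizer ((Q0.map N.subtype : Subgroup G) : Set G) with hK
  have hdvd : p ^ (Nat.card G).factorization p ∣ Nat.card K := by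
    have h1 : N.index ∣ Nat.card K := by
      rw [← Subgroup.relIndex_top_right, ← hfr, Subgroup.relIndex_sup_right]
      exact Subgroup.index_dvd_card _
    refine dvd_trans ?_ h1
    have h2 : p ^ (Nat.card G).factorization p ∣ Nat.card N * N.index := by
      rw [N.card_mul_index]; exact Nat.ordProj_dvd _ _
    exact (Nat.Coprime.pow_left _ hN.symm).dvd_of_dvd_mul_left h2
  obtain ⟨P0, hP0⟩ := Sylow.exists_subgroup_card_pow_prime p hdvd
  let P1 : Sylow p G := Sylow.ofCard (P0.map K.subtype) (by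
    rw [← hP0]; exact Subgroup.card_map_of_injective K.subtype_injective)
  obtain ⟨g, hg⟩ := MulAction.exists_smul_eq G P1 P
  set Q := (Q0.map N.subtype).map (MulAut.conj g).toMonoidHom with hQ
  have hQN : Q ≤ N := by
    rintro - ⟨-, ⟨z, -, rfl⟩, rfl⟩
    exact Subgroup.Normal.conj_mem inferInstance _ z.2 g
  have hPQ : (P : Subgroup G) ≤ Subgroup.normalizer (Q : Set G) := by
    rw [← hg, Sylow.coe_subgroup_smul, hQ]
    refine le_trans ?_ (Subgroup.le_normalizer_map (MulAut.conj g).toMonoidHom)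
    exact Subgroup.map_mono (Subgroup.map_subtype_le P0)
  have hQcard : q ^ k ∣ Nat.card Q := by
    rw [hQ, Subgroup.card_map_of_injective (MulEquiv.injective _), Subgroup.card_map_of_injective N.subtype_injective,
      Q0.card_eq_multiplicity]
    exact pow_dvd_pow q ((hq.pow_dvd_iff_le_factorization Nat.card_pos.ne').1 hqk)
  have hQp : IsPGroup q Q := by
    rw [hQ]; exact (Q0.2.map _).map _
  let φ : (P : Subgroup G) →* MulAut Q := Q.normalizerMonoidHom.comp (Subgroup.inclusion hPQ)
  have hφ : ∀ (s : (P : Subgroup G)) (z : Q), (φ s z : G) = s * z * (s : G)⁻¹ := fun s z => rfl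
  have hfix := CfsgLib.CoprimePairs.core (q := q) hp3 hpq P.2 {s | (s : G) ∈ C} {s | (s : G) ∈ D} (hgen C hC) (hgen D hD)
    (Nat.card Q) Q le_rfl hQp φ (fun U hU z hz c hc d hd => by
      have hle : (P : Subgroup G) ≤ Subgroup.normalizer ((U.map Q.subtype : Subgroup G) : Set G) := fun s hs => by
        rw [Subgroup.mem_normalizer_iff]
        intro w
        constructor
        · rintro ⟨w, hw, rfl⟩
          exact ⟨φ ⟨s, hs⟩ w, hU _ _ hw, rfl⟩
        · rintro ⟨w', hw', e⟩
          refine ⟨φ ⟨s, hs⟩⁻¹ w', hU _ _ hw', ?_⟩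
          show (φ ⟨s, hs⟩⁻¹ w' : G) = w
          rw [hφ]
          change (w' : G) = _ at e
          simp [e, mul_assoc]
      obtain ⟨-, ⟨a, ha, rfl⟩, -, ⟨b, hb, rfl⟩, h1, h2, h3⟩ :=
        hprod (U.map Q.subtype) ((Subgroup.map_subtype_le U).trans hQN) hle _ ⟨z, hz, rfl⟩ c hc d hd
      exact ⟨a, ha, b, hb, Subtype.ext h1, Subtype.ext h2, Subtype.ext h3⟩)
  refine hQcard.trans (Subgroup.card_dvd_of_le (le_inf hQN fun z hz => ?_))
  rw [Subgroup.mem_centralizer_iff]
  intro r hr
  exact mul_inv_eq_iff_eq_mul.1 (congrArg Subtype.val (hfix ⟨r, hr⟩ ⟨z, hz⟩))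

end Cfsg.Agent.S2277
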