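import Cfsg.Statements.S2530
import Mathlib
import Cfsg.Agent.Lib.Perm.CoxeterPresentation

set_option autoImplicit false
open Cfsg

namespace Cfsg.Agent.S2530

/-- The Coxeter presentation of the symmetric group: for every n, the symmetric group on n+1 letters is the Coxeter group of type A_n with the adjacent transpositions (i, i+1) as simple reflections; that is, it is presented by generators r_1, …, r_n subject to r_i² = 1, (r_i r_j)² = 1 for |i − j| > 1 and (r_i r_{i+1})³ = 1, with r_i mapping to (i, i+1). -/
theorem result (n : ℕ) :
    ∃ cs : CoxeterSystem (CoxeterMatrix.A n) (Equiv.Perm (Fin (n + 1))), ∀ i : Fin n, cs.simple i = Equiv.swap i.castSucc i.succ := by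
  let e := MulEquiv.ofBijective _ (CfsgLib.Perm.CoxeterPresentation.bijective_lift n)
  refine ⟨⟨e.symm⟩, fun i => ?_⟩
  show e.symm.symm ((CoxeterMatrix.A n).simple i) = _
  exact (CoxeterMatrix.A n).toCoxeterSystem.lift_apply_simple (CfsgLib.Perm.CoxeterPresentation.sw_liftable n) i

end Cfsg.Agent.S2530
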