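import Cfsg.Statements.S2803
import Cfsg.Agent.Lib.PReduced2

set_option autoImplicit false
open Cfsg

namespace Cfsg.Agent.S2803
open CfsgLib.PReduced CfsgLib.PReduced2

/-- Let L be a finite group and p a prime with C_L(O_p(L)) ≤ O_p(L), T a Sylow p-subgroup, and Y the largest p-reduced normal subgroup of L. Put T_L = C_T(Y) and L_T = N_L(T_L). Then L = L_T · C_L(Y) (elementwise), T_L = O_p(L_T), and Y = Ω₁(Z(T_L)). -/
theorem result {L : Type*} [Group L] [Finite L] {p : ℕ} [Fact p.Prime] (hchar : Subgroup.centralizer (Cfsg.pCore p L : Set L) ≤ Cfsg.pCore p L) (T : Sylow p L) (Y : Subgroup L) (hY : (Cfsg.IsPReducedNormal p Y ∧ ∀ V : Subgroup L, Cfsg.IsPReducedNormal p V → V ≤ Y)) (TL : Subgroup L) (hTL : TL = (T : Subgroup L) ⊓ Subgroup.centralizer (Y : Set L)) : (∀ g : L, ∃ a ∈ Subgroup.normalizer (TL : Set L), ∃ c ∈ Subgroup.centralizer (Y : Set L), g = a * c) ∧ (Cfsg.pCore p ↥(Subgroup.normalizer (TL : Set L))).map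 (Subgroup.normalizer (TL : Set L)).subtype = TL ∧ Y = Cfsg.omegaOne p (TL ⊓ Subgroup.centralizer (TL : Set L)) := by
  have hL' : Subgroup.centralizer (Cfsg.pCore p ↥(⊤ : Subgroup L) : Set ↥(⊤ : Subgroup L)) ≤ Cfsg.pCore p ↥(⊤ : Subgroup L) :=
    CfsgLib.CharP.charP_congr (p := p) Subgroup.topEquiv.symm hchar
  have hYeq : Cfsg.largestPReducedOf p (⊤ : Subgroup L) = Y := by
    refine le_antisymm ?_ ?_
    · obtain ⟨h1, h2, h3⟩ := largestOf_spec (p := p) (⊤ : Subgroup L)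
      exact hY.2 _ (reduced_iff.mpr ⟨Subgroup.normalizer_eq_top_iff.mp (eq_top_iff.mpr h1), h2,
        fun N hN hp => h3 N le_top (by rw [Subgroup.normalizer_eq_top N]) hp⟩)
    · obtain ⟨hn, h2, h3⟩ := reduced_iff.mp hY.1
      refine le_largestOf le_top ((reduced_subgroupOf_iff le_top).mpr ⟨by rw [Subgroup.normalizer_eq_top Y], h2,
        fun N _ hN hp => h3 N (Subgroup.normalizer_eq_top_iff.mp (eq_top_iff.mpr hN)) hp⟩)
  obtain ⟨h1, h2, h3⟩ := largest_structure T (L := ⊤) le_top hL' (T₀ := TL) (by rw [hYeq]; exact hTL)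
  refine ⟨fun g => ?_, ?_, ?_⟩
  · obtain ⟨a, ha, c, hc, he⟩ := h1 g (Subgroup.mem_top g)
    exact ⟨a, ha.2, c, hYeq ▸ hc.2, he⟩
  · rw [top_inf_eq] at h2; exact h2
  · rw [← hYeq, h3]

end Cfsg.Agent.S2803
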