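import Cfsg.Statements.S2804
import Cfsg.Agent.Lib.ReducedSubnormal

set_option autoImplicit false
open Cfsg

namespace Cfsg.Agent.S2804

open CfsgLib.LocalBasic CfsgLib.PReduced CfsgLib.PReduced2 CfsgLib.ReducedSubnormal
open scoped commutatorElement

/-- Let L be a finite group and p a prime with C_L(O_p(L)) ≤ O_p(L), V a p-reduced normal subgroup of L and K a subnormal subgroup of L. Then [V, O^p(K)] is contained in K and is a p-reduced normal subgroup of K, where O^p(K) is the subgroup of K generated by its elements of order prime to p. -/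
theorem result {L : Type*} [Group L] [Finite L] {p : ℕ} [Fact p.Prime] (hchar : Subgroup.centralizer (Cfsg.pCore p L : Set L) ≤ Cfsg.pCore p L) (V : Subgroup L) (hV : Cfsg.IsPReducedNormal p V) (K : Subgroup L) (hK : K.IsSubnormal) : ⁅V, (Cfsg.pResidual p ↥K).map K.subtype⁆ ≤ K ∧ Cfsg.IsPReducedNormal p ((⁅V, (Cfsg.pResidual p ↥K).map K.subtype⁆).subgroupOf K) := by
  set R := (Cfsg.pResidual p ↥K).map K.subtype with hR
  set W : Subgroup L := ⁅V, R⁆ with hW
  obtain ⟨hVn, hVe, -⟩ := reduced_iff.mp hV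
  haveI := hVn
  have hWV : W ≤ V := Subgroup.commutator_le_left V R
  have hKsn : ∀ x ∈ K, (orderOf x).Coprime p → ∀ v ∈ V, ⁅v, x⁆ ∈ K := by
    clear hWV hW W hR R
    induction hK with
    | top => intro x _ _ v _; exact Subgroup.mem_top _
    | step A B hle hB hN ih =>
      intro x hx hc v hv
      have hAn : B ≤ Subgroup.normalizer (A : Set L) := (Subgroup.normal_subgroupOf_iff_le_normalizer hle).mp hN
      set d := ⁅v, x⁆ with hd
      clear_value d
      have hdV : d ∈ V := by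
        rw [hd, show ⁅v, x⁆ = v * (x * v⁻¹ * x⁻¹) by rw [commutatorElement_def]; group]
        exact V.mul_mem hv (hVn.conj_mem _ (V.inv_mem hv) x)
      have hdB : d ∈ B := hd ▸ ih x (hle hx) hc v hv
      set U := V ⊓ A with hU
      have hUx : ∀ a ∈ U, x * a * x⁻¹ ∈ U := fun a ha =>
        Subgroup.mem_inf.mpr ⟨hVn.conj_mem a ha.1 x, A.mul_mem (A.mul_mem hx ha.2) (A.inv_mem hx)⟩
      have hxd : ⁅x, d⁆ ∈ U := by
        refine Subgroup.mem_inf.mpr ⟨?_, ?_⟩
        · rw [commutatorElement_def]; exact V.mul_mem (hVn.conj_mem d hdV x) (V.inv_mem hdV)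
        · rw [show ⁅x, d⁆ = x * (d * x⁻¹ * d⁻¹) by rw [commutatorElement_def]; group]
          exact A.mul_mem hx ((Subgroup.mem_normalizer_iff.mp (hAn hdB) _).mp (A.inv_mem hx))
      have key : ∀ k : ℕ, ∃ a ∈ U, x ^ k * v * (x ^ k)⁻¹ = a * (d ^ k)⁻¹ * v := by
        intro k
        induction k with
        | zero => exact ⟨1, U.one_mem, by simp⟩
        | succ k ihk =>
          obtain ⟨a, ha, hak⟩ := ihk
          refine ⟨x * a * x⁻¹ * (⁅x, d⁆ ^ k)⁻¹, U.mul_mem (hUx a ha) (U.inv_mem (U.pow_mem hxd k)), ?_⟩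
          have h1 : x * d ^ k * x⁻¹ = ⁅x, d⁆ ^ k * d ^ k := by
            rw [← (show Commute ⁅x, d⁆ d from commute_of_elementary hVe hxd.1 hdV).mul_pow, ← conj_pow]
            congr 1
            rw [commutatorElement_def]; group
          have h2 : x * v * x⁻¹ = d⁻¹ * v := by rw [hd, commutatorElement_def]; group
          calc x ^ (k + 1) * v * (x ^ (k + 1))⁻¹ = x * (x ^ k * v * (x ^ k)⁻¹) * x⁻¹ := by rw [pow_succ']; group
            _ = x * a * x⁻¹ * (x * d ^ k * x⁻¹)⁻¹ * (x * v * x⁻¹) := by rw [hak]; group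
            _ = x * a * x⁻¹ * ((⁅x, d⁆ ^ k)⁻¹ * (d ^ k)⁻¹) * (d⁻¹ * v) := by
              rw [h1, h2, mul_inv_rev, commute_of_elementary hVe (V.inv_mem (V.pow_mem hdV k))
                (V.inv_mem (V.pow_mem hxd.1 k))]
            _ = _ := by rw [pow_succ']; group
      obtain ⟨a, ha, hak⟩ := key (orderOf x)
      rw [pow_orderOf_eq_one, one_mul, inv_one, mul_one] at hak
      have hdn : d ^ orderOf x ∈ A := by
        have : d ^ orderOf x = a := (mul_inv_eq_one.mp (mul_eq_right.mp hak.symm)).symm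
        exact this ▸ ha.2
      obtain ⟨m, hm⟩ := exists_pow_eq_self_of_coprime (x := d) (n := orderOf x)
        (hc.coprime_dvd_right (orderOf_dvd_of_pow_eq_one (hVe.2 _ hdV)))
      rw [← hm]
      exact A.pow_mem hdn m
  have hWK : W ≤ K := by
    rw [hW, Subgroup.commutator_le]
    have hS : R ≤ Subgroup.closure {x : L | x ∈ K ∧ (orderOf x).Coprime p} := by
      rw [hR, Cfsg.pResidual, MonoidHom.map_closure]
      refine Subgroup.closure_mono ?_
      rintro _ ⟨y, hy, rfl⟩
      exact ⟨y.2, by rw [Subgroup.coe_subtype, Subgroup.orderOf_coe]; exact hy⟩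
    intro v hv r hr
    suffices h : ∀ r ∈ Subgroup.closure {x : L | x ∈ K ∧ (orderOf x).Coprime p}, r ∈ K ∧ ∀ v ∈ V, ⁅v, r⁆ ∈ K from
      (h r (hS hr)).2 v hv
    intro r hr
    induction hr using Subgroup.closure_induction with
    | mem x hx => exact ⟨hx.1, hKsn x hx.1 hx.2⟩
    | one => exact ⟨K.one_mem, fun v _ => by simp⟩
    | mul a b _ _ h1 h2 =>
      refine ⟨K.mul_mem h1.1 h2.1, fun v hv => ?_⟩
      rw [show ⁅v, a * b⁆ = ⁅v, a⁆ * (a * ⁅v, b⁆ * a⁻¹) by simp only [commutatorElement_def]; group]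
      exact K.mul_mem (h1.2 v hv) (K.mul_mem (K.mul_mem h1.1 (h2.2 v hv)) (K.inv_mem h1.1))
    | inv a _ h1 =>
      refine ⟨K.inv_mem h1.1, fun v hv => ?_⟩
      rw [show ⁅v, a⁻¹⁆ = a⁻¹ * ⁅v, a⁆⁻¹ * a by simp only [commutatorElement_def]; group]
      exact K.mul_mem (K.mul_mem (K.inv_mem h1.1) (K.inv_mem (h1.2 v hv))) h1.1
  have hKR : K ≤ Subgroup.normalizer (R : Set L) := by
    refine (Subgroup.normal_subgroupOf_iff_le_normalizer (Subgroup.map_subtype_le _)).mp ?_
    rw [Subgroup.subgroupOf, Subgroup.comap_map_eq_self_of_injective K.subtype_injective]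
    infer_instance
  have hKV : K ≤ Subgroup.normalizer (V : Set L) := by rw [Subgroup.normalizer_eq_top]; exact le_top
  have hKW : K ≤ Subgroup.normalizer (W : Set L) := normalizer_commutator_ge hKV hKR
  have hCW : K ⊓ Subgroup.centralizer (W : Set L) ≤ Subgroup.centralizer (V : Set L) := by
    refine le_centralizer_of_subnormal hV (isSubnormal_of_normalized hK inf_le_left
      (normalizer_inf_ge Subgroup.le_normalizer (normalizer_centralizer_ge hKW))) (pmod_of_coprime fun x hx hc => ?_)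
    intro v hv
    have hxR : x ∈ R :=
      ⟨⟨x, hx.1⟩, CfsgLib.PResidual.mem_pResidual (show (orderOf (⟨x, hx.1⟩ : ↥K)).Coprime p by rwa [Subgroup.orderOf_mk]), rfl⟩
    have hxv : ⁅x, v⁆ ∈ W := by
      rw [← commutatorElement_inv]; exact W.inv_mem (Subgroup.commutator_mem_commutator hv hxR)
    exact (commute_of_step hVe hc (hWV hxv) (hx.2 _ hxv).symm).symm
  refine ⟨hWK, (reduced_subgroupOf_iff hWK).mpr ⟨hKW, elementary_of_le hVe hWV, fun N hNK hKN hN => ?_⟩⟩
  refine le_trans ?_ (Subgroup.centralizer_le (SetLike.coe_subset_coe.mpr hWV))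
  refine le_centralizer_of_subnormal hV (isSubnormal_of_normalized hK hNK hKN) fun x hx => ?_
  obtain ⟨k, hk⟩ := hN x hx
  exact ⟨k, hCW ⟨K.pow_mem (hNK hx) _, hk⟩⟩

end Cfsg.Agent.S2804
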