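import Cfsg.Statements.S2806
import Cfsg.Agent.Lib.SubnormalSylow
import Cfsg.Agent.Lib.CharP
import Cfsg.Agent.Lib.PStep

set_option autoImplicit false
open Cfsg

namespace Cfsg.Agent.S2806

open CfsgLib.GroupB.Coprime CfsgLib.SubnormalSylow
open scoped commutatorElement

/-- The elements generating `Ω₁(Z(U))`. -/
def Zel {G : Type*} [Group G] (p : ℕ) (U : Subgroup G) (z : G) : Prop :=
  z ∈ U ∧ (∀ u ∈ U, u * z = z * u) ∧ z ^ p = 1

theorem mem_centralizer_omega {G : Type*} [Group G] (p : ℕ) (U : Subgroup G) (x : G) :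
    x ∈ Subgroup.centralizer (Cfsg.omegaOne p (U ⊓ Subgroup.centralizer (U : Set G)) : Set G) ↔
      ∀ z, Zel p U z → z * x = x * z := by
  rw [Cfsg.omegaOne, Subgroup.centralizer_closure]
  refine ⟨fun h z hz => Subgroup.mem_centralizer_iff.mp h z ⟨Subgroup.mem_inf.mpr
    ⟨hz.1, Subgroup.mem_centralizer_iff.mpr hz.2.1⟩, hz.2.2⟩, fun h => Subgroup.mem_centralizer_iff.mpr ?_⟩
  rintro z ⟨hz, hzp⟩
  exact h z ⟨(Subgroup.mem_inf.mp hz).1, Subgroup.mem_centralizer_iff.mp (Subgroup.mem_inf.mp hz).2, hzp⟩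

/-- The elements of the centre of `O_p` that have order dividing `p`. -/
def omegaCenter {G : Type*} [Group G] (p : ℕ) (U : Subgroup G) : Subgroup G where
  carrier := {z | Zel p U z}
  one_mem' := ⟨one_mem _, fun u _ => by simp, one_pow _⟩
  mul_mem' := fun {a b} ha hb => ⟨mul_mem ha.1 hb.1,
    fun u hu => ((show Commute u a from ha.2.1 u hu).mul_right (hb.2.1 u hu)).eq,
    by rw [(show Commute a b from hb.2.1 a ha.1).mul_pow, ha.2.2, hb.2.2, one_mul]⟩
  inv_mem' := fun {a} ha => ⟨inv_mem ha.1, fun u hu => ((show Commute u a from ha.2.1 u hu).inv_right).eq,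
    by rw [inv_pow, ha.2.2, inv_one]⟩

theorem zel_conj {G : Type*} [Group G] {p : ℕ} {U : Subgroup G} {g z : G} (hg : g ∈ Subgroup.normalizer (U : Set G))
    (hz : Zel p U z) : Zel p U (g * z * g⁻¹) := by
  refine ⟨(conj_mem_iff hg).mpr hz.1, fun u hu => ?_, by rw [conj_pow, hz.2.2]; simp⟩
  have hu' : g⁻¹ * u * g ∈ U := by
    have := (conj_mem_iff (inv_mem hg)).mpr hu
    rwa [inv_inv] at this
  calc u * (g * z * g⁻¹) = g * ((g⁻¹ * u * g) * z) * g⁻¹ := by group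
    _ = g * (z * (g⁻¹ * u * g)) * g⁻¹ := by rw [hz.2.1 _ hu']
    _ = _ := by group

/-- Averaging over the cosets of `T` in `C`. -/
theorem exists_avg {G : Type*} [Group G] [Finite G] (W C T : Subgroup G) (hW : ∀ a ∈ W, ∀ b ∈ W, a * b = b * a)
    (hTC : T ≤ C) (hCW : C ≤ Subgroup.normalizer (W : Set G)) :
    ∃ F : G → G,
      (∀ z ∈ W, (∀ t ∈ T, t * z = z * t) → F z ∈ W ∧ ∀ c ∈ C, c * F z = F z * c) ∧
      (∀ z ∈ W, ∀ w ∈ W, F (z * w) = F z * F w) ∧
      (∀ z ∈ W, (∀ c ∈ C, c * z = z * c) → F z = z ^ T.relIndex C) ∧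
      (∀ g ∈ Subgroup.normalizer (W : Set G), g ∈ Subgroup.normalizer (C : Set G) → g ∈ Subgroup.normalizer (T : Set G) →
        ∀ z ∈ W, (∀ t ∈ T, t * z = z * t) → F (g * z * g⁻¹) = g * F z * g⁻¹) ∧
      (∀ z ∈ W, ∀ D : Subgroup G, (∀ c ∈ C, z * (c * z * c⁻¹)⁻¹ ∈ D) → z ^ T.relIndex C * (F z)⁻¹ ∈ D) := by
  classical
  letI : CommGroup ↥W := { (inferInstance : Group ↥W) with
    mul_comm := fun a b => Subtype.ext (hW a a.2 b b.2) }
  letI := Fintype.ofFinite (↥C ⧸ T.subgroupOf C)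
  let act : ↥C → ↥W → ↥W := fun c w => ⟨(c : G) * w * (c : G)⁻¹, (conj_mem_iff (hCW c.2)).mpr w.2⟩
  let Fw : ↥W → ↥W := fun w => ∏ q : ↥C ⧸ T.subgroupOf C, act q.out w
  let F : G → G := fun z => if h : z ∈ W then ((Fw ⟨z, h⟩ : ↥W) : G) else 1
  have hF : ∀ z (h : z ∈ W), F z = ((Fw ⟨z, h⟩ : ↥W) : G) := fun z h => dif_pos h
  -- a fixed element gives a function of the coset
  have hcos : ∀ z (h : z ∈ W), (∀ t ∈ T, t * z = z * t) → ∀ c d : ↥C, (c : ↥C ⧸ T.subgroupOf C) = d →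
      act c ⟨z, h⟩ = act d ⟨z, h⟩ := by
    intro z h hfix c d hcd
    have hm : (c : G)⁻¹ * (d : G) ∈ T := Subgroup.mem_subgroupOf.mp (QuotientGroup.eq.mp hcd)
    apply Subtype.ext
    show (c : G) * z * (c : G)⁻¹ = (d : G) * z * (d : G)⁻¹
    calc (c : G) * z * (c : G)⁻¹ = (c : G) * ((z * ((c : G)⁻¹ * d)) * ((c : G)⁻¹ * d)⁻¹) * (c : G)⁻¹ := by group
      _ = (c : G) * (((c : G)⁻¹ * d * z) * ((c : G)⁻¹ * d)⁻¹) * (c : G)⁻¹ := by rw [hfix _ hm]
      _ = _ := by group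
  refine ⟨F, fun z hz hfix => ⟨by rw [hF z hz]; exact (Fw ⟨z, hz⟩).2, fun c hc => ?_⟩, ?_, ?_, ?_, ?_⟩
  · -- invariance
    let ψ : ↥W →* ↥W :=
      { toFun := fun w => act ⟨c, hc⟩ w
        map_one' := Subtype.ext (by simp [act])
        map_mul' := fun a b => Subtype.ext (by simp [act, mul_assoc]) }
    have h1 : ψ (Fw ⟨z, hz⟩) = Fw ⟨z, hz⟩ := by
      show ψ (∏ q, _) = _
      rw [map_prod]
      refine Fintype.prod_equiv (MulAction.toPerm (⟨c, hc⟩ : ↥C)) _ _ fun q => ?_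
      show act ⟨c, hc⟩ (act q.out ⟨z, hz⟩) = act (((⟨c, hc⟩ : ↥C) • q : ↥C ⧸ T.subgroupOf C)).out ⟨z, hz⟩
      have hq : (((⟨c, hc⟩ : ↥C) * q.out : ↥C) : ↥C ⧸ T.subgroupOf C) =
          ((((⟨c, hc⟩ : ↥C) • q : ↥C ⧸ T.subgroupOf C)).out : ↥C) := by
        rw [QuotientGroup.out_eq']
        conv_rhs => rw [← QuotientGroup.out_eq' q]
        rfl
      rw [← hcos z hz hfix _ _ hq]
      exact Subtype.ext (by simp [act, mul_assoc])
    have h2 := congrArg Subtype.val h1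
    rw [← hF z hz] at h2
    change c * ((Fw ⟨z, hz⟩ : ↥W) : G) * c⁻¹ = F z at h2
    rw [← hF z hz] at h2
    exact mul_inv_eq_iff_eq_mul.mp h2
  · intro z hz w hw
    rw [hF _ (mul_mem hz hw), hF z hz, hF w hw, ← Subgroup.coe_mul]
    congr 1
    show (∏ q, _) = (∏ q, _) * (∏ q, _)
    rw [← Finset.prod_mul_distrib]
    exact Finset.prod_congr rfl fun q _ => Subtype.ext (by simp [act, mul_assoc])
  · intro z hz hfix
    rw [hF z hz]
    have : ∀ q : ↥C ⧸ T.subgroupOf C, act q.out ⟨z, hz⟩ = ⟨z, hz⟩ := fun q => Subtype.ext (by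
      show (q.out : G) * z * (q.out : G)⁻¹ = z
      rw [hfix _ q.out.2, mul_inv_cancel_right])
    show ((∏ q : ↥C ⧸ T.subgroupOf C, act q.out ⟨z, hz⟩ : ↥W) : G) = _
    rw [Finset.prod_congr rfl fun q _ => this q, Finset.prod_const, Finset.card_univ, ← Nat.card_eq_fintype_card]
    rfl
  · intro g hgW hgC hgT z hz hfix
    have hz' : g * z * g⁻¹ ∈ W := (conj_mem_iff hgW).mpr hz
    have hfix' : ∀ t ∈ T, t * (g * z * g⁻¹) = g * z * g⁻¹ * t := fun t ht => by
      have ht' : g⁻¹ * t * g ∈ T := by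
        have := (conj_mem_iff (inv_mem hgT)).mpr ht
        rwa [inv_inv] at this
      calc t * (g * z * g⁻¹) = g * ((g⁻¹ * t * g) * z) * g⁻¹ := by group
        _ = g * (z * (g⁻¹ * t * g)) * g⁻¹ := by rw [hfix _ ht']
        _ = _ := by group
    rw [hF _ hz', hF z hz]
    let ψ : ↥W →* ↥W :=
      { toFun := fun w => ⟨g * w * g⁻¹, (conj_mem_iff hgW).mpr w.2⟩
        map_one' := Subtype.ext (by simp)
        map_mul' := fun a b => Subtype.ext (by simp [mul_assoc]) }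
    show _ = ((ψ (Fw ⟨z, hz⟩) : ↥W) : G)
    congr 1
    show _ = ψ (∏ q, _)
    rw [map_prod]
    let α : ↥C → ↥C := fun c => ⟨g * c * g⁻¹, (conj_mem_iff hgC).mpr c.2⟩
    let β : ↥C ⧸ T.subgroupOf C → ↥C ⧸ T.subgroupOf C := fun q => (α q.out : ↥C)
    have hβ : Function.Bijective β := by
      refine Finite.injective_iff_bijective.mp fun q q' e => ?_
      have hm : (g * (q.out : G) * g⁻¹)⁻¹ * (g * (q'.out : G) * g⁻¹) ∈ T :=
        Subgroup.mem_subgroupOf.mp (QuotientGroup.eq.mp e)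
      rw [show (g * (q.out : G) * g⁻¹)⁻¹ * (g * (q'.out : G) * g⁻¹) = g * ((q.out : G)⁻¹ * q'.out) * g⁻¹ by group] at hm
      have hm' : (q.out : G)⁻¹ * (q'.out : G) ∈ T := (conj_mem_iff hgT).mp hm
      rw [← QuotientGroup.out_eq' q, ← QuotientGroup.out_eq' q']
      exact QuotientGroup.eq.mpr (Subgroup.mem_subgroupOf.mpr hm')
    symm
    refine Fintype.prod_equiv (Equiv.ofBijective β hβ) _ _ fun q => ?_
    show ψ (act q.out ⟨z, hz⟩) = act (β q).out ⟨g * z * g⁻¹, hz'⟩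
    have hq : ((α q.out : ↥C) : ↥C ⧸ T.subgroupOf C) = ((β q).out : ↥C) := by rw [QuotientGroup.out_eq']
    rw [← hcos _ hz' hfix' _ _ hq]
    exact Subtype.ext (by simp [ψ, act, α, mul_assoc])
  · intro z hz D hD
    have key : ((∏ q : ↥C ⧸ T.subgroupOf C, (⟨z, hz⟩ : ↥W) * (act q.out ⟨z, hz⟩)⁻¹ : ↥W) : G) ∈ D := by
      refine Subgroup.mem_subgroupOf.mp (Subgroup.prod_mem (D.subgroupOf W) fun q _ => Subgroup.mem_subgroupOf.mpr ?_)
      exact hD _ q.out.2
    rw [Finset.prod_mul_distrib, Finset.prod_const, Finset.card_univ, Finset.prod_inv_distrib,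
      ← Nat.card_eq_fintype_card] at key
    rw [hF z hz]
    rw [Subgroup.relIndex, Subgroup.index_eq_card, Nat.card_eq_fintype_card]
    simpa [Fw] using key

theorem commute_of_pow {G : Type*} [Group G] {p m : ℕ} [hp : Fact p.Prime] {x z : G} (hzp : z ^ p = 1) (hm : ¬ p ∣ m)
    (h : x * z ^ m = z ^ m * x) : x * z = z * x := by
  have hcop : (orderOf z).Coprime m :=
    Nat.Coprime.coprime_dvd_left (orderOf_dvd_of_pow_eq_one hzp) (hp.out.coprime_iff_not_dvd.mpr hm)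
  obtain ⟨j, hj⟩ := exists_pow_eq_self_of_coprime hcop.symm
  rw [← hj]
  exact ((show Commute x (z ^ m) from h).pow_right j).eq

/-- The normal step in a group of characteristic `p`. -/
theorem step_charP {H : Type*} [Group H] [Finite H] {p : ℕ} [hp : Fact p.Prime] (L N S : Subgroup H)
    (hQ : ∀ x ∈ L, (∀ q ∈ (Cfsg.pCore p ↥L).map L.subtype, q * x = x * q) → x ∈ (Cfsg.pCore p ↥L).map L.subtype)
    (hQ' : ∀ x ∈ N, (∀ q ∈ (Cfsg.pCore p ↥N).map N.subtype, q * x = x * q) → x ∈ (Cfsg.pCore p ↥N).map N.subtype)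
    (hNL : N ≤ L) (hLn : L ≤ Subgroup.normalizer (N : Set H)) (hS : IsPGroup p ↥S) (hSL : S ≤ L)
    (hi : ¬ p ∣ S.relIndex L) (hi' : ¬ p ∣ (S ⊓ N).relIndex N) {x : H} (hx : x ∈ N) :
    ((∀ z, Zel p (S ⊓ N) z → z * x = x * z) → ∀ z, Zel p S z → z * x = x * z) ∧
    ((∀ z, Zel p S z → z * x = x * z) → ∀ z, Zel p (S ⊓ N) z → z * x = x * z) := by
  classical
  obtain ⟨Q, hQdef⟩ : ∃ Q, Q = (Cfsg.pCore p ↥L).map L.subtype := ⟨_, rfl⟩
  obtain ⟨Q', hQ'def⟩ : ∃ Q', Q' = (Cfsg.pCore p ↥N).map N.subtype := ⟨_, rfl⟩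
  rw [← hQdef] at hQ
  rw [← hQ'def] at hQ'
  have hQS : ∀ M S : Subgroup H, IsPGroup p ↥S → S ≤ M → ¬ p ∣ S.relIndex M → (Cfsg.pCore p ↥M).map M.subtype ≤ S := by
    intro M S hS hSM hi
    have h := CfsgLib.Core.pCore_le_sylow ((hS.comap_subtype (K := M)).toSylow hi)
    rintro _ ⟨q, hq, rfl⟩
    exact Subgroup.mem_subgroupOf.mp (h hq)
  have hQleS : Q ≤ S := hQdef ▸ hQS L S hS hSL hi
  have hQ'leS : Q' ≤ S ⊓ N := hQ'def ▸ hQS N (S ⊓ N) (hS.to_le inf_le_left) inf_le_right hi'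
  haveI := CfsgLib.Core.pCore_characteristic (G := ↥L) p
  haveI := CfsgLib.Core.pCore_characteristic (G := ↥N) p
  have hQn : L ≤ Subgroup.normalizer (Q : Set H) := by
    refine le_normalizer_of_conj_mem fun l hl y hy => ?_
    rw [hQdef] at hy ⊢
    obtain ⟨q, hq, rfl⟩ := hy
    exact ⟨⟨l, hl⟩ * q * ⟨l, hl⟩⁻¹, (inferInstance : (Cfsg.pCore p ↥L).Normal).conj_mem q hq _, rfl⟩
  have hQ'n : L ≤ Subgroup.normalizer (Q' : Set H) := by
    refine le_normalizer_of_conj_mem fun l hl y hy => ?_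
    rw [hQ'def] at hy ⊢
    obtain ⟨q, hq, rfl⟩ := hy
    let e : ↥N ≃* ↥N :=
      { toFun := fun h => ⟨l * h * l⁻¹, (conj_mem_iff (hLn hl)).mpr h.2⟩
        invFun := fun h => ⟨l⁻¹ * h * l, by
          have := (conj_mem_iff (Subgroup.inv_mem _ (hLn hl))).mpr h.2
          simpa using this⟩
        left_inv := fun h => Subtype.ext (by simp [mul_assoc])
        right_inv := fun h => Subtype.ext (by simp [mul_assoc])
        map_mul' := fun a b => Subtype.ext (by simp [mul_assoc]) }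
    exact ⟨e q, (Subgroup.characteristic_iff_map_eq.mp inferInstance e).le ⟨q, hq, rfl⟩, rfl⟩
  have hSN : S ≤ Subgroup.normalizer ((S ⊓ N : Subgroup H) : Set H) :=
    le_normalizer_of_conj_mem fun s hs y hy => Subgroup.mem_inf.mpr
      ⟨mul_mem (mul_mem hs hy.1) (inv_mem hs), (conj_mem_iff (hLn (hSL hs))).mpr hy.2⟩
  have hZL : ∀ z, Zel p S z → z ∈ omegaCenter p Q := fun z hz =>
    ⟨hQ z (hSL hz.1) fun q hq => hz.2.1 q (hQleS hq), fun q hq => hz.2.1 q (hQleS hq), hz.2.2⟩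
  have hZN : ∀ z, Zel p (S ⊓ N) z → z ∈ omegaCenter p Q' := fun z hz =>
    ⟨hQ' z hz.1.2 fun q hq => hz.2.1 q (hQ'leS hq), fun q hq => hz.2.1 q (hQ'leS hq), hz.2.2⟩
  constructor
  · -- fixing the centre below fixes the centre above
    intro h z hz
    set C := N ⊓ Subgroup.centralizer ({y | Zel p (S ⊓ N) y} : Set H) with hC
    have hTC : S ⊓ N ≤ C := fun t ht => Subgroup.mem_inf.mpr
      ⟨ht.2, Subgroup.mem_centralizer_iff.mpr fun y hy => (hy.2.1 t ht).symm⟩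
    obtain ⟨F, hF1, -, -, -, hF5⟩ := exists_avg (omegaCenter p Q) C (S ⊓ N) (fun a ha b hb => hb.2.1 a ha.1) hTC
      (le_normalizer_of_conj_mem fun c hc y hy => zel_conj (hQn (hNL hc.1)) hy)
    have hfix : ∀ t ∈ S ⊓ N, t * z = z * t := fun t ht => hz.2.1 t ht.1
    obtain ⟨hFW, hFC⟩ := hF1 z (hZL z hz) hfix
    have hm : ¬ p ∣ (S ⊓ N).relIndex C := fun hd =>
      hi' (hd.trans (by rw [← Subgroup.relIndex_mul_relIndex (S ⊓ N) C N hTC inf_le_left]; exact Dvd.intro _ rfl))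
    have hD := hF5 z (hZL z hz) (omegaCenter p Q ⊓ N) fun c hc => Subgroup.mem_inf.mpr ⟨mul_mem (hZL z hz)
      (inv_mem (zel_conj (hQn (hNL hc.1)) (hZL z hz))), by
        rw [show z * (c * z * c⁻¹)⁻¹ = (z * c * z⁻¹) * c⁻¹ by group]
        exact mul_mem ((conj_mem_iff (hLn (hSL hz.1))).mpr hc.1) (inv_mem hc.1)⟩
    set m := (S ⊓ N).relIndex C with hmdef
    have hDz : Zel p (S ⊓ N) (z ^ m * (F z)⁻¹) := by
      refine ⟨Subgroup.mem_inf.mpr ⟨hQleS hD.1.1, hD.2⟩, fun t ht => ?_, hD.1.2.2⟩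
      exact (((show Commute t z from hfix t ht).pow_right m).mul_right
        (Commute.inv_right (show Commute t (F z) from hFC t (hTC ht)))).eq
    have hxC : x ∈ C := Subgroup.mem_inf.mpr ⟨hx, Subgroup.mem_centralizer_iff.mpr fun y hy => h y hy⟩
    have h1 : Commute x (z ^ m * (F z)⁻¹) := (h _ hDz).symm
    have h2 := h1.mul_right (show Commute x (F z) from hFC x hxC)
    rw [inv_mul_cancel_right] at h2
    exact (commute_of_pow hz.2.2 hm h2.eq).symm
  · -- fixing the centre above fixes the centre below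
    intro h z hz
    set C := N ⊓ Subgroup.centralizer ({y | Zel p S y} : Set H) with hC
    have hTC : S ⊓ N ≤ C := fun t ht => Subgroup.mem_inf.mpr
      ⟨ht.2, Subgroup.mem_centralizer_iff.mpr fun y hy => (hy.2.1 t ht.1).symm⟩
    set W := omegaCenter p Q' with hWdef
    have hCW : C ≤ Subgroup.normalizer (W : Set H) :=
      le_normalizer_of_conj_mem fun c hc y hy => zel_conj (hQ'n (hNL hc.1)) hy
    obtain ⟨F, hF1, hF2, hF3, hF4, -⟩ := exists_avg W C (S ⊓ N) (fun a ha b hb => hb.2.1 a ha.1) hTC hCW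
    set m := (S ⊓ N).relIndex C with hmdef
    have hm : ¬ p ∣ m := fun hd =>
      hi' (hd.trans (by rw [hmdef, ← Subgroup.relIndex_mul_relIndex (S ⊓ N) C N hTC inf_le_left]; exact Dvd.intro _ rfl))
    have hWmem : ∀ {y}, Zel p (S ⊓ N) y → y ∈ W := fun {y} hy => hZN y hy
    have hFone : F 1 = 1 := by
      have h11 := hF2 1 (one_mem _) 1 (one_mem _)
      rw [one_mul] at h11
      exact left_eq_mul.mp h11
    -- the kernel of averaging on Ω₁(Z(S ⊓ N))
    let K : Subgroup H :=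
      { carrier := {y | Zel p (S ⊓ N) y ∧ F y = 1}
        one_mem' := ⟨(omegaCenter p (S ⊓ N)).one_mem, hFone⟩
        mul_mem' := fun {a b} ha hb => ⟨(omegaCenter p (S ⊓ N)).mul_mem ha.1 hb.1, by
          rw [hF2 a (hWmem ha.1) b (hWmem hb.1), ha.2, hb.2, one_mul]⟩
        inv_mem' := fun {a} ha => ⟨(omegaCenter p (S ⊓ N)).inv_mem ha.1, by
          have e := hF2 a (hWmem ha.1) a⁻¹ (inv_mem (hWmem ha.1))
          rw [mul_inv_cancel, hFone, ha.2, one_mul] at e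
          exact e.symm⟩ }
    have hSW : ∀ s ∈ S, s ∈ Subgroup.normalizer (W : Set H) := fun s hs =>
      le_normalizer_of_conj_mem (N := W) (K := S) (fun c hc y hy => zel_conj (hQ'n (hSL hc)) hy) hs
    have hSC : ∀ s ∈ S, s ∈ Subgroup.normalizer (C : Set H) := fun s hs => by
      refine le_normalizer_of_conj_mem (N := C) (K := S) (fun c hc y hy => Subgroup.mem_inf.mpr
        ⟨(conj_mem_iff (hLn (hSL hc))).mpr hy.1, Subgroup.mem_centralizer_iff.mpr fun w hw => ?_⟩) hs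
      have hcw : c * w = w * c := hw.2.1 c hc
      have hyw : w * y = y * w := Subgroup.mem_centralizer_iff.mp hy.2 w hw
      calc w * (c * y * c⁻¹) = (w * c) * y * c⁻¹ := by group
        _ = (c * w) * y * c⁻¹ := by rw [hcw]
        _ = c * (w * y) * c⁻¹ := by group
        _ = c * (y * w) * c⁻¹ := by rw [hyw]
        _ = c * y * ((w * c) * c⁻¹) * c⁻¹ := by group
        _ = c * y * ((c * w) * c⁻¹) * c⁻¹ := by rw [hcw]
        _ = c * y * c⁻¹ * ((c * w) * c⁻¹) := by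
            have h' : c⁻¹ * w = w * c⁻¹ := ((show Commute c w from hcw).inv_left).eq
            calc c * y * ((c * w) * c⁻¹) * c⁻¹ = c * y * (c * (w * c⁻¹)) * c⁻¹ := by group
              _ = c * y * (c * (c⁻¹ * w)) * c⁻¹ := by rw [h']
              _ = c * y * (w * c⁻¹) := by group
              _ = c * y * (c⁻¹ * w) := by rw [h']
              _ = c * y * c⁻¹ * (c * (c⁻¹ * w)) := by group
              _ = c * y * c⁻¹ * (c * (w * c⁻¹)) := by rw [h']
              _ = _ := by group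
        _ = c * y * c⁻¹ * w := by rw [hcw, mul_inv_cancel_right]
    have hK : K = ⊥ := by
      by_contra hK0
      haveI : (K.subgroupOf S).Normal := by
        refine ⟨fun y hy s => Subgroup.mem_subgroupOf.mpr ?_⟩
        obtain ⟨hy1, hy2⟩ := Subgroup.mem_subgroupOf.mp hy
        refine ⟨zel_conj (hSN s.2) hy1, ?_⟩
        show F ((s : H) * (y : H) * (s : H)⁻¹) = 1
        rw [hF4 _ (hSW _ s.2) (hSC _ s.2) (hSN s.2) _ (hWmem hy1) (fun t ht => hy1.2.1 t ht), hy2]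
        simp
      have hKS : K ≤ S := fun y hy => hy.1.1.1
      have hlt : (⊥ : Subgroup ↥S) < K.subgroupOf S := bot_lt_iff_ne_bot.mpr fun e => hK0 (by
        rw [← Subgroup.map_subgroupOf_eq_of_le hKS, e, Subgroup.map_bot])
      obtain ⟨y, hy, hy1, hyc, hyp⟩ := CfsgLib.PStep.exists_step hS ⊥ (K.subgroupOf S) hlt
      rw [Subgroup.mem_bot] at hy1 hyp
      obtain ⟨hyZ, hyF⟩ := Subgroup.mem_subgroupOf.mp hy
      have hyS : Zel p S (y : H) := ⟨y.2, fun s hs => by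
        have e := congrArg Subtype.val (Subgroup.mem_bot.mp (hyc ⟨s, hs⟩))
        simp only [Subgroup.coe_mul, InvMemClass.coe_inv, Subgroup.coe_one] at e
        rw [mul_inv_eq_one, mul_inv_eq_iff_eq_mul] at e
        exact e, by simpa using congrArg Subtype.val hyp⟩
      have e := hF3 (y : H) (hWmem hyZ) fun c hc => (Subgroup.mem_centralizer_iff.mp hc.2 _ hyS).symm
      rw [hyF] at e
      refine hy1 (Subtype.ext ?_)
      have hcop : (orderOf (y : H)).Coprime m :=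
        Nat.Coprime.coprime_dvd_left (orderOf_dvd_of_pow_eq_one hyS.2.2) (hp.out.coprime_iff_not_dvd.mpr hm)
      obtain ⟨j, hj⟩ := exists_pow_eq_self_of_coprime hcop.symm
      show (y : H) = 1
      rw [← hj, ← e, one_pow]
    obtain ⟨hvW, hvC⟩ := hF1 z (hWmem hz) fun t ht => hz.2.1 t ht
    have hv : Zel p (S ⊓ N) (F z) := ⟨Subgroup.mem_inf.mpr ⟨(hQ'leS hvW.1).1, (hQ'leS hvW.1).2⟩,
      fun t ht => hvC t (hTC ht), hvW.2.2⟩
    have hinK : z ^ m * (F z)⁻¹ ∈ K := by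
      refine ⟨(omegaCenter p (S ⊓ N)).mul_mem ((omegaCenter p (S ⊓ N)).pow_mem hz m) ((omegaCenter p (S ⊓ N)).inv_mem hv), ?_⟩
      have hpw : ∀ k : ℕ, F (z ^ k) = F z ^ k := by
        intro k
        induction k with
        | zero => rw [pow_zero, pow_zero, hFone]
        | succ k ihk => rw [pow_succ, pow_succ, hF2 _ (pow_mem (hWmem hz) k) _ (hWmem hz), ihk]
      have e := hF2 (z ^ m) (pow_mem (hWmem hz) m) (F z)⁻¹ (inv_mem hvW)
      have e2 := hF2 (F z) hvW (F z)⁻¹ (inv_mem hvW)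
      rw [mul_inv_cancel, hFone] at e2
      rw [e, hpw, hF3 _ (inv_mem hvW) (fun c hc => ((show Commute c (F z) from hvC c hc).inv_right).eq)]
      simp [hmdef]
    rw [hK, Subgroup.mem_bot, mul_inv_eq_one] at hinK
    have hxC : x ∈ C := Subgroup.mem_inf.mpr ⟨hx, Subgroup.mem_centralizer_iff.mpr fun y hy => h y hy⟩
    have h2 : x * z ^ m = z ^ m * x := by rw [hinK]; exact hvC x hxC
    exact (commute_of_pow hz.2.2 hm h2).symm

theorem charP_sub {H : Type*} [Group H] [Finite H] {p : ℕ} {M X : Subgroup H} (hM : CfsgLib.CharP.HasCharP p ↥M)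
    [Fact p.Prime] (hXM : X ≤ M) (hX : (X.subgroupOf M).IsSubnormal) :
    ∀ x ∈ X, (∀ q ∈ (Cfsg.pCore p ↥X).map X.subtype, q * x = x * q) → x ∈ (Cfsg.pCore p ↥X).map X.subtype := by
  have h := CfsgLib.CharP.charP_congr (Subgroup.subgroupOfEquivOfLe hXM) (CfsgLib.CharP.charP_of_subnormal hM hX)
  exact fun x hx hc => ⟨⟨x, hx⟩, h (Subgroup.mem_centralizer_iff.mpr fun q hq => Subtype.ext (hc q ⟨q, hq, rfl⟩)), rfl⟩

/-- The normal step in a group of local characteristic `p`. -/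
theorem step {H : Type*} [Group H] [Finite H] {p : ℕ} [hp : Fact p.Prime] (hH : Cfsg.IsOfLocalCharacteristic p H)
    {T L N : Subgroup H} (hT : IsPGroup p ↥T) (hTi : ¬ p ∣ T.index) (hL : L.IsSubnormal) (hN : N.IsSubnormal)
    (hNL : N ≤ L) (hLn : L ≤ Subgroup.normalizer (N : Set H)) {x : H} (hx : x ∈ N) (hxp : ∃ k, orderOf x = p ^ k) :
    ((∀ z, Zel p (T ⊓ N) z → z * x = x * z) ↔ ∀ z, Zel p (T ⊓ L) z → z * x = x * z) := by
  classical
  set S := T ⊓ L with hS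
  have hSN : T ⊓ N = S ⊓ N := by rw [hS, inf_assoc, inf_eq_right.mpr hNL]
  by_cases hTN : T ⊓ N = ⊥
  · have hx1 : x = 1 := by
      have h := card_sylow_inf hT hTi hN
      rw [hTN, Subgroup.card_bot] at h
      obtain ⟨k, hk⟩ := hxp
      have hf : (Nat.card ↥N).factorization p = 0 :=
        (Nat.pow_eq_one.mp h.symm).resolve_left hp.out.ne_one
      have hdvd : p ^ k ∣ Nat.card ↥N := hk ▸ Subgroup.orderOf_dvd_natCard N hx
      have := (hp.out.pow_dvd_iff_le_factorization Nat.card_pos.ne').mp hdvd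
      have hk0 : k = 0 := by omega
      rw [hk0, pow_zero] at hk
      exact orderOf_eq_one_iff.mp hk
    subst hx1
    simp
  -- an element of order p central in both
  have hSp : IsPGroup p ↥S := hT.to_le inf_le_left
  haveI : ((S ⊓ N).subgroupOf S).Normal := ⟨fun y hy s => Subgroup.mem_subgroupOf.mpr (Subgroup.mem_inf.mpr
    ⟨mul_mem (mul_mem s.2 y.2) (inv_mem s.2), (conj_mem_iff (hLn s.2.2)).mpr (Subgroup.mem_subgroupOf.mp hy).2⟩)⟩
  have hlt : (⊥ : Subgroup ↥S) < (S ⊓ N).subgroupOf S := bot_lt_iff_ne_bot.mpr fun e => hTN (by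
    rw [hSN, ← Subgroup.map_subgroupOf_eq_of_le (inf_le_left : S ⊓ N ≤ S), e, Subgroup.map_bot])
  obtain ⟨y, hy, hy1, hyc, hyp⟩ := CfsgLib.PStep.exists_step hSp ⊥ _ hlt
  rw [Subgroup.mem_bot] at hy1 hyp
  have hyS : Zel p S (y : H) := ⟨y.2, fun s hs => by
    have e := congrArg Subtype.val (Subgroup.mem_bot.mp (hyc ⟨s, hs⟩))
    simp only [Subgroup.coe_mul, InvMemClass.coe_inv, Subgroup.coe_one] at e
    rw [mul_inv_eq_one, mul_inv_eq_iff_eq_mul] at e
    exact e, by simpa using congrArg Subtype.val hyp⟩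
  have hyN : (y : H) ∈ N := (Subgroup.mem_subgroupOf.mp hy).2
  set Y := Subgroup.zpowers (y : H) with hY
  set M := Subgroup.normalizer (Y : Set H) with hM
  have hYp : IsPGroup p ↥Y := hT.to_le (Subgroup.zpowers_le.mpr hyS.1.1)
  have hMc : CfsgLib.CharP.HasCharP p ↥M :=
    hH.2 Y hYp fun e => hy1 (Subtype.ext (Subgroup.zpowers_eq_bot.mp e))
  have hcomm : ∀ g, g * (y : H) = (y : H) * g → g ∈ M := by
    intro g hg
    refine mem_normalizer_iff_map_conj_eq.mpr ?_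
    rw [hY, MonoidHom.map_zpowers]
    congr 1
    show g * (y : H) * g⁻¹ = y
    rw [hg, mul_inv_cancel_right]
  have hSM : S ≤ M := fun s hs => hcomm s (hyS.2.1 s hs)
  have hxM : (∀ z, Zel p (S ⊓ N) z → z * x = x * z) ∨ (∀ z, Zel p S z → z * x = x * z) → x ∈ M := by
    rintro (h | h) <;> refine hcomm x (h (y : H) ?_).symm
    · exact ⟨Subgroup.mem_inf.mpr ⟨hyS.1, hyN⟩, fun u hu => hyS.2.1 u hu.1, hyS.2.2⟩
    · exact hyS
  have hsub : ∀ X : Subgroup H, X.IsSubnormal → ((X ⊓ M).subgroupOf M).IsSubnormal := fun X hX => by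
    rw [Subgroup.inf_subgroupOf_right]; exact hX.subgroupOf
  have hrel : ∀ X U : Subgroup H, U ≤ X → U ≤ M → ¬ p ∣ U.relIndex X → ¬ p ∣ U.relIndex (X ⊓ M) := fun X U hUX hUM h hd =>
    h (by rw [← Subgroup.relIndex_mul_relIndex U (X ⊓ M) X (le_inf hUX hUM) inf_le_left]; exact hd.mul_right _)
  have hSi : ¬ p ∣ S.relIndex L := sylow_of_subnormal hTi hL
  have hSNi : ¬ p ∣ (S ⊓ N).relIndex N := hSN ▸ sylow_of_subnormal hTi hN
  have hSNM : S ⊓ (N ⊓ M) = S ⊓ N :=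
    le_antisymm (inf_le_inf_left _ inf_le_left) (le_inf inf_le_left (le_inf inf_le_right (inf_le_left.trans hSM)))
  have key := fun hxm => step_charP (p := p) (L ⊓ M) (N ⊓ M) S (charP_sub hMc inf_le_right (hsub L hL))
    (charP_sub hMc inf_le_right (hsub N hN)) (inf_le_inf_right _ hNL)
    (le_normalizer_of_conj_mem fun l hl n hn => Subgroup.mem_inf.mpr
      ⟨(conj_mem_iff (hLn hl.1)).mpr hn.1, mul_mem (mul_mem hl.2 hn.2) (inv_mem hl.2)⟩)
    hSp (le_inf inf_le_right hSM) (hrel L S inf_le_right hSM hSi)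
    (by rw [hSNM]; exact hrel N (S ⊓ N) inf_le_right (inf_le_left.trans hSM) hSNi)
    (x := x) (Subgroup.mem_inf.mpr ⟨hx, hxm⟩)
  rw [hSNM] at key
  rw [hSN]
  exact ⟨fun h => (key (hxM (Or.inl h))).1 h, fun h => (key (hxM (Or.inr h))).2 h⟩

/-- Fixing the centre of the Sylow subgroup does not depend on the subnormal subgroup. -/
theorem subnormal_iff {H : Type*} [Group H] [Finite H] {p : ℕ} [hp : Fact p.Prime] (hH : Cfsg.IsOfLocalCharacteristic p H)
    {T : Subgroup H} (hT : IsPGroup p ↥T) (hTi : ¬ p ∣ T.index) :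
    ∀ (n : ℕ) (L : Subgroup H), Nat.card ↥L = n → L.IsSubnormal → ∀ N : Subgroup H, N.IsSubnormal → N ≤ L →
      ∀ x ∈ N, (∃ k, orderOf x = p ^ k) →
        ((∀ z, Zel p (T ⊓ N) z → z * x = x * z) ↔ ∀ z, Zel p (T ⊓ L) z → z * x = x * z) := by
  intro n
  induction n using Nat.strong_induction_on with
  | _ n ih =>
    intro L hn hL N hN hNL x hx hxp
    rcases (hN.subgroupOf (K := L)).lt_normal with h | ⟨K, hK, hNK, hKt⟩
    · rw [le_antisymm hNL (Subgroup.subgroupOf_eq_top.mp h)]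
    · set K' := K.map L.subtype with hK'
      have hK'L : K' ≤ L := Subgroup.map_subtype_le K
      have hNK' : N ≤ K' := fun y hy => ⟨⟨y, hNL hy⟩, hNK (Subgroup.mem_subgroupOf.mpr hy), rfl⟩
      have hKn : L ≤ Subgroup.normalizer (K' : Set H) := by
        refine le_normalizer_of_conj_mem ?_
        rintro l hl _ ⟨k, hk, rfl⟩
        exact ⟨_, hK.conj_mem k hk ⟨l, hl⟩, rfl⟩
      have hKs : K'.IsSubnormal :=
        Subgroup.IsSubnormal.step K' L hK'L hL ((Subgroup.normal_subgroupOf_iff_le_normalizer hK'L).mpr hKn)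
      have hlt : Nat.card ↥K' < n := by
        rw [hK', Subgroup.card_map_of_injective L.subtype_injective, ← hn]
        exact lt_of_le_of_ne (Subgroup.card_le_card_group K) fun e => hKt.ne (Subgroup.eq_top_of_card_eq K e)
      exact (ih _ hlt K' rfl hKs N hN hNK' x hx hxp).trans (step hH hT hTi hL hKs hK'L hKn (hNK' hx) hxp)


/-- Let H be a finite group of local characteristic p, T a Sylow p-subgroup, and L₁, L₂ subnormal subgroups of H generating the subgroup L. Then the point stabilizer of L with respect to T ∩ L is generated by the point stabilizers of L₁ and L₂ with respect to T ∩ L₁ and T ∩ L₂ (point stabilizer of X w.r.t. R: the subgroup generated by the p-elements of X centralizing Ω₁(Z(R))). -/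
theorem result {H : Type*} [Group H] [Finite H] {p : ℕ} [Fact p.Prime] (hH : Cfsg.IsOfLocalCharacteristic p H) (T : Sylow p H) (L₁ L₂ : Subgroup H) (h₁ : L₁.IsSubnormal) (h₂ : L₂.IsSubnormal) : Cfsg.pointStabilizer p (L₁ ⊔ L₂) ((T : Subgroup H) ⊓ (L₁ ⊔ L₂)) = Cfsg.pointStabilizer p L₁ ((T : Subgroup H) ⊓ L₁) ⊔ Cfsg.pointStabilizer p L₂ ((T : Subgroup H) ⊓ L₂) := by
  classical
  obtain ⟨P, hP⟩ : ∃ P : Subgroup H → Subgroup H,
      P = fun L => Cfsg.pointStabilizer p L ((T : Subgroup H) ⊓ L) := ⟨_, rfl⟩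
  suffices h : P (L₁ ⊔ L₂) = P L₁ ⊔ P L₂ by simpa [hP] using h
  obtain ⟨L, hL⟩ : ∃ L, L = L₁ ⊔ L₂ := ⟨_, rfl⟩
  have hLs : L.IsSubnormal := hL ▸ CfsgLib.GroupB.Subnormal.sup h₁ h₂
  rw [← hL]
  have hgen : ∀ N : Subgroup H, ∀ x, x ∈ N → (∃ k, orderOf x = p ^ k) →
      (∀ z, Zel p ((T : Subgroup H) ⊓ N) z → z * x = x * z) → x ∈ P N := by
    intro N x hx hxp h
    rw [hP]
    exact Subgroup.subset_closure ⟨Subgroup.mem_inf.mpr ⟨hx, (mem_centralizer_omega p _ x).mpr h⟩, hxp⟩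
  have hle : ∀ N : Subgroup H, N.IsSubnormal → N ≤ L → P N ≤ P L := by
    intro N hN hNL
    rw [hP]
    refine (Subgroup.closure_le _).mpr ?_
    rintro x ⟨hx, hxp⟩
    obtain ⟨hx1, hx2⟩ := Subgroup.mem_inf.mp hx
    exact Subgroup.subset_closure ⟨Subgroup.mem_inf.mpr ⟨hNL hx1, (mem_centralizer_omega p _ x).mpr
      ((subnormal_iff hH T.2 T.not_dvd_index _ L rfl hLs N hN hNL x hx1 hxp).mp
        ((mem_centralizer_omega p _ x).mp hx2))⟩, hxp⟩
  refine le_antisymm ?_ (sup_le (hle L₁ h₁ (hL ▸ le_sup_left)) (hle L₂ h₂ (hL ▸ le_sup_right)))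
  -- the group C of elements of L fixing the centre of its Sylow subgroup
  set S := (T : Subgroup H) ⊓ L with hS
  set C := L ⊓ Subgroup.centralizer (Cfsg.omegaOne p (S ⊓ Subgroup.centralizer (S : Set H)) : Set H) with hC
  have hSC : S ≤ C := fun s hs => Subgroup.mem_inf.mpr ⟨hs.2, (mem_centralizer_omega p _ s).mpr fun z hz => (hz.2.1 s hs).symm⟩
  have hpP : ∀ N : Subgroup H, N.IsSubnormal → N ≤ L →
      P N = Subgroup.closure {x : H | x ∈ N ⊓ C ∧ ∃ k, orderOf x = p ^ k} := by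
    intro N hN hNL
    rw [hP]
    refine le_antisymm ((Subgroup.closure_le _).mpr ?_) ((Subgroup.closure_le _).mpr ?_)
    · rintro x ⟨hx, hxp⟩
      obtain ⟨hx1, hx2⟩ := Subgroup.mem_inf.mp hx
      exact Subgroup.subset_closure ⟨Subgroup.mem_inf.mpr ⟨hx1, Subgroup.mem_inf.mpr ⟨hNL hx1, (mem_centralizer_omega p _ x).mpr
        ((subnormal_iff hH T.2 T.not_dvd_index _ L rfl hLs N hN hNL x hx1 hxp).mp
          ((mem_centralizer_omega p _ x).mp hx2))⟩⟩, hxp⟩
    · rintro x ⟨hx, hxp⟩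
      obtain ⟨hx1, hx2⟩ := Subgroup.mem_inf.mp hx
      exact Subgroup.subset_closure ⟨Subgroup.mem_inf.mpr ⟨hx1, (mem_centralizer_omega p _ x).mpr
        ((subnormal_iff hH T.2 T.not_dvd_index _ L rfl hLs N hN hNL x hx1 hxp).mpr
          ((mem_centralizer_omega p _ x).mp (Subgroup.mem_inf.mp hx2).2))⟩, hxp⟩
  have hsn : ∀ N : Subgroup H, N.IsSubnormal → N ≤ L → ((P N).subgroupOf C).IsSubnormal ∧ P N ≤ C := by
    intro N hN hNL
    rw [hpP N hN hNL]
    have hle' : Subgroup.closure {x : H | x ∈ N ⊓ C ∧ ∃ k, orderOf x = p ^ k} ≤ N ⊓ C :=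
      (Subgroup.closure_le _).mpr fun x hx => hx.1
    refine ⟨?_, hle'.trans inf_le_right⟩
    refine Subgroup.IsSubnormal.step _ (N.subgroupOf C) (fun x hx => (hle' hx).1) hN.subgroupOf
      ((Subgroup.normal_subgroupOf_iff_le_normalizer (fun x hx => (hle' hx).1 :
        (Subgroup.closure {x : H | x ∈ N ⊓ C ∧ ∃ k, orderOf x = p ^ k}).subgroupOf C ≤ N.subgroupOf C)).mpr ?_)
    refine le_normalizer_of_conj_mem fun n hn x hx => ?_
    have hmap : (Subgroup.closure {x : H | x ∈ N ⊓ C ∧ ∃ k, orderOf x = p ^ k}).map (MulAut.conj (n : H)).toMonoidHom ≤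
        Subgroup.closure {x : H | x ∈ N ⊓ C ∧ ∃ k, orderOf x = p ^ k} := by
      rw [MonoidHom.map_closure, Subgroup.closure_le]
      rintro _ ⟨y, ⟨hy, k, hk⟩, rfl⟩
      have hnN : (n : H) ∈ N := Subgroup.mem_subgroupOf.mp hn
      exact Subgroup.subset_closure ⟨mul_mem (mul_mem (Subgroup.mem_inf.mpr ⟨hnN, n.2⟩) hy)
        (inv_mem (Subgroup.mem_inf.mpr ⟨hnN, n.2⟩)), k,
        (orderOf_injective (MulAut.conj (n : H)).toMonoidHom (MulAut.conj (n : H)).injective y).trans hk⟩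
    exact Subgroup.mem_subgroupOf.mpr (hmap ⟨x, Subgroup.mem_subgroupOf.mp hx, rfl⟩)
  obtain ⟨h1s, h1C⟩ := hsn L₁ h₁ (hL ▸ le_sup_left)
  obtain ⟨h2s, h2C⟩ := hsn L₂ h₂ (hL ▸ le_sup_right)
  have hXs : ((P L₁ ⊔ P L₂).subgroupOf C).IsSubnormal := by
    rw [Subgroup.subgroupOf_sup h1C h2C]; exact CfsgLib.GroupB.Subnormal.sup h1s h2s
  -- it contains a Sylow subgroup of C
  have hSX : S ≤ P L₁ ⊔ P L₂ := by
    rw [hS, hL, sylow_sup T.2 T.not_dvd_index h₁ h₂]
    refine sup_le_sup ?_ ?_ <;>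
    · intro s hs
      obtain ⟨k, hk⟩ := IsPGroup.iff_orderOf.mp T.2 ⟨s, hs.1⟩
      exact hgen _ s hs.2 ⟨k, by rwa [Subgroup.orderOf_mk] at hk⟩ fun z hz => (hz.2.1 s hs).symm
  rw [hpP L hLs le_rfl, Subgroup.closure_le]
  rintro x ⟨hx, k, hk⟩
  -- every Sylow subgroup of C lies in a subnormal subgroup of p'-index
  have hxC : x ∈ C := (Subgroup.mem_inf.mp hx).2
  obtain ⟨U, hU⟩ := (show IsPGroup p ↥(Subgroup.zpowers (⟨x, hxC⟩ : ↥C)) from
    IsPGroup.of_card (n := k) (by rw [Nat.card_zpowers, Subgroup.orderOf_mk, hk])).exists_le_sylow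
  have hSCi : ¬ p ∣ (S.subgroupOf C).index := fun h => sylow_of_subnormal T.not_dvd_index hLs
    (h.trans (by
      rw [← hS, ← Subgroup.relIndex_mul_relIndex S C L hSC inf_le_left]
      exact Dvd.intro _ rfl))
  have hcardU : Nat.card ↥(U : Subgroup ↥C) = Nat.card ↥(S.subgroupOf C) := by
    rw [U.card_eq_multiplicity]
    exact ((((T.2.to_le inf_le_left : IsPGroup p ↥S).comap_subtype (K := C)).toSylow hSCi).card_eq_multiplicity).symm
  have hUX : (U : Subgroup ↥C) ≤ (P L₁ ⊔ P L₂).subgroupOf C := by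
    have hc1 := card_sylow_inf U.2 U.not_dvd_index hXs
    have hle2 : Nat.card ↥(S.subgroupOf C) ≤ p ^ (Nat.card ↥((P L₁ ⊔ P L₂).subgroupOf C)).factorization p := by
      obtain ⟨a, ha⟩ := ((T.2.to_le inf_le_left : IsPGroup p ↥S).comap_subtype (K := C)).exists_card_eq
      have hd : p ^ a ∣ Nat.card ↥((P L₁ ⊔ P L₂).subgroupOf C) :=
        ha ▸ Subgroup.card_dvd_of_le (fun s hs => hSX hs)
      change Nat.card ↥(S.comap C.subtype) ≤ _
      rw [ha]
      exact Nat.pow_le_pow_right (Fact.out : p.Prime).pos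
        (((Fact.out : p.Prime).pow_dvd_iff_le_factorization Nat.card_pos.ne').mp hd)
    have heq := Subgroup.eq_of_le_of_card_ge (inf_le_left : (U : Subgroup ↥C) ⊓ (P L₁ ⊔ P L₂).subgroupOf C ≤ U)
      (by rw [hc1, hcardU]; exact hle2)
    exact heq ▸ inf_le_right
  exact Subgroup.mem_subgroupOf.mp (hUX (hU (Subgroup.mem_zpowers _)))

end Cfsg.Agent.S2806
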