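import Cfsg.Statements.S2809
import Cfsg.Agent.Lib.LocalBasic

set_option autoImplicit false
open Cfsg

namespace Cfsg.Agent.S2809
open CfsgLib.LocalBasic
open scoped commutatorElement

/-- Let H be a finite group, p a prime, R a p-subgroup of H with C_H(R) ≤ R, and L a subgroup of N_H(R) acting nilpotently on R (some iterated commutator [R, L, …, L] is trivial). Then L is a p-group. -/
theorem result {H : Type*} [Group H] [Finite H] {p : ℕ} [Fact p.Prime] (R : Subgroup H) (hR : IsPGroup p ↥R) (hC : Subgroup.centralizer (R : Set H) ≤ R) (L : Subgroup H) (hL : L ≤ Subgroup.normalizer (R : Set H)) (hnil : ∃ n : ℕ, Cfsg.iterCommutator R L n = ⊥) : IsPGroup p ↥L := by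
  obtain ⟨n, hn⟩ := hnil
  have hf : ∀ i, Cfsg.iterCommutator R L i ≤ R := by
    intro i
    induction i with
    | zero => exact le_rfl
    | succ i ih =>
      refine (Subgroup.commutator_mono ih le_rfl).trans ?_
      rw [← Subgroup.le_normalizer_iff_commutator_le_left]
      exact hL
  refine isPGroup_of_coprime_elements fun x hx => ?_
  have hx' : (orderOf (x : H)).Coprime p := by rwa [Subgroup.orderOf_coe]
  have hc := centralizes_of_series (Cfsg.iterCommutator R L) n hn (fun i _ => hR.to_le (hf _)) hx'
    (fun i _ y hy => (Subgroup.commutator_comm (Cfsg.iterCommutator R L i) L).ge (Subgroup.commutator_mem_commutator x.2 hy))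
  have hxR : (x : H) ∈ R := hC (Subgroup.mem_centralizer_iff.mpr fun y hy => (hc y hy).symm)
  obtain ⟨k, hk⟩ := hR ⟨x, hxR⟩
  have hk' : (x : H) ^ p ^ k = 1 := by simpa using congrArg Subtype.val hk
  have h1 : orderOf (x : H) = 1 :=
    Nat.eq_one_of_dvd_coprimes (hx'.pow_right k) dvd_rfl (orderOf_dvd_of_pow_eq_one hk')
  exact Subtype.ext (orderOf_eq_one_iff.mp h1)

end Cfsg.Agent.S2809
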