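import Cfsg.Statements.S2810
import Cfsg.Agent.Lib.LocalBasic
import Cfsg.Agent.Lib.Core

set_option autoImplicit false
open Cfsg

namespace Cfsg.Agent.S2810
open CfsgLib.LocalBasic
open scoped commutatorElement

theorem acts_trivially_iff {H : Type*} [Group H] (A B L : Subgroup H) [A.Normal] :
    ⁅B, L⁆ ≤ A ↔ L ≤ (Subgroup.centralizer ((B.map (QuotientGroup.mk' A) : Subgroup (H ⧸ A)) : Set (H ⧸ A))).comap (QuotientGroup.mk' A) := by
  rw [← Subgroup.map_le_iff_le_comap, ← Subgroup.commutator_eq_bot_iff_le_centralizer, ← Subgroup.map_commutator,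
    Subgroup.map_eq_bot_iff, QuotientGroup.ker_mk', Subgroup.commutator_comm]


/-- Let H be a finite group of characteristic p and L a subgroup of H centralizing every factor of some H-invariant chain 1 = A₀ ≤ A₁ ≤ … ≤ Aₙ = O_p(H) of normal subgroups (that is, [A_{i+1}, L] ≤ Aᵢ for each i). Then L ≤ O_p(H). -/
theorem result {H : Type*} [Group H] [Finite H] {p : ℕ} [Fact p.Prime] (hchar : Subgroup.centralizer (Cfsg.pCore p H : Set H) ≤ Cfsg.pCore p H) (L : Subgroup H) (n : ℕ) (A : Fin (n + 1) → Subgroup H) (h0 : A 0 = ⊥) (hn : A (Fin.last n) = Cfsg.pCore p H) (hmono : Monotone A) (hnorm : ∀ i, (A i).Normal) (hcent : ∀ i : Fin n, ⁅A i.succ, L⁆ ≤ A i.castSucc) : L ≤ Cfsg.pCore p H := by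
  have hp : p.Prime := Fact.out
  haveI := fun i => hnorm i
  let S : Subgroup H := ⨅ i : Fin n, (Subgroup.centralizer (((A i.succ).map (QuotientGroup.mk' (A i.castSucc))
    : Subgroup (H ⧸ A i.castSucc)) : Set (H ⧸ A i.castSucc))).comap (QuotientGroup.mk' (A i.castSucc))
  have hSn : S.Normal := Subgroup.normal_iInf_normal fun i => by
    haveI : ((A i.succ).map (QuotientGroup.mk' (A i.castSucc))).Normal := (hnorm _).map _ (QuotientGroup.mk'_surjective _)
    infer_instance
  have hLS : L ≤ S := le_iInf fun i => (acts_trivially_iff _ _ _).mp (hcent i)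
  have hSi : ∀ i : Fin n, ⁅A i.succ, S⁆ ≤ A i.castSucc := fun i => (acts_trivially_iff _ _ _).mpr (iInf_le _ i)
  have hSp : IsPGroup p ↥S := by
    refine isPGroup_of_coprime_elements fun x hx => ?_
    have hx' : (orderOf (x : H)).Coprime p := by rwa [Subgroup.orderOf_coe]
    have hA : ∀ i, A i ≤ Cfsg.pCore p H := fun i => hn ▸ hmono (Fin.le_last i)
    let f : ℕ → Subgroup H := fun k => A ⟨n - k, by omega⟩
    have hfm : f n = ⊥ := by
      simp only [f, Nat.sub_self]
      exact h0
    have hc := centralizes_of_series f n hfm (fun i _ => (CfsgLib.Core.isPGroup_pCore p).to_le (hA _)) hx'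
      (fun i hi y hy => by
        have h := hSi ⟨n - (i + 1), by omega⟩
        have e1 : (⟨n - (i + 1), by omega⟩ : Fin n).succ = (⟨n - i, by omega⟩ : Fin (n + 1)) := Fin.ext (by simp; omega)
        rw [e1, Subgroup.commutator_comm] at h
        exact h (Subgroup.commutator_mem_commutator x.2 hy))
    have hxQ : (x : H) ∈ Cfsg.pCore p H := hchar (Subgroup.mem_centralizer_iff.mpr fun y hy => (hc y (by
      simp only [f, Nat.sub_zero]
      rw [show (⟨n, by omega⟩ : Fin (n + 1)) = Fin.last n from rfl, hn]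
      exact hy)).symm)
    obtain ⟨k, hk⟩ := CfsgLib.Core.isPGroup_pCore (G := H) p ⟨x, hxQ⟩
    have hk' : (x : H) ^ p ^ k = 1 := by simpa using congrArg Subtype.val hk
    have h1 : orderOf (x : H) = 1 :=
      Nat.eq_one_of_dvd_coprimes (hx'.pow_right k) dvd_rfl (orderOf_dvd_of_pow_eq_one hk')
    exact Subtype.ext (orderOf_eq_one_iff.mp h1)
  exact hLS.trans (CfsgLib.Core.le_pCore hSn hSp)

end Cfsg.Agent.S2810
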