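import Cfsg.Statements.S2812
import Cfsg.Agent.Lib.GenFitting
import Cfsg.Agent.Lib.GroupB.Coprime

set_option autoImplicit false
open Cfsg

namespace Cfsg.Agent.S2812

open scoped commutatorElement
open CfsgLib.GroupB.Coprime

theorem conj_le_of_normalizer {G : Type*} [Group G] {U : Subgroup G} {g : G} (hg : g ∈ Subgroup.normalizer (U : Set G)) :
    U.map (MulAut.conj g).toMonoidHom ≤ U := (mem_normalizer_iff_map_conj_eq.mp hg).le

theorem main {G : Type*} [Group G] [Finite G] {p : ℕ} [Fact p.Prime] (H : Subgroup G) (hO : Cfsg.pCore p ↥H = ⊥)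
    (Y : Subgroup G) (hY : IsPGroup p ↥Y) (hYH : Y ≤ Subgroup.normalizer (H : Set G)) (L : Subgroup G)
    (hLF : L ≤ (Cfsg.generalizedFittingSubgroup ↥H).map H.subtype) (hLsn : (L.subgroupOf H).IsSubnormal)
    (hYL : Y ≤ Subgroup.normalizer (L : Set G)) :
    ⁅L, Y⁆ ⊔ (L ⊓ Subgroup.centralizer (Y : Set G)) = L ∧ ⁅L, Y⁆ = ⁅⁅L, Y⁆, Y⁆ := by
  classical
  have hLH : L ≤ H := hLF.trans (Subgroup.map_subtype_le _)
  set S := L.subgroupOf H with hS
  haveI hFn : (Cfsg.fittingSubgroup ↥H).Normal := CfsgLib.Core.fittingSubgroup_normal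
  haveI hFc : (Cfsg.fittingSubgroup ↥H).Characteristic := CfsgLib.Core.fittingSubgroup_characteristic
  set Fp := (Cfsg.fittingSubgroup ↥H).map H.subtype ⊓ L with hFp
  -- `F(H)` is a p'-group
  have hFcop : (Nat.card ↥(Cfsg.fittingSubgroup ↥H)).Coprime p := by
    refine Nat.Coprime.symm ((Fact.out : p.Prime).coprime_iff_not_dvd.mpr fun hdvd => ?_)
    haveI := CfsgLib.Core.isNilpotent_fittingSubgroup (G := ↥H)
    have T : Sylow p ↥(Cfsg.fittingSubgroup ↥H) := default
    haveI : (T : Subgroup ↥(Cfsg.fittingSubgroup ↥H)).Normal :=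
      (Group.isNilpotent_of_finite_tfae.out 0 3 rfl rfl).mp (inferInstance : Group.IsNilpotent ↥(Cfsg.fittingSubgroup ↥H)) p inferInstance T
    have h := CfsgLib.Core.isPGroup_subnormal_le_pCore (CfsgLib.Components.isSubnormal_map_subtype
      (Subgroup.Normal.isSubnormal (H := (T : Subgroup ↥(Cfsg.fittingSubgroup ↥H))) inferInstance)
      (Subgroup.Normal.isSubnormal (H := Cfsg.fittingSubgroup ↥H) inferInstance)) (T.2.map (Cfsg.fittingSubgroup ↥H).subtype)
    rw [hO, le_bot_iff, Subgroup.map_eq_bot_iff_of_injective _ (Subgroup.subtype_injective _)] at h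
    exact T.ne_bot_of_dvd_card hdvd h
  have hFpcop : (Nat.card ↥Y).Coprime (Nat.card ↥Fp) := by
    obtain ⟨k, hk⟩ := hY.exists_card_eq
    rw [hk]
    refine (Nat.Coprime.coprime_dvd_left ?_ hFcop).symm.pow_left k
    exact (Subgroup.card_dvd_of_le inf_le_left).trans (Subgroup.card_map_of_injective H.subtype_injective).dvd
  have hYFp : Y ≤ Subgroup.normalizer (Fp : Set G) := by
    refine le_normalizer_of_conj_mem fun y hy x hx => Subgroup.mem_inf.mpr ⟨?_, (conj_mem_iff (hYL hy)).mpr hx.2⟩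
    obtain ⟨u, hu, hux⟩ := hx.1
    let e : ↥H ≃* ↥H :=
      { toFun := fun h => ⟨y * h * y⁻¹, (conj_mem_iff (hYH hy)).mpr h.2⟩
        invFun := fun h => ⟨y⁻¹ * h * y, by
          have := (conj_mem_iff (Subgroup.inv_mem _ (hYH hy))).mpr h.2
          simpa using this⟩
        left_inv := fun h => Subtype.ext (by simp [mul_assoc])
        right_inv := fun h => Subtype.ext (by simp [mul_assoc])
        map_mul' := fun a b => Subtype.ext (by simp [mul_assoc]) }
    refine ⟨e u, (Subgroup.characteristic_iff_map_eq.mp hFc e).le ⟨u, hu, rfl⟩, ?_⟩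
    show y * (u : G) * y⁻¹ = y * x * y⁻¹
    rw [← hux]; rfl
  have hYsol : Group.IsSolvable ↥Y := by
    have := hY.isNilpotent
    infer_instance
  -- generation of `L`
  have hgen : ∀ U : Subgroup G, Fp ≤ U →
      (∀ K : Subgroup ↥H, Cfsg.IsComponent K → K ≤ S → K.map H.subtype ≤ U) → L ≤ U := by
    intro U hFU hK
    have hSle : S ≤ Cfsg.generalizedFittingSubgroup ↥H := fun s hs => by
      obtain ⟨u, hu, hus⟩ := hLF (Subgroup.mem_subgroupOf.mp hs)
      rwa [← Subtype.ext (show (u : G) = s from hus)]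
    have h := Subgroup.map_mono (f := H.subtype) (CfsgLib.GenFitting.le_sup_of_subnormal_le_genFitting hLsn hSle)
    rw [CfsgLib.Components.subgroupOf_map hLH, Subgroup.map_sup] at h
    refine h.trans (sup_le ?_ ?_)
    · rw [Subgroup.map_le_iff_le_comap, Subgroup.map_le_iff_le_comap]
      refine sSup_le fun K hKc => ?_
      rw [← Subgroup.map_le_iff_le_comap, ← Subgroup.map_le_iff_le_comap]
      exact hK _ ((CfsgLib.Components.component_iff_map hLsn K).mp hKc) (Subgroup.map_subtype_le K)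
    · rintro _ ⟨f, hf, rfl⟩
      exact hFU (Subgroup.mem_inf.mpr ⟨⟨f, hf.1, rfl⟩, hf.2⟩)
  -- a component commuting with a normal piece
  have hcomp : ∀ (K : Subgroup ↥H) (V : Subgroup G), Cfsg.IsComponent K → V ≤ H → (V.subgroupOf H).IsSubnormal →
      ⁅K.map H.subtype, Y⁆ ≤ V → K.map H.subtype ≤ V ∨ ⁅K.map H.subtype, Y⁆ = ⊥ := by
    intro K V hKc hVH hVsn hKV
    rcases CfsgLib.Components.component_cases hKc hVsn with h | h
    · left
      rintro _ ⟨k, hk, rfl⟩
      exact Subgroup.mem_subgroupOf.mp (h hk)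
    · right
      have h0 := congrArg (Subgroup.map H.subtype) h
      rw [Subgroup.map_commutator, CfsgLib.Components.subgroupOf_map hVH, Subgroup.map_bot] at h0
      have h1 : ⁅⁅K.map H.subtype, Y⁆, K.map H.subtype⁆ = ⊥ := eq_bot_iff.mpr
        ((Subgroup.commutator_mono hKV le_rfl).trans (le_of_eq (by rw [Subgroup.commutator_comm]; exact h0)))
      have h2 : ⁅⁅Y, K.map H.subtype⁆, K.map H.subtype⁆ = ⊥ := by rw [Subgroup.commutator_comm Y]; exact h1
      have h3 := Subgroup.commutator_commutator_eq_bot_of_rotate h1 h2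
      rwa [← Subgroup.map_commutator, CfsgLib.Components.component_perfect hKc] at h3
  set D := ⁅L, Y⁆ with hD
  set D₁ := ⁅D, Y⁆ with hD₁
  have hDL : D ≤ L := commutator_le_of_le_normalizer hYL
  have hDn : L ≤ Subgroup.normalizer (D : Set G) := le_sup_left.trans (le_normalizer_commutator L Y)
  have hYD : Y ≤ Subgroup.normalizer (D : Set G) := le_sup_right.trans (le_normalizer_commutator L Y)
  have hsn : ∀ V M : Subgroup G, V ≤ M → M ≤ H → (M.subgroupOf H).IsSubnormal → M ≤ Subgroup.normalizer (V : Set G) →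
      (V.subgroupOf H).IsSubnormal := fun V M hVM hMH hM hn =>
    CfsgLib.Components.subnormal_of_normalized (fun x hx => hVM hx) hM fun m hm =>
      Subgroup.mem_normalizer_iff.mpr fun x => by
        simp only [Subgroup.mem_subgroupOf]
        exact Subgroup.mem_normalizer_iff.mp (hn (Subgroup.mem_subgroupOf.mp hm)) x
  have hDsn := hsn D L hDL hLH hLsn hDn
  have hD₁D : D₁ ≤ D := commutator_le_of_le_normalizer hYD
  have hD₁n : D ≤ Subgroup.normalizer (D₁ : Set G) := le_sup_left.trans (le_normalizer_commutator D Y)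
  have hD₁sn := hsn D₁ D hD₁D (hDL.trans hLH) hDsn hD₁n
  have hKL : ∀ K : Subgroup ↥H, K ≤ S → K.map H.subtype ≤ L := by
    rintro K hKS _ ⟨k, hk, rfl⟩
    exact Subgroup.mem_subgroupOf.mp (hKS hk)
  have h1 : D ⊔ (L ⊓ Subgroup.centralizer (Y : Set G)) = L := by
    refine le_antisymm (sup_le hDL inf_le_left) (hgen _ ?_ fun K hKc hKS => ?_)
    · calc Fp = (Fp ⊓ Subgroup.centralizer (Y : Set G)) ⊔ ⁅Fp, Y⁆ := (centralizer_sup_commutator hYFp hFpcop (Or.inr hYsol)).symm
        _ ≤ _ := sup_le (le_sup_of_le_right (inf_le_inf_right _ inf_le_right))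
          (le_sup_of_le_left (Subgroup.commutator_mono inf_le_right le_rfl))
    · rcases hcomp K D hKc (hDL.trans hLH) hDsn (Subgroup.commutator_mono (hKL K hKS) le_rfl) with h | h
      · exact h.trans le_sup_left
      · exact le_sup_of_le_right (le_inf (hKL K hKS) (Subgroup.commutator_eq_bot_iff_le_centralizer.mp h))
  refine ⟨h1, le_antisymm ?_ hD₁D⟩
  have hLn : L ≤ Subgroup.normalizer (D₁ : Set G) := by
    rw [← h1]
    refine sup_le hD₁n fun c hc => ?_
    refine mem_normalizer_iff_map_conj_eq.mpr (Subgroup.eq_of_le_of_card_ge ?_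
      (Subgroup.card_map_of_injective (f := (MulAut.conj c).toMonoidHom) (MulAut.conj c).injective).ge)
    rw [hD₁, Subgroup.map_commutator]
    refine Subgroup.commutator_mono (conj_le_of_normalizer (hDn hc.1)) ?_
    rintro _ ⟨y, hy, rfl⟩
    show c * y * c⁻¹ ∈ Y
    rw [← Subgroup.mem_centralizer_iff.mp hc.2 y hy, mul_inv_cancel_right]; exact hy
  -- elements whose commutators with Y lie in D₁
  let U : Subgroup G :=
    { carrier := {l | l ∈ L ∧ ∀ y ∈ Y, ⁅l, y⁆ ∈ D₁}
      one_mem' := ⟨one_mem _, fun y _ => by simp⟩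
      mul_mem' := by
        rintro a b ⟨ha, ha'⟩ ⟨hb, hb'⟩
        refine ⟨mul_mem ha hb, fun y hy => ?_⟩
        rw [show ⁅a * b, y⁆ = a * ⁅b, y⁆ * a⁻¹ * ⁅a, y⁆ by simp only [commutatorElement_def]; group]
        exact mul_mem ((conj_mem_iff (hLn ha)).mpr (hb' y hy)) (ha' y hy)
      inv_mem' := by
        rintro a ⟨ha, ha'⟩
        refine ⟨inv_mem ha, fun y hy => ?_⟩
        rw [show ⁅a⁻¹, y⁆ = a⁻¹ * ⁅a, y⁆⁻¹ * a⁻¹⁻¹ by simp only [commutatorElement_def]; group]
        exact (conj_mem_iff (hLn (inv_mem ha))).mpr (inv_mem (ha' y hy)) }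
  have hLU : L ≤ U := by
    refine hgen U (fun f hf => ⟨hf.2, fun y hy => ?_⟩) fun K hKc hKS k hk => ⟨hKL K hKS hk, fun y hy => ?_⟩
    · have h2 := commutator_commutator_eq hYFp hFpcop (Or.inr hYsol)
      exact (Subgroup.commutator_mono (Subgroup.commutator_mono inf_le_right le_rfl) le_rfl)
        (h2.ge (Subgroup.commutator_mem_commutator hf hy))
    · rcases hcomp K D hKc (hDL.trans hLH) hDsn (Subgroup.commutator_mono (hKL K hKS) le_rfl) with h | h
      · exact Subgroup.commutator_mem_commutator (h hk) hy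
      · have h2 := Subgroup.commutator_mem_commutator hk hy
        rw [h, Subgroup.mem_bot] at h2
        rw [h2]; exact one_mem _
  rw [hD, Subgroup.commutator_le]
  exact fun l hl y hy => (hLU hl).2 y hy


/-- Let H be a subgroup of the finite group G with O_p(H) = 1, Y a p-subgroup of G normalizing H, and L a subgroup of the generalized Fitting subgroup F*(H) that is subnormal in H and normalized by Y. Then L = [L, Y]·C_L(Y) and [L, Y] = [L, Y, Y]. -/
theorem result {G : Type*} [Group G] [Finite G] {p : ℕ} [Fact p.Prime] (H : Subgroup G) (hO : Cfsg.pCore p ↥H = ⊥) (Y : Subgroup G) (hY : IsPGroup p ↥Y) (hYH : Y ≤ Subgroup.normalizer (H : Set G)) (L : Subgroup G) (hLF : L ≤ (Cfsg.generalizedFittingSubgroup ↥H).map H.subtype) (hLsn : (L.subgroupOf H).IsSubnormal) (hYL : Y ≤ Subgroup.normalizer (L : Set G)) : ⁅L, Y⁆ ⊔ (L ⊓ Subgroup.centralizer (Y : Set G)) = L ∧ ⁅L, Y⁆ = ⁅⁅L, Y⁆, Y⁆ := by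
  exact main H hO Y hY hYH L hLF hLsn hYL

end Cfsg.Agent.S2812
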