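import Cfsg.Statements.S2813
import Cfsg.Agent.Lib.LocalBasic
import Cfsg.Agent.Lib.Core

set_option autoImplicit false
open Cfsg

namespace Cfsg.Agent.S2813
open CfsgLib.LocalBasic
open scoped commutatorElement

/-- Let K be a subgroup of the finite group H with O_p(K) = 1 and Y a p-subgroup of N_H(K) with [K, Y, Y] = 1. Then [K, Y] = 1. -/
theorem result {H : Type*} [Group H] [Finite H] {p : ℕ} [Fact p.Prime] (K : Subgroup H) (hO : Cfsg.pCore p ↥K = ⊥) (Y : Subgroup H) (hY : IsPGroup p ↥Y) (hYK : Y ≤ Subgroup.normalizer (K : Set H)) (hq : ⁅⁅K, Y⁆, Y⁆ = ⊥) : ⁅K, Y⁆ = ⊥ := by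
  set M := ⁅K, Y⁆ with hM
  have hYc : Y ≤ Subgroup.centralizer (M : Set H) := by
    rw [Subgroup.le_centralizer_iff, ← Subgroup.commutator_eq_bot_iff_le_centralizer]
    exact hq
  have hMK : M ≤ K := by
    rw [hM, ← Subgroup.le_normalizer_iff_commutator_le_left]; exact hYK
  -- `K` normalizes `M`
  have hKM : K ≤ Subgroup.normalizer (M : Set H) := by
    intro k hk
    have hin : ∀ a ∈ K, ∀ g ∈ M, a * g * a⁻¹ ∈ M := by
      intro a ha g hg
      have : M ≤ M.comap (MulAut.conj a).toMonoidHom := by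
        refine Subgroup.commutator_le.mpr fun x hx y hy => ?_
        rw [Subgroup.mem_comap]
        have e : (MulAut.conj a).toMonoidHom ⁅x, y⁆ = ⁅a * x, y⁆ * ⁅a, y⁆⁻¹ := by
          simp only [MulEquiv.coe_toMonoidHom, MulAut.conj_apply, commutatorElement_def]; group
        rw [e]
        exact M.mul_mem (Subgroup.commutator_mem_commutator (K.mul_mem ha hx) hy) (M.inv_mem (Subgroup.commutator_mem_commutator ha hy))
      exact this hg
    rw [Subgroup.mem_normalizer_iff]
    intro g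
    exact ⟨hin k hk g, fun h => by simpa [mul_assoc] using hin k⁻¹ (K.inv_mem hk) _ h⟩
  have hcomm : M ≤ Subgroup.centralizer (M : Set H) := by
    refine Subgroup.commutator_le.mpr fun k hk y hy => ?_
    rw [commutatorElement_def]
    have h1 : k * y * k⁻¹ ∈ Subgroup.centralizer (M : Set H) :=
      (Subgroup.mem_normalizer_iff.mp (normalizer_centralizer_ge hKM hk) y).mp (hYc hy)
    exact Subgroup.mul_mem _ h1 (Subgroup.inv_mem _ (hYc hy))
  let S : Subgroup H :=
    { carrier := {g | g ∈ M ∧ ∃ j : ℕ, g ^ p ^ j = 1}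
      one_mem' := ⟨M.one_mem, 0, by simp⟩
      mul_mem' := by
        rintro a b ⟨ha, i, hi⟩ ⟨hb, j, hj⟩
        refine ⟨M.mul_mem ha hb, i + j, ?_⟩
        have hab : Commute a b := Subgroup.mem_centralizer_iff.mp (hcomm hb) a ha
        rw [hab.mul_pow, pow_add, pow_mul, hi, one_pow, one_mul, mul_comm, pow_mul, hj, one_pow]
      inv_mem' := by
        rintro a ⟨ha, i, hi⟩
        exact ⟨M.inv_mem ha, i, by rw [inv_pow, hi, inv_one]⟩ }
  have hMS : M ≤ S := by
    refine Subgroup.commutator_le.mpr fun k hk y hy => ?_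
    obtain ⟨j, hj⟩ := hY ⟨y, hy⟩
    have hj' : y ^ p ^ j = 1 := by simpa using congrArg Subtype.val hj
    refine ⟨Subgroup.commutator_mem_commutator hk hy, j, ?_⟩
    have hcy : Commute ⁅k, y⁆ y := Subgroup.mem_centralizer_iff.mp (hYc hy) _ (Subgroup.commutator_mem_commutator hk hy)
    have h : (⁅k, y⁆ * y) ^ p ^ j = k * y ^ p ^ j * k⁻¹ := by
      rw [← conj_pow, show ⁅k, y⁆ * y = k * y * k⁻¹ by rw [commutatorElement_def]; group]
    rwa [hcy.mul_pow, hj', mul_one, mul_one, mul_inv_cancel] at h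
  have hMp : IsPGroup p ↥M := fun g => by
    obtain ⟨-, j, hj⟩ := hMS g.2
    exact ⟨j, Subtype.ext (by simpa using hj)⟩
  have hn : (M.subgroupOf K).Normal := by
    rw [← Subgroup.normalizer_eq_top_iff, ← Subgroup.subgroupOf_normalizer_eq hMK, Subgroup.subgroupOf_eq_top]
    exact hKM
  have := CfsgLib.Core.le_pCore hn (hMp.comap_subtype (K := K))
  rw [hO, le_bot_iff, Subgroup.subgroupOf_eq_bot, disjoint_iff, inf_eq_left.mpr hMK] at this
  exact this

end Cfsg.Agent.S2813
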