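import Cfsg.Statements.S2814
import Cfsg.Agent.Lib.PResidual
import Cfsg.Agent.Lib.LocalBasic
import Cfsg.Agent.Lib.GroupB.Subnormal

set_option autoImplicit false
open Cfsg

namespace Cfsg.Agent.S2814

open CfsgLib.LocalBasic
open scoped commutatorElement

/-- Let A be a subgroup of the finite group H and K the subnormal closure of A (intersection of the subnormal subgroups containing A). Then K is the normal closure of A inside K and N_H(A) ≤ N_H(K); K = A·O^p(K), O^p(K) being generated by the elements of K of order prime to p; and if A is a p-group, O^p(K) = [O^p(K), A]. -/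
theorem result {H : Type*} [Group H] [Finite H] {p : ℕ} [Fact p.Prime] (A : Subgroup H) (K : Subgroup H) (hK : K = Cfsg.subnormalClosure A) : (Subgroup.normalClosure ((A.subgroupOf K : Subgroup ↥K) : Set ↥K)).map K.subtype = K ∧ Subgroup.normalizer (A : Set H) ≤ Subgroup.normalizer (K : Set H) ∧ A ⊔ (Cfsg.pResidual p ↥K).map K.subtype = K ∧ (IsPGroup p ↥A → ⁅(Cfsg.pResidual p ↥K).map K.subtype, A⁆ = (Cfsg.pResidual p ↥K).map K.subtype) := by
  classical
  subst hK
  set K := Cfsg.subnormalClosure A with hKdef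
  have hAK : A ≤ K := le_sInf fun L hL => hL.1
  have hfin : ∀ T : Finset (Subgroup H), (∀ L ∈ T, L.IsSubnormal) → (T.inf id).IsSubnormal := by
    intro T
    induction T using Finset.induction with
    | empty => intro _; exact Subgroup.IsSubnormal.top
    | insert L T _ ih =>
      intro h
      rw [Finset.inf_insert]
      exact Subgroup.IsSubnormal.inf (h L (Finset.mem_insert_self L T)) (ih fun M hM => h M (Finset.mem_insert_of_mem hM))
  have hKsn : K.IsSubnormal := by
    rw [hKdef, Cfsg.subnormalClosure, ← (Set.toFinite {L : Subgroup H | A ≤ L ∧ L.IsSubnormal}).coe_toFinset,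
      ← Finset.inf_id_eq_sInf]
    exact hfin _ fun L hL => ((Set.Finite.mem_toFinset _).mp hL).2
  have hmin : ∀ L : Subgroup H, A ≤ L → L.IsSubnormal → K ≤ L := fun L h1 h2 => sInf_le ⟨h1, h2⟩
  set A' := A.subgroupOf K with hA'
  set R := Cfsg.pResidual p ↥K with hR
  have htop : ∀ W : Subgroup ↥K, A' ≤ W → W.IsSubnormal → W = ⊤ := by
    intro W h1 h2
    rw [eq_top_iff]
    intro k _
    obtain ⟨w, hw, hwe⟩ := hmin (W.map K.subtype) (fun a ha => ⟨⟨a, hAK ha⟩, h1 ha, rfl⟩) (h2.trans' hKsn) k.2
    exact (Subtype.ext hwe : w = k) ▸ hw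
  have hKp : IsPGroup p (↥K ⧸ R) := CfsgLib.PResidual.isPGroup_quotient
  refine ⟨?_, ?_, ?_, fun hAp => ?_⟩
  · rw [htop _ Subgroup.le_normalClosure (Subgroup.normalClosure_normal.isSubnormal), ← MonoidHom.range_eq_map,
      Subgroup.range_subtype]
  · intro g hg
    refine mem_normalizer_of_conj_map_eq (Subgroup.eq_of_le_of_card_ge
      (hmin _ ?_ (CfsgLib.GroupB.Subnormal.conj hKsn g))
      (Subgroup.card_map_of_injective (MulEquiv.injective _)).le).symm
    exact (conj_map_eq_of_mem_normalizer hg).ge.trans (Subgroup.map_mono hAK)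
  · haveI := hKp.isNilpotent
    have h := htop ((A'.map (QuotientGroup.mk' R)).comap (QuotientGroup.mk' R)) (Subgroup.le_comap_map _ _)
      ((CfsgLib.GroupB.Subnormal.of_isNilpotent _).comap _)
    rw [Subgroup.comap_map_eq, QuotientGroup.ker_mk'] at h
    have h' := congrArg (Subgroup.map K.subtype) h
    rwa [Subgroup.map_sup, Subgroup.subgroupOf_map_subtype, inf_eq_left.mpr hAK, ← MonoidHom.range_eq_map,
      Subgroup.range_subtype] at h'
  · set N : Subgroup ↥K := ⁅R, A'⁆ with hN
    have hRN : R ≤ Subgroup.normalizer (N : Set ↥K) := by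
      intro r hr
      refine mem_normalizer_of_conj_map_eq (Subgroup.eq_of_le_of_card_ge ?_
        (Subgroup.card_map_of_injective (MulEquiv.injective _)).ge)
      rw [Subgroup.map_le_iff_le_comap, hN, Subgroup.commutator_le]
      intro r' hr' a ha
      show r * ⁅r', a⁆ * r⁻¹ ∈ N
      rw [show r * ⁅r', a⁆ * r⁻¹ = ⁅r * r', a⁆ * ⁅r, a⁆⁻¹ by simp only [commutatorElement_def]; group]
      exact N.mul_mem (Subgroup.commutator_mem_commutator (R.mul_mem hr hr') ha)
        (N.inv_mem (Subgroup.commutator_mem_commutator hr ha))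
    have hAR : A' ⊔ R = ⊤ := by
      haveI := hKp.isNilpotent
      have h := htop ((A'.map (QuotientGroup.mk' R)).comap (QuotientGroup.mk' R)) (Subgroup.le_comap_map _ _)
        ((CfsgLib.GroupB.Subnormal.of_isNilpotent _).comap _)
      rwa [Subgroup.comap_map_eq, QuotientGroup.ker_mk'] at h
    have hAN : A' ≤ Subgroup.normalizer (N : Set ↥K) :=
      normalizer_commutator_ge (by rw [Subgroup.normalizer_eq_top]; exact le_top) Subgroup.le_normalizer
    haveI : N.Normal := by
      rw [← Subgroup.normalizer_eq_top_iff, eq_top_iff, ← hAR]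
      exact sup_le hAN hRN
    have hM : (N ⊔ A').Normal := by
      rw [← Subgroup.normalizer_eq_top_iff, eq_top_iff, ← hAR]
      refine sup_le (normalizer_sup_ge (by rw [Subgroup.normalizer_eq_top]; exact le_top) Subgroup.le_normalizer) ?_
      intro r hr
      refine mem_normalizer_of_conj_map_eq (Subgroup.eq_of_le_of_card_ge ?_
        (Subgroup.card_map_of_injective (MulEquiv.injective _)).ge)
      rw [Subgroup.map_le_iff_le_comap]
      refine sup_le (fun n hn => Subgroup.mem_sup_left ((Subgroup.mem_normalizer_iff.mp (hRN hr) n).mp hn)) ?_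
      intro a ha
      show r * a * r⁻¹ ∈ N ⊔ A'
      rw [show r * a * r⁻¹ = ⁅r, a⁆ * a by simp only [commutatorElement_def]; group]
      exact Subgroup.mul_mem_sup (Subgroup.commutator_mem_commutator hr ha) ha
    have hRle : R ≤ N := by
      refine CfsgLib.PResidual.pResidual_le ?_
      intro x
      obtain ⟨k, rfl⟩ := QuotientGroup.mk'_surjective N x
      have hk : k ∈ N ⊔ A' := by rw [htop _ le_sup_right hM.isSubnormal]; exact Subgroup.mem_top k
      obtain ⟨n, hn, a, ha, rfl⟩ := Subgroup.mem_sup_of_normal_left.mp hk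
      obtain ⟨j, hj⟩ := hAp.comap_subtype (H := A) (K := K) ⟨a, ha⟩
      refine ⟨j, ?_⟩
      have hn1 : QuotientGroup.mk' N n = 1 := (QuotientGroup.eq_one_iff n).mpr hn
      rw [map_mul, hn1, one_mul, ← map_pow]
      rw [show a ^ p ^ j = 1 from congrArg Subtype.val hj, map_one]
    have hNR : N ≤ R := Subgroup.commutator_le_left R A'
    have h' := congrArg (Subgroup.map K.subtype) (le_antisymm hNR hRle)
    rwa [hN, Subgroup.map_commutator, Subgroup.subgroupOf_map_subtype, inf_eq_left.mpr hAK] at h'

end Cfsg.Agent.S2814
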