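import Cfsg.Statements.S2815
import Cfsg.Agent.Lib.GenFitting
import Cfsg.Agent.Lib.PResidual

set_option autoImplicit false
open Cfsg

namespace Cfsg.Agent.S2815
open scoped commutatorElement

/-- Let H be a finite group and p a prime dividing its order with O_p(H) = 1, and suppose K = O^p(H) (generated by the elements of order prime to p) is quasisimple. Then K = F*(H); for every nontrivial p-subgroup Y of H, K = [K, Y] and K lies in the subgroup generated by the K-conjugates of Y; every normal subgroup of H not containing K has order prime to p; and H is p-irreducible. -/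
theorem result {H : Type*} [Group H] [Finite H] {p : ℕ} [Fact p.Prime] (hp : p ∣ Nat.card H) (hO : Cfsg.pCore p H = ⊥) (hq : Cfsg.IsQuasisimple ↥(Cfsg.pResidual p H)) : Cfsg.pResidual p H = Cfsg.generalizedFittingSubgroup H ∧ (∀ Y : Subgroup H, IsPGroup p ↥Y → Y ≠ ⊥ → ⁅Cfsg.pResidual p H, Y⁆ = Cfsg.pResidual p H ∧ Cfsg.pResidual p H ≤ ⨆ k : ↥(Cfsg.pResidual p H), Y.map (MulAut.conj (k : H)).toMonoidHom) ∧ (∀ C : Subgroup H, C.Normal → ¬ Cfsg.pResidual p H ≤ C → (Nat.card ↥C).Coprime p) ∧ Cfsg.IsPIrreducible p H := by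
  classical
  set L := Cfsg.pResidual p H with hLdef
  haveI : L.Characteristic := CfsgLib.PResidual.pResidual_characteristic
  have hLc : Cfsg.IsComponent L := ⟨Subgroup.Normal.isSubnormal inferInstance, hq⟩
  have hLp := CfsgLib.Components.component_perfect hLc
  have hthree : ∀ A : Subgroup H, ⁅⁅L, A⁆, L⁆ = ⊥ → A ≤ Subgroup.centralizer (L : Set H) := by
    intro A hA
    have h2 : ⁅⁅A, L⁆, L⁆ = ⊥ := by rwa [Subgroup.commutator_comm A L]
    have h3 := Subgroup.commutator_commutator_eq_bot_of_rotate (H₁ := L) (H₂ := L) (H₃ := A) hA h2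
    rw [hLp, Subgroup.commutator_comm] at h3
    exact Subgroup.commutator_eq_bot_iff_le_centralizer.mp h3
  -- the centralizer of L is a p'-subgroup of L
  set N := Subgroup.centralizer (L : Set H) with hN
  haveI hNn : N.Normal := inferInstance
  have hZ : (Nat.card ↥(L ⊓ N : Subgroup H)).Coprime p := by
    refine Nat.Coprime.symm ((Fact.out : p.Prime).coprime_iff_not_dvd.mpr fun hd => ?_)
    obtain ⟨x, hx⟩ := exists_prime_orderOf_dvd_card' p hd
    set Z : Subgroup H := L ⊓ N with hZd
    haveI hZn : Z.Normal := Subgroup.normal_inf_normal L N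
    haveI : IsMulCommutative ↥Z := ⟨⟨fun a b => Subtype.ext
      ((Subgroup.mem_centralizer_iff.mp (Subgroup.mem_inf.mp b.2).2) a (Subgroup.mem_inf.mp a.2).1)⟩⟩
    obtain ⟨P⟩ := (inferInstance : Nonempty (Sylow p ↥Z))
    haveI hPn : (P : Subgroup ↥Z).Normal := ⟨fun a ha b => by rwa [mul_comm' b a, mul_inv_cancel_right]⟩
    haveI := P.characteristic_of_normal hPn
    have hle : (P : Subgroup ↥Z).map Z.subtype ≤ Cfsg.pCore p H :=
      CfsgLib.Core.le_pCore inferInstance (P.2.map _)
    rw [hO, le_bot_iff, Subgroup.map_eq_bot_iff, Subgroup.ker_subtype, le_bot_iff] at hle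
    exact P.ne_bot_of_dvd_card hd hle
  have hNp' : (Nat.card ↥N).Coprime p := by
    refine Nat.Coprime.symm ((Fact.out : p.Prime).coprime_iff_not_dvd.mpr fun hd => ?_)
    obtain ⟨P⟩ := (inferInstance : Nonempty (Sylow p ↥N))
    have htop : (P : Subgroup ↥N) ⊔ L.subgroupOf N = ⊤ := by
      refine Subgroup.index_eq_one.mp ?_
      obtain ⟨k, hk⟩ := IsPGroup.iff_card.mp (CfsgLib.PResidual.isPGroup_quotient (p := p) (G := H))
      have h1 : ((P : Subgroup ↥N) ⊔ L.subgroupOf N).index ∣ p ^ k := by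
        refine (Subgroup.index_dvd_of_le le_sup_right).trans ?_
        rw [← hk, ← Subgroup.index_eq_card]
        exact Subgroup.relIndex_dvd_index_of_normal L N
      exact Nat.eq_one_of_dvd_coprimes
        (Nat.Coprime.pow_left k ((Fact.out : p.Prime).coprime_iff_not_dvd.mpr P.not_dvd_index)) h1
        (Subgroup.index_dvd_of_le le_sup_left)
    haveI hPn : (P : Subgroup ↥N).Normal := by
      rw [← Subgroup.normalizer_eq_top_iff, eq_top_iff, ← htop]
      refine sup_le Subgroup.le_normalizer fun z hz => ?_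
      have hc : z ∈ Subgroup.centralizer ((P : Subgroup ↥N) : Set ↥N) := by
        refine Subgroup.mem_centralizer_iff.mpr fun a _ => Subtype.ext ?_
        exact ((Subgroup.mem_centralizer_iff.mp a.2) (z : H) (Subgroup.mem_subgroupOf.mp hz)).symm
      exact Subgroup.centralizer_le_normalizer _ hc
    haveI := P.characteristic_of_normal hPn
    have hle : (P : Subgroup ↥N).map N.subtype ≤ Cfsg.pCore p H :=
      CfsgLib.Core.le_pCore inferInstance (P.2.map _)
    rw [hO, le_bot_iff, Subgroup.map_eq_bot_iff, Subgroup.ker_subtype, le_bot_iff] at hle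
    exact P.ne_bot_of_dvd_card hd hle
  have hNL : N ≤ L := fun x hx => CfsgLib.PResidual.mem_pResidual
    (Nat.Coprime.coprime_dvd_left (Subgroup.orderOf_dvd_natCard N hx) hNp')
  have hNab : N ≤ Subgroup.centralizer (N : Set H) := fun x hx => Subgroup.mem_centralizer_iff.mpr fun y hy =>
    Subgroup.mem_centralizer_iff.mp hx y (hNL hy)
  have hcases : ∀ C : Subgroup H, ⁅L, C⁆ = L ∨ C ≤ N := by
    intro C
    have hnorm : L ≤ Subgroup.normalizer ((⁅L, C⁆ : Subgroup H) : Set H) := by
      intro a ha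
      have hconj : ∀ a ∈ L, ∀ z ∈ ⁅L, C⁆, a * z * a⁻¹ ∈ ⁅L, C⁆ := by
        intro a ha z hz
        have hle : ⁅L, C⁆.map (MulAut.conj a).toMonoidHom ≤ ⁅L, C⁆ := by
          rw [Subgroup.map_le_iff_le_comap, Subgroup.commutator_le]
          intro l hl c hc
          show a * ⁅l, c⁆ * a⁻¹ ∈ ⁅L, C⁆
          rw [show a * ⁅l, c⁆ * a⁻¹ = ⁅a * l, c⁆ * ⁅a, c⁆⁻¹ by simp only [commutatorElement_def]; group]
          exact mul_mem (Subgroup.commutator_mem_commutator (mul_mem ha hl) hc)
            (inv_mem (Subgroup.commutator_mem_commutator ha hc))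
        exact hle ⟨z, hz, rfl⟩
      refine Subgroup.mem_normalizer_iff.mpr fun z => ⟨hconj a ha z, fun hz => ?_⟩
      have := hconj a⁻¹ (inv_mem ha) _ hz
      rwa [inv_inv, show a⁻¹ * (a * z * a⁻¹) * a = z by group] at this
    have hle : ⁅L, C⁆ ≤ L := Subgroup.commutator_le_left L C
    haveI := (Subgroup.normal_subgroupOf_iff_le_normalizer hle).mpr hnorm
    rcases CfsgLib.Components.quasisimple_normal_cases hq (⁅L, C⁆.subgroupOf L) with h | h
    · exact Or.inl (le_antisymm hle (Subgroup.subgroupOf_eq_top.mp h))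
    · refine Or.inr (hthree C (Subgroup.commutator_eq_bot_iff_le_centralizer.mpr fun x hx => ?_))
      refine Subgroup.mem_centralizer_iff.mpr fun y hy => ?_
      exact congrArg Subtype.val (Subgroup.mem_center_iff.mp (h (Subgroup.mem_subgroupOf.mpr hx :
        (⟨x, hle hx⟩ : ↥L) ∈ ⁅L, C⁆.subgroupOf L)) ⟨y, hy⟩)
  have hnormal : ∀ C : Subgroup H, C.Normal → ¬ L ≤ C → C ≤ N := fun C hC hLC =>
    (hcases C).resolve_left fun h => hLC (h ▸ Subgroup.commutator_le_right L C)
  refine ⟨?_, fun Y hY hY1 => ?_, fun C hC hLC => Nat.Coprime.coprime_dvd_left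
    (Subgroup.card_dvd_of_le (hnormal C hC hLC)) hNp', ?_, fun M hM hMc => ?_⟩
  · refine le_antisymm ((CfsgLib.Components.component_le_layer hLc).trans le_sup_left) (sup_le (sSup_le fun K hK => ?_) ?_)
    · by_cases h : K = L
      · exact h.le
      exact (Subgroup.commutator_eq_bot_iff_le_centralizer.mp (CfsgLib.Components.component_comm hK hLc h)).trans hNL
    · refine le_trans ?_ hNL
      exact CfsgLib.GenFitting.fitting_le_centralizer_layer.trans
        (Subgroup.centralizer_le (CfsgLib.Components.component_le_layer hLc))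
  · have hLY : ⁅L, Y⁆ = L := (hcases Y).resolve_right fun h => by
      obtain ⟨k, hk⟩ := IsPGroup.iff_card.mp hY
      refine hY1 (Subgroup.card_eq_one.mp ?_)
      exact Nat.eq_one_of_dvd_coprimes (hNp'.pow_right k) (Subgroup.card_dvd_of_le h) (dvd_of_eq hk)
    refine ⟨hLY, hLY.ge.trans (Subgroup.commutator_le.mpr fun l hl y hy => ?_)⟩
    rw [commutatorElement_def]
    exact mul_mem
      (le_iSup (fun k : ↥L => Y.map (MulAut.conj (k : H)).toMonoidHom) ⟨l, hl⟩ ⟨y, hy, rfl⟩)
      (le_iSup (fun k : ↥L => Y.map (MulAut.conj (k : H)).toMonoidHom) ⟨1, one_mem _⟩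
        ⟨y⁻¹, inv_mem hy, by simp⟩)
  · intro hcl
    obtain ⟨P⟩ := (inferInstance : Nonempty (Sylow p H))
    exact P.ne_bot_of_dvd_card hp (le_bot_iff.mp (hO ▸ CfsgLib.Core.le_pCore (hcl P) P.2))
  · by_contra hLM
    refine hMc fun P => ?_
    have hbot : (P : Subgroup ↥M) = ⊥ := by
      obtain ⟨k, hk⟩ := IsPGroup.iff_card.mp P.2
      refine Subgroup.card_eq_one.mp ?_
      exact Nat.eq_one_of_dvd_coprimes (hNp'.pow_right k)
        ((Subgroup.card_subgroup_dvd_card _).trans (Subgroup.card_dvd_of_le (hnormal M hM hLM))) (dvd_of_eq hk)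
    rw [hbot]; infer_instance

end Cfsg.Agent.S2815
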