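import Cfsg.Statements.S2816
import Cfsg.Agent.Lib.FStarComm

set_option autoImplicit false
open Cfsg

namespace Cfsg.Agent.S2816
open scoped commutatorElement

/-- Let H be a finite group and p a prime with O_p(H) = 1, and Y a p-subgroup of H. Then for every subnormal subgroup K of H containing Y, [F*(H), Y] = [F*(K), Y] = [F*(K), Y, Y]; and if Y₀ ≤ Y with [F*(H), Y, Y₀] = 1 then Y₀ = 1 (in particular [F*(H), Y] = 1 forces Y = 1). -/
theorem result {H : Type*} [Group H] [Finite H] {p : ℕ} [Fact p.Prime] (hO : Cfsg.pCore p H = ⊥) (Y : Subgroup H) (hY : IsPGroup p ↥Y) : (∀ K : Subgroup H, K.IsSubnormal → Y ≤ K → ⁅Cfsg.generalizedFittingSubgroup H, Y⁆ = ⁅(Cfsg.generalizedFittingSubgroup ↥K).map K.subtype, Y⁆ ∧ ⁅(Cfsg.generalizedFittingSubgroup ↥K).map K.subtype, Y⁆ = ⁅⁅(Cfsg.generalizedFittingSubgroup ↥K).map K.subtype, Y⁆, Y⁆) ∧ (∀ Y₀ : Subgroup H, Y₀ ≤ Y → ⁅⁅Cfsg.generalizedFittingSubgroup H, Y⁆, Y₀⁆ = ⊥ → Y₀ = ⊥) := by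
  haveI : (Cfsg.generalizedFittingSubgroup H).Normal := CfsgLib.GenFitting.genFitting_normal
  have hcc := CfsgLib.FStarComm.comm_comm hO hY
  refine ⟨fun K hK hYK => ?_, fun Y₀ hle h0 => ?_⟩
  · have h1 := CfsgLib.FStarComm.comm_le_of_subnormal hO hY hK hYK
    have h2 : (Cfsg.generalizedFittingSubgroup ↥K).map K.subtype ≤ Cfsg.generalizedFittingSubgroup H := by
      rw [Cfsg.generalizedFittingSubgroup, Subgroup.map_sup]
      exact sup_le ((CfsgLib.GenFitting.component_le_iff_in hK).1.trans le_sup_left)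
        ((CfsgLib.GenFitting.component_le_iff_in hK).2.le.trans (inf_le_left.trans le_sup_right))
    have heq : ⁅Cfsg.generalizedFittingSubgroup H, Y⁆ = ⁅(Cfsg.generalizedFittingSubgroup ↥K).map K.subtype, Y⁆ :=
      le_antisymm (hcc.ge.trans (Subgroup.commutator_mono h1 le_rfl)) (Subgroup.commutator_mono h2 le_rfl)
    exact ⟨heq, by rw [← heq, hcc]⟩
  · have hY₀ : IsPGroup p ↥Y₀ := hY.to_le hle
    refine CfsgLib.FStarComm.eq_bot_of_centralizes hO hY₀ (le_bot_iff.mp ?_)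
    rw [← CfsgLib.FStarComm.comm_comm hO hY₀]
    exact (Subgroup.commutator_mono (Subgroup.commutator_mono le_rfl hle) le_rfl).trans h0.le

end Cfsg.Agent.S2816
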