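import Cfsg.Statements.S2817
import Cfsg.Agent.Lib.FStarComm
import Cfsg.Agent.Lib.GroupB.Coprime
import Mathlib.GroupTheory.Abelianization.Defs

set_option autoImplicit false
open Cfsg

namespace Cfsg.Agent.S2817
open scoped commutatorElement IsMulCommutative
open CfsgLib.Components CfsgLib.LocalBasic

/-- Let H be a finite group and p a prime with O_p(H) = 1, Q a p-subgroup of H, L = [F*(H), Q], and F the largest normal subgroup of F*(H) centralized by Q (a normal subgroup of F*(H) centralized by Q and containing every such). Then F = C_{F*(H)}(LQ); L = [L, Q]; L ∩ F ≤ Φ(L); every p-subgroup B of N_H(Q) with [L, B] ≤ F satisfies [L, B] = 1; and C_H(FL) has order prime to p. -/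
theorem result {H : Type*} [Group H] [Finite H] {p : ℕ} [Fact p.Prime] (hO : Cfsg.pCore p H = ⊥) (Q : Subgroup H) (hQ : IsPGroup p ↥Q) (L : Subgroup H) (hL : L = ⁅Cfsg.generalizedFittingSubgroup H, Q⁆) (F : Subgroup H) (hF : F ≤ Cfsg.generalizedFittingSubgroup H ∧ Cfsg.generalizedFittingSubgroup H ≤ Subgroup.normalizer (F : Set H) ∧ Q ≤ Subgroup.centralizer (F : Set H) ∧ ∀ N : Subgroup H, N ≤ Cfsg.generalizedFittingSubgroup H → Cfsg.generalizedFittingSubgroup H ≤ Subgroup.normalizer (N : Set H) → Q ≤ Subgroup.centralizer (N : Set H) → N ≤ F) : F = Cfsg.generalizedFittingSubgroup H ⊓ Subgroup.centralizer ((L ⊔ Q : Subgroup H) : Set H) ∧ ⁅L, Q⁆ = L ∧ L ⊓ F ≤ (frattini ↥L).map L.subtype ∧ (∀ B : Subgroup H, IsPGroup p ↥B → B ≤ Subgroup.normalizer (Q : Set H) → ⁅L, B⁆ ≤ F → ⁅L, B⁆ = ⊥) ∧ (Nat.card ↥(Subgroup.centralizer ((F ⊔ L : Subgroup H) : Set H))).Coprime p := by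
  classical
  have hp : p.Prime := Fact.out
  set X := Cfsg.generalizedFittingSubgroup H with hX
  haveI hXn : X.Normal := CfsgLib.GenFitting.genFitting_normal
  set R := Cfsg.fittingSubgroup H with hR
  haveI hRn : R.Normal := CfsgLib.GenFitting.fitting_normal
  haveI hRnil := CfsgLib.Core.isNilpotent_fittingSubgroup (G := H)
  have hRX : R ≤ X := le_sup_right
  have hRp : (Nat.card ↥R).Coprime p := CfsgLib.FStarComm.fitting_coprime hO
  obtain ⟨hFX, hXF, hQF, hFmax⟩ := hF
  have hLX : L ≤ X := hL ▸ Subgroup.commutator_le_left X Q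
  have hXL : X ≤ Subgroup.normalizer (L : Set H) := hL ▸ CfsgLib.FStarComm.le_normalizer_comm_left X Q
  have hQL : Q ≤ Subgroup.normalizer (L : Set H) := hL ▸ CfsgLib.FStarComm.le_normalizer_comm_right X Q
  have hLs : L.IsSubnormal := subnormal_of_normalized hLX (Subgroup.Normal.isSubnormal hXn) hXL
  -- (1)
  have hFC : F ≤ Subgroup.centralizer ((L ⊔ Q : Subgroup H) : Set H) := by
    have h1 : ⁅Q, F⁆ = ⊥ := Subgroup.commutator_eq_bot_iff_le_centralizer.mpr hQF
    have h2 : ⁅L, F⁆ = ⊥ := by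
      rw [hL]
      refine Subgroup.commutator_commutator_eq_bot_of_rotate (H₁ := X) (H₂ := Q) (H₃ := F) ?_ ?_
      · rw [h1, Subgroup.commutator_bot_left]
      · refine le_bot_iff.mp ((Subgroup.commutator_mono (Subgroup.le_normalizer_iff_commutator_le_left.mp hXF) le_rfl).trans ?_)
        rw [Subgroup.commutator_comm, h1]
    exact Subgroup.le_centralizer_iff.mp
      (sup_le (Subgroup.commutator_eq_bot_iff_le_centralizer.mp h2) hQF)
  have hXLQ : X ≤ Subgroup.normalizer ((L ⊔ Q : Subgroup H) : Set H) := by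
    refine le_normalizer_of_commutator ?_
    rw [Subgroup.commutator_le]
    intro x hx z hz
    have hle : (L ⊔ Q).map (MulAut.conj x).toMonoidHom ≤ L ⊔ Q := by
      rw [Subgroup.map_sup]
      refine sup_le ?_ ?_
      · rintro _ ⟨l, hl, rfl⟩
        exact Subgroup.mem_sup_left ((Subgroup.mem_normalizer_iff.mp (hXL hx) l).mp hl)
      · rintro _ ⟨q, hq, rfl⟩
        show x * q * x⁻¹ ∈ L ⊔ Q
        rw [show x * q * x⁻¹ = ⁅x, q⁆ * q by simp [commutatorElement_def]]
        exact mul_mem (Subgroup.mem_sup_left (hL ▸ Subgroup.commutator_mem_commutator hx hq)) (Subgroup.mem_sup_right hq)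
    rw [commutatorElement_def]
    exact mul_mem (hle ⟨z, hz, rfl⟩) (inv_mem hz)
  have hFeq : F = X ⊓ Subgroup.centralizer ((L ⊔ Q : Subgroup H) : Set H) :=
    le_antisymm (le_inf hFX hFC) (hFmax _ inf_le_left
      (normalizer_inf_ge Subgroup.le_normalizer (normalizer_centralizer_ge hXLQ))
      (Subgroup.le_centralizer_iff.mp (inf_le_right.trans (Subgroup.centralizer_le (SetLike.coe_subset_coe.mpr le_sup_right)))))
  -- (2)
  have hLQ : ⁅L, Q⁆ = L := by rw [hL]; exact CfsgLib.FStarComm.comm_comm hO hQ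
  -- L ∩ F
  set Z := L ⊓ F with hZ
  have hZc : L ≤ Subgroup.centralizer (Z : Set H) := Subgroup.le_centralizer_iff.mp
    (inf_le_right.trans (hFC.trans (Subgroup.centralizer_le (SetLike.coe_subset_coe.mpr le_sup_left))))
  haveI : IsMulCommutative ↥Z := ⟨⟨fun a b => Subtype.ext
    ((Subgroup.mem_centralizer_iff.mp (hZc (Subgroup.mem_inf.mp b.2).1)) a a.2)⟩⟩
  have hZR : Z ≤ R := nilpotent_subnormal_le
    (subnormal_of_normalized (inf_le_left.trans hLX) (Subgroup.Normal.isSubnormal hXn) (normalizer_inf_ge hXL hXF))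
    inferInstance
  have hZL' : ∀ z ∈ Z, z ∈ ⁅L, L⁆ := by
    intro z hz
    letI := Fintype.ofFinite ↥Q
    let cj : ↥Q → ↥L → ↥L := fun q l =>
      ⟨(q : H) * l * (q : H)⁻¹, (Subgroup.mem_normalizer_iff.mp (hQL q.2) l).mp l.2⟩
    let f : ↥L →* Abelianization ↥L :=
      { toFun := fun l => ∏ q : ↥Q, Abelianization.of (cj q l)
        map_one' := Finset.prod_eq_one fun q _ => by
          rw [show cj q 1 = 1 from Subtype.ext (by simp [cj]), map_one]
        map_mul' := fun a b => by
          rw [← Finset.prod_mul_distrib]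
          refine Finset.prod_congr rfl fun q _ => ?_
          rw [← map_mul]
          congr 1
          exact Subtype.ext (by simp [cj, mul_assoc]) }
    have hf : f.ker = ⊤ := by
      refine eq_top_iff.mpr fun l _ => ?_
      have hle : ⁅L, Q⁆ ≤ f.ker.map L.subtype := by
        rw [Subgroup.commutator_le]
        intro a ha y hy
        refine ⟨⟨a, ha⟩ * (cj ⟨y, hy⟩ ⟨a, ha⟩)⁻¹, ?_, by simp [cj, commutatorElement_def, mul_assoc]⟩
        rw [SetLike.mem_coe, MonoidHom.mem_ker, map_mul, map_inv, mul_inv_eq_one]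
        show ∏ q : ↥Q, _ = ∏ q : ↥Q, _
        symm
        refine Fintype.prod_equiv (Equiv.mulRight (⟨y, hy⟩ : ↥Q)) _ _ fun q => ?_
        congr 1
        exact Subtype.ext (by simp [cj, mul_assoc])
      obtain ⟨x, hx, e⟩ := hle (hLQ.ge l.2)
      exact Subtype.ext e ▸ hx
    obtain ⟨hzL, hzF⟩ := Subgroup.mem_inf.mp hz
    have h1 : f ⟨z, hzL⟩ = 1 := MonoidHom.mem_ker.mp (hf ▸ Subgroup.mem_top _)
    have h2 : ∀ q : ↥Q, cj q ⟨z, hzL⟩ = ⟨z, hzL⟩ := fun q => Subtype.ext (by
      show (q : H) * z * (q : H)⁻¹ = z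
      rw [← Subgroup.mem_centralizer_iff.mp (hQF q.2) z hzF, mul_inv_cancel_right])
    change ∏ q : ↥Q, Abelianization.of (cj q ⟨z, hzL⟩) = 1 at h1
    simp only [h2, Finset.prod_const, Finset.card_univ, ← Nat.card_eq_fintype_card, ← map_pow] at h1
    obtain ⟨k, hk⟩ := IsPGroup.iff_card.mp hQ
    rw [hk, ← MonoidHom.mem_ker, Abelianization.ker_of] at h1
    have h3 : z ^ p ^ k ∈ ⁅L, L⁆ := by
      rw [← Subgroup.map_subtype_commutator]
      exact ⟨_, h1, by simp⟩
    exact CfsgLib.FStarComm.mem_of_pow_coprime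
      ((Nat.Coprime.coprime_dvd_left (Subgroup.orderOf_dvd_natCard _ (hZR hz)) hRp).pow_right k) h3
  refine ⟨hFeq, hLQ, ?_, ?_, ?_⟩
  · -- (3)
    intro z hz
    obtain ⟨hzL, hzF⟩ := Subgroup.mem_inf.mp hz
    refine ⟨⟨z, hzL⟩, ?_, rfl⟩
    have hzL' : (⟨z, hzL⟩ : ↥L) ∈ commutator ↥L := by
      have h := hZL' z hz
      rw [← Subgroup.map_subtype_commutator] at h
      obtain ⟨x, hx, e⟩ := h
      obtain rfl : x = ⟨z, hzL⟩ := Subtype.ext e
      exact hx
    show (⟨z, hzL⟩ : ↥L) ∈ Order.radical (Subgroup ↥L)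
    rw [Order.radical]
    simp only [Subgroup.mem_iInf]
    intro M hM
    by_contra hzM
    have htop : M ⊔ Subgroup.zpowers (⟨z, hzL⟩ : ↥L) = ⊤ :=
      hM.2 _ (lt_of_le_of_ne le_sup_left fun h => hzM (h ▸ Subgroup.mem_sup_right (Subgroup.mem_zpowers _)))
    have hcen : Subgroup.zpowers (⟨z, hzL⟩ : ↥L) ≤ Subgroup.center ↥L := Subgroup.zpowers_le.mpr
      (Subgroup.mem_center_iff.mpr fun l => Subtype.ext ((Subgroup.mem_centralizer_iff.mp (hZc l.2) z hz).symm))
    haveI hMn : M.Normal := by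
      rw [← Subgroup.normalizer_eq_top_iff, eq_top_iff, ← htop]
      exact sup_le Subgroup.le_normalizer (hcen.trans ((Subgroup.center_le_centralizer _).trans (Subgroup.centralizer_le_normalizer _)))
    haveI : IsMulCommutative (↥L ⧸ M) := ⟨⟨fun a b => by
      have key : ∀ a : ↥L ⧸ M, ∃ w ∈ Subgroup.center ↥L, QuotientGroup.mk' M w = a := by
        intro a
        obtain ⟨l, rfl⟩ := QuotientGroup.mk'_surjective M a
        have hl : l ∈ M ⊔ Subgroup.zpowers (⟨z, hzL⟩ : ↥L) := htop ▸ Subgroup.mem_top l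
        obtain ⟨m, hm, w, hw, rfl⟩ := Subgroup.mem_sup_of_normal_left.mp hl
        exact ⟨w, hcen hw, by rw [map_mul, show QuotientGroup.mk' M m = 1 from (QuotientGroup.eq_one_iff m).mpr hm, one_mul]⟩
      obtain ⟨w, hw, rfl⟩ := key a
      obtain ⟨w', hw', rfl⟩ := key b
      rw [← map_mul, ← map_mul, Subgroup.mem_center_iff.mp hw' w]⟩⟩
    exact hzM ((Subgroup.Normal.commutator_le_of_self_sup_commutative_eq_top (N := M) (H := Subgroup.zpowers ⟨z, hzL⟩)) htop inferInstance hzL')
  · -- (4)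
    intro B hB hBQ hLBF
    have hBL : B ≤ Subgroup.normalizer (L : Set H) := hL ▸
      normalizer_commutator_ge (by rw [Subgroup.normalizer_eq_top]; exact le_top) hBQ
    have hLBZ : ⁅L, B⁆ ≤ Z := le_inf (Subgroup.le_normalizer_iff_commutator_le_left.mp hBL) hLBF
    have hBL' : ⁅⁅L, L⁆, B⁆ = ⊥ := by
      have h3 : ⁅⁅L, B⁆, L⁆ = ⊥ :=
        Subgroup.commutator_eq_bot_iff_le_centralizer.mpr (hLBZ.trans (Subgroup.le_centralizer_iff.mp hZc))
      exact Subgroup.commutator_commutator_eq_bot_of_rotate h3 (by rwa [Subgroup.commutator_comm B L])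
    refine le_bot_iff.mp (Subgroup.commutator_le.mpr fun l hl b hb => ?_)
    obtain ⟨k, hk⟩ := hB ⟨b, hb⟩
    have hz := hLBZ (Subgroup.commutator_mem_commutator hl hb)
    have hcomm : Commute ⁅l, b⁆ b :=
      (Subgroup.mem_centralizer_iff.mp (Subgroup.commutator_eq_bot_iff_le_centralizer.mp hBL' (hZL' _ hz)) b hb).symm
    have h1 : (l * b * l⁻¹) ^ p ^ k = ⁅l, b⁆ ^ p ^ k * b ^ p ^ k := by
      rw [← hcomm.mul_pow, commutatorElement_def, inv_mul_cancel_right]
    rw [conj_pow, show b ^ p ^ k = 1 by simpa using congrArg Subtype.val hk, mul_one, mul_one, mul_inv_cancel] at h1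
    exact orderOf_eq_one_iff.mp (Nat.eq_one_of_dvd_coprimes
      ((Nat.Coprime.coprime_dvd_left (Subgroup.orderOf_dvd_natCard _ (hZR hz)) hRp).pow_right k) dvd_rfl
      (orderOf_dvd_of_pow_eq_one h1.symm))
  · -- (5)
    set C := Subgroup.centralizer ((F ⊔ L : Subgroup H) : Set H)
    refine Nat.Coprime.symm (hp.coprime_iff_not_dvd.mpr fun hd => ?_)
    obtain ⟨c, hc⟩ := exists_prime_orderOf_dvd_card' p hd
    set P := Subgroup.zpowers (c : H)
    have hcH : orderOf (c : H) = p := by rw [Subgroup.orderOf_coe]; exact hc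
    have hPp : IsPGroup p ↥P := IsPGroup.of_card (n := 1) (by rw [Nat.card_zpowers, hcH, pow_one])
    have hPC : P ≤ C := Subgroup.zpowers_le.mpr c.2
    have hPFL : F ⊔ L ≤ Subgroup.centralizer (P : Set H) := Subgroup.le_centralizer_iff.mp hPC
    have hQsol : Group.IsSolvable ↥Q := haveI := hQ.isNilpotent; inferInstance
    have hPsol : Group.IsSolvable ↥P := haveI := hPp.isNilpotent; inferInstance
    have hcopR : ∀ {A U : Subgroup H}, IsPGroup p ↥A → U ≤ R → (Nat.card ↥A).Coprime (Nat.card ↥U) := by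
      intro A U hA hU
      obtain ⟨k, hk⟩ := IsPGroup.iff_card.mp hA
      rw [hk]
      exact ((Nat.Coprime.coprime_dvd_left (Subgroup.card_dvd_of_le hU) hRp).pow_right k).symm
    have hE : Cfsg.layer H ≤ Subgroup.centralizer (P : Set H) := by
      refine sSup_le fun K hK => le_trans ?_ hPFL
      by_cases hKL : K ≤ L
      · exact hKL.trans le_sup_right
      have hKQ : ⁅K, Q⁆ = ⊥ := by
        have hKLc : ⁅K, L⁆ = ⊥ := (component_cases hK hLs).resolve_left hKL
        have h3 : ⁅⁅K, Q⁆, K⁆ = ⊥ := le_bot_iff.mp ((Subgroup.commutator_mono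
          ((Subgroup.commutator_mono ((component_le_layer hK).trans le_sup_left) le_rfl).trans hL.ge) le_rfl).trans
          (le_of_eq (by rwa [Subgroup.commutator_comm])))
        have h5 := Subgroup.commutator_commutator_eq_bot_of_rotate (H₁ := K) (H₂ := K) (H₃ := Q) h3
          (by rwa [Subgroup.commutator_comm Q K])
        rwa [component_perfect hK] at h5
      refine le_sup_of_le_left (hFeq ▸ le_inf ((component_le_layer hK).trans le_sup_left) ?_)
      refine Subgroup.le_centralizer_iff.mp (sup_le ?_ ?_)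
      · exact Subgroup.commutator_eq_bot_iff_le_centralizer.mp
          (by rw [Subgroup.commutator_comm]; exact (component_cases hK hLs).resolve_left hKL)
      · exact Subgroup.le_centralizer_iff.mp (Subgroup.commutator_eq_bot_iff_le_centralizer.mp hKQ)
    set D := (L ⊓ R) ⊔ (F ⊓ R) with hD
    have hRD : R ≤ Subgroup.normalizer (D : Set H) :=
      normalizer_sup_ge (normalizer_inf_ge (hRX.trans hXL) Subgroup.le_normalizer)
        (normalizer_inf_ge (hRX.trans hXF) Subgroup.le_normalizer)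
    have hQD : Q ≤ Subgroup.normalizer (D : Set H) :=
      normalizer_sup_ge (normalizer_inf_ge hQL (by rw [Subgroup.normalizer_eq_top]; exact le_top))
        (normalizer_inf_ge (hQF.trans (Subgroup.centralizer_le_normalizer _)) (by rw [Subgroup.normalizer_eq_top]; exact le_top))
    set U := R ⊓ Subgroup.centralizer (D : Set H) with hU
    have hUD : U ≤ D := by
      have hQU : Q ≤ Subgroup.normalizer (U : Set H) :=
        normalizer_inf_ge (by rw [Subgroup.normalizer_eq_top]; exact le_top) (normalizer_centralizer_ge hQD)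
      rw [← CfsgLib.GroupB.Coprime.centralizer_sup_commutator hQU (hcopR hQ inf_le_left) (Or.inr hQsol)]
      refine sup_le ?_ ?_
      · intro u hu
        obtain ⟨huU, huQ⟩ := Subgroup.mem_inf.mp hu
        obtain ⟨huR, huD⟩ := Subgroup.mem_inf.mp huU
        refine Subgroup.mem_sup_right (Subgroup.mem_inf.mpr ⟨?_, huR⟩)
        rw [hFeq]
        refine Subgroup.mem_inf.mpr ⟨hRX huR, ?_⟩
        have hLu : L ⊔ Q ≤ Subgroup.centralizer ({u} : Set H) := by
          refine sup_le ((CfsgLib.GenFitting.le_sup_of_subnormal_le_genFitting hLs hLX).trans (sup_le ?_ ?_)) ?_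
          · refine (CfsgLib.GenFitting.component_le_iff_in hLs).1.trans fun e he => Subgroup.mem_centralizer_singleton_iff.mpr ?_
            exact (Subgroup.mem_centralizer_iff.mp (CfsgLib.GenFitting.layer_le_centralizer_fitting he) u huR).symm
          · intro e he
            exact Subgroup.mem_centralizer_singleton_iff.mpr
              (Subgroup.mem_centralizer_iff.mp huD e (Subgroup.mem_sup_left (inf_comm R L ▸ he)))
          · exact fun q hq => Subgroup.mem_centralizer_singleton_iff.mpr (Subgroup.mem_centralizer_iff.mp huQ q hq)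
        exact Subgroup.mem_centralizer_iff.mpr fun y hy => Subgroup.mem_centralizer_singleton_iff.mp (hLu hy)
      · refine le_sup_of_le_left (le_inf ?_ ((Subgroup.commutator_mono inf_le_left le_rfl).trans (Subgroup.commutator_le_left R Q)))
        exact (Subgroup.commutator_mono (inf_le_left.trans hRX) le_rfl).trans hL.ge
    have hPD : P ≤ Subgroup.centralizer (D : Set H) :=
      hPC.trans (Subgroup.centralizer_le (SetLike.coe_subset_coe.mpr (sup_le (inf_le_left.trans le_sup_right) (inf_le_left.trans le_sup_left))))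
    have hRP : ⁅R, P⁆ ≤ U := by
      refine le_inf (Subgroup.commutator_le_left R P) (Subgroup.commutator_le.mpr fun r hr b hb => ?_)
      rw [commutatorElement_def]
      refine mul_mem ?_ (inv_mem (hPD hb))
      exact (Subgroup.mem_normalizer_iff.mp (normalizer_centralizer_ge hRD hr) b).mp (hPD hb)
    have hR0 : R ≤ Subgroup.centralizer (P : Set H) :=
      CfsgLib.GroupB.Coprime.le_centralizer_of_commutator_commutator
        (by rw [Subgroup.normalizer_eq_top]; exact le_top) (hcopR hPp le_rfl) (Or.inr hPsol)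
        (Subgroup.commutator_eq_bot_iff_le_centralizer.mpr ((hRP.trans hUD).trans (Subgroup.le_centralizer_iff.mp hPD)))
    have hbot := CfsgLib.FStarComm.eq_bot_of_centralizes hO hPp
      (Subgroup.commutator_eq_bot_iff_le_centralizer.mpr (sup_le hE hR0))
    rw [Subgroup.zpowers_eq_bot] at hbot
    rw [hbot, orderOf_one] at hcH
    exact hp.ne_one hcH.symm

end Cfsg.Agent.S2817
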