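import Cfsg.Statements.S2818
import Cfsg.Agent.Lib.LocalBasic

set_option autoImplicit false
open Cfsg

namespace Cfsg.Agent.S2818
open CfsgLib.LocalBasic
open scoped commutatorElement

/-- Let P be a finite p-subgroup of a group G and H a subgroup of N_G(P) with [P, H] ≤ Ω₁(Z(P)) (the elements of order dividing p in the centre of P). Then H centralizes the Frattini subgroup of P. -/
theorem result {G : Type*} [Group G] [Finite G] {p : ℕ} [Fact p.Prime] (P : Subgroup G) (hP : IsPGroup p ↥P) (H : Subgroup G) (hH : H ≤ Subgroup.normalizer (P : Set G)) (h : ⁅P, H⁆ ≤ Cfsg.omegaOne p (P ⊓ Subgroup.centralizer (P : Set G))) : ⁅(frattini ↥P).map P.subtype, H⁆ = ⊥ := by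
  set Z := Cfsg.omegaOne p (P ⊓ Subgroup.centralizer (P : Set G))
  have hZc : Z ≤ P ⊓ Subgroup.centralizer (P : Set G) := (Subgroup.closure_le _).mpr fun z hz => hz.1
  have hZp : ∀ z ∈ Z, z ^ p = 1 := by
    intro z hz
    induction hz using Subgroup.closure_induction with
    | mem a ha => exact ha.2
    | one => exact one_pow p
    | mul a b ha hb iha ihb =>
      have hab : Commute a b := Subgroup.mem_centralizer_iff.mp (hZc hb).2 a (hZc ha).1
      rw [hab.mul_pow, iha, ihb, one_mul]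
    | inv a _ iha => rw [inv_pow, iha, inv_one]
  let N : Subgroup ↥P := (Subgroup.centralizer (H : Set G)).subgroupOf P
  have hfix : ∀ h ∈ H, ∀ x ∈ P, ∃ z ∈ Z, h * x * h⁻¹ = z * x := by
    intro h' hh x hx
    refine ⟨⁅h', x⁆, h (Subgroup.commutator_comm P H ▸ Subgroup.commutator_mem_commutator hh hx), ?_⟩
    rw [commutatorElement_def]; group
  have hpow : ∀ a : ↥P, a ^ p ∈ N := by
    intro a
    refine Subgroup.mem_centralizer_iff.mpr fun h' hh => ?_
    obtain ⟨z, hz, hza⟩ := hfix h' hh a a.2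
    have hcom : Commute z (a : G) := (Subgroup.mem_centralizer_iff.mp (hZc hz).2 a a.2).symm
    have : h' * (a : G) ^ p * h'⁻¹ = (a : G) ^ p := by
      rw [← conj_pow, hza, hcom.mul_pow, hZp z hz, one_mul]
    calc h' * ((a ^ p : ↥P) : G) = h' * (a : G) ^ p * h'⁻¹ * h' := by rw [Subgroup.coe_pow]; group
      _ = ((a ^ p : ↥P) : G) * h' := by rw [this, Subgroup.coe_pow]
  have hc : ∀ a b : ↥P, ⁅a, b⁆ ∈ N := by
    intro a b
    refine Subgroup.mem_centralizer_iff.mpr fun h' hh => ?_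
    obtain ⟨z, hz, hza⟩ := hfix h' hh a a.2
    obtain ⟨w, hw, hwb⟩ := hfix h' hh b b.2
    have hz' : ∀ u ∈ P, z * u = u * z := fun u hu => (Subgroup.mem_centralizer_iff.mp (hZc hz).2 u hu).symm
    have hw' : ∀ u ∈ P, w * u = u * w := fun u hu => (Subgroup.mem_centralizer_iff.mp (hZc hw).2 u hu).symm
    have h1 : ⁅z * (a : G), w * (b : G)⁆ = ⁅(a : G), (b : G)⁆ := by
      simp only [commutatorElement_def, mul_inv_rev]
      have hwP : w ∈ P := (hZc hw).1
      calc z * a * (w * b) * ((a : G)⁻¹ * z⁻¹) * ((b : G)⁻¹ * w⁻¹)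
          = (z * ((a : G) * (w * b) * (a : G)⁻¹)) * z⁻¹ * (b : G)⁻¹ * w⁻¹ := by group
        _ = ((a : G) * (w * b) * (a : G)⁻¹) * (b : G)⁻¹ * w⁻¹ := by
          rw [hz' _ (P.mul_mem (P.mul_mem a.2 (P.mul_mem hwP b.2)) (P.inv_mem a.2)), mul_inv_cancel_right]
        _ = ((a : G) * w) * b * (a : G)⁻¹ * (b : G)⁻¹ * w⁻¹ := by group
        _ = w * (a * b * (a : G)⁻¹ * (b : G)⁻¹) * w⁻¹ := by rw [← hw' _ a.2]; group
        _ = a * b * (a : G)⁻¹ * (b : G)⁻¹ := by
          rw [hw' _ (P.mul_mem (P.mul_mem (P.mul_mem a.2 b.2) (P.inv_mem a.2)) (P.inv_mem b.2)), mul_inv_cancel_right]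
    have hcoe : ((⁅a, b⁆ : ↥P) : G) = ⁅(a : G), (b : G)⁆ := by simp [commutatorElement_def]
    have : h' * ⁅(a : G), (b : G)⁆ * h'⁻¹ = ⁅(a : G), (b : G)⁆ := by
      rw [show h' * ⁅(a : G), (b : G)⁆ * h'⁻¹ = ⁅h' * a * h'⁻¹, h' * b * h'⁻¹⁆ by
        simp only [commutatorElement_def]; group, hza, hwb, h1]
    show h' * ((⁅a, b⁆ : ↥P) : G) = ((⁅a, b⁆ : ↥P) : G) * h'
    rw [hcoe]
    calc h' * ⁅(a : G), (b : G)⁆ = h' * ⁅(a : G), (b : G)⁆ * h'⁻¹ * h' := by group
      _ = ⁅(a : G), (b : G)⁆ * h' := by rw [this]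
  haveI : N.Normal := ⟨fun x hx g => by
    have e : g * x * g⁻¹ = ⁅g, x⁆ * x := by rw [commutatorElement_def]; group
    rw [e]; exact N.mul_mem (hc g x) hx⟩
  rw [Subgroup.commutator_eq_bot_iff_le_centralizer, Subgroup.map_le_iff_le_comap]
  exact frattini_le_of_elementary_quotient N hc hpow

end Cfsg.Agent.S2818
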