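import Cfsg.Statements.S2819
import Cfsg.Agent.Lib.LocalBasic

set_option autoImplicit false
open Cfsg

namespace Cfsg.Agent.S2819

open CfsgLib.LocalBasic
open scoped commutatorElement

/-- Let P be a finite p-subgroup of a group G, H a subgroup of N_G(P), and Y a subgroup of H centralizing the derived subgroup P' such that [P, Y] is elementary abelian. Then O^p(⟨Y^H⟩), the subgroup of the normal closure of Y in H generated by its elements of order prime to p, centralizes the Frattini subgroup of P. -/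
theorem result {G : Type*} [Group G] [Finite G] {p : ℕ} [Fact p.Prime] (P : Subgroup G) (hP : IsPGroup p ↥P) (H : Subgroup G) (hH : H ≤ Subgroup.normalizer (P : Set G)) (Y : Subgroup G) (hYH : Y ≤ H) (hYc : Y ≤ Subgroup.centralizer ((⁅P, P⁆ : Subgroup G) : Set G)) (hel : Cfsg.IsElementaryAbelian p ⁅P, Y⁆) (NY : Subgroup G) (hNY : NY = (Subgroup.normalClosure ((Y.subgroupOf H : Subgroup ↥H) : Set ↥H)).map H.subtype) : (Cfsg.pResidual p ↥NY).map NY.subtype ≤ Subgroup.centralizer (((frattini ↥P).map P.subtype : Subgroup G) : Set G) := by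
  subst hNY
  set D : Subgroup G := ⁅P, P⁆ with hD
  set F : Subgroup G := (frattini ↥P).map P.subtype with hF
  have hFP : F ≤ P := Subgroup.map_subtype_le _
  have hHF : H ≤ Subgroup.normalizer (F : Set G) := by
    intro h hh
    refine mem_normalizer_of_conj_map_eq (Subgroup.eq_of_le_of_card_ge ?_
      (Subgroup.card_map_of_injective (MulEquiv.injective _)).ge)
    rintro _ ⟨_, ⟨x, hx, rfl⟩, rfl⟩
    have hc := Subgroup.characteristic_iff_map_le.mp (inferInstance : (frattini ↥P).Characteristic)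
      (P.normalizerMonoidHom ⟨h, hH hh⟩) ⟨x, hx, rfl⟩
    exact ⟨_, hc, rfl⟩
  have hHD : H ≤ Subgroup.normalizer (D : Set G) := normalizer_commutator_ge hH hH
  have hDP : D ≤ P := Subgroup.commutator_le_self P
  have hbase : ∀ y ∈ Y, ∀ x ∈ F, ⁅y, x⁆ ∈ D := by
    intro y hy
    have hyP : ∀ x ∈ P, ⁅y, x⁆ ∈ ⁅P, Y⁆ ∧ ⁅y, x⁆ ∈ P := by
      intro x hx
      refine ⟨?_, ?_⟩
      · rw [← commutatorElement_inv]; exact Subgroup.inv_mem _ (Subgroup.commutator_mem_commutator hx hy)
      · exact P.mul_mem ((Subgroup.mem_normalizer_iff.mp (hH (hYH hy)) x).mp hx) (P.inv_mem hx)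
    let f : ↥P →* ↥P ⧸ commutator ↥P :=
      { toFun := fun x => QuotientGroup.mk (⟨⁅y, (x : G)⁆, (hyP x x.2).2⟩ : ↥P)
        map_one' := by
          rw [QuotientGroup.eq_one_iff]
          convert (commutator ↥P).one_mem
          simp
        map_mul' := fun a b => by
          rw [← QuotientGroup.mk_mul, QuotientGroup.eq]
          set c : ↥P := ⟨⁅y, (b : G)⁆, (hyP b b.2).2⟩ with hc
          set e : ↥P := ⟨⁅y, (a : G)⁆, (hyP a a.2).2⟩ with he
          have h1 : (⟨⁅y, ((a * b : ↥P) : G)⁆, (hyP _ (a * b).2).2⟩ : ↥P) = e * (a * c * a⁻¹) := Subtype.ext (by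
            simp only [hc, he, Subgroup.coe_mul, Subgroup.coe_inv, commutatorElement_def]; group)
          rw [h1, show (e * (a * c * a⁻¹))⁻¹ * (e * c) = ⁅a, c⁻¹⁆ by rw [commutatorElement_def]; group,
            commutator_def]
          exact Subgroup.commutator_mem_commutator (Subgroup.mem_top _) (Subgroup.mem_top _) }
    have hle : frattini ↥P ≤ f.ker := by
      refine frattini_le_of_elementary_quotient (p := p) f.ker (fun a b => ?_) (fun a => ?_)
      · rw [MonoidHom.mem_ker, map_commutatorElement, commutatorElement_eq_one_iff_mul_comm]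
        obtain ⟨a', ha'⟩ := QuotientGroup.mk'_surjective (commutator ↥P) (f a)
        obtain ⟨b', hb'⟩ := QuotientGroup.mk'_surjective (commutator ↥P) (f b)
        rw [← ha', ← hb', ← commutatorElement_eq_one_iff_mul_comm, ← map_commutatorElement]
        refine (QuotientGroup.eq_one_iff _).mpr ?_
        rw [commutator_def]
        exact Subgroup.commutator_mem_commutator (Subgroup.mem_top _) (Subgroup.mem_top _)
      · rw [MonoidHom.mem_ker, map_pow]
        show (QuotientGroup.mk (⟨⁅y, (a : G)⁆, (hyP a a.2).2⟩ : ↥P) : ↥P ⧸ commutator ↥P) ^ p = 1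
        rw [← QuotientGroup.mk_pow, QuotientGroup.eq_one_iff]
        convert (commutator ↥P).one_mem
        exact Subtype.ext (by simpa using hel.2 _ (hyP a a.2).1)
    rintro _ ⟨x, hx, rfl⟩
    have h := (QuotientGroup.eq_one_iff _).mp (hle hx)
    rw [hD, ← Subgroup.map_subtype_commutator P]
    exact ⟨_, h, rfl⟩
  let S : Subgroup G :=
    { carrier := {g | g ∈ Subgroup.centralizer (D : Set G) ∧ ∀ x ∈ F, ⁅g, x⁆ ∈ D}
      one_mem' := ⟨Subgroup.one_mem _, fun x _ => by rw [commutatorElement_one_left]; exact D.one_mem⟩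
      mul_mem' := by
        rintro g k ⟨hg1, hg⟩ ⟨hk1, hk⟩
        refine ⟨Subgroup.mul_mem _ hg1 hk1, fun x hx => ?_⟩
        have e : ⁅g * k, x⁆ = g * ⁅k, x⁆ * g⁻¹ * ⁅g, x⁆ := by simp only [commutatorElement_def]; group
        rw [e]
        refine D.mul_mem ?_ (hg x hx)
        rw [← hg1 _ (hk x hx), mul_inv_cancel_right]
        exact hk x hx
      inv_mem' := by
        rintro g ⟨hg1, hg⟩
        refine ⟨Subgroup.inv_mem _ hg1, fun x hx => ?_⟩
        have e : ⁅g⁻¹, x⁆ = g⁻¹ * (⁅g, x⁆⁻¹ * g) := by simp only [commutatorElement_def]; group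
        rw [e, hg1 _ (D.inv_mem (hg x hx)), inv_mul_cancel_left]
        exact D.inv_mem (hg x hx) }
  have hS : (Subgroup.normalClosure ((Y.subgroupOf H : Subgroup ↥H) : Set ↥H)).map H.subtype ≤ S := by
    rw [Subgroup.normalClosure, MonoidHom.map_closure, Subgroup.closure_le]
    rintro _ ⟨z, hz, rfl⟩
    obtain ⟨y, hy, hyz⟩ := Group.mem_conjugatesOfSet_iff.mp hz
    obtain ⟨h, rfl⟩ := isConj_iff.mp hyz
    have hy' : (y : G) ∈ Y := Subgroup.mem_subgroupOf.mp hy
    refine ⟨?_, fun x hx => ?_⟩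
    · exact (Subgroup.mem_normalizer_iff.mp (normalizer_centralizer_ge hHD h.2) _).mp (hYc hy')
    · have hx' : (h : G)⁻¹ * x * h ∈ F := by
        simpa using (Subgroup.mem_normalizer_iff.mp (hHF (H.inv_mem h.2)) x).mp hx
      have h1 := (Subgroup.mem_normalizer_iff.mp (hHD h.2) _).mp (hbase _ hy' _ hx')
      convert h1 using 1
      simp only [Subgroup.coe_subtype, Subgroup.coe_mul, Subgroup.coe_inv, commutatorElement_def]
      group
  rw [Cfsg.pResidual, MonoidHom.map_closure, Subgroup.closure_le]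
  rintro _ ⟨g, hg, rfl⟩ x hx
  obtain ⟨hg1, hg2⟩ := hS g.2
  obtain ⟨j, hj⟩ := hP ⟨_, hDP (hg2 x hx)⟩
  refine (commute_of_commutator_fixed (hg1 _ (hg2 x hx)).symm (j := j) (by simpa using congrArg Subtype.val hj) ?_).symm
  show (orderOf (g : G)).Coprime p
  rw [Subgroup.orderOf_coe]
  exact hg

end Cfsg.Agent.S2819
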