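import Cfsg.Statements.S2820
import Cfsg.Agent.Lib.PIrr

set_option autoImplicit false
open Cfsg

namespace Cfsg.Agent.S2820
open CfsgLib.PIrr CfsgLib.LocalBasic

theorem mem_of_subnormal {K : Type*} [Group K] [Finite K] {p : ℕ} [Fact p.Prime] {B : Subgroup K} (hB : B.IsSubnormal) :
    ∀ k, B.index ∣ p ^ k → ∀ x : K, (orderOf x).Coprime p → x ∈ B := by
  induction hB with
  | top => exact fun _ _ x _ => Subgroup.mem_top x
  | step A C hle _ hN ih =>
    intro k hk x hx
    have hxC : x ∈ C := ih k ((Subgroup.index_dvd_of_le hle).trans hk) x hx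
    haveI := hN
    have h1 : (QuotientGroup.mk ⟨x, hxC⟩ : ↥C ⧸ A.subgroupOf C) = 1 := by
      rw [← orderOf_eq_one_iff]
      refine Nat.eq_one_of_dvd_coprimes (hx.pow_right k) ?_ ((orderOf_dvd_natCard _).trans ?_)
      · rw [← Subgroup.orderOf_mk x hxC]
        exact orderOf_map_dvd (QuotientGroup.mk' (A.subgroupOf C)) _
      · exact (Dvd.intro _ (Subgroup.relIndex_mul_index hle)).trans hk
    exact Subgroup.mem_subgroupOf.mp ((QuotientGroup.eq_one_iff _).mp h1)

theorem residual_eq {H : Type*} [Group H] [Finite H] {p : ℕ} [Fact p.Prime] {B U : Subgroup H}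
    (hB : B.IsSubnormal) (hBres : (Cfsg.pResidual p ↥B).map B.subtype = B) (hBU : B ≤ U) {k : ℕ}
    (hk : B.relIndex U ∣ p ^ k) : (Cfsg.pResidual p ↥U).map U.subtype = B := by
  refine le_antisymm ?_ (le_of_eq_of_le hBres.symm ?_)
  · rw [Cfsg.pResidual, MonoidHom.map_closure, Subgroup.closure_le]
    rintro _ ⟨x, hx, rfl⟩
    exact mem_of_subnormal (K := ↥U) (hB.comap U.subtype) k hk x hx
  · rw [Cfsg.pResidual, MonoidHom.map_closure, Subgroup.closure_le]
    rintro _ ⟨x, hx, rfl⟩
    refine ⟨⟨x, hBU x.2⟩, CfsgLib.PResidual.mem_pResidual ?_, rfl⟩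
    have hx' : (orderOf x).Coprime p := hx
    rw [← Subgroup.orderOf_coe] at hx' ⊢
    exact hx'

/-- Let A and B be subnormal subgroups of the finite group H with A a p-group and B = O^p(B) (B generated by its elements of order prime to p). Then A normalizes B and B = O^p(AB), the subgroup of ⟨A, B⟩ generated by its elements of order prime to p. -/
theorem result {H : Type*} [Group H] [Finite H] {p : ℕ} [Fact p.Prime] (A B : Subgroup H) (hA : A.IsSubnormal) (hB : B.IsSubnormal) (hAp : IsPGroup p ↥A) (hBres : (Cfsg.pResidual p ↥B).map B.subtype = B) : A ≤ Subgroup.normalizer (B : Set H) ∧ (Cfsg.pResidual p ↥(A ⊔ B)).map (A ⊔ B).subtype = B := by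
  set Q := Cfsg.pCore p H with hQ
  have hAQ : A ≤ Q := CfsgLib.Core.isPGroup_subnormal_le_pCore hA hAp
  haveI hQn : Q.Normal := inferInstance
  have hdvd : ∀ R : Subgroup H, R ≤ Q → R ≤ Subgroup.normalizer (B : Set H) ∨ True → ∀ U, U ≤ R ⊔ B → B ≤ U →
      R ≤ Subgroup.normalizer (B : Set H) → ∃ k, B.relIndex U ∣ p ^ k := by
    intro R hR _ U hU hBU hRn
    obtain ⟨k, hk⟩ := ((CfsgLib.Core.isPGroup_pCore p).to_le hR).exists_card_eq
    refine ⟨k, ?_⟩
    rw [← hk]
    refine (Dvd.intro _ (Subgroup.relIndex_mul_relIndex B U (R ⊔ B) hBU hU)).trans ?_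
    haveI : (B.subgroupOf (R ⊔ B)).Normal :=
      (Subgroup.normal_subgroupOf_iff_le_normalizer le_sup_right).mpr (sup_le hRn Subgroup.le_normalizer)
    have h := Subgroup.relIndex_sup_right (H := R.subgroupOf (R ⊔ B)) (K := B.subgroupOf (R ⊔ B))
    rw [← Subgroup.subgroupOf_sup le_sup_left le_sup_right, Subgroup.subgroupOf_self, Subgroup.relIndex_top_right] at h
    rw [Subgroup.relIndex, h]
    refine (Subgroup.relIndex_dvd_card _ _).trans ?_
    rw [Nat.card_congr (Subgroup.subgroupOfEquivOfLe (le_sup_left : R ≤ R ⊔ B)).toEquiv]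
  -- first: O_p(H) normalises B
  have hQB : Q ≤ Subgroup.normalizer (B : Set H) := by
    obtain ⟨k, hk⟩ := (CfsgLib.Core.isPGroup_pCore (G := H) p).exists_card_eq
    have hidx : B.relIndex (Q ⊔ B) ∣ p ^ k := by
      rw [← hk]
      have hmul : Nat.card ↥B * B.relIndex (Q ⊔ B) = Nat.card ↥(Q ⊔ B) := by
        rw [← Subgroup.relIndex_bot_left, ← Subgroup.relIndex_bot_left]
        exact Subgroup.relIndex_mul_relIndex _ _ _ bot_le le_sup_right
      have h1 := CfsgLib.Core.card_sup_dvd_of_normal B Q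
      rw [sup_comm, ← hmul] at h1
      exact Nat.dvd_of_mul_dvd_mul_left Nat.card_pos h1
    have h := residual_eq hB hBres le_sup_right hidx
    have hn : (B.subgroupOf (Q ⊔ B)).Normal := by
      rw [show B.subgroupOf (Q ⊔ B) = Cfsg.pResidual p ↥(Q ⊔ B) from
        (congrArg (fun X => X.subgroupOf (Q ⊔ B)) h).symm.trans
          (Subgroup.comap_map_eq_self_of_injective (Q ⊔ B).subtype_injective _)]
      infer_instance
    exact le_sup_left.trans ((Subgroup.normal_subgroupOf_iff_le_normalizer le_sup_right).mp hn)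
  have hAB : A ≤ Subgroup.normalizer (B : Set H) := hAQ.trans hQB
  obtain ⟨k, hk⟩ := hdvd A hAQ (Or.inr trivial) (A ⊔ B) le_rfl le_sup_right hAB
  exact ⟨hAB, residual_eq hB hBres le_sup_right hk⟩

end Cfsg.Agent.S2820
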