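import Cfsg.Statements.S2823
import Cfsg.Agent.Lib.PReduced
import Cfsg.Agent.Lib.PResidual

set_option autoImplicit false
open Cfsg

namespace Cfsg.Agent.S2823
open CfsgLib.PReduced CfsgLib.LocalBasic
open scoped commutatorElement IsMulCommutative

section
variable {H : Type*} [Group H] [Finite H] {p : ℕ} [Fact p.Prime]

theorem avg_fixed {T L Z W : Subgroup H} (hTL : T ≤ L) (hind : (T.relIndex L).Coprime p) (hWZ : W ≤ Z)
    (hZab : IsMulCommutative ↥Z) (hZp : ∀ a ∈ Z, a ^ p = 1) (hLZ : L ≤ Subgroup.normalizer (Z : Set H))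
    (hLW : ⁅Z, L⁆ ≤ W) {z : H} (hz : z ∈ Z) (hzT : ∀ t ∈ T, t * z = z * t) :
    ∃ a ∈ Z, (∀ l ∈ L, l * a = a * l) ∧ ∃ w ∈ W, z = a * w := by
  classical
  haveI := Fintype.ofFinite (↥L ⧸ T.subgroupOf L)
  have hconj : ∀ l ∈ L, ∀ u ∈ Z, l * u * l⁻¹ ∈ Z := fun l hl u hu =>
    (Subgroup.mem_normalizer_iff.mp (hLZ hl) u).mp hu
  let φ : ↥L ⧸ T.subgroupOf L → ↥Z := fun q => Quotient.liftOn' q
    (fun l => (⟨(l : H) * z * (l : H)⁻¹, hconj l l.2 z hz⟩ : ↥Z))
    (fun a b hab => by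
      rw [QuotientGroup.leftRel_apply, Subgroup.mem_subgroupOf] at hab
      apply Subtype.ext
      have h1 := hzT _ hab
      simp only [Subgroup.coe_mul, Subgroup.coe_inv] at h1
      show (a : H) * z * (a : H)⁻¹ = (b : H) * z * (b : H)⁻¹
      calc (a : H) * z * (a : H)⁻¹ = (a : H) * (z * ((a : H)⁻¹ * (b : H))) * (b : H)⁻¹ := by group
        _ = (a : H) * ((a : H)⁻¹ * (b : H) * z) * (b : H)⁻¹ := by rw [h1]
        _ = (b : H) * z * (b : H)⁻¹ := by group)
  have hφ : ∀ l : ↥L, (φ (QuotientGroup.mk l) : H) = (l : H) * z * (l : H)⁻¹ := fun l => rfl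
  set P := ∏ q, φ q with hP
  have hPfix : ∀ l : ↥L, (l : H) * (P : H) * (l : H)⁻¹ = P := by
    intro l
    let c : ↥Z →* ↥Z :=
      { toFun := fun u => ⟨(l : H) * u * (l : H)⁻¹, hconj l l.2 u u.2⟩
        map_one' := by simp
        map_mul' := fun u v => Subtype.ext (by simp [mul_assoc]) }
    have h1 : c P = P := by
      rw [hP, map_prod]
      conv_rhs => rw [← Equiv.prod_comp (MulAction.toPerm l) φ]
      refine Finset.prod_congr rfl fun q _ => ?_
      induction q using QuotientGroup.induction_on with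
      | H a =>
        apply Subtype.ext
        show (l : H) * ((a : H) * z * (a : H)⁻¹) * (l : H)⁻¹ = (φ (l • (QuotientGroup.mk a : ↥L ⧸ T.subgroupOf L)) : H)
        rw [MulAction.Quotient.smul_mk, hφ]
        simp [mul_assoc]
    exact congrArg Subtype.val h1
  set n := Fintype.card (↥L ⧸ T.subgroupOf L) with hn
  have hPW : ((⟨z, hz⟩ : ↥Z) ^ n)⁻¹ * P ∈ W.subgroupOf Z := by
    rw [hP, hn, ← Finset.card_univ, ← Finset.prod_const, ← Finset.prod_inv_distrib, ← Finset.prod_mul_distrib]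
    refine Subgroup.prod_mem _ fun q _ => ?_
    induction q using QuotientGroup.induction_on with
    | H a =>
      rw [Subgroup.mem_subgroupOf]
      show z⁻¹ * (φ (QuotientGroup.mk a) : H) ∈ W
      rw [hφ]
      have := hLW (Subgroup.commutator_mem_commutator (Z.inv_mem hz) a.2)
      rw [commutatorElement_def, inv_inv] at this
      simpa [mul_assoc] using this
  obtain ⟨m, hm⟩ := exists_pow_eq_self_of_coprime (x := (⟨z, hz⟩ : ↥Z)) (n := n) (by
    refine Nat.Coprime.coprime_dvd_right (orderOf_dvd_of_pow_eq_one (Subtype.ext (hZp z hz))) ?_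
    rwa [hn, ← Nat.card_eq_fintype_card])
  refine ⟨(P : H) ^ m, Z.pow_mem P.2 m, fun l hl => ?_, (((P : H) ^ m)⁻¹ * z), ?_, by group⟩
  · have h1 := hPfix ⟨l, hl⟩
    rw [mul_inv_eq_iff_eq_mul] at h1
    exact ((show Commute l (P : H) from h1).pow_right m).eq
  · have h2 := Subgroup.inv_mem _ (Subgroup.pow_mem _ hPW m)
    rw [mul_pow, inv_pow, hm, mul_inv_rev, inv_inv, Subgroup.mem_subgroupOf] at h2
    simpa using h2

end

/-- Let H be a finite group, p a prime, T a Sylow p-subgroup and L a subgroup of characteristic p containing T; let Z_L be the subgroup generated by the Ω₁(Z(S)) over the Sylow p-subgroups S of L and O^p(L) the subgroup generated by the elements of L of order prime to p. Then Z_L = Ω₁(Z(L))·[Z_L, O^p(L)] and [Z_L, L] = [Z_L, O^p(L)]. -/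
theorem result {H : Type*} [Group H] [Finite H] {p : ℕ} [Fact p.Prime] (T : Sylow p H) (L : Subgroup H) (hTL : (T : Subgroup H) ≤ L) (hL : Subgroup.centralizer (Cfsg.pCore p ↥L : Set ↥L) ≤ Cfsg.pCore p ↥L) : Cfsg.sylowCenterClosure p L = (Cfsg.omegaOne p (L ⊓ Subgroup.centralizer ((L : Subgroup H) : Set H))) ⊔ ⁅Cfsg.sylowCenterClosure p L, (Cfsg.pResidual p ↥L).map L.subtype⁆ ∧ ⁅Cfsg.sylowCenterClosure p L, L⁆ = ⁅Cfsg.sylowCenterClosure p L, (Cfsg.pResidual p ↥L).map L.subtype⁆ := by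
  set Z := Cfsg.sylowCenterClosure p L with hZ
  set K := (Cfsg.pResidual p ↥L).map L.subtype with hK
  set W := ⁅Z, K⁆ with hW
  have hKL : K ≤ L := Subgroup.map_subtype_le _
  have hZL : Z ≤ L := sylowCenterClosure_le L
  obtain ⟨-, hel, -⟩ := (reduced_subgroupOf_iff hZL).mp (reduced_sylowCenterClosure hL)
  have hLZ := le_normalizer_sylowCenterClosure (p := p) L
  have hLK : L ≤ Subgroup.normalizer (K : Set H) := by
    refine (Subgroup.normal_subgroupOf_iff_le_normalizer hKL).mp ?_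
    rw [hK, Subgroup.subgroupOf, Subgroup.comap_map_eq_self_of_injective L.subtype_injective]
    infer_instance
  have hLW : L ≤ Subgroup.normalizer (W : Set H) := normalizer_commutator_ge hLZ hLK
  have hWZ : W ≤ Z := by
    rw [hW, ← Subgroup.le_normalizer_iff_commutator_le_left]
    exact hKL.trans hLZ
  have hdec : ∀ l ∈ L, ∃ k ∈ K, ∃ t ∈ (T : Subgroup H), l = k * t := by
    intro l hl
    have h1 : (⟨l, hl⟩ : ↥L) ∈ (T.subtype hTL : Subgroup ↥L) ⊔ Cfsg.pResidual p ↥L := by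
      rw [CfsgLib.PResidual.sup_pResidual_eq_top]; exact Subgroup.mem_top _
    rw [sup_comm] at h1
    obtain ⟨k, hk, t, ht, hkt⟩ := Subgroup.mem_sup_of_normal_left.mp h1
    rw [Sylow.coe_subtype, Subgroup.mem_subgroupOf] at ht
    exact ⟨k, ⟨k, hk, rfl⟩, t, ht, by simpa using (congrArg Subtype.val hkt).symm⟩
  have hZ0 : omegaZ p (T : Subgroup H) ≤ Z := omegaZ_le_sylowCenterClosure T hTL
  -- modulo W every conjugate of an element of Ω₁Z(T) is the element itself
  have hgen : Z ≤ omegaZ p (T : Subgroup H) ⊔ W := by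
    refine iSup_le fun S x hx => ?_
    obtain ⟨l, hl⟩ := MulAction.exists_smul_eq ↥L (T.subtype hTL) S
    have e : (S : Subgroup ↥L).map L.subtype = (T : Subgroup H).map (MulAut.conj (l : H)).toMonoidHom := by
      rw [← hl, Sylow.coe_subgroup_smul, Sylow.coe_subtype]
      ext y
      constructor
      · rintro ⟨_, ⟨u, hu, rfl⟩, rfl⟩
        exact ⟨(u : H), Subgroup.mem_subgroupOf.mp hu, by simp⟩
      · rintro ⟨u, hu, rfl⟩
        exact ⟨_, ⟨⟨u, hTL hu⟩, Subgroup.mem_subgroupOf.mpr hu, rfl⟩, by simp⟩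
    rw [e] at hx
    obtain ⟨u, hu, rfl⟩ := (omegaZ_map (p := p) (l : H)).ge hx
    obtain ⟨k, hk, t, ht, hlt⟩ := hdec l l.2
    show (l : H) * u * (l : H)⁻¹ ∈ _
    have hu' : t * u = u * t := (omegaZ_le _ hu).2 t ht
    have h2 : ⁅u⁻¹, k⁆ ∈ W := Subgroup.commutator_mem_commutator (Z.inv_mem (hZ0 hu)) hk
    rw [hlt]
    have e2 : k * t * u * (k * t)⁻¹ = u * ⁅u⁻¹, k⁆ := by
      calc k * t * u * (k * t)⁻¹ = k * (t * u) * t⁻¹ * k⁻¹ := by group
        _ = k * (u * t) * t⁻¹ * k⁻¹ := by rw [hu']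
        _ = u * ⁅u⁻¹, k⁆ := by rw [commutatorElement_def]; group
    rw [e2]
    exact Subgroup.mul_mem_sup hu h2
  have hcomm : ⁅Z, L⁆ ≤ W := by
    refine (Subgroup.commutator_mono hgen le_rfl).trans ?_
    refine commutator_sup_le (((omegaZ_le _).trans inf_le_left).trans (hTL.trans hLW)) Subgroup.le_normalizer ?_ ?_
    · rw [Subgroup.commutator_le]
      intro u hu l hl
      obtain ⟨k, hk, t, ht, rfl⟩ := hdec l hl
      have hu' : t * u = u * t := (omegaZ_le _ hu).2 t ht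
      have e : ⁅u, k * t⁆ = ⁅u, k⁆ := by
        rw [commutatorElement_def, commutatorElement_def]
        calc u * (k * t) * u⁻¹ * (k * t)⁻¹ = u * k * (t * u⁻¹) * t⁻¹ * k⁻¹ := by group
          _ = u * k * (u⁻¹ * t) * t⁻¹ * k⁻¹ := by rw [(show Commute t u from hu').inv_right.eq]
          _ = u * k * u⁻¹ * k⁻¹ := by group
      rw [e]
      exact Subgroup.commutator_mem_commutator (hZ0 hu) hk
    · exact Subgroup.le_normalizer_iff_commutator_le_left.mp hLW
  refine ⟨le_antisymm (hgen.trans (sup_le (fun z hz => ?_) le_sup_right)) (sup_le ?_ hWZ),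
    le_antisymm hcomm (Subgroup.commutator_mono le_rfl hKL)⟩
  · obtain ⟨a, ha, hal, w, hw, rfl⟩ := avg_fixed (T := (T : Subgroup H)) (W := W) hTL (p := p)
      ((((Fact.out : p.Prime).coprime_iff_not_dvd.mpr (Sylow.not_dvd_index (T.subtype hTL))).symm))
      hWZ hel.1 hel.2 hLZ hcomm (hZ0 hz) (fun t ht => (omegaZ_le _ hz).2 t ht)
    exact Subgroup.mul_mem_sup (Subgroup.subset_closure ⟨⟨hZL ha, hal⟩, hel.2 a ha⟩) hw
  · intro z hz
    obtain ⟨⟨hzL, hzc⟩, hzp⟩ := mem_omegaZ.mp hz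
    refine hZ0 (mem_omegaZ.mpr ⟨⟨?_, fun t ht => hzc t (hTL ht)⟩, hzp⟩)
    have hn : (Subgroup.zpowers (⟨z, hzL⟩ : ↥L)).Normal := ⟨fun a ha g => by
      obtain ⟨i, rfl⟩ := Subgroup.mem_zpowers_iff.mp ha
      have hgz : g * (⟨z, hzL⟩ : ↥L) = ⟨z, hzL⟩ * g := Subtype.ext (hzc g g.2)
      rw [((show Commute g _ from hgz).zpow_right i).eq, mul_inv_cancel_right]
      exact Subgroup.zpow_mem_zpowers _ i⟩
    have := CfsgLib.Core.pCore_le_sylow (T.subtype hTL) (CfsgLib.Core.le_pCore hn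
      (isPGroup_zpowers_of_pow_eq_one (k := 1) (x := (⟨z, hzL⟩ : ↥L)) (Subtype.ext (by simpa using hzp)))
      (Subgroup.mem_zpowers _))
    rwa [Sylow.coe_subtype, Subgroup.mem_subgroupOf] at this

end Cfsg.Agent.S2823
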