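import Cfsg.Statements.S2824
import Cfsg.Agent.Lib.PReduced2

set_option autoImplicit false
open Cfsg

namespace Cfsg.Agent.S2824
open CfsgLib.LocalBasic CfsgLib.PReduced CfsgLib.PReduced2 CfsgLib.PCoreOf

/-- Let H be a finite group, p a prime, T a Sylow p-subgroup, L and M subgroups of characteristic p containing T, Y_L the largest p-reduced normal subgroup of L and T₀ = C_T(Y_L). If M·C_H(Y_L) = L·C_H(Y_L), then L* := N_M(T₀) has Y_{L*} = Y_L and L·C_H(Y_L) = L*·C_H(Y_L). -/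
theorem result {H : Type*} [Group H] [Finite H] {p : ℕ} [Fact p.Prime] (T : Sylow p H) (L M : Subgroup H) (hTL : (T : Subgroup H) ≤ L) (hTM : (T : Subgroup H) ≤ M) (hL : Subgroup.centralizer (Cfsg.pCore p ↥L : Set ↥L) ≤ Cfsg.pCore p ↥L) (hM : Subgroup.centralizer (Cfsg.pCore p ↥M : Set ↥M) ≤ Cfsg.pCore p ↥M) (T₀ : Subgroup H) (hT₀ : T₀ = (T : Subgroup H) ⊓ Subgroup.centralizer (((Cfsg.largestPReducedOf p L) : Subgroup H) : Set H)) (hfac : M ⊔ Subgroup.centralizer (((Cfsg.largestPReducedOf p L) : Subgroup H) : Set H) = L ⊔ Subgroup.centralizer (((Cfsg.largestPReducedOf p L) : Subgroup H) : Set H)) (Ls : Subgroup H) (hLs : Ls = M ⊓ Subgroup.normalizer ((T₀ : Subgroup H) : Set H)) : (Cfsg.largestPReducedOf p Ls) = (Cfsg.largestPReducedOf p L) ∧ L ⊔ Subgroup.centralizer (((Cfsg.largestPReducedOf p L) : Subgroup H) : Set H) = Ls ⊔ Subgroup.centralizer (((Cfsg.largestPReducedOf p L) : Subgroup H) : Set H) := by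
  subst hLs
  set Y := Cfsg.largestPReducedOf p L with hY
  set C := Subgroup.centralizer ((Y : Subgroup H) : Set H) with hC
  obtain ⟨hLY, hel, hred⟩ := largestOf_spec (p := p) L
  have hMY : M ≤ Subgroup.normalizer ((Y : Subgroup H) : Set H) :=
    (le_sup_left.trans hfac.le).trans (sup_le hLY (centralizer_le_normalizer_self Y))
  have hMC : M ≤ Subgroup.normalizer (C : Set H) := normalizer_centralizer_ge hMY
  set Ls := M ⊓ Subgroup.normalizer (T₀ : Set H) with hLs
  have hTLs : (T : Subgroup H) ≤ Ls := by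
    refine le_inf hTM ?_
    rw [hT₀]
    exact normalizer_inf_ge Subgroup.le_normalizer (hTL.trans (normalizer_centralizer_ge hLY))
  have hfac2 : L ⊔ C = Ls ⊔ C := by
    refine le_antisymm (hfac ▸ sup_le (fun g hg => ?_) le_sup_right) (hfac ▸ sup_le_sup_right inf_le_left _)
    obtain ⟨a, ha, c, hc, rfl⟩ := frattini_inf T hMC hTM hg
    rw [← hT₀] at ha
    exact Subgroup.mul_mem_sup ha hc.2
  have hYT₀ : Y ≤ T₀ := hT₀ ▸ le_inf (largestOf_le_sylow T hTL) (Subgroup.le_centralizer_iff_isMulCommutative.mpr hel.1)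
  refine ⟨le_antisymm ?_ ?_, hfac2⟩
  · obtain ⟨-, -, h3⟩ := largest_structure T hTL hL hT₀
    have h1 : T₀ ≤ Cfsg.pCoreOf p Ls :=
      le_pcoreOf (hT₀ ▸ inf_le_left.trans hTLs) inf_le_right (hT₀ ▸ T.2.to_le inf_le_left)
    have h2 := pCoreOf_le_centralizer_largestOf (p := p) Ls
    intro y hy
    have hyc : ∀ t ∈ T₀, t * y = y * t := fun t ht => (h2 (h1 ht) y hy).symm
    have hyT₀ : y ∈ T₀ := hT₀ ▸ ⟨largestOf_le_sylow T hTLs hy, fun z hz => hyc z (hYT₀ hz)⟩
    show y ∈ Y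
    rw [hY, h3]
    exact mem_omegaZ.mpr ⟨⟨hyT₀, hyc⟩, (largestOf_spec (p := p) Ls).2.1.2 y hy⟩
  · have hYLs : Y ≤ Ls := (largestOf_le_sylow T hTL).trans hTLs
    refine le_largestOf hYLs ((reduced_subgroupOf_iff hYLs).mpr ⟨inf_le_left.trans hMY, hel, fun N hNL hLN hN => ?_⟩)
    have hNC : N ≤ Subgroup.normalizer (C : Set H) := hNL.trans (inf_le_left.trans hMC)
    have hLnC : L ≤ Subgroup.normalizer (C : Set H) := normalizer_centralizer_ge hLY
    have hkey := hred (L ⊓ (N ⊔ C)) inf_le_left (normalizer_inf_ge Subgroup.le_normalizer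
      ((le_sup_left.trans hfac2.le).trans (sup_le (normalizer_sup_ge hLN (inf_le_left.trans hMC))
        (le_sup_right.trans Subgroup.le_normalizer)))) (pmod_of_coprime fun x hx hco => ?_)
    · intro x hx
      have hxLC : x ∈ L ⊔ C := hfac2 ▸ Subgroup.mem_sup_left (hNL hx)
      rw [← SetLike.mem_coe, Subgroup.coe_mul_of_left_le_normalizer_right _ _ hLnC, Set.mem_mul] at hxLC
      obtain ⟨l, hl, c, hc, rfl⟩ := hxLC
      refine C.mul_mem (hkey ⟨hl, ?_⟩) hc
      simpa using Subgroup.mul_mem _ (Subgroup.mem_sup_left hx) (Subgroup.mem_sup_right (C.inv_mem hc) : c⁻¹ ∈ N ⊔ C)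
    · have hx2 : x ∈ N ⊔ C := hx.2
      rw [← SetLike.mem_coe, Subgroup.coe_mul_of_left_le_normalizer_right _ _ hNC, Set.mem_mul] at hx2
      obtain ⟨n, hn, c, hc, rfl⟩ := hx2
      obtain ⟨k, hk⟩ := hN n hn
      have : ∀ i : ℕ, (n ^ i)⁻¹ * (n * c) ^ i ∈ C := by
        intro i
        induction i with
        | zero => simp
        | succ i ih =>
          have e : (n ^ (i + 1))⁻¹ * (n * c) ^ (i + 1) = n⁻¹ * ((n ^ i)⁻¹ * (n * c) ^ i) * n * c := by
            rw [pow_succ, pow_succ]; group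
          rw [e]
          exact C.mul_mem ((Subgroup.mem_normalizer_iff''.mp (hNC hn) _).mp ih) hc
      have hp' := C.mul_mem hk (this (p ^ k))
      rw [mul_inv_cancel_left] at hp'
      obtain ⟨m, hm⟩ := exists_pow_eq_self_of_coprime ((hco.pow_right k).symm)
      rw [← hm]; exact C.pow_mem hp' m

end Cfsg.Agent.S2824
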