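import Cfsg.Statements.S2825
import Cfsg.Agent.Lib.ReducedSubnormal

set_option autoImplicit false
open Cfsg

namespace Cfsg.Agent.S2825

open CfsgLib.LocalBasic CfsgLib.PReduced CfsgLib.PReduced2 CfsgLib.ReducedSubnormal
open scoped commutatorElement

/-- Let L be a subnormal subgroup of the finite group H, p a prime, Y_H and Y_L the largest p-reduced normal subgroups. Then Y_H ∩ L = Y_H ∩ Y_L and this subgroup is a p-reduced normal subgroup of L; C_L(Y_L) = C_L(Y_H) = C_L(Y_H ∩ L); and if O^p(H) ≤ L, then [Y_L, L] = 1 if and only if [Y_H, H] = 1. -/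
theorem result {H : Type*} [Group H] [Finite H] {p : ℕ} [Fact p.Prime] (L : Subgroup H) (hL : L.IsSubnormal) : Cfsg.largestPReduced p H ⊓ L = Cfsg.largestPReduced p H ⊓ (Cfsg.largestPReducedOf p L) ∧ Cfsg.IsPReducedNormal p ((Cfsg.largestPReduced p H ⊓ L).subgroupOf L) ∧ L ⊓ Subgroup.centralizer ((Cfsg.largestPReducedOf p L : Subgroup H) : Set H) = L ⊓ Subgroup.centralizer (Cfsg.largestPReduced p H : Set H) ∧ L ⊓ Subgroup.centralizer (Cfsg.largestPReduced p H : Set H) = L ⊓ Subgroup.centralizer ((Cfsg.largestPReduced p H ⊓ L : Subgroup H) : Set H) ∧ (Cfsg.pResidual p H ≤ L → (⁅(Cfsg.largestPReducedOf p L), L⁆ = ⊥ ↔ ⁅Cfsg.largestPReduced p H, (⊤ : Subgroup H)⁆ = ⊥)) := by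
  set Y := Cfsg.largestPReduced p H with hY
  set YL := Cfsg.largestPReducedOf p L with hYL
  have hYr : Cfsg.IsPReducedNormal p Y := reduced_largest
  obtain ⟨hYn, hYe, -⟩ := reduced_iff.mp hYr
  haveI := hYn
  obtain ⟨hLYL, -, hrYL⟩ := largestOf_spec (p := p) L
  have hYN : ∀ X : Subgroup H, X ≤ Subgroup.normalizer (Y : Set H) := fun X => by
    rw [Subgroup.normalizer_eq_top]; exact le_top
  have hsn : ∀ C : Subgroup H, L ≤ Subgroup.normalizer (C : Set H) → (L ⊓ C).IsSubnormal := fun C hC =>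
    isSubnormal_of_normalized hL inf_le_left (normalizer_inf_ge Subgroup.le_normalizer hC)
  have hCi : L ⊓ Subgroup.centralizer ((Y ⊓ L : Subgroup H) : Set H) ≤ Subgroup.centralizer (Y : Set H) := by
    refine le_centralizer_of_subnormal hYr (hsn _ (normalizer_centralizer_ge
      (normalizer_inf_ge (hYN L) Subgroup.le_normalizer))) (pmod_of_coprime fun x hx hc => ?_)
    exact fun y hy => (centralizes_inter hYn hYe hL x hx.1 hc (fun z hz => (hx.2 z hz).symm) y hy).symm
  have hred : Cfsg.IsPReducedNormal p ((Y ⊓ L).subgroupOf L) := by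
    refine (reduced_subgroupOf_iff inf_le_right).mpr ⟨normalizer_inf_ge (hYN L) Subgroup.le_normalizer,
      elementary_of_le hYe inf_le_left, fun N hNL hLN hN => ?_⟩
    refine le_trans ?_ (Subgroup.centralizer_le (SetLike.coe_subset_coe.mpr (inf_le_left : Y ⊓ L ≤ Y)))
    refine le_centralizer_of_subnormal hYr (isSubnormal_of_normalized hL hNL hLN) fun x hx => ?_
    obtain ⟨k, hk⟩ := hN x hx
    exact ⟨k, hCi ⟨L.pow_mem (hNL hx) _, hk⟩⟩
  have hle : Y ⊓ L ≤ YL := le_largestOf inf_le_right hred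
  have h1 : L ⊓ Subgroup.centralizer (YL : Set H) ≤ Subgroup.centralizer (Y : Set H) :=
    le_trans (inf_le_inf_left L (Subgroup.centralizer_le (SetLike.coe_subset_coe.mpr hle))) hCi
  have h2 : L ⊓ Subgroup.centralizer (Y : Set H) ≤ Subgroup.centralizer (YL : Set H) :=
    hrYL _ inf_le_left (normalizer_inf_ge Subgroup.le_normalizer (normalizer_centralizer_ge (hYN L)))
      (pmod_of_coprime fun x hx hc => centralizes_largest hL x hx.1 hc hx.2)
  refine ⟨le_antisymm (le_inf inf_le_left hle) (le_inf inf_le_left (inf_le_right.trans (largestOf_le L))),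
    hred, le_antisymm (le_inf inf_le_left h1) (le_inf inf_le_left h2),
    le_antisymm (inf_le_inf_left L (Subgroup.centralizer_le (SetLike.coe_subset_coe.mpr inf_le_left)))
      (le_inf inf_le_left hCi), fun hRL => ?_⟩
  rw [Subgroup.commutator_comm YL, Subgroup.commutator_eq_bot_iff_le_centralizer, Subgroup.commutator_comm Y,
    Subgroup.commutator_eq_bot_iff_le_centralizer]
  constructor
  · intro h
    refine le_centralizer_of_subnormal hYr (Subgroup.IsSubnormal.top) (pmod_of_coprime fun x _ hc => ?_)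
    have hxL := hRL (CfsgLib.PResidual.mem_pResidual hc)
    exact h1 ⟨hxL, h hxL⟩
  · exact fun h => (le_inf le_rfl (le_top.trans h)).trans h2

end Cfsg.Agent.S2825
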