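import Cfsg.Statements.S2826
import Cfsg.Agent.Lib.AvgHom
import Cfsg.Agent.Lib.PReduced2
import Cfsg.Agent.Lib.PResidual

set_option autoImplicit false
open Cfsg

namespace Cfsg.Agent.S2826

open CfsgLib.LocalBasic CfsgLib.PReduced CfsgLib.PReduced2

/-- Let H be a finite group of characteristic p, T a Sylow p-subgroup, and V a normal elementary abelian p-subgroup of H containing Ω₁(Z(T)). Then C_H(Ω₁(Z(T))) = C_H([V, O^p(H)] ∩ Ω₁(Z(T))), O^p(H) being generated by the elements of order prime to p. -/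
theorem result {H : Type*} [Group H] [Finite H] {p : ℕ} [Fact p.Prime] (hH : Subgroup.centralizer (Cfsg.pCore p H : Set H) ≤ Cfsg.pCore p H) (T : Sylow p H) (V : Subgroup H) [V.Normal] (hV : Cfsg.IsElementaryAbelian p V) (hZV : (Cfsg.omegaOne p ((T : Subgroup H) ⊓ Subgroup.centralizer (((T : Subgroup H) : Subgroup H) : Set H))) ≤ V) : Subgroup.centralizer ((Cfsg.omegaOne p ((T : Subgroup H) ⊓ Subgroup.centralizer (((T : Subgroup H) : Subgroup H) : Set H))) : Set H) = Subgroup.centralizer (((⁅V, Cfsg.pResidual p H⁆ ⊓ (Cfsg.omegaOne p ((T : Subgroup H) ⊓ Subgroup.centralizer (((T : Subgroup H) : Subgroup H) : Set H)))) : Subgroup H) : Set H) := by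
  set R := Cfsg.pResidual p H with hR
  haveI hRn : R.Normal := by rw [hR]; infer_instance
  set Z : Subgroup H := omegaZ p (T : Subgroup H) with hZ
  show Subgroup.centralizer (Z : Set H) = Subgroup.centralizer ((⁅V, R⁆ ⊓ Z : Subgroup H) : Set H)
  refine le_antisymm (Subgroup.centralizer_le (SetLike.coe_subset_coe.mpr inf_le_right)) ?_
  have hTR : (T : Subgroup H) ≤ Subgroup.normalizer (R : Set H) := by
    rw [Subgroup.normalizer_eq_top]; exact le_top
  have hTV : (T : Subgroup H) ≤ Subgroup.normalizer (V : Set H) := by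
    rw [Subgroup.normalizer_eq_top]; exact le_top
  obtain ⟨ν, h1, -, -, h4⟩ := CfsgLib.AvgHom.exists_avg (p := p) (M := V) (R := R) (T₀ := (T : Subgroup H) ⊓ R)
    inf_le_right (relIndex_inf_coprime T hTR) hV (by rw [Subgroup.normalizer_eq_top]; exact le_top)
  intro c hc z hz
  obtain ⟨⟨-, hzc⟩, hzp⟩ := mem_omegaZ.mp hz
  have hzC : z ∈ V ⊓ Subgroup.centralizer (((T : Subgroup H) ⊓ R : Subgroup H) : Set H) :=
    Subgroup.mem_inf.mpr ⟨hZV hz, fun x hx => hzc x hx.1⟩
  obtain ⟨hn, hw⟩ := h1 z hzC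
  have htfix : ∀ t ∈ (T : Subgroup H), t * ν z = ν z * t := by
    intro t ht
    have h := h4 t (hTR ht) (normalizer_inf_ge Subgroup.le_normalizer hTR ht) (hTV ht) z hzC
    rw [hzc t ht, mul_inv_cancel_right] at h
    exact mul_inv_eq_iff_eq_mul.mp h.symm
  have hcen : ∀ x : H, x * ν z = ν z * x := by
    intro x
    have hx : x ∈ (T : Subgroup H) ⊔ R := by
      rw [hR, CfsgLib.PResidual.sup_pResidual_eq_top T]; exact Subgroup.mem_top x
    have hle : (T : Subgroup H) ⊔ R ≤ Subgroup.centralizer ({ν z} : Set H) := by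
      refine sup_le (fun t ht => Subgroup.mem_centralizer_singleton_iff.mpr (htfix t ht)) fun r hr => ?_
      exact Subgroup.mem_centralizer_singleton_iff.mpr (hn.2 r hr)
    exact Subgroup.mem_centralizer_singleton_iff.mp (hle hx)
  have hVT : V ≤ (T : Subgroup H) :=
    (CfsgLib.Core.le_pCore (inferInstance : V.Normal) (isPGroup_of_elementary hV)).trans (CfsgLib.Core.pCore_le_sylow T)
  have hwV : z⁻¹ * ν z ∈ V := V.mul_mem (V.inv_mem (hZV hz)) hn.1
  have hwZ : z⁻¹ * ν z ∈ Z := by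
    refine mem_omegaZ.mpr ⟨⟨hVT hwV, fun t ht => ?_⟩, hV.2 _ hwV⟩
    exact ((show Commute t z from hzc t ht).inv_right.mul_right (show Commute t (ν z) from htfix t ht)).eq
  have h5 : Commute (z⁻¹ * ν z) c := hc _ (Subgroup.mem_inf.mpr ⟨hw, hwZ⟩)
  have h6 : Commute (ν z) c := (hcen c).symm
  have h7 : Commute z c := by
    have := (h6.mul_left h5.inv_left)
    rwa [mul_inv_rev, inv_inv, ← mul_assoc, mul_inv_cancel, one_mul] at this
  exact h7.eq

end Cfsg.Agent.S2826
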