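import Cfsg.Statements.S2827
import Cfsg.Agent.Lib.PIrr

set_option autoImplicit false
open Cfsg

namespace Cfsg.Agent.S2827
open CfsgLib.PIrr CfsgLib.LocalBasic
open scoped commutatorElement

/-- Let H be a finite p-irreducible group (not p-closed, and O^p(H) lies in every normal subgroup that is not p-closed) and T a Sylow p-subgroup. Then H is generated by the conjugates of T and H = H'·T; O^p(H) ≤ H'; and for every normal subgroup Y of T not contained in O_p(H), O^p(H) = [O^p(H), Y] and O^p(H) is contained in the normal closure of Y in H. -/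
theorem result {H : Type*} [Group H] [Finite H] {p : ℕ} [Fact p.Prime] (hH : Cfsg.IsPIrreducible p H) (T : Sylow p H) : Subgroup.normalClosure ((T : Subgroup H) : Set H) = ⊤ ∧ commutator H ⊔ (T : Subgroup H) = ⊤ ∧ Cfsg.pResidual p H ≤ commutator H ∧ ∀ Y : Subgroup H, Y ≤ (T : Subgroup H) → (T : Subgroup H) ≤ Subgroup.normalizer (Y : Set H) → ¬ Y ≤ Cfsg.pCore p H → ⁅Cfsg.pResidual p H, Y⁆ = Cfsg.pResidual p H ∧ Cfsg.pResidual p H ≤ Subgroup.normalClosure (Y : Set H) := by
  obtain ⟨hnc, hirr⟩ := hH
  haveI hRn : (Cfsg.pResidual p H).Normal := inferInstance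
  have hsup := CfsgLib.PResidual.sup_pResidual_eq_top T
  set C := Subgroup.normalClosure ((T : Subgroup H) : Set H) with hC
  have hTC : (T : Subgroup H) ≤ C := Subgroup.subset_normalClosure
  have hCnc : ¬ Cfsg.IsPClosed p ↥C := by
    intro hc
    apply hnc
    rw [isPClosed_normal_iff] at hc
    rw [isPClosed_iff]
    rintro x ⟨k, hk⟩
    obtain ⟨m, -, hm⟩ := exists_conj_le_sylow T (M := ⊤) le_top (isPGroup_zpowers_of_pow_eq_one (k := k) hk) le_top
    have h1 := hm x (Subgroup.mem_zpowers x)
    have h2 := (inferInstance : (Cfsg.pCore p H).Normal).conj_mem _ (hc _ (hTC h1) (isPElt_of_mem T.2 h1)) m⁻¹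
    simpa [mul_assoc] using h2
  have hCtop : C = ⊤ := top_le_iff.mp (hsup.ge.trans (sup_le hTC (hirr C Subgroup.normalClosure_normal hCnc)))
  have hnorm : ∀ X : Subgroup H, commutator H ≤ X → X.Normal := fun X hX =>
    ⟨fun x hx g => by
      have e : g * x * g⁻¹ = ⁅g, x⁆ * x := by rw [commutatorElement_def]; group
      rw [e]
      exact X.mul_mem (hX (Subgroup.commutator_mem_commutator (Subgroup.mem_top g) (Subgroup.mem_top x))) hx⟩
  have hder : commutator H ⊔ (T : Subgroup H) = ⊤ := by
    haveI := hnorm (commutator H ⊔ (T : Subgroup H)) le_sup_left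
    exact top_le_iff.mp (hCtop.ge.trans (Subgroup.normalClosure_le_normal (le_sup_right : (T : Subgroup H) ≤ _)))
  refine ⟨hCtop, hder, pResidual_le_of_le_sup T.2 (hder ▸ le_top), fun Y hYT hTY hYO => ?_⟩
  set N := Subgroup.normalClosure (Y : Set H) with hN
  have hYN : Y ≤ N := Subgroup.subset_normalClosure
  have hle : Cfsg.pResidual p H ≤ N := hirr N Subgroup.normalClosure_normal fun hc => hYO fun y hy => by
    rw [isPClosed_normal_iff] at hc
    exact hc y (hYN hy) (isPElt_of_mem T.2 (hYT hy))
  refine ⟨le_antisymm (Subgroup.commutator_le_left _ _) ?_, hle⟩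
  set R := Cfsg.pResidual p H with hR
  set W := ⁅R, Y⁆ with hW
  have hWn : W.Normal := by
    rw [← Subgroup.normalizer_eq_top_iff, eq_top_iff, ← hsup]
    refine sup_le (normalizer_commutator_ge (by rw [Subgroup.normalizer_eq_top R]; exact le_top) hTY) ?_
    exact Subgroup.normalizer_commutator_ge_left R Y
  have hYW : (W ⊔ Y).Normal := by
    rw [← Subgroup.normalizer_eq_top_iff, eq_top_iff, ← hsup]
    refine sup_le (normalizer_sup_ge (by rw [Subgroup.normalizer_eq_top W]; exact le_top) hTY) ?_
    intro o ho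
    refine mem_normalizer_of_conj_map_eq (Subgroup.eq_of_le_of_card_ge ?_
      (Subgroup.card_map_of_injective (MulEquiv.injective _)).ge)
    rw [Subgroup.map_sup]
    refine sup_le ?_ ?_
    · rintro _ ⟨w, hw, rfl⟩; exact Subgroup.mem_sup_left (hWn.conj_mem w hw o)
    · rintro _ ⟨y, hy, rfl⟩
      have e : (MulAut.conj o).toMonoidHom y = ⁅o, y⁆ * y := by simp [commutatorElement_def, mul_assoc]
      rw [e]
      exact Subgroup.mul_mem_sup (Subgroup.commutator_mem_commutator ho hy) hy
  haveI := hWn
  exact pResidual_le_of_le_sup (T.2.to_le hYT)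
    (hle.trans (Subgroup.normalClosure_le_normal (le_sup_right : Y ≤ W ⊔ Y)))

end Cfsg.Agent.S2827
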