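import Cfsg.Statements.S2828
import Cfsg.Agent.Lib.PIrr

set_option autoImplicit false
open Cfsg

namespace Cfsg.Agent.S2828
open CfsgLib.PIrr
open scoped commutatorElement

/-- Let H be a finite group, p a prime and D a normal p-subgroup of H. Then H is p-irreducible if and only if H/D is p-irreducible, and H is strongly p-irreducible if and only if H/D is strongly p-irreducible. -/
theorem result {H : Type*} [Group H] [Finite H] {p : ℕ} [Fact p.Prime] (D : Subgroup H) [D.Normal] (hD : IsPGroup p ↥D) : (Cfsg.IsPIrreducible p H ↔ Cfsg.IsPIrreducible p (H ⧸ D)) ∧ (Cfsg.IsStronglyPIrreducible p H ↔ Cfsg.IsStronglyPIrreducible p (H ⧸ D)) := by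
  set π := QuotientGroup.mk' D
  have hπ : Function.Surjective π := QuotientGroup.mk'_surjective D
  have hker : ∀ {x}, π x = 1 ↔ x ∈ D := fun {x} => QuotientGroup.eq_one_iff x
  have hDO : D ≤ Cfsg.pCore p H := CfsgLib.Core.le_pCore inferInstance hD
  have hcore : ∀ x, π x ∈ Cfsg.pCore p (H ⧸ D) ↔ x ∈ Cfsg.pCore p H := by
    intro x
    refine ⟨fun hx => ?_, fun hx => CfsgLib.Core.pCore_map_le π hπ p ⟨x, hx, rfl⟩⟩
    refine CfsgLib.Core.le_pCore (N := (Cfsg.pCore p (H ⧸ D)).comap π) inferInstance ?_ hx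
    exact (CfsgLib.Core.isPGroup_pCore p).comap_of_ker_isPGroup π (by rw [QuotientGroup.ker_mk']; exact hD)
  have hclosed : Cfsg.IsPClosed p H ↔ Cfsg.IsPClosed p (H ⧸ D) := by
    rw [isPClosed_iff, isPClosed_iff]
    constructor
    · intro h y hy
      obtain ⟨y, rfl⟩ := hπ y
      obtain ⟨x, -, hxy, hx⟩ := exists_isPElt_lift π hy
      rw [← hxy]; exact (hcore x).mpr (h x hx)
    · exact fun h x hx => (hcore x).mp (h _ (map_isPElt π hx))
  have hres : ∀ N : Subgroup H, Cfsg.pResidual p H ≤ N → Cfsg.pResidual p (H ⧸ D) ≤ N.map π := fun N h =>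
    (pResidual_map π hπ).ge.trans (Subgroup.map_mono h)
  have hres' : ∀ N : Subgroup H, N.Normal → Cfsg.pResidual p (H ⧸ D) ≤ N.map π → Cfsg.pResidual p H ≤ N := by
    intro N hN h
    haveI := hN
    refine pResidual_le_of_le_sup hD ?_
    rw [← pResidual_map π hπ, Subgroup.map_le_iff_le_comap, Subgroup.comap_map_eq, QuotientGroup.ker_mk'] at h
    exact h
  constructor
  · constructor
    · rintro ⟨h1, h2⟩
      refine ⟨fun h => h1 (hclosed.mpr h), fun N hN hnc => ?_⟩
      haveI := hN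
      rw [← Subgroup.map_comap_eq_self_of_surjective hπ N]
      refine hres _ (h2 (N.comap π) inferInstance fun hc => hnc ?_)
      rw [isPClosed_normal_iff] at hc ⊢
      intro y hy hyp
      obtain ⟨y, rfl⟩ := hπ y
      obtain ⟨x, -, hxy, hx⟩ := exists_isPElt_lift π hyp
      rw [← hxy]
      exact (hcore x).mpr (hc x (show π x ∈ N by rw [hxy]; exact hy) hx)
    · rintro ⟨h1, h2⟩
      refine ⟨fun h => h1 (hclosed.mp h), fun N hN hnc => hres' N hN (h2 _ (hN.map _ hπ) fun hc => hnc ?_)⟩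
      haveI := hN
      haveI := hN.map _ hπ
      rw [isPClosed_normal_iff] at hc ⊢
      exact fun x hx hxp => (hcore x).mp (hc _ ⟨x, hx, rfl⟩ (map_isPElt π hxp))
  · constructor
    · rintro ⟨h1, h2⟩
      refine ⟨fun h => h1 (hclosed.mpr h), fun N hN hnc => ?_⟩
      haveI := hN
      rw [← Subgroup.map_comap_eq_self_of_surjective hπ N]
      refine hres _ (h2 (N.comap π) inferInstance fun hc => hnc ?_)
      rw [Subgroup.commutator_le] at hc ⊢
      intro a ha b _
      obtain ⟨a, rfl⟩ := hπ a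
      obtain ⟨b, rfl⟩ := hπ b
      rw [← map_commutatorElement]
      exact (hcore _).mpr (hc a ha b (Subgroup.mem_top b))
    · rintro ⟨h1, h2⟩
      refine ⟨fun h => h1 (hclosed.mp h), fun N hN hnc => hres' N hN (h2 _ (hN.map _ hπ) fun hc => hnc ?_)⟩
      rw [Subgroup.commutator_le] at hc ⊢
      intro a ha b _
      rw [← hcore, map_commutatorElement]
      exact hc _ ⟨a, ha, rfl⟩ _ (Subgroup.mem_top _)

end Cfsg.Agent.S2828
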