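import Cfsg.Statements.S2829
import Cfsg.Agent.Lib.PIrr

set_option autoImplicit false
open Cfsg

namespace Cfsg.Agent.S2829
open CfsgLib.PIrr
open scoped commutatorElement

/-- Every strongly p-irreducible finite group is p-irreducible. -/
theorem result {H : Type*} [Group H] [Finite H] {p : ℕ} [Fact p.Prime] (hH : Cfsg.IsStronglyPIrreducible p H) : Cfsg.IsPIrreducible p H := by
  refine ⟨hH.1, fun N hN hnc => hH.2 N hN fun hle => hnc ?_⟩
  haveI := hN
  rw [isPClosed_normal_iff]
  intro x hx hxp
  set π := QuotientGroup.mk' (Cfsg.pCore p H)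
  have hcen : ∀ g : H, π g * π x = π x * π g := fun g => by
    have h1 : π ⁅x, g⁆ = 1 :=
      (QuotientGroup.eq_one_iff _).mpr (hle (Subgroup.commutator_mem_commutator hx (Subgroup.mem_top g)))
    rw [map_commutatorElement, commutatorElement_eq_one_iff_mul_comm] at h1
    exact h1.symm
  have hn : (Subgroup.zpowers (π x)).Normal := ⟨fun a ha g => by
    obtain ⟨i, rfl⟩ := Subgroup.mem_zpowers_iff.mp ha
    obtain ⟨g, rfl⟩ := QuotientGroup.mk'_surjective _ g
    rw [((show Commute (π g) (π x) from hcen g).zpow_right i).eq, mul_inv_cancel_right]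
    exact Subgroup.zpow_mem_zpowers _ i⟩
  obtain ⟨k, hk⟩ := map_isPElt π hxp
  have := CfsgLib.Core.le_pCore hn (CfsgLib.LocalBasic.isPGroup_zpowers_of_pow_eq_one hk) (Subgroup.mem_zpowers _)
  rw [CfsgLib.Core.pCore_quotient_eq_bot, Subgroup.mem_bot] at this
  exact (QuotientGroup.eq_one_iff x).mp this

end Cfsg.Agent.S2829
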