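import Cfsg.Statements.S2830
import Cfsg.Agent.Lib.PIrr
import Cfsg.Agent.Lib.PCoreOf

set_option autoImplicit false
open Cfsg

namespace Cfsg.Agent.S2830

/-- Let H act by conjugation on the elementary abelian p-subgroup V of a finite group G (H ≤ N(V)), with H p-irreducible and O^p(H) not centralizing V. Then C_H(V) is p-closed and C_T(V) ≤ O_p(H) for every p-subgroup T of H. If in addition O_p(H) centralizes V, then C_T(V) = T ∩ O_p(H) for every p-subgroup T of H, and V is p-reduced for H: O_p(H/C_H(V)) = 1. -/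
theorem result {G : Type*} [Group G] [Finite G] {p : ℕ} [Fact p.Prime] (V H : Subgroup G) (hV : Cfsg.IsElementaryAbelian p V) (hHV : H ≤ Subgroup.normalizer (V : Set G)) (hH : Cfsg.IsPIrreducible p ↥H) (hnc : ¬ (Cfsg.pResidual p ↥H).map H.subtype ≤ Subgroup.centralizer (V : Set G)) [hn : ((Subgroup.centralizer (V : Set G)).subgroupOf H).Normal] : Cfsg.IsPClosed p ↥(H ⊓ Subgroup.centralizer (V : Set G)) ∧ (∀ T : Subgroup G, T ≤ H → IsPGroup p ↥T → T ⊓ Subgroup.centralizer (V : Set G) ≤ Cfsg.pCoreOf p H) ∧ (Cfsg.pCoreOf p H ≤ Subgroup.centralizer (V : Set G) → (∀ T : Subgroup G, T ≤ H → IsPGroup p ↥T → T ⊓ Subgroup.centralizer (V : Set G) = T ⊓ Cfsg.pCoreOf p H) ∧ Cfsg.pCore p (↥H ⧸ (Subgroup.centralizer (V : Set G)).subgroupOf H) = ⊥) := by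
  classical
  set C := (Subgroup.centralizer (V : Set G)).subgroupOf H with hC
  haveI := hn
  obtain ⟨hncl, hirr⟩ := hH
  have hCnot : ¬ Cfsg.pResidual p ↥H ≤ C := fun hle => hnc (by
    rintro _ ⟨x, hx, rfl⟩; exact Subgroup.mem_subgroupOf.mp (hle hx))
  have hCcl : Cfsg.IsPClosed p ↥C := by_contra fun hc => hCnot (hirr C hn hc)
  have hmem : ∀ x ∈ C, CfsgLib.PIrr.IsPElt p x → x ∈ Cfsg.pCore p ↥H := CfsgLib.PIrr.isPClosed_normal_iff.mp hCcl
  have h2 : ∀ T : Subgroup G, T ≤ H → IsPGroup p ↥T → T ⊓ Subgroup.centralizer (V : Set G) ≤ Cfsg.pCoreOf p H := by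
    intro T hT hTp x hx
    refine ⟨⟨x, hT hx.1⟩, hmem _ (Subgroup.mem_subgroupOf.mpr hx.2) ?_, rfl⟩
    exact CfsgLib.PIrr.coe_isPElt.mp (CfsgLib.PIrr.isPElt_of_mem hTp hx.1)
  refine ⟨?_, h2, fun hO => ⟨fun T hT hTp => le_antisymm (le_inf inf_le_left (h2 T hT hTp)) (inf_le_inf_left T hO), ?_⟩⟩
  · rw [CfsgLib.PIrr.isPClosed_iff] at hCcl ⊢
    intro x hx
    let e : ↥C ≃* ↥(H ⊓ Subgroup.centralizer (V : Set G)) :=
      { toFun := fun y => ⟨((y : ↥H) : G), (y : ↥H).2, Subgroup.mem_subgroupOf.mp y.2⟩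
        invFun := fun y => ⟨⟨y, y.2.1⟩, Subgroup.mem_subgroupOf.mpr y.2.2⟩
        left_inv := fun y => rfl
        right_inv := fun y => rfl
        map_mul' := fun y z => rfl }
    rw [← CfsgLib.Core.pCore_map_equiv e p]
    refine ⟨e.symm x, hCcl _ (CfsgLib.PIrr.map_isPElt e.symm.toMonoidHom hx), e.apply_symm_apply x⟩
  · set π := QuotientGroup.mk' C
    set D := (Cfsg.pCore p (↥H ⧸ C)).comap π
    haveI : D.Normal := Subgroup.Normal.comap (Cfsg.pCore_normal p _) _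
    have hO' : Cfsg.pCore p ↥H ≤ C := fun x hx => Subgroup.mem_subgroupOf.mpr (hO ⟨x, hx, rfl⟩)
    have hDC : D ≤ C := by
      by_cases hcl : Cfsg.IsPClosed p ↥D
      · intro x hx
        obtain ⟨k, hk⟩ := (CfsgLib.Core.isPGroup_pCore p) ⟨π x, hx⟩
        obtain ⟨y, hy, hye, hyp⟩ := CfsgLib.PIrr.exists_isPElt_lift π (y := x) ⟨k, by simpa using congrArg Subtype.val hk⟩
        have hyC : y ∈ C := hO' (CfsgLib.PIrr.isPClosed_normal_iff.mp hcl y (Subgroup.zpowers_le.mpr hx hy) hyp)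
        rw [← QuotientGroup.eq_one_iff, show ((x : ↥H) : ↥H ⧸ C) = π x from rfl, ← hye]
        exact (QuotientGroup.eq_one_iff y).mpr hyC
      · exfalso
        refine hCnot ((Subgroup.closure_le _).mpr fun x hx => ?_)
        obtain ⟨k, hk⟩ := (CfsgLib.Core.isPGroup_pCore p) ⟨π x, hirr D inferInstance hcl (CfsgLib.PResidual.mem_pResidual hx)⟩
        refine (QuotientGroup.eq_one_iff x).mp (orderOf_eq_one_iff.mp (Nat.eq_one_of_dvd_coprimes (Nat.Coprime.pow_right k hx)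
          (orderOf_map_dvd π x) (orderOf_dvd_of_pow_eq_one ?_)))
        exact congrArg Subtype.val hk
    rw [← Subgroup.map_comap_eq_self_of_surjective (QuotientGroup.mk'_surjective C) (Cfsg.pCore p (↥H ⧸ C)),
      Subgroup.map_eq_bot_iff, QuotientGroup.ker_mk']
    exact hDC

end Cfsg.Agent.S2830
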