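import Cfsg.Statements.S2831
import Cfsg.Agent.Lib.PIrr

set_option autoImplicit false
open Cfsg

namespace Cfsg.Agent.S2831
open CfsgLib.PIrr CfsgLib.LocalBasic

/-- Let H be a finite group with Sylow p-subgroup T such that H is T-minimal (H is generated by the conjugates of T and T lies in exactly one maximal subgroup of H). Then H is p-irreducible: H is not p-closed and O^p(H) lies in every normal subgroup of H that is not p-closed. -/
theorem result {H : Type*} [Group H] [Finite H] {p : ℕ} [Fact p.Prime] (T : Sylow p H) (hmin : Cfsg.IsMinimalOver (T : Subgroup H)) : Cfsg.IsPIrreducible p H := by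
  obtain ⟨hcl, M, ⟨hM, hTM⟩, huniq⟩ := hmin
  refine ⟨fun hc => ?_, fun N hN hnc => ?_⟩
  · haveI := hc T
    exact hM.1 (top_le_iff.mp (hcl.ge.trans ((Subgroup.normalClosure_le_normal le_rfl).trans hTM)))
  haveI := hN
  by_cases htop : N ⊔ (T : Subgroup H) = ⊤
  · exact pResidual_le_of_le_sup T.2 (htop ▸ le_top)
  exfalso
  apply hnc
  obtain ⟨M', hM', hle⟩ := (eq_top_or_exists_le_coatom (N ⊔ (T : Subgroup H))).resolve_left htop
  obtain ⟨Q, hQ⟩ := ((T.2.to_le inf_le_left : IsPGroup p ↥((T : Subgroup H) ⊓ N : Subgroup H)).comap_subtype (K := N)).exists_le_sylow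
  set Q' := (Q : Subgroup ↥N).map N.subtype with hQ'
  have hQT : Q' = (T : Subgroup H) ⊓ N := by
    obtain ⟨m, -, hm⟩ := exists_conj_le_sylow T (M := ⊤) le_top (Q.2.map N.subtype) le_top
    have h1 : (T : Subgroup H) ⊓ N ≤ Q' := fun u hu => ⟨⟨u, hu.2⟩, hQ (Subgroup.mem_subgroupOf.mpr hu), rfl⟩
    have h2 : Q'.map (MulAut.conj m).toMonoidHom ≤ (T : Subgroup H) ⊓ N := by
      rintro _ ⟨u, hu, rfl⟩
      exact ⟨hm u hu, hN.conj_mem u (Subgroup.map_subtype_le _ hu) m⟩
    exact (Subgroup.eq_of_le_of_card_ge h1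
      ((Subgroup.card_map_of_injective (MulEquiv.injective _)).symm.le.trans (Subgroup.card_le_of_le h2))).symm
  have hfr := Sylow.normalizer_sup_eq_top Q
  by_cases hQn : Subgroup.normalizer (Q' : Set H) = ⊤
  · have hn := Subgroup.normalizer_eq_top_iff.mp hQn
    rw [isPClosed_normal_iff]
    intro x hx hxp
    obtain ⟨k, hk⟩ := hxp
    obtain ⟨m, -, hm⟩ := exists_conj_le_sylow Q (M := ⊤) le_top
      ((isPGroup_zpowers_of_pow_eq_one (k := k) hk).comap_subtype (K := N)) le_top
    have h1 : (m : H) * x * (m : H)⁻¹ ∈ Q' :=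
      ⟨_, hm ⟨x, hx⟩ (Subgroup.mem_subgroupOf.mpr (Subgroup.mem_zpowers x)), by simp⟩
    have h2 := hn.conj_mem _ h1 (m : H)⁻¹
    exact CfsgLib.Core.le_pCore hn (Q.2.map N.subtype) (by simpa [mul_assoc] using h2)
  · exfalso
    obtain ⟨M'', hM'', hle2⟩ := (eq_top_or_exists_le_coatom (Subgroup.normalizer (Q' : Set H))).resolve_left hQn
    have hTQ : (T : Subgroup H) ≤ Subgroup.normalizer (Q' : Set H) := by
      rw [hQT]; exact normalizer_inf_ge Subgroup.le_normalizer (by rw [Subgroup.normalizer_eq_top N]; exact le_top)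
    have e1 : M' = M := huniq _ ⟨hM', le_sup_right.trans hle⟩
    have e2 : M'' = M := huniq _ ⟨hM'', hTQ.trans hle2⟩
    exact hM.1 (top_le_iff.mp (hfr.ge.trans (sup_le (e2 ▸ hle2) (e1 ▸ le_sup_left.trans hle))))

end Cfsg.Agent.S2831
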