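import Cfsg.Statements.S2832
import Cfsg.Agent.Lib.PIrr

set_option autoImplicit false
open Cfsg

namespace Cfsg.Agent.S2832

/-- Let H be a finite group with Sylow p-subgroup T such that H is T-minimal (generated by the conjugates of T, with T in exactly one maximal subgroup), and let N be a normal subgroup of H. Then either H/N is a p-group or H/N is minimal over the image of T in the same sense. -/
theorem result {H : Type*} [Group H] [Finite H] {p : ℕ} [Fact p.Prime] (T : Sylow p H) (hmin : Cfsg.IsMinimalOver (T : Subgroup H)) (N : Subgroup H) [N.Normal] : IsPGroup p (H ⧸ N) ∨ Cfsg.IsMinimalOver ((T : Subgroup H).map (QuotientGroup.mk' N)) := by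
  obtain ⟨hcl, M, ⟨hM, hTM⟩, huniq⟩ := hmin
  set π := QuotientGroup.mk' N with hπ
  have hπs : Function.Surjective π := QuotientGroup.mk'_surjective N
  by_cases htop : (T : Subgroup H).map π = ⊤
  · left
    exact (htop ▸ T.2.map π : IsPGroup p ↥(⊤ : Subgroup (H ⧸ N))).of_equiv Subgroup.topEquiv
  · right
    refine ⟨?_, ?_⟩
    · rw [← top_le_iff, ← Subgroup.map_top_of_surjective π hπs, ← hcl, Subgroup.map_le_iff_le_comap]
      exact Subgroup.normalClosure_le_normal fun t ht => Subgroup.subset_normalClosure ⟨t, ht, rfl⟩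
    · obtain ⟨Mb, hMb, hle⟩ := (eq_top_or_exists_le_coatom _).resolve_left htop
      refine ⟨Mb, ⟨hMb, hle⟩, fun M2 hM2 => ?_⟩
      have key : ∀ X : Subgroup (H ⧸ N), IsCoatom X → (T : Subgroup H).map π ≤ X → X.comap π = M := by
        intro X hX hTX
        refine huniq _ ⟨?_, Subgroup.map_le_iff_le_comap.mp hTX⟩
        exact Subgroup.isCoatom_comap_of_surjective hπs hX
      exact Subgroup.comap_injective hπs ((key M2 hM2.1 hM2.2).trans (key Mb hMb hle).symm)

end Cfsg.Agent.S2832
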