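import Cfsg.Statements.S2833
import Cfsg.Agent.Lib.LocalBasic

set_option autoImplicit false
open Cfsg

namespace Cfsg.Agent.S2833
open CfsgLib.LocalBasic
open scoped commutatorElement

/-- Let V be a subgroup of a finite group G normalized by the subgroup L, let X ≤ L and g ∈ L with [V, X, X] = 1 and L generated by X and gXg⁻¹. Put W = [V, L]. Then W = [V, X]·[V, gXg⁻¹], C_W(X) = [V, X], and C_W(L) = [V, X] ∩ [V, gXg⁻¹]. -/
theorem result {G : Type*} [Group G] [Finite G] (V L : Subgroup G) (hLV : L ≤ Subgroup.normalizer (V : Set G)) (X : Subgroup G) (hX : X ≤ L) (g : G) (hg : g ∈ L) (hq : ⁅⁅V, X⁆, X⁆ = ⊥) (hgen : X ⊔ X.map (MulAut.conj g).toMonoidHom = L) (W : Subgroup G) (hW : W = ⁅V, L⁆) : ⁅V, X⁆ ⊔ ⁅V, X.map (MulAut.conj g).toMonoidHom⁆ = W ∧ W ⊓ Subgroup.centralizer (X : Set G) = ⁅V, X⁆ ∧ W ⊓ Subgroup.centralizer (L : Set G) = ⁅V, X⁆ ⊓ ⁅V, X.map (MulAut.conj g).toMonoidHom⁆ := by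
  subst hW
  set A := ⁅V, X⁆ with hA
  set B := ⁅V, X.map (MulAut.conj g).toMonoidHom⁆ with hB
  have hXgL : X.map (MulAut.conj g).toMonoidHom ≤ L := by rw [← hgen]; exact le_sup_right
  have hAV : A ≤ V := Subgroup.le_normalizer_iff_commutator_le_left.mp (hX.trans hLV)
  have hBV : B ≤ V := Subgroup.le_normalizer_iff_commutator_le_left.mp (hXgL.trans hLV)
  have hAX : A ≤ Subgroup.centralizer (X : Set G) := Subgroup.commutator_eq_bot_iff_le_centralizer.mp hq
  have hVA : V ≤ Subgroup.normalizer (A : Set G) := Subgroup.normalizer_commutator_ge_left V X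
  have hXA : X ≤ Subgroup.normalizer (A : Set G) := Subgroup.normalizer_commutator_ge_right V X
  have hVB : V ≤ Subgroup.normalizer (B : Set G) := Subgroup.normalizer_commutator_ge_left V _
  have hXgB : X.map (MulAut.conj g).toMonoidHom ≤ Subgroup.normalizer (B : Set G) :=
    Subgroup.normalizer_commutator_ge_right V _
  have hmapV : V.map (MulAut.conj g).toMonoidHom = V := conj_map_eq_of_mem_normalizer (hLV hg)
  have hBeq : B = A.map (MulAut.conj g).toMonoidHom := by
    rw [hA, Subgroup.map_commutator, hmapV]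
  have hBXg : B ≤ Subgroup.centralizer ((X.map (MulAut.conj g).toMonoidHom : Subgroup G) : Set G) := by
    rw [hBeq]
    rintro _ ⟨a, ha, rfl⟩ _ ⟨x, hx, rfl⟩
    rw [← map_mul, hAX ha x hx, map_mul]
  have hnorm : ∀ Y U W : Subgroup G, ⁅V, Y⁆ ≤ U → U ≤ V → W ≤ V → U ≤ Subgroup.normalizer (U : Set G) → W ≤ Subgroup.normalizer (U : Set G) → Y ≤ Subgroup.normalizer (U : Set G) →
      Y ≤ Subgroup.normalizer ((U ⊔ W : Subgroup G) : Set G) := by
    intro Y U W hYU hUV hWV _ _ hYn y hy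
    refine mem_normalizer_of_conj_map_eq (Subgroup.eq_of_le_of_card_ge ?_
      (Subgroup.card_map_of_injective (MulEquiv.injective _)).ge)
    rw [Subgroup.map_sup, conj_map_eq_of_mem_normalizer (hYn hy)]
    refine sup_le le_sup_left ?_
    rintro _ ⟨w, hw, rfl⟩
    have e : (MulAut.conj y).toMonoidHom w = ⁅w, y⁆⁻¹ * w := by simp [commutatorElement_def, mul_assoc]
    rw [e]
    exact Subgroup.mul_mem_sup (U.inv_mem (hYU (Subgroup.commutator_mem_commutator (hWV hw) hy))) hw
  have hXAB : X ≤ Subgroup.normalizer ((A ⊔ B : Subgroup G) : Set G) :=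
    hnorm X A B le_rfl hAV hBV Subgroup.le_normalizer (hBV.trans hVA) hXA
  have hXgAB : X.map (MulAut.conj g).toMonoidHom ≤ Subgroup.normalizer ((A ⊔ B : Subgroup G) : Set G) := by
    rw [sup_comm]; exact hnorm _ B A le_rfl hBV hAV Subgroup.le_normalizer (hAV.trans hVB) hXgB
  have hW : A ⊔ B = ⁅V, L⁆ := by
    refine le_antisymm (sup_le (Subgroup.commutator_mono le_rfl hX) (Subgroup.commutator_mono le_rfl hXgL)) ?_
    rw [Subgroup.commutator_comm, ← hgen]
    refine commutator_sup_le hXAB hXgAB ?_ ?_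
    · rw [Subgroup.commutator_comm]; exact le_sup_left
    · rw [Subgroup.commutator_comm]; exact le_sup_right
  have hmem : ∀ w ∈ ⁅V, L⁆, w ∈ Subgroup.centralizer (X : Set G) → ∃ a ∈ A, ∃ b ∈ B, w = a * b ∧
      b ∈ Subgroup.centralizer (L : Set G) := by
    intro w hw hwc
    rw [← hW, ← SetLike.mem_coe, Subgroup.coe_mul_of_right_le_normalizer_left _ _ (hBV.trans hVA), Set.mem_mul] at hw
    obtain ⟨a, ha, b, hb, rfl⟩ := hw
    refine ⟨a, ha, b, hb, rfl, ?_⟩
    have hbX : b ∈ Subgroup.centralizer (X : Set G) := by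
      have := Subgroup.mul_mem _ (Subgroup.inv_mem _ (hAX ha)) hwc
      simpa using this
    have hLb : L ≤ Subgroup.centralizer ({b} : Set G) := by
      rw [← hgen]
      exact sup_le (fun y hy => Subgroup.mem_centralizer_singleton_iff.mpr (hbX y hy))
        (fun y hy => Subgroup.mem_centralizer_singleton_iff.mpr (hBXg hb y hy))
    exact fun y hy => Subgroup.mem_centralizer_singleton_iff.mp (hLb hy)
  have hBA : ∀ b ∈ B, b ∈ Subgroup.centralizer (L : Set G) → b ∈ A := by
    intro b hb hbc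
    rw [hBeq] at hb
    obtain ⟨a, ha, rfl⟩ := hb
    have h1 := hbc g hg
    have : (MulAut.conj g).toMonoidHom a = a := by
      show g * a * g⁻¹ = a
      have h2 : g * (g * a * g⁻¹) = g * a * g⁻¹ * g := h1
      rw [inv_mul_cancel_right] at h2
      exact mul_left_cancel h2
    rw [this]; exact ha
  refine ⟨hW, le_antisymm ?_ (le_inf (Subgroup.commutator_mono le_rfl hX) hAX), le_antisymm ?_ ?_⟩
  · rintro w ⟨hw, hwc⟩
    obtain ⟨a, ha, b, hb, rfl, hbc⟩ := hmem w hw hwc
    exact A.mul_mem ha (hBA b hb hbc)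
  · rintro w ⟨hw, hwc⟩
    obtain ⟨a, ha, b, hb, rfl, hbc⟩ := hmem w hw (Subgroup.centralizer_le (SetLike.coe_subset_coe.mpr hX) hwc)
    have hac : a ∈ Subgroup.centralizer (L : Set G) := by
      have := Subgroup.mul_mem _ hwc (Subgroup.inv_mem _ hbc)
      simpa using this
    refine ⟨A.mul_mem ha (hBA b hb hbc), B.mul_mem ?_ hb⟩
    rw [hBeq]
    refine ⟨a, ha, ?_⟩
    show g * a * g⁻¹ = a
    rw [hac g hg, mul_inv_cancel_right]
  · refine le_inf (inf_le_left.trans (Subgroup.commutator_mono le_rfl hX)) ?_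
    rw [Subgroup.le_centralizer_iff, ← hgen]
    refine sup_le ?_ ?_ <;> rw [Subgroup.le_centralizer_iff]
    · exact inf_le_left.trans hAX
    · exact inf_le_right.trans hBXg

end Cfsg.Agent.S2833
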