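import Cfsg.Statements.S2834
import Cfsg.Agent.Lib.PCoreOf
import Cfsg.Agent.Lib.Core
import Cfsg.Agent.Lib.LocalBasic

set_option autoImplicit false
open Cfsg

namespace Cfsg.Agent.S2834
open Subgroup CfsgLib.LocalBasic
open scoped Pointwise

variable {H : Type*} [Group H] [Finite H] {p : ℕ} [Fact p.Prime]

/-- The conjugate of a subgroup. -/
noncomputable abbrev cj (g : H) (X : Subgroup H) : Subgroup H := X.map (MulAut.conj g).toMonoidHom

omit [Finite H] in
theorem cj_cj (g h : H) (X : Subgroup H) : cj g (cj h X) = cj (g * h) X := by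
  simp only [Subgroup.map_map]
  congr 1; ext y; simp [mul_assoc]

omit [Finite H] in
theorem cj_one (X : Subgroup H) : cj 1 X = X := by
  ext y; simp

omit [Finite H] in
theorem cj_inv_cj (g : H) (X : Subgroup H) : cj g⁻¹ (cj g X) = X := by rw [cj_cj, inv_mul_cancel, cj_one]

omit [Finite H] in
theorem cj_mono (g : H) {X Y : Subgroup H} (h : X ≤ Y) : cj g X ≤ cj g Y := Subgroup.map_mono h

omit [Finite H] in
theorem cj_normal (g : H) {X : Subgroup H} (hX : X.Normal) : cj g X = X :=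
  conj_map_eq_of_mem_normalizer (by rw [Subgroup.normalizer_eq_top (H := X)]; exact mem_top g)

omit [Finite H] in
theorem cj_isCoatom (g : H) {X : Subgroup H} (hX : IsCoatom X) : IsCoatom (cj g X) :=
  (OrderIso.isCoatom_iff (MulEquiv.mapSubgroup (MulAut.conj g)) X).mpr hX

/-- Subgroup generated by the core and the conjugates of `A` below `Y`. -/
noncomputable def wc (p : ℕ) (A Y : Subgroup H) : Subgroup H :=
  Cfsg.pCore p H ⊔ ⨆ g : {g : H // cj g A ≤ Y}, cj (g : H) A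

omit [Finite H] [Fact p.Prime] in
theorem wc_le {A Y : Subgroup H} (hY : Cfsg.pCore p H ≤ Y) : wc p A Y ≤ Y :=
  sup_le hY (iSup_le fun g => g.2)

omit [Finite H] [Fact p.Prime] in
theorem le_wc {A Y : Subgroup H} {g : H} (hg : cj g A ≤ Y) : cj g A ≤ wc p A Y :=
  le_sup_of_le_right (le_iSup (fun g : {g : H // cj g A ≤ Y} => cj (g : H) A) ⟨g, hg⟩)

omit [Finite H] [Fact p.Prime] in
theorem wc_mono {A Y Z : Subgroup H} (h : Y ≤ Z) : wc p A Y ≤ wc p A Z :=
  sup_le le_sup_left (iSup_le fun g => le_wc (g.2.trans h))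

omit [Finite H] [Fact p.Prime] in
theorem wc_idem {A Y : Subgroup H} (hY : Cfsg.pCore p H ≤ Y) : wc p A (wc p A Y) = wc p A Y :=
  le_antisymm (wc_mono (wc_le hY)) (sup_le le_sup_left (iSup_le fun g => le_wc (le_wc g.2)))

omit [Finite H] [Fact p.Prime] in
theorem cj_wc (h : H) (A Y : Subgroup H) : cj h (wc p A Y) = wc p A (cj h Y) := by
  have key : ∀ (h : H) (Y : Subgroup H), cj h (wc p A Y) ≤ wc p A (cj h Y) := fun h Y => by
    simp only [wc, cj, Subgroup.map_sup, Subgroup.map_iSup]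
    refine sup_le_sup (cj_normal h (Cfsg.pCore_normal p H)).le (iSup_le fun g => ?_)
    rw [show ((A.map (MulAut.conj (g : H)).toMonoidHom).map (MulAut.conj h).toMonoidHom) = cj (h * g) A from cj_cj h g A]
    exact le_iSup (fun g : {g : H // cj g A ≤ cj h Y} => cj (g : H) A) ⟨h * g, by rw [← cj_cj]; exact cj_mono h g.2⟩
  refine le_antisymm (key h Y) ?_
  have h2 := cj_mono h (key h⁻¹ (cj h Y))
  rwa [cj_inv_cj, cj_cj, mul_inv_cancel, cj_one] at h2

omit [Finite H] [Fact p.Prime] in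
theorem normalizer_le_wc (A Y : Subgroup H) : normalizer (Y : Set H) ≤ normalizer (wc p A Y : Set H) := fun g hg =>
  mem_normalizer_of_conj_map_eq (by
    have := cj_wc (p := p) g A Y
    rwa [show cj g Y = Y from conj_map_eq_of_mem_normalizer hg] at this)

/-- Chain lemma. -/
theorem chain {A P Y : Subgroup H} (hP : IsPGroup p ↥P) (hYP : Y ≤ P) (hOY : Cfsg.pCore p H ≤ Y)
    (hY : wc p A Y = Y) {g : H} (hg : cj g A ≤ P) (hgY : ¬ cj g A ≤ Y) :
    ∃ g' : H, cj g' A ≤ P ∧ cj g' A ≤ normalizer (Y : Set H) ∧ ¬ cj g' A ≤ Y := by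
  by_contra hc
  push Not at hc
  set K := P ⊓ normalizer (Y : Set H) with hK
  have hYK : Y ≤ K := le_inf hYP Subgroup.le_normalizer
  have hwK : wc p A K = Y := by
    refine le_antisymm (sup_le hOY (iSup_le fun g => hc g (g.2.trans inf_le_left) (g.2.trans inf_le_right))) ?_
    exact hY.ge.trans (wc_mono hYK)
  have hKP : K = P := eq_of_normalizer_inf_le hP inf_le_left
    (le_inf inf_le_left (inf_le_right.trans ((normalizer_le_wc (p := p) A K).trans (by rw [hwK]))))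
  exact hgY (hc g hg ((hg.trans hKP.ge).trans inf_le_right))

/-- The data of a pair. -/
def Pair (p : ℕ) (A M : Subgroup H) (Y : Subgroup H) (n a : H) : Prop :=
  Cfsg.pCore p H ≤ Y ∧ IsPGroup p ↥Y ∧ wc p A Y = Y ∧ Y ≤ cj n M ∧
    cj a A ≤ normalizer (Y : Set H) ∧ ¬ cj a A ≤ cj n M

omit [Finite H] [Fact p.Prime] in
theorem Pair.conj {A M Y : Subgroup H} {n a : H} (h : Pair p A M Y n a) (t : H) :
    Pair p A M (cj t Y) (t * n) (t * a) := by
  obtain ⟨h1, h2, h3, h4, h5, h6⟩ := h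
  refine ⟨?_, h2.map _, ?_, ?_, ?_, ?_⟩
  · rw [← cj_normal t (Cfsg.pCore_normal p H)]; exact cj_mono t h1
  · rw [← cj_wc, h3]
  · rw [← cj_cj]; exact cj_mono t h4
  · rw [← cj_cj]
    refine (cj_mono t h5).trans (le_of_eq ?_)
    exact Subgroup.map_equiv_normalizer_eq Y (MulAut.conj t)
  · rw [← cj_cj, ← cj_cj]
    intro hh
    have := cj_mono t⁻¹ hh
    rw [cj_inv_cj, cj_inv_cj] at this
    exact h6 this

/-- The L-Lemma: let H be a finite group with Sylow p-subgroup T such that H is T-minimal (generated by the conjugates of T, T in exactly one maximal subgroup M), and let A ≤ T with A not contained in O_p(H). Then there is a subgroup L of H containing A·O_p(H) such that (a) A·O_p(L) lies in exactly one maximal subgroup L₀ of L, and L₀ = L ∩ gMg⁻¹ for some g ∈ H; (b) L = ⟨A, xAx⁻¹⟩·O_p(L) for every x ∈ L outside L₀. -/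
theorem result {H : Type*} [Group H] [Finite H] {p : ℕ} [Fact p.Prime] (T : Sylow p H) (hmin : Cfsg.IsMinimalOver (T : Subgroup H)) (M : Subgroup H) (hM : IsCoatom M ∧ (T : Subgroup H) ≤ M) (A : Subgroup H) (hAT : A ≤ (T : Subgroup H)) (hA : ¬ A ≤ Cfsg.pCore p H) : ∃ L : Subgroup H, A ⊔ Cfsg.pCore p H ≤ L ∧ ∃ L₀ : Subgroup H, A ⊔ (Cfsg.pCoreOf p L) ≤ L₀ ∧ L₀ < L ∧ (∀ X : Subgroup H, A ⊔ (Cfsg.pCoreOf p L) ≤ X → X < L → X ≤ L₀) ∧ (∃ g : H, L₀ = L ⊓ ((M : Subgroup H).map (MulAut.conj (g : H)).toMonoidHom)) ∧ ∀ x ∈ L, x ∉ L₀ → (A ⊔ ((A : Subgroup H).map (MulAut.conj (x : H)).toMonoidHom)) ⊔ (Cfsg.pCoreOf p L) = L := by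
  classical
  obtain ⟨hgen, M', hM', hM'u⟩ := hmin
  obtain ⟨hMc, hTM⟩ := hM
  have hMM' : M = M' := hM'u M ⟨hMc, hTM⟩
  subst hMM'
  set O := Cfsg.pCore p H with hO
  have hOn : O.Normal := Cfsg.pCore_normal p H
  -- every Sylow subgroup lies in a unique conjugate
  have hsyl : ∀ P : Sylow p H, ∃ g : H, (P : Subgroup H) ≤ cj g M ∧ ∀ X : Subgroup H, (P : Subgroup H) ≤ X → X ≠ ⊤ → X ≤ cj g M := by
    intro P
    obtain ⟨g, hg⟩ := MulAction.exists_smul_eq H T P
    have hPg : (P : Subgroup H) = cj g T := by rw [← hg]; rfl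
    refine ⟨g, hPg ▸ cj_mono g hTM, fun X hPX hX => ?_⟩
    obtain ⟨Z, hZ, hXZ⟩ := (eq_top_or_exists_le_coatom X).resolve_left hX
    have h1 : IsCoatom (cj g⁻¹ Z) ∧ (T : Subgroup H) ≤ cj g⁻¹ Z := ⟨cj_isCoatom _ hZ, by
      have := cj_mono g⁻¹ (hPX.trans hXZ)
      rwa [hPg, cj_inv_cj] at this⟩
    have h2 : cj g⁻¹ Z = M := hM'u _ h1
    refine hXZ.trans (le_of_eq ?_)
    rw [← h2, cj_cj, mul_inv_cancel, cj_one]
  have hne : ∀ g : H, cj g M ≠ ⊤ := fun g => (cj_isCoatom g hMc).1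
  have huniq : ∀ (P : Sylow p H) (g g' : H), (P : Subgroup H) ≤ cj g M → (P : Subgroup H) ≤ cj g' M → cj g M = cj g' M := by
    intro P g g' h h'
    obtain ⟨k, -, hk⟩ := hsyl P
    have e : ∀ g : H, (P : Subgroup H) ≤ cj g M → cj g M = cj k M := fun g h =>
      (((cj_isCoatom g hMc).le_iff).mp (hk _ h (hne g))).resolve_left (hne k) |>.symm
    rw [e g h, e g' h']
  have hin : ∀ (g : H) (Q : Subgroup H), IsPGroup p ↥Q → Q ≤ cj g M → ∃ P : Sylow p H, Q ≤ P ∧ (P : Subgroup H) ≤ cj g M := by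
    intro g Q hQ hQg
    have hTg : ((g • T : Sylow p H) : Subgroup H) ≤ cj g M := cj_mono g hTM
    obtain ⟨m, hm, hmQ⟩ := exists_conj_le_sylow (g • T) hTg hQ hQg
    refine ⟨m⁻¹ • (g • T), fun r hr => ?_, ?_⟩
    · rw [Sylow.coe_subgroup_smul, Subgroup.mem_pointwise_smul_iff_inv_smul_mem, MulAut.smul_def]
      simpa [mul_assoc] using hmQ r hr
    · intro x hx
      rw [Sylow.coe_subgroup_smul, Subgroup.mem_pointwise_smul_iff_inv_smul_mem, MulAut.smul_def] at hx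
      simp only [map_inv, inv_inv, MulAut.conj_apply] at hx
      have := mul_mem (mul_mem (inv_mem hm) (hTg hx)) hm
      simpa [mul_assoc] using this
  have hOP : ∀ P : Sylow p H, O ≤ P := fun P => CfsgLib.Core.pCore_le_sylow P
  have hON : ∀ g : H, O ≤ cj g M := fun g => by
    rw [← cj_normal g hOn]; exact cj_mono g ((hOP T).trans hTM)
  have hAO : ∀ a : H, ¬ cj a A ≤ O := fun a ha => hA (by
    have := cj_mono a⁻¹ ha
    rwa [cj_inv_cj, cj_normal _ hOn] at this)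
  have hAP : ∀ P : Sylow p H, ∃ a : H, cj a A ≤ P := fun P => by
    obtain ⟨g, hg⟩ := MulAction.exists_smul_eq H T P
    exact ⟨g, hg ▸ cj_mono g hAT⟩
  have hnB : ∀ P : Sylow p H, normalizer (wc p A P : Set H) ≠ ⊤ := by
    intro P htop
    have hn : (wc p A P).Normal := normalizer_eq_top_iff.mp htop
    obtain ⟨a, ha⟩ := hAP P
    exact hAO a ((le_wc ha).trans (CfsgLib.Core.le_pCore hn (P.isPGroup'.to_le (wc_le (hOP P)))))
  have hgrow : ∀ (n1 n2 : H) (Q : Subgroup H), IsPGroup p ↥Q → O ≤ Q → Q ≤ cj n1 M → Q ≤ cj n2 M → cj n1 M ≠ cj n2 M →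
      ∃ Y a, Pair p A M Y n2 a ∧ wc p A Q ≤ Y := by
    intro n1 n2 Q hQ hOQ h1 h2 hne12
    obtain ⟨P, hQP, hP1⟩ := hin n1 Q hQ h1
    by_cases hall : ∀ a : H, cj a A ≤ P → cj a A ≤ cj n2 M
    · exfalso
      set B := wc p A (P : Subgroup H) with hB
      have hB2 : B ≤ cj n2 M := sup_le (hON n2) (iSup_le fun g => hall g g.2)
      have hBp : IsPGroup p ↥B := P.isPGroup'.to_le (wc_le (hOP P))
      obtain ⟨P2, hBP2, hP2⟩ := hin n2 B hBp hB2
      obtain ⟨t, ht⟩ := MulAction.exists_smul_eq H P P2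
      have hwP2 : wc p A (P2 : Subgroup H) = cj t B := by rw [hB, cj_wc, ← ht]; rfl
      have hBeq : B = wc p A (P2 : Subgroup H) := by
        refine Subgroup.eq_of_le_of_card_ge ?_ ?_
        · exact (wc_idem (hOP P)).ge.trans (wc_mono hBP2)
        · rw [hwP2, Subgroup.card_map_of_injective (MulEquiv.injective _)]
      have hN : normalizer (B : Set H) ≠ ⊤ := hnB P
      obtain ⟨k, -, hk⟩ := hsyl P
      have hPk : normalizer (B : Set H) ≤ cj k M := hk _ (Subgroup.le_normalizer.trans (normalizer_le_wc A _)) hN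
      have hP2k : (P2 : Subgroup H) ≤ cj k M := by
        refine le_trans ?_ hPk
        rw [hBeq]; exact Subgroup.le_normalizer.trans (normalizer_le_wc A _)
      have e1 : cj n1 M = cj k M := huniq P _ _ hP1 ((Subgroup.le_normalizer.trans (normalizer_le_wc A _)).trans hPk)
      exact hne12 (e1.trans (huniq P2 _ _ hP2 hP2k).symm)
    · push Not at hall
      obtain ⟨a, haP, ha2⟩ := hall
      set Y := wc p A ((P : Subgroup H) ⊓ cj n2 M) with hY
      have hOi : O ≤ (P : Subgroup H) ⊓ cj n2 M := le_inf (hOP P) (hON n2)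
      have hYle : Y ≤ (P : Subgroup H) ⊓ cj n2 M := wc_le hOi
      obtain ⟨a', ha'P, ha'N, ha'Y⟩ := chain P.isPGroup' (hYle.trans inf_le_left) le_sup_left (wc_idem hOi) haP
        (fun hh => ha2 (hh.trans (hYle.trans inf_le_right)))
      exact ⟨Y, a', ⟨le_sup_left, P.isPGroup'.to_le (hYle.trans inf_le_left), wc_idem hOi, hYle.trans inf_le_right,
        ha'N, fun hh => ha'Y (le_wc (le_inf ha'P hh))⟩, wc_mono (le_inf hQP h2)⟩
  -- a maximal pair
  have hex : ∃ x : Subgroup H × H × H, Pair p A M x.1 x.2.1 x.2.2 := by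
    obtain ⟨n, hn⟩ : ∃ n : H, ¬ A ≤ cj n M := by
      by_contra hc
      push Not at hc
      by_cases h12 : ∃ n1 n2 : H, cj n1 M ≠ cj n2 M
      · obtain ⟨n1, n2, h12⟩ := h12
        obtain ⟨Y, a, ⟨_, _, _, _, _, h6⟩, -⟩ := hgrow n1 n2 O (CfsgLib.Core.isPGroup_pCore p) le_rfl (hON n1) (hON n2) h12
        exact h6 (by
          have := cj_mono a (hc (a⁻¹ * n2))
          rwa [cj_cj, mul_inv_cancel_left] at this)
      · push Not at h12
        apply hne 1
        rw [eq_top_iff, ← hgen]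
        have : (cj 1 M).Normal := normalizer_eq_top_iff.mp (eq_top_iff.mpr fun g _ => mem_normalizer_of_conj_map_eq (by
          show cj g (cj 1 M) = cj 1 M
          rw [cj_cj]; exact h12 _ _))
        exact Subgroup.normalClosure_le_normal (hTM.trans (cj_one M).ge)
    refine ⟨(O, n, 1), le_rfl, CfsgLib.Core.isPGroup_pCore p, le_antisymm (wc_le le_rfl) le_sup_left, hON n, ?_, by rwa [cj_one]⟩
    rw [Subgroup.normalizer_eq_top (H := O)]; exact le_top
  obtain ⟨x, hx, hxmax⟩ := (Set.toFinite {x : Subgroup H × H × H | Pair p A M x.1 x.2.1 x.2.2}).exists_maximalFor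
    (fun x : Subgroup H × H × H => Nat.card ↥x.1) _ hex
  obtain ⟨Y0, n0, a0⟩ := x
  have hpair := Pair.conj hx a0⁻¹
  rw [inv_mul_cancel] at hpair
  set Y := cj a0⁻¹ Y0
  set n := a0⁻¹ * n0
  have hcard : Nat.card ↥Y = Nat.card ↥Y0 := Subgroup.card_map_of_injective (MulEquiv.injective _)
  have hmax : ∀ (Y' : Subgroup H) (n' a' : H), Pair p A M Y' n' a' → Nat.card ↥Y' ≤ Nat.card ↥Y := by
    intro Y' n' a' h'
    rw [hcard]
    by_contra hc
    exact hc (hxmax (j := (Y', n', a')) h' (not_le.mp hc).le)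
  obtain ⟨hOY, hYp, hwY, hYn, hAY, hAn⟩ := hpair
  rw [cj_one] at hAY hAn
  have hbig : ∀ (Q : Subgroup H) (a n1 n2 : H), IsPGroup p ↥Q → Y ≤ Q → cj a A ≤ Q → ¬ cj a A ≤ Y →
      Q ≤ cj n1 M → Q ≤ cj n2 M → cj n1 M = cj n2 M := by
    intro Q a n1 n2 hQ hYQ haQ haY h1 h2
    by_contra h12
    obtain ⟨Y', a', hp', hle⟩ := hgrow n1 n2 Q hQ (hOY.trans hYQ) h1 h2 h12
    have hlt : Y < wc p A Q := lt_of_le_of_ne (hwY.ge.trans (wc_mono hYQ)) fun e => haY (e ▸ le_wc haQ)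
    have := hmax Y' n2 a' hp'
    exact hlt.ne (Subgroup.eq_of_le_of_card_ge hlt.le ((Subgroup.card_le_of_le hle).trans this))
  have hAp : IsPGroup p ↥A := T.isPGroup'.to_le hAT
  have hQp : IsPGroup p ↥(A ⊔ Y) := hAp.to_sup_of_normal_right' hYp hAY
  have hA1 : cj 1 A = A := cj_one A
  have hQu : ∀ n1 n2 : H, A ⊔ Y ≤ cj n1 M → A ⊔ Y ≤ cj n2 M → cj n1 M = cj n2 M := fun n1 n2 =>
    hbig (A ⊔ Y) 1 n1 n2 hQp le_sup_right (by rw [hA1]; exact le_sup_left)
      (by rw [hA1]; exact fun hh => hAn (hh.trans hYn))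
  have hNY : ∀ g : H, ¬ normalizer (Y : Set H) ≤ cj g M := by
    intro g hg
    obtain ⟨P2, hYP2, hP2⟩ := hin n Y hYp hYn
    by_cases hall : ∀ a : H, cj a A ≤ P2 → cj a A ≤ Y
    · have hB : wc p A (P2 : Subgroup H) = Y :=
        le_antisymm (sup_le hOY (iSup_le fun g => hall g g.2)) (hwY.ge.trans (wc_mono hYP2))
      have hP2N : (P2 : Subgroup H) ≤ normalizer (Y : Set H) :=
        hB ▸ Subgroup.le_normalizer.trans (normalizer_le_wc A _)
      exact hAn ((hAY.trans hg).trans (huniq P2 g n (hP2N.trans hg) hP2).le)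
    · push Not at hall
      obtain ⟨a, haP, haY⟩ := hall
      obtain ⟨a', ha'P, ha'N, ha'Y⟩ := chain P2.isPGroup' hYP2 hOY hwY haP haY
      have hQ2 : cj a' A ⊔ Y ≤ (P2 : Subgroup H) := sup_le ha'P hYP2
      exact hAn ((hAY.trans hg).trans (hbig (cj a' A ⊔ Y) a' g n (P2.isPGroup'.to_le hQ2) le_sup_right le_sup_left ha'Y
        (sup_le (ha'N.trans hg) ((Subgroup.le_normalizer).trans hg)) (hQ2.trans hP2)).le)
  obtain ⟨L, ⟨hLN, hQL, hLM⟩, hLmin⟩ := (Set.toFinite {L : Subgroup H | L ≤ normalizer (Y : Set H) ∧ A ⊔ Y ≤ L ∧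
    ∀ g : H, ¬ L ≤ cj g M}).exists_minimal ⟨normalizer (Y : Set H), le_rfl, sup_le hAY Subgroup.le_normalizer, hNY⟩
  obtain ⟨P, hQP⟩ := hQp.exists_le_sylow
  obtain ⟨k, hPk, -⟩ := hsyl P
  have hQk : A ⊔ Y ≤ cj k M := hQP.trans hPk
  set R := Cfsg.pCoreOf p L with hR
  have hYR : Y ≤ R := CfsgLib.PCoreOf.le_pcoreOf (le_sup_right.trans hQL) hLN hYp
  have hRp : IsPGroup p ↥(A ⊔ R) := hAp.to_sup_of_normal_right' (CfsgLib.PCoreOf.isPGroup_pcoreOf L)
    ((le_sup_left.trans hQL).trans (CfsgLib.PCoreOf.le_normalizer_pcoreOf L))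
  obtain ⟨P', hRP'⟩ := hRp.exists_le_sylow
  obtain ⟨k', hPk', -⟩ := hsyl P'
  have hARk : A ⊔ R ≤ cj k M :=
    (hRP'.trans hPk').trans (hQu k' k ((sup_le_sup_left hYR A).trans (hRP'.trans hPk')) hQk).le
  refine ⟨L, sup_le (le_sup_left.trans hQL) (hOY.trans (le_sup_right.trans hQL)), L ⊓ cj k M,
    le_inf (sup_le (le_sup_left.trans hQL) (CfsgLib.PCoreOf.pcoreOf_le L)) hARk,
    lt_of_le_of_ne inf_le_left (fun e => hLM k (inf_eq_left.mp e)), ?_, ⟨k, rfl⟩, ?_⟩
  · intro X hX hXL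
    refine le_inf hXL.le ?_
    by_contra hXk
    refine hXL.not_ge (hLmin ⟨hXL.le.trans hLN, (sup_le_sup_left hYR A).trans hX, fun g hg => hXk ?_⟩ hXL.le)
    exact hg.trans (hQu g k (((sup_le_sup_left hYR A).trans hX).trans hg) hQk).le
  · intro x hx hx0
    have hAL : A ≤ L := le_sup_left.trans hQL
    have hxL : cj x A ≤ L := by
      rintro _ ⟨y, hy, rfl⟩
      simpa using mul_mem (mul_mem hx (hAL hy)) (inv_mem hx)
    set X := A ⊔ cj x A ⊔ R with hX
    have hXL : X ≤ L := sup_le (sup_le hAL hxL) (CfsgLib.PCoreOf.pcoreOf_le L)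
    refine le_antisymm hXL ?_
    have hQX : A ⊔ Y ≤ X := sup_le (le_sup_left.trans le_sup_left) (hYR.trans le_sup_right)
    by_contra hlt
    obtain ⟨g, hg⟩ : ∃ g : H, X ≤ cj g M := by
      by_contra hc
      push Not at hc
      exact hlt (hLmin ⟨hXL.trans hLN, hQX, hc⟩ hXL)
    have hXk : X ≤ cj k M := hg.trans (hQu g k (hQX.trans hg) hQk).le
    have hxY : cj x Y = Y := conj_map_eq_of_mem_normalizer (hLN hx)
    have h1 : cj x (A ⊔ Y) ≤ cj k M := by
      rw [cj, Subgroup.map_sup]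
      exact sup_le ((le_sup_right.trans le_sup_left).trans hXk) (hxY.le.trans ((hYR.trans le_sup_right).trans hXk))
    have h2 := cj_mono x⁻¹ h1
    rw [cj_inv_cj, cj_cj] at h2
    have h3 : cj (x⁻¹ * k) M = cj k M := hQu _ _ h2 hQk
    have h4 : cj x (cj k M) = cj k M := by
      conv_lhs => rw [← h3, cj_cj, mul_inv_cancel_left]
    have hxN : x ∈ normalizer (cj k M : Set H) := mem_normalizer_of_conj_map_eq h4
    rcases ((cj_isCoatom k hMc).le_iff.mp (Subgroup.le_normalizer (H := cj k M))) with e | e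
    · have hn : (cj k M).Normal := normalizer_eq_top_iff.mp e
      have hMn : cj k M = M := by
        have := cj_normal k⁻¹ hn
        rwa [cj_inv_cj, eq_comm] at this
      exact hne k (eq_top_iff.mpr (hgen ▸ Subgroup.normalClosure_le_normal (by rw [hMn]; exact hTM)))
    · exact hx0 ⟨hx, e ▸ hxN⟩

end Cfsg.Agent.S2834
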