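import Cfsg.Statements.S2835
import Cfsg.Agent.Lib.Large

set_option autoImplicit false
open Cfsg

namespace Cfsg.Agent.S2835
open CfsgLib.LocalBasic CfsgLib.WC

/-- Let L be a finite group, L₀ a maximal subgroup, T a Sylow p-subgroup of L₀ and Y ≤ T, and suppose L is Y-minimal (generated by the conjugates of Y, with Y in exactly one maximal subgroup, necessarily L₀). Then N_L(T) ≤ L₀, O_p(L) ≤ L₀ and T is a Sylow p-subgroup of L; N_L(L₀) = L₀; L = ⟨Y, gYg⁻¹⟩ for each g ∈ L outside L₀; and if Y is abelian then Y ∩ gYg⁻¹ = C_Y(L) for each such g. -/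
theorem result {L : Type*} [Group L] [Finite L] {p : ℕ} [Fact p.Prime] (L₀ : Subgroup L) (hL₀ : IsCoatom L₀) (T : Sylow p ↥L₀) (Y : Subgroup L) (hYT : Y ≤ (T : Subgroup ↥L₀).map L₀.subtype) (hmin : Cfsg.IsMinimalOver Y) : Subgroup.normalizer (((T : Subgroup ↥L₀).map L₀.subtype : Subgroup L) : Set L) ≤ L₀ ∧ Cfsg.pCore p L ≤ L₀ ∧ (∃ P : Sylow p L, (P : Subgroup L) = (T : Subgroup ↥L₀).map L₀.subtype) ∧ Subgroup.normalizer (L₀ : Set L) = L₀ ∧ (∀ g : L, g ∉ L₀ → Y ⊔ Y.map (MulAut.conj g).toMonoidHom = ⊤) ∧ (IsMulCommutative ↥Y → ∀ g : L, g ∉ L₀ → Y ⊓ Y.map (MulAut.conj g).toMonoidHom = Y ⊓ Subgroup.center L) := by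
  obtain ⟨hgen, M, ⟨hM, hYM⟩, huniq⟩ := hmin
  set T' := (T : Subgroup ↥L₀).map L₀.subtype with hT'
  have hT'L : T' ≤ L₀ := Subgroup.map_subtype_le _
  have hYL : Y ≤ L₀ := hYT.trans hT'L
  have hmax : ∀ X : Subgroup L, Y ≤ X → X = ⊤ ∨ X ≤ L₀ := fun X hYX => by
    refine (eq_top_or_exists_le_coatom X).imp_right fun ⟨M', hM', hXM'⟩ => ?_
    rw [huniq L₀ ⟨hL₀, hYL⟩, ← huniq M' ⟨hM', hYX.trans hXM'⟩]
    exact hXM'
  have hnot : ∀ N : Subgroup L, N.Normal → Y ≤ N → N ≤ L₀ → False := fun N hN hYN hNL => by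
    refine hL₀.1 (eq_top_iff.mpr (hgen ▸ le_trans ?_ hNL))
    exact Subgroup.normalClosure_le_normal hYN
  have hNT : Subgroup.normalizer ((T' : Subgroup L) : Set L) ≤ L₀ := by
    refine (hmax _ (hYT.trans Subgroup.le_normalizer)).resolve_left fun h => ?_
    exact hnot T' (Subgroup.normalizer_eq_top_iff.mp h) hYT hT'L
  obtain ⟨P, hP⟩ : ∃ P : Sylow p L, (P : Subgroup L) = T' := by
    obtain ⟨P, hP⟩ := (T.2.map L₀.subtype).exists_le_sylow
    refine ⟨P, (eq_of_normalizer_inf_le P.2 hP fun x hx => ?_).symm⟩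
    have h1 : x ∈ (P : Subgroup L) ⊓ L₀ := ⟨hx.1, hNT hx.2⟩
    have h2 : ((P : Subgroup L) ⊓ L₀).subgroupOf L₀ = T :=
      T.3 ((P.2.to_le inf_le_left).comap_subtype (H := (P : Subgroup L) ⊓ L₀) (K := L₀)) (fun t ht =>
        Subgroup.mem_subgroupOf.mpr ⟨hP ⟨t, ht, rfl⟩, t.2⟩)
    exact ⟨⟨x, h1.2⟩, by rw [← h2]; exact Subgroup.mem_subgroupOf.mpr h1, rfl⟩
  have hNL : Subgroup.normalizer (L₀ : Set L) = L₀ :=
    le_antisymm ((hmax _ (hYL.trans Subgroup.le_normalizer)).resolve_left fun h =>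
      hnot L₀ (Subgroup.normalizer_eq_top_iff.mp h) hYL le_rfl) Subgroup.le_normalizer
  have hgenY : ∀ g : L, g ∉ L₀ → Y ⊔ Y.map (MulAut.conj g).toMonoidHom = ⊤ := by
    intro g hg
    refine (hmax _ le_sup_left).resolve_right fun h => hg ?_
    set L' := L₀.map (MulAut.conj g⁻¹).toMonoidHom with hL'
    have hYL' : Y ≤ L' := fun y hy => ⟨g * y * g⁻¹, h (Subgroup.mem_sup_right ⟨y, hy, rfl⟩), by simp [mul_assoc]⟩
    have hco : IsCoatom L' := (OrderIso.isCoatom_iff (MulEquiv.mapSubgroup (MulAut.conj g⁻¹)) L₀).mpr hL₀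
    have heq : L' = L₀ := (huniq L' ⟨hco, hYL'⟩).trans (huniq L₀ ⟨hL₀, hYL⟩).symm
    have := mem_normalizer_of_conj_map_eq heq
    rw [hNL] at this
    exact inv_mem_iff.mp this
  refine ⟨hNT, ?_, ⟨P, hP⟩, hNL, hgenY, fun hab g hg => ?_⟩
  · exact (CfsgLib.Core.pCore_le_sylow P).trans (hP ▸ hT'L)
  · refine le_antisymm ?_ ?_
    · intro z hz
      refine ⟨hz.1, Subgroup.mem_center_iff.mpr fun x => ?_⟩
      have hle : Y ⊔ Y.map (MulAut.conj g).toMonoidHom ≤ Subgroup.centralizer ({z} : Set L) := by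
        refine sup_le (fun y hy => Subgroup.mem_centralizer_singleton_iff.mpr ?_) ?_
        · exact congrArg Subtype.val (isMulCommutative_iff.mp hab ⟨y, hy⟩ ⟨z, hz.1⟩)
        · rintro _ ⟨y, hy, rfl⟩
          obtain ⟨z₀, hz₀, he⟩ := hz.2
          refine Subgroup.mem_centralizer_singleton_iff.mpr ?_
          rw [← he, ← map_mul, ← map_mul]
          exact congrArg _ (congrArg Subtype.val (isMulCommutative_iff.mp hab ⟨y, hy⟩ ⟨z₀, hz₀⟩))
      rw [hgenY g hg] at hle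
      exact Subgroup.mem_centralizer_singleton_iff.mp (hle (Subgroup.mem_top x))
    · rintro z ⟨hzY, hzc⟩
      exact ⟨hzY, z, hzY, by simp [Subgroup.mem_center_iff.mp hzc g]⟩

end Cfsg.Agent.S2835
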