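import Cfsg.Statements.S2836
import Cfsg.Agent.S2835
import Cfsg.Agent.Lib.PCoreOf

set_option autoImplicit false
open Cfsg

namespace Cfsg.Agent.S2836

open CfsgLib.LocalBasic CfsgLib.PCoreOf

theorem index_eq_relIndex {L : Type*} [Group L] {X D : Subgroup L} [D.Normal] (h : X ⊔ D = ⊤) :
    X.index = X.relIndex D := by
  refine (Nat.card_congr (Equiv.ofBijective (fun q : ↥D ⧸ X.subgroupOf D => Quotient.liftOn' q
    (fun d => (QuotientGroup.mk (d : L) : L ⧸ X)) (fun a b hab => QuotientGroup.eq.mpr (by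
      rw [QuotientGroup.leftRel_apply, Subgroup.mem_subgroupOf] at hab; exact hab))) ⟨?_, ?_⟩)).symm
  · intro a b
    induction a using QuotientGroup.induction_on with
    | H a =>
      induction b using QuotientGroup.induction_on with
      | H b => exact fun hab => QuotientGroup.eq.mpr (Subgroup.mem_subgroupOf.mpr (QuotientGroup.eq.mp hab))
  · intro q
    induction q using QuotientGroup.induction_on with
    | H x =>
      obtain ⟨d, hd, y, hy, rfl⟩ := Subgroup.mem_sup_of_normal_left.mp (show x ∈ D ⊔ X by rw [sup_comm, h]; trivial)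
      refine ⟨QuotientGroup.mk ⟨d, hd⟩, ?_⟩
      show (QuotientGroup.mk d : L ⧸ X) = QuotientGroup.mk (d * y)
      exact QuotientGroup.eq.mpr (by simpa using hy)

/-- Let L be a finite group, L₀ a maximal subgroup, T a Sylow p-subgroup of L₀, Y ≤ T, and suppose L is Y-minimal. Let D be the intersection of the conjugates of L₀ (the core of L₀). Then D contains O_p(L) and D/O_p(L) is the Frattini subgroup of L/O_p(L), so D is p-closed; and every normal subgroup N of L contained in L₀ is p-closed with N/O_p(N) a nilpotent group of order prime to p. -/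
theorem result {L : Type*} [Group L] [Finite L] {p : ℕ} [Fact p.Prime] (L₀ : Subgroup L) (hL₀ : IsCoatom L₀) (T : Sylow p ↥L₀) (Y : Subgroup L) (hYT : Y ≤ (T : Subgroup ↥L₀).map L₀.subtype) (hmin : Cfsg.IsMinimalOver Y) : (Cfsg.pCore p L ≤ L₀.normalCore ∧ (L₀.normalCore).map (QuotientGroup.mk' (Cfsg.pCore p L)) = frattini (L ⧸ Cfsg.pCore p L) ∧ Cfsg.IsPClosed p ↥(L₀.normalCore)) ∧ ∀ (N : Subgroup L) [N.Normal], N ≤ L₀ → Cfsg.IsPClosed p ↥N ∧ Group.IsNilpotent (↥N ⧸ Cfsg.pCore p ↥N) ∧ (Nat.card (↥N ⧸ Cfsg.pCore p ↥N)).Coprime p := by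
  classical
  obtain ⟨-, hOL, ⟨P₀, hP₀⟩, -, -, -⟩ := Cfsg.Agent.S2835.result L₀ hL₀ T Y hYT hmin
  set O := Cfsg.pCore p L with hO
  have hOn : O.Normal := Cfsg.pCore_normal p L
  obtain ⟨-, M₀, ⟨hM₀, hYM₀⟩, huniq⟩ := hmin
  have hYL₀ : Y ≤ L₀ := hYT.trans (Subgroup.map_subtype_le _)
  have key : ∀ N : Subgroup L, N.Normal → N ≤ L₀ → ∀ X : Subgroup L, X ⊔ N = ⊤ → ¬ p ∣ X.relIndex N → X = ⊤ := by
    intro N hN hNL X hsup hnd
    haveI := hN
    by_contra hX
    rw [← index_eq_relIndex hsup] at hnd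
    obtain ⟨M, hM, hXM⟩ := (eq_top_or_exists_le_coatom X).resolve_left hX
    obtain ⟨R⟩ := (inferInstance : Nonempty (Sylow p ↥X))
    obtain ⟨R', hR'⟩ := (R.2.map X.subtype).exists_le_sylow
    have hR'X : (R' : Subgroup L) ≤ X := by
      have hRi : ¬ p ∣ ((R : Subgroup ↥X).map X.subtype).index := by
        rw [Subgroup.index_map_subtype]
        exact fun h => ((Fact.out : p.Prime).dvd_mul.mp h).elim R.not_dvd_index hnd
      have heq : (R : Subgroup ↥X).map X.subtype = (R' : Subgroup L) := by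
        refine le_antisymm hR' (Subgroup.relIndex_eq_one.mp ?_)
        have hd : ((R : Subgroup ↥X).map X.subtype).relIndex (R' : Subgroup L) ∣ ((R : Subgroup ↥X).map X.subtype).index :=
          Subgroup.relIndex_dvd_index_of_le hR'
        obtain ⟨k, hk⟩ := (IsPGroup.index (R'.2) (((R : Subgroup ↥X).map X.subtype).subgroupOf (R' : Subgroup L)))
        rw [Subgroup.relIndex, hk] at hd ⊢
        by_contra hne
        exact hRi (dvd_trans (dvd_pow_self p (fun h => hne (by rw [h, pow_zero]))) hd)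
      rw [← heq]; exact Subgroup.map_subtype_le _
    obtain ⟨g, hg⟩ := MulAction.exists_smul_eq L P₀ R'
    have hYg : Y.map (MulAut.conj g).toMonoidHom ≤ M := by
      refine le_trans ?_ (hR'X.trans hXM)
      rw [← hg]
      exact (Subgroup.map_mono (hYT.trans hP₀.ge)).trans le_rfl
    set M' := M.map (MulAut.conj g⁻¹).toMonoidHom with hM'
    have hco : IsCoatom M' := (OrderIso.isCoatom_iff (MulEquiv.mapSubgroup (MulAut.conj g⁻¹)) M).mpr hM
    have hYM' : Y ≤ M' := fun y hy => ⟨g * y * g⁻¹, hYg ⟨y, hy, rfl⟩, by simp [mul_assoc]⟩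
    have heq : M' = L₀ := (huniq M' ⟨hco, hYM'⟩).trans (huniq L₀ ⟨hL₀, hYL₀⟩).symm
    have hNM : N ≤ M := by
      intro n hn
      have : g⁻¹ * n * g ∈ M' := heq.symm ▸ hNL (by simpa using hN.conj_mem n hn g⁻¹)
      obtain ⟨m, hm, hme⟩ := this
      have hmn : m = n := by simpa [mul_assoc] using hme
      exact hmn ▸ hm
    exact hM.1 (eq_top_iff.mpr (hsup ▸ sup_le hXM hNM))
  have hcl : ∀ (N : Subgroup L) [N.Normal], N ≤ L₀ → Cfsg.IsPClosed p ↥N := by
    intro N hN hNL P
    have h1 : Subgroup.normalizer (((P : Subgroup ↥N).map N.subtype : Subgroup L) : Set L) = ⊤ := by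
      refine key N hN hNL _ (Sylow.normalizer_sup_eq_top P) fun hd => ?_
      refine P.not_dvd_index (hd.trans ?_)
      exact Subgroup.index_dvd_of_le fun x hx => Subgroup.mem_subgroupOf.mpr (Subgroup.le_normalizer ⟨x, hx, rfl⟩)
    haveI : ((P : Subgroup ↥N).map N.subtype).Normal := Subgroup.normalizer_eq_top_iff.mp h1
    exact Subgroup.Normal.of_map_subtype inferInstance
  have hcop : ∀ (N : Subgroup L) [N.Normal], N ≤ L₀ → ¬ p ∣ (Cfsg.pCore p ↥N).index := by
    intro N hN hNL
    obtain ⟨P⟩ := (inferInstance : Nonempty (Sylow p ↥N))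
    exact fun h => P.not_dvd_index (h.trans (Subgroup.index_dvd_of_le (CfsgLib.Core.le_pCore (hcl N hNL P) P.2)))
  set D := L₀.normalCore with hD
  have hDL : D ≤ L₀ := L₀.normalCore_le
  have hOD : O ≤ D := Subgroup.normal_le_normalCore.mpr hOL
  refine ⟨⟨hOD, le_antisymm ?_ ?_, hcl D hDL⟩, fun N hN hNL => ⟨hcl N hNL, ?_, ?_⟩⟩
  · simp only [frattini, Order.radical]
    refine le_iInf fun M => le_iInf fun hM => ?_
    by_contra hDM
    set X := M.comap (QuotientGroup.mk' O) with hX
    have hXco : IsCoatom X := Subgroup.isCoatom_comap_of_surjective (QuotientGroup.mk'_surjective O) hM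
    have hOX : O ≤ X := fun o ho => by
      rw [hX, Subgroup.mem_comap, show QuotientGroup.mk' O o = 1 from (QuotientGroup.eq_one_iff o).mpr ho]
      exact M.one_mem
    have hsup : X ⊔ D = ⊤ := hXco.2 _ (lt_of_le_not_ge le_sup_left fun h =>
      hDM (Subgroup.map_le_iff_le_comap.mpr (le_sup_right.trans h)))
    refine hXco.1 (key D inferInstance hDL X hsup fun hd => hcop D hDL (hd.trans ?_))
    refine Subgroup.index_dvd_of_le fun x hx => Subgroup.mem_subgroupOf.mpr (hOX ?_)
    haveI := CfsgLib.Core.pCore_characteristic (G := ↥D) p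
    exact CfsgLib.Core.le_pCore (p := p) (inferInstance : ((Cfsg.pCore p ↥D).map D.subtype).Normal) ((CfsgLib.Core.isPGroup_pCore p).map _) ⟨x, hx, rfl⟩
  · have hne : IsCoatom (L₀.map (QuotientGroup.mk' O)) := by
      refine ⟨fun h => hL₀.1 ?_, fun M hM => ?_⟩
      · have := congrArg (Subgroup.comap (QuotientGroup.mk' O)) h
        rwa [Subgroup.comap_map_eq, QuotientGroup.ker_mk', Subgroup.comap_top, sup_eq_left.mpr hOL] at this
      · have hlt : L₀ < M.comap (QuotientGroup.mk' O) := by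
          refine lt_of_le_not_ge (Subgroup.map_le_iff_le_comap.mp hM.le) fun h => hM.not_ge ?_
          rw [← Subgroup.map_comap_eq_self_of_surjective (QuotientGroup.mk'_surjective O) M]
          exact Subgroup.map_mono h
        have := congrArg (Subgroup.map (QuotientGroup.mk' O)) (hL₀.2 _ hlt)
        rwa [Subgroup.map_comap_eq_self_of_surjective (QuotientGroup.mk'_surjective O),
          Subgroup.map_top_of_surjective _ (QuotientGroup.mk'_surjective O)] at this
    have hle : (frattini (L ⧸ O)).comap (QuotientGroup.mk' O) ≤ L₀ := by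
      refine (Subgroup.comap_mono (frattini_le_coatom hne)).trans ?_
      rw [Subgroup.comap_map_eq, QuotientGroup.ker_mk', sup_eq_left.mpr hOL]
    intro y hy
    obtain ⟨x, rfl⟩ := QuotientGroup.mk'_surjective O y
    haveI : ((frattini (L ⧸ O)).comap (QuotientGroup.mk' O)).Normal := Subgroup.Normal.comap inferInstance _
    exact ⟨x, (Subgroup.normal_le_normalCore.mpr hle) hy, rfl⟩
  · rw [(Group.isNilpotent_of_finite_tfae (G := ↥N ⧸ Cfsg.pCore p ↥N)).out 0 3 rfl rfl]
    intro q hq P'
    obtain ⟨Q⟩ := (inferInstance : Nonempty (Sylow q ↥N))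
    set π := QuotientGroup.mk' (Cfsg.pCore p ↥N) with hπ
    have hs : Function.Surjective π := QuotientGroup.mk'_surjective _
    set QR := (Q : Subgroup ↥N) ⊔ Cfsg.pCore p ↥N with hQR
    set QR' := QR.map N.subtype with hQR'
    have hsup : Subgroup.normalizer (QR' : Set L) ⊔ N = ⊤ := by
      have hfr := Sylow.normalizer_sup_eq_top Q
      refine eq_top_iff.mpr (hfr ▸ sup_le_sup_right (fun x hx => ?_) N)
      rw [hQR', hQR, Subgroup.map_sup]
      haveI := CfsgLib.Core.pCore_characteristic (G := ↥N) p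
      haveI hcn : ((Cfsg.pCore p ↥N).map N.subtype).Normal := inferInstance
      refine normalizer_sup_ge (B := Subgroup.normalizer (((Q : Subgroup ↥N).map N.subtype : Subgroup L) : Set L))
        (X := (Q : Subgroup ↥N).map N.subtype) (Y := (Cfsg.pCore p ↥N).map N.subtype) le_rfl ?_ hx
      rw [Subgroup.normalizer_eq_top (H := (Cfsg.pCore p ↥N).map N.subtype)]; exact le_top
    have h1 : Subgroup.normalizer (QR' : Set L) = ⊤ := key N hN hNL _ hsup fun hd => hcop N hNL (hd.trans
      (Subgroup.index_dvd_of_le fun x hx => Subgroup.mem_subgroupOf.mpr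
        (Subgroup.le_normalizer ⟨x, Subgroup.mem_sup_right hx, rfl⟩)))
    haveI : QR'.Normal := Subgroup.normalizer_eq_top_iff.mp h1
    have hn : QR.Normal := Subgroup.Normal.of_map_subtype inferInstance
    have hmap : ((Q.mapSurjective hs : Sylow q (↥N ⧸ Cfsg.pCore p ↥N)) : Subgroup (↥N ⧸ Cfsg.pCore p ↥N)).Normal := by
      have e : (Q : Subgroup ↥N).map π = QR.map π := by
        rw [hQR, Subgroup.map_sup, (Subgroup.map_eq_bot_iff (f := π) (Cfsg.pCore p ↥N)).mpr (QuotientGroup.ker_mk' _).ge,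
          sup_bot_eq]
      rw [Sylow.coe_mapSurjective, e]
      exact hn.map _ hs
    obtain ⟨c, hc⟩ := MulAction.exists_smul_eq (↥N ⧸ Cfsg.pCore p ↥N) (Q.mapSurjective hs) P'
    rw [← hc]
    haveI := hmap
    rwa [Sylow.smul_eq_of_normal]
  · exact ((Fact.out : p.Prime).coprime_iff_not_dvd.mpr (hcop N hNL)).symm

end Cfsg.Agent.S2836
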