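import Cfsg.Statements.S2837
import Cfsg.Agent.S2835
import Cfsg.Agent.S0012
import Cfsg.Agent.Lib.PReduced2

set_option autoImplicit false
open Cfsg

namespace Cfsg.Agent.S2837

open CfsgLib.LocalBasic CfsgLib.PReduced CfsgLib.PReduced2
open scoped commutatorElement

/-- Let L be a finite group of characteristic p, L₀ a maximal subgroup, Y an elementary abelian p-subgroup of L₀ with L Y-minimal and O_p(L) ≤ N_L(Y). Put A = the normal closure of O_p(L) ∩ Y in L. Then for every g ∈ L outside L₀: Φ(A) = A' = [A ∩ Y, A] = [A ∩ Y, A ∩ gYg⁻¹] ≤ C_Y(L), and Y ∩ gYg⁻¹ = (A ∩ Y) ∩ (A ∩ gYg⁻¹) = C_Y(L) = C_A(L). -/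
theorem result {L : Type*} [Group L] [Finite L] {p : ℕ} [Fact p.Prime] (hchar : Subgroup.centralizer (Cfsg.pCore p L : Set L) ≤ Cfsg.pCore p L) (L₀ : Subgroup L) (hL₀ : IsCoatom L₀) (Y : Subgroup L) (hYL₀ : Y ≤ L₀) (hYel : Cfsg.IsElementaryAbelian p Y) (hmin : Cfsg.IsMinimalOver Y) (hOY : Cfsg.pCore p L ≤ Subgroup.normalizer (Y : Set L)) (A : Subgroup L) (hA : A = Subgroup.normalClosure (((Cfsg.pCore p L ⊓ Y : Subgroup L)) : Set L)) (g : L) (hg : g ∉ L₀) : (frattini ↥A).map A.subtype = ⁅A, A⁆ ∧ ⁅A, A⁆ = ⁅A ⊓ Y, A⁆ ∧ ⁅A ⊓ Y, A⁆ = ⁅A ⊓ Y, A ⊓ Y.map (MulAut.conj g).toMonoidHom⁆ ∧ ⁅A ⊓ Y, A⁆ ≤ Y ⊓ Subgroup.center L ∧ Y ⊓ Y.map (MulAut.conj g).toMonoidHom = Y ⊓ Subgroup.center L ∧ (A ⊓ Y) ⊓ (A ⊓ Y.map (MulAut.conj g).toMonoidHom) = Y ⊓ Subgroup.center L ∧ A ⊓ Subgroup.center L = Y ⊓ Subgroup.center L := by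
  classical
  obtain ⟨T, hT⟩ := ((isPGroup_of_elementary hYel).comap_subtype (H := Y) (K := L₀)).exists_le_sylow
  have hYT : Y ≤ (T : Subgroup ↥L₀).map L₀.subtype := fun y hy =>
    ⟨⟨y, hYL₀ hy⟩, hT (Subgroup.mem_subgroupOf.mpr hy), rfl⟩
  obtain ⟨-, -, -, -, hgen, hint⟩ := Cfsg.Agent.S2835.result L₀ hL₀ T Y hYT hmin
  set O := Cfsg.pCore p L with hO
  haveI hOn : O.Normal := Cfsg.pCore_normal p L
  set Yg := Y.map (MulAut.conj g).toMonoidHom with hYg
  have htop := hgen g hg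
  have hC : Y ⊓ Yg = Y ⊓ Subgroup.center L := hint hYel.1 g hg
  subst hA
  set A := Subgroup.normalClosure ((O ⊓ Y : Subgroup L) : Set L) with hA
  have hAO : A ≤ O := Subgroup.normalClosure_le_normal inf_le_left
  have hAY : A ⊓ Y = O ⊓ Y :=
    le_antisymm (inf_le_inf_right Y hAO) (le_inf Subgroup.subset_normalClosure inf_le_right)
  have hOg : O ≤ Subgroup.normalizer (Yg : Set L) := by
    intro o ho
    have ho' : g⁻¹ * o * g ∈ O := by simpa using hOn.conj_mem o ho g⁻¹
    refine mem_normalizer_of_conj_map_eq ?_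
    conv_rhs => rw [hYg, ← conj_map_eq_of_mem_normalizer (hOY ho')]
    rw [hYg, Subgroup.map_map, Subgroup.map_map]
    congr 1; ext v; simp [mul_assoc]
  have hgc : ∀ v ∈ Yg, ∀ w ∈ Yg, v * w = w * v := by
    rintro _ ⟨a, ha, rfl⟩ _ ⟨b, hb, rfl⟩
    rw [← map_mul, commute_of_elementary hYel ha hb, map_mul]
  set Bg := A ⊓ Yg with hBg
  have hOgA : O ⊓ Yg ≤ A := by
    rintro x ⟨hxO, y, hy, rfl⟩
    have h1 : y ∈ O := by
      simpa [mul_assoc] using hOn.conj_mem _ hxO g⁻¹
    exact (Subgroup.normalClosure_normal).conj_mem y (Subgroup.subset_normalClosure (Subgroup.mem_inf.mpr ⟨h1, hy⟩)) g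
  have hBgO : Bg = O ⊓ Yg := le_antisymm (inf_le_inf_right Yg hAO) (le_inf hOgA inf_le_right)
  have hYn : Y ≤ Subgroup.normalizer ((A ⊓ Y ⊔ Bg : Subgroup L) : Set L) := by
    intro y hy
    refine mem_normalizer_of_conj_map_eq (Subgroup.eq_of_le_of_card_ge ?_
      (Subgroup.card_map_of_injective (MulEquiv.injective _)).ge)
    rw [Subgroup.map_sup]
    refine sup_le ?_ ?_
    · rintro _ ⟨u, hu, rfl⟩
      refine Subgroup.mem_sup_left ?_
      show y * u * y⁻¹ ∈ A ⊓ Y
      rw [commute_of_elementary hYel hy hu.2, mul_inv_cancel_right]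
      exact hu
    · rintro _ ⟨u, hu, rfl⟩
      show y * u * y⁻¹ ∈ A ⊓ Y ⊔ Bg
      have hc : y * (u * y⁻¹ * u⁻¹) ∈ O ⊓ Y := Subgroup.mem_inf.mpr ⟨by
          rw [show y * (u * y⁻¹ * u⁻¹) = (y * u * y⁻¹) * u⁻¹ by group]
          exact O.mul_mem (hOn.conj_mem u (hAO hu.1) y) (O.inv_mem (hAO hu.1)),
        Y.mul_mem hy ((Subgroup.mem_normalizer_iff.mp (hOY (hAO hu.1)) _).mp (Y.inv_mem hy))⟩
      rw [show y * u * y⁻¹ = y * (u * y⁻¹ * u⁻¹) * u by group]
      exact Subgroup.mul_mem_sup (hAY.ge hc) hu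
  have hYgn : Yg ≤ Subgroup.normalizer ((A ⊓ Y ⊔ Bg : Subgroup L) : Set L) := by
    intro y hy
    refine mem_normalizer_of_conj_map_eq (Subgroup.eq_of_le_of_card_ge ?_
      (Subgroup.card_map_of_injective (MulEquiv.injective _)).ge)
    rw [Subgroup.map_sup]
    refine sup_le ?_ ?_
    · rintro _ ⟨u, hu, rfl⟩
      show y * u * y⁻¹ ∈ A ⊓ Y ⊔ Bg
      have hc : y * (u * y⁻¹ * u⁻¹) ∈ Bg := hBgO.ge (Subgroup.mem_inf.mpr ⟨by
          rw [show y * (u * y⁻¹ * u⁻¹) = (y * u * y⁻¹) * u⁻¹ by group]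
          exact O.mul_mem (hOn.conj_mem u (hAO hu.1) y) (O.inv_mem (hAO hu.1)),
        Yg.mul_mem hy ((Subgroup.mem_normalizer_iff.mp (hOg (hAO hu.1)) _).mp (Yg.inv_mem hy))⟩)
      rw [show y * u * y⁻¹ = y * (u * y⁻¹ * u⁻¹) * u by group]
      exact Subgroup.mul_mem _ (Subgroup.mem_sup_right hc) (Subgroup.mem_sup_left hu)
    · rintro _ ⟨u, hu, rfl⟩
      refine Subgroup.mem_sup_right ?_
      show y * u * y⁻¹ ∈ Bg
      rw [hgc y hy u hu.2, mul_inv_cancel_right]
      exact hu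
  have hAeq : A = A ⊓ Y ⊔ Bg := by
    refine le_antisymm ?_ (sup_le inf_le_left inf_le_left)
    haveI : (A ⊓ Y ⊔ Bg).Normal :=
      Subgroup.normalizer_eq_top_iff.mp (eq_top_iff.mpr (htop ▸ sup_le hYn hYgn))
    exact Subgroup.normalClosure_le_normal (fun x hx => Subgroup.mem_sup_left (hAY.ge hx))
  have hcomm : ∀ u ∈ A ⊓ Y, ∀ w ∈ Bg, ⁅u, w⁆ ∈ Y ⊓ Subgroup.center L := by
    intro u hu w hw
    rw [← hC]
    refine Subgroup.mem_inf.mpr ⟨?_, ?_⟩
    · rw [show ⁅u, w⁆ = u * (w * u⁻¹ * w⁻¹) by rw [commutatorElement_def]; group]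
      exact Y.mul_mem hu.2 ((Subgroup.mem_normalizer_iff.mp (hOY (hAO hw.1)) _).mp (Y.inv_mem hu.2))
    · rw [commutatorElement_def]
      exact Yg.mul_mem ((Subgroup.mem_normalizer_iff.mp (hOg (hAO hu.1)) _).mp hw.2) (Yg.inv_mem hw.2)
  set D : Subgroup L := ⁅A ⊓ Y, Bg⁆ with hD
  have hDC : D ≤ Y ⊓ Subgroup.center L := Subgroup.commutator_le.mpr hcomm
  haveI hDn : D.Normal := ⟨fun x hx c => by
    rw [Subgroup.mem_center_iff.mp (hDC hx).2 c, mul_inv_cancel_right]; exact hx⟩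
  have hDD : ⁅A, A⁆ = D := by
    refine le_antisymm ?_ (Subgroup.commutator_mono inf_le_left inf_le_left)
    conv_lhs => rw [hAeq]
    rw [Subgroup.commutator_le]
    intro a ha b hb
    rw [← QuotientGroup.eq_one_iff, ← QuotientGroup.mk'_apply, map_commutatorElement,
      commutatorElement_eq_one_iff_mul_comm]
    set π := QuotientGroup.mk' D with hπ
    have hgg : ∀ u ∈ A ⊓ Y, ∀ w ∈ Bg, π u * π w = π w * π u := fun u hu w hw => by
      rw [← commutatorElement_eq_one_iff_mul_comm, ← map_commutatorElement]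
      exact (QuotientGroup.eq_one_iff _).mpr (Subgroup.commutator_mem_commutator hu hw)
    have hcc : ∀ u ∈ A ⊓ Y ⊔ Bg, ∀ w ∈ A ⊓ Y ⊔ Bg, π u * π w = π w * π u := by
      have hgen' : ∀ u ∈ (A ⊓ Y : Subgroup L), ∀ w ∈ A ⊓ Y ⊔ Bg, π u * π w = π w * π u := by
        intro u hu w hw
        have hle : A ⊓ Y ⊔ Bg ≤ (Subgroup.centralizer ({π u} : Set (L ⧸ D))).comap π :=
          sup_le (fun v hv => Subgroup.mem_centralizer_singleton_iff.mpr (by
              rw [← map_mul, ← map_mul, commute_of_elementary hYel hv.2 hu.2]))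
            (fun v hv => Subgroup.mem_centralizer_singleton_iff.mpr (hgg u hu v hv).symm)
        exact (Subgroup.mem_centralizer_singleton_iff.mp (hle hw)).symm
      intro u hu w hw
      have hle : A ⊓ Y ⊔ Bg ≤ (Subgroup.centralizer ({π w} : Set (L ⧸ D))).comap π :=
        sup_le (fun v hv => Subgroup.mem_centralizer_singleton_iff.mpr (hgen' v hv w hw))
          (fun v hv => Subgroup.mem_centralizer_singleton_iff.mpr (by
            have hle' : A ⊓ Y ⊔ Bg ≤ (Subgroup.centralizer ({π v} : Set (L ⧸ D))).comap π :=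
              sup_le (fun t ht => Subgroup.mem_centralizer_singleton_iff.mpr (hgg t ht v hv))
                (fun t ht => Subgroup.mem_centralizer_singleton_iff.mpr (by
                  rw [← map_mul, ← map_mul, hgc t ht.2 v hv.2]))
            exact (Subgroup.mem_centralizer_singleton_iff.mp (hle' hw)).symm))
      exact Subgroup.mem_centralizer_singleton_iff.mp (hle hu)
    exact hcc a ha b hb
  have hmid : ⁅A ⊓ Y, A⁆ = D := by
    refine le_antisymm (le_trans (Subgroup.commutator_mono inf_le_left le_rfl) hDD.le) ?_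
    exact Subgroup.commutator_mono le_rfl inf_le_left
  have hZA : Y ⊓ Subgroup.center L ≤ A := fun z hz => by
    have hzO : z ∈ O := hchar fun o _ => Subgroup.mem_center_iff.mp hz.2 o
    exact (hAY.ge (Subgroup.mem_inf.mpr ⟨hzO, hz.1⟩)).1
  refine ⟨?_, hDD.trans hmid.symm, hmid, hmid ▸ hDC, hC, ?_, ?_⟩
  · have hAp : IsPGroup p ↥A := (CfsgLib.Core.isPGroup_pCore p).to_le hAO
    refine le_antisymm ?_ ?_
    · rw [hDD]
      have hle : frattini ↥A ≤ D.subgroupOf A := by
        haveI : (D.subgroupOf A).Normal := hDn.subgroupOf A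
        refine frattini_le_of_elementary_quotient (p := p) _ (fun a b => ?_) (fun a => ?_)
        · exact Subgroup.mem_subgroupOf.mpr (hDD.le (Subgroup.commutator_mem_commutator a.2 b.2))
        · set π := QuotientGroup.mk' D with hπ
          have hab : ∀ u ∈ A, ∀ w ∈ A, Commute (π u) (π w) := fun u hu w hw => by
            show π u * π w = π w * π u
            rw [← commutatorElement_eq_one_iff_mul_comm, ← map_commutatorElement]
            exact (QuotientGroup.eq_one_iff _).mpr (hDD.le (Subgroup.commutator_mem_commutator hu hw))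
          let E : Subgroup L :=
            { carrier := {u | u ∈ A ∧ π u ^ p = 1}
              one_mem' := ⟨A.one_mem, by simp⟩
              mul_mem' := fun {u w} hu hw => ⟨A.mul_mem hu.1 hw.1, by
                rw [map_mul, (hab u hu.1 w hw.1).mul_pow, hu.2, hw.2, one_mul]⟩
              inv_mem' := fun {u} hu => ⟨A.inv_mem hu.1, by rw [map_inv, inv_pow, hu.2, inv_one]⟩ }
          have hAE : A ⊓ Y ⊔ Bg ≤ E := by
            refine sup_le (fun u hu => ⟨hu.1, ?_⟩) (fun u hu => ⟨hu.1, ?_⟩)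
            · rw [← map_pow, hYel.2 u hu.2, map_one]
            · obtain ⟨y, hy, rfl⟩ := hu.2
              rw [← map_pow, ← map_pow, hYel.2 y hy, map_one, map_one]
          have h1 := (hAE (hAeq.le a.2)).2
          rw [← map_pow] at h1
          exact Subgroup.mem_subgroupOf.mpr (by simpa using (QuotientGroup.eq_one_iff _).mp h1)
      rintro _ ⟨x, hx, rfl⟩
      exact Subgroup.mem_subgroupOf.mp (hle hx)
    · rw [← Subgroup.map_subtype_commutator]
      exact Subgroup.map_mono (Cfsg.Agent.S0012.result p hAp).1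
  · refine le_antisymm ?_ (le_inf (le_inf hZA inf_le_left) (le_inf hZA fun z hz => (hC.ge hz).2))
    rw [← hC]
    exact le_inf (inf_le_left.trans inf_le_right) (inf_le_right.trans inf_le_right)
  · refine le_antisymm (fun z hz => Subgroup.mem_inf.mpr ⟨?_, hz.2⟩) (le_inf hZA inf_le_right)
    have hz1 := hAeq.le hz.1
    rw [← SetLike.mem_coe, Subgroup.coe_mul_of_right_le_normalizer_left _ _ ?_, Set.mem_mul] at hz1
    · obtain ⟨a, ha, b, hb, rfl⟩ := hz1
      have hbY : ∀ y ∈ Y, Commute y b := fun y hy => by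
        have h1 : Commute y (a * b) := Subgroup.mem_center_iff.mp hz.2 y
        have h2 : Commute y a := commute_of_elementary hYel hy ha.2
        simpa using h2.inv_right.mul_right h1
      have hbc : b ∈ Subgroup.center L := Subgroup.mem_center_iff.mpr fun x => by
        have hle : Y ⊔ Yg ≤ Subgroup.centralizer ({b} : Set L) :=
          sup_le (fun y hy => Subgroup.mem_centralizer_singleton_iff.mpr (hbY y hy).eq)
            (fun y hy => Subgroup.mem_centralizer_singleton_iff.mpr (hgc y hy b hb.2))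
        rw [htop] at hle
        exact Subgroup.mem_centralizer_singleton_iff.mp (hle (Subgroup.mem_top x))
      obtain ⟨y, hy, hyb⟩ := hb.2
      have hby : b = y := by
        have h := Subgroup.mem_center_iff.mp hbc g
        have hy' : g * y * g⁻¹ = b := hyb
        calc b = g⁻¹ * (g * b) := by group
          _ = g⁻¹ * (b * g) := by rw [h]
          _ = g⁻¹ * (g * y * g⁻¹ * g) := by rw [hy']
          _ = y := by group
      exact Y.mul_mem ha.2 (hby ▸ hy)
    · intro w hw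
      exact normalizer_inf_ge (B := O) (by rw [Subgroup.normalizer_eq_top]; exact le_top) hOY (hAO hw.1)

end Cfsg.Agent.S2837
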