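import Cfsg.Statements.S2838
import Cfsg.Agent.Lib.WeaklyClosedSub

set_option autoImplicit false
open Cfsg

namespace Cfsg.Agent.S2838
open CfsgLib.LocalBasic CfsgLib.WC
open scoped commutatorElement

/-- For a nontrivial p-subgroup Q of a finite group H the following are equivalent: Q is a weakly closed subgroup (it is the only H-conjugate of itself inside some Sylow p-subgroup containing it); Q = P for every conjugate P of Q with [Q, P] ≤ Q ∩ P; Q is normal in N_H(R) for every p-subgroup R of H containing Q. -/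
theorem result {H : Type*} [Group H] [Finite H] {p : ℕ} [Fact p.Prime] (Q : Subgroup H) (hQp : IsPGroup p ↥Q) (hQ1 : Q ≠ ⊥) : (Cfsg.IsWeaklyClosedSubgroup p Q ↔ ∀ g : H, ⁅Q, ((Q : Subgroup H).map (MulAut.conj (g : H)).toMonoidHom)⁆ ≤ Q ⊓ ((Q : Subgroup H).map (MulAut.conj (g : H)).toMonoidHom) → ((Q : Subgroup H).map (MulAut.conj (g : H)).toMonoidHom) = Q) ∧ (Cfsg.IsWeaklyClosedSubgroup p Q ↔ ∀ R : Subgroup H, IsPGroup p ↥R → Q ≤ R → Subgroup.normalizer ((R : Subgroup H) : Set H) ≤ Subgroup.normalizer ((Q : Subgroup H) : Set H)) := by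
  have key : (∀ R : Subgroup H, IsPGroup p ↥R → Q ≤ R → Subgroup.normalizer ((R : Subgroup H) : Set H) ≤ Subgroup.normalizer ((Q : Subgroup H) : Set H)) →
      Cfsg.IsWeaklyClosedSubgroup p Q := by
    intro hC
    obtain ⟨T, hQT⟩ := hQp.exists_le_sylow
    have hN : ∀ S : Sylow p H, Q ≤ (S : Subgroup H) → (S : Subgroup H) ≤ Subgroup.normalizer (Q : Set H) :=
      fun S h => Subgroup.le_normalizer.trans (hC S S.2 h)
    refine ⟨T, hQT, fun g hg => ?_⟩
    set S := g⁻¹ • T with hS
    have hQS : Q ≤ (S : Subgroup H) := by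
      intro q hq
      rw [hS, Sylow.coe_subgroup_smul, Subgroup.mem_pointwise_smul_iff_inv_smul_mem, MulAut.smul_def]
      simpa [mul_assoc] using hg ⟨q, hq, rfl⟩
    obtain ⟨n, hn⟩ := MulAction.exists_smul_eq ↥(Subgroup.normalizer (Q : Set H)) (S.subtype (hN S hQS)) (T.subtype (hN T hQT))
    have h1 : (n : H) • S = T := by
      rw [Sylow.smul_subtype] at hn
      exact Sylow.subtype_injective hn
    rw [hS, smul_smul, Sylow.smul_eq_iff_mem_normalizer] at h1
    have h2 := hC T T.2 hQT h1
    have h3 : g ∈ Subgroup.normalizer (Q : Set H) := by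
      have := Subgroup.mul_mem _ (Subgroup.inv_mem _ n.2) h2
      rw [inv_mul_cancel_left] at this
      simpa using Subgroup.inv_mem _ this
    exact conj_map_eq_of_mem_normalizer h3
  refine ⟨⟨fun hwc g h => eq_of_commutator_le hwc h, fun hC => ?_⟩,
    ⟨fun hwc R hR hQR => normalizer_le hwc hR hQR, key⟩⟩
  refine key fun R hR hQR => ?_
  have hnormal : ∀ R : Subgroup H, IsPGroup p ↥R → Q ≤ R → R ≤ Subgroup.normalizer (Q : Set H) := by
    intro R hR hQR
    by_contra hne
    have hne' : R ⊓ Subgroup.normalizer (Q : Set H) ≠ R := fun h => hne (h ▸ inf_le_right)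
    obtain ⟨x, ⟨hxR, hxN⟩, hxQ⟩ : ∃ x ∈ R ⊓ Subgroup.normalizer ((R ⊓ Subgroup.normalizer (Q : Set H) : Subgroup H) : Set H),
        x ∉ R ⊓ Subgroup.normalizer (Q : Set H) :=
      SetLike.not_le_iff_exists.mp fun h => hne' (eq_of_normalizer_inf_le hR inf_le_left h)
    refine hxQ ⟨hxR, mem_normalizer_of_conj_map_eq (hC x ?_)⟩
    have hQN : Q ≤ R ⊓ Subgroup.normalizer (Q : Set H) := le_inf hQR Subgroup.le_normalizer
    have hPN : Q.map (MulAut.conj x).toMonoidHom ≤ R ⊓ Subgroup.normalizer (Q : Set H) :=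
      (Subgroup.map_mono hQN).trans (conj_map_eq_of_mem_normalizer hxN).le
    have hN2 : R ⊓ Subgroup.normalizer (Q : Set H) ≤ Subgroup.normalizer ((Q.map (MulAut.conj x).toMonoidHom : Subgroup H) : Set H) := by
      intro y hy
      rw [← conj_map_eq_of_mem_normalizer hxN] at hy
      obtain ⟨z, hz, rfl⟩ := hy
      refine mem_normalizer_of_conj_map_eq ?_
      conv_rhs => rw [← conj_map_eq_of_mem_normalizer hz.2]
      rw [map_conj_conj, map_conj_conj]
      congr 3
      simp
    refine le_inf ?_ ?_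
    · rw [Subgroup.commutator_comm, ← Subgroup.le_normalizer_iff_commutator_le_right]
      exact hPN.trans inf_le_right
    · rw [Subgroup.commutator_comm, ← Subgroup.le_normalizer_iff_commutator_le_left]
      exact hQN.trans hN2
  intro g hg
  refine mem_normalizer_of_conj_map_eq (hC g ?_)
  have hPR : Q.map (MulAut.conj g).toMonoidHom ≤ R :=
    (Subgroup.map_mono hQR).trans (conj_map_eq_of_mem_normalizer hg).le
  have hRP : R ≤ Subgroup.normalizer ((Q.map (MulAut.conj g).toMonoidHom : Subgroup H) : Set H) := by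
    intro y hy
    rw [← conj_map_eq_of_mem_normalizer hg] at hy
    obtain ⟨z, hz, rfl⟩ := hy
    refine mem_normalizer_of_conj_map_eq ?_
    conv_rhs => rw [← conj_map_eq_of_mem_normalizer (hnormal R hR hQR hz)]
    rw [map_conj_conj, map_conj_conj]
    congr 3
    simp
  refine le_inf ?_ ?_
  · rw [Subgroup.commutator_comm, ← Subgroup.le_normalizer_iff_commutator_le_right]
    exact hPR.trans (hnormal R hR hQR)
  · rw [Subgroup.commutator_comm, ← Subgroup.le_normalizer_iff_commutator_le_left]
    exact hQR.trans hRP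

end Cfsg.Agent.S2838
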