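import Cfsg.Statements.S2839
import Cfsg.Agent.Lib.WeaklyClosedSub
import Cfsg.Agent.Lib.PResidual
import Cfsg.Agent.Lib.PReduced

set_option autoImplicit false
open Cfsg

namespace Cfsg.Agent.S2839
open CfsgLib.LocalBasic CfsgLib.WC

/-- Let Q be a nontrivial p-subgroup of the finite group H that is a weakly closed subgroup, K a subgroup containing Q and N a normal subgroup of H. Then Q is a weakly closed subgroup of K; every H-conjugate of Q contained in K is a K-conjugate of Q; N_K(Q) contains a Sylow p-subgroup of K; N = N_N(Q)·O^p(N); and QN/N is a weakly closed subgroup of H/N. -/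
theorem result {H : Type*} [Group H] [Finite H] {p : ℕ} [Fact p.Prime] (Q : Subgroup H) (hQp : IsPGroup p ↥Q) (hQ1 : Q ≠ ⊥) (hwc : Cfsg.IsWeaklyClosedSubgroup p Q) (K : Subgroup H) (hQK : Q ≤ K) (N' : Subgroup H) [N'.Normal] : Cfsg.IsWeaklyClosedSubgroup p (Q.subgroupOf K) ∧ (∀ g : H, ((Q : Subgroup H).map (MulAut.conj (g : H)).toMonoidHom) ≤ K → ∃ k ∈ K, ((Q : Subgroup H).map (MulAut.conj (g : H)).toMonoidHom) = ((Q : Subgroup H).map (MulAut.conj (k : H)).toMonoidHom)) ∧ Cfsg.IsParabolic p ((Subgroup.normalizer ((Q : Subgroup H) : Set H)).subgroupOf K) ∧ (N' ⊓ Subgroup.normalizer ((Q : Subgroup H) : Set H)) ⊔ (Cfsg.pResidual p ↥N').map N'.subtype = N' ∧ Cfsg.IsWeaklyClosedSubgroup p (Q.map (QuotientGroup.mk' N')) := by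
  refine ⟨subgroupOf hwc hQK, fun g hg => exists_mem_conj_eq hwc hQK hg, ?_, ?_, map_quotient hwc N'⟩
  · obtain ⟨T, hT⟩ := (hQp.comap_subtype (H := Q) (K := K)).exists_le_sylow
    refine ⟨T, fun x hx => Subgroup.mem_subgroupOf.mpr (le_normalizer_of_le hwc (T.2.map K.subtype) ?_ ⟨x, hx, rfl⟩)⟩
    exact fun q hq => ⟨⟨q, hQK hq⟩, hT (Subgroup.mem_subgroupOf.mpr hq), rfl⟩
  · obtain ⟨T, hQT, hTn⟩ := exists_sylow_le_normalizer hwc
    obtain ⟨S, hS⟩ : ∃ S : Sylow p ↥N', (S : Subgroup ↥N') ≤ (Subgroup.normalizer (Q : Set H)).subgroupOf N' :=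
      (CfsgLib.PReduced.exists_sylow_inf T (Subgroup.normalizer_eq_top (H := N') ▸ le_top)).imp fun S hS x hx => by
        rw [hS] at hx
        exact Subgroup.mem_subgroupOf.mpr (hTn (Subgroup.mem_subgroupOf.mp hx).1)
    refine le_antisymm (sup_le inf_le_left (Subgroup.map_subtype_le _)) ?_
    intro x hx
    have h1 : (⟨x, hx⟩ : ↥N') ∈ (S : Subgroup ↥N') ⊔ Cfsg.pResidual p ↥N' := by
      rw [CfsgLib.PResidual.sup_pResidual_eq_top]; exact Subgroup.mem_top _
    have h2 := Subgroup.mem_map_of_mem N'.subtype h1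
    rw [Subgroup.map_sup] at h2
    have h3 : (S : Subgroup ↥N').map N'.subtype ≤ N' ⊓ Subgroup.normalizer (Q : Set H) := by
      rintro _ ⟨y, hy, rfl⟩
      exact ⟨y.2, Subgroup.mem_subgroupOf.mp (hS hy)⟩
    exact sup_le_sup h3 le_rfl h2

end Cfsg.Agent.S2839
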