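import Cfsg.Statements.S2840
import Cfsg.Agent.Lib.WeaklyClosedSub

set_option autoImplicit false
open Cfsg

namespace Cfsg.Agent.S2840
open CfsgLib.LocalBasic CfsgLib.WC

/-- Let Q be a nontrivial p-subgroup of the finite group H that is a weakly closed subgroup and K a subgroup containing Q; let K° be the weak closure of Q in K (generated by the H-conjugates of Q inside K). Then K° is generated by the K-conjugates of Q, and K° is the subnormal closure of Q in K. -/
theorem result {H : Type*} [Group H] [Finite H] {p : ℕ} [Fact p.Prime] (Q : Subgroup H) (hQp : IsPGroup p ↥Q) (hQ1 : Q ≠ ⊥) (hwc : Cfsg.IsWeaklyClosedSubgroup p Q) (K : Subgroup H) (hQK : Q ≤ K) (Kc : Subgroup H) (hKc : Kc = Cfsg.weakClosure Q K) : Kc = ⨆ k : ↥K, ((Q : Subgroup H).map (MulAut.conj ((k : H) : H)).toMonoidHom) ∧ Kc = (Cfsg.subnormalClosure (Q.subgroupOf K)).map K.subtype := by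
  subst hKc
  have hle : ∀ k : ↥K, Q.map (MulAut.conj (k : H)).toMonoidHom ≤ K := by
    rintro k _ ⟨q, hq, rfl⟩
    exact K.mul_mem (K.mul_mem k.2 (hQK hq)) (K.inv_mem k.2)
  have h1 : Cfsg.weakClosure Q K = ⨆ k : ↥K, ((Q : Subgroup H).map (MulAut.conj ((k : H) : H)).toMonoidHom) := by
    refine le_antisymm (iSup_le fun ⟨g, hg⟩ => ?_) (iSup_le fun k => ?_)
    · obtain ⟨k, hk, hkeq⟩ := exists_mem_conj_eq hwc hQK hg
      rw [hkeq]
      exact le_iSup_of_le ⟨k, hk⟩ le_rfl
    · exact le_iSup_of_le (⟨(k : H), hle k⟩ : {g : H // Q.map (MulAut.conj g).toMonoidHom ≤ K}) le_rfl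
  refine ⟨h1, ?_⟩
  set W := Cfsg.weakClosure Q K with hW
  have hQW : Q ≤ W := le_iSup_of_le (⟨1, by rwa [map_conj_one]⟩ : {g : H // Q.map (MulAut.conj g).toMonoidHom ≤ K})
    (map_conj_one Q).ge
  have hWK : W ≤ K := iSup_le fun g => g.2
  apply le_antisymm
  · have key : ∀ S : Subgroup ↥K, S.IsSubnormal → Q.subgroupOf K ≤ S → W ≤ S.map K.subtype := by
      intro S hS
      induction hS with
      | top => intro _; rwa [← MonoidHom.range_eq_map, Subgroup.range_subtype]
      | step S T hST hT hn ih =>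
        intro hQS
        have hWT := ih (hQS.trans hST)
        refine iSup_le fun ⟨g, hg⟩ => ?_
        obtain ⟨w, hw, hweq⟩ := exists_mem_conj_eq hwc hQW (le_iSup_of_le
          (⟨g, hg⟩ : {g : H // Q.map (MulAut.conj g).toMonoidHom ≤ K}) le_rfl :
            Q.map (MulAut.conj g).toMonoidHom ≤ W)
        rw [hweq]
        rintro _ ⟨q, hq, rfl⟩
        obtain ⟨t, ht, rfl⟩ := hWT hw
        refine ⟨t * ⟨q, hQK hq⟩ * t⁻¹, ?_, rfl⟩
        exact Subgroup.mem_subgroupOf.mp (hn.conj_mem ⟨⟨q, hQK hq⟩, hST (hQS (Subgroup.mem_subgroupOf.mpr hq))⟩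
          (Subgroup.mem_subgroupOf.mpr (hQS (Subgroup.mem_subgroupOf.mpr hq))) ⟨t, ht⟩)
    intro x hx
    refine ⟨⟨x, hWK hx⟩, Subgroup.mem_sInf.mpr fun S hS => ?_, rfl⟩
    obtain ⟨y, hy, hyx⟩ := key S hS.2 hS.1 hx
    rwa [show (⟨x, hWK hx⟩ : ↥K) = y from Subtype.ext hyx.symm]
  · have hn : (W.subgroupOf K).Normal := by
      refine (Subgroup.normal_subgroupOf_iff_le_normalizer hWK).mpr fun k hk => ?_
      refine mem_normalizer_of_conj_map_eq (Subgroup.eq_of_le_of_card_ge ?_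
        (Subgroup.card_map_of_injective (MulEquiv.injective _)).ge)
      rw [hW, Cfsg.weakClosure, Subgroup.map_iSup]
      refine iSup_le fun ⟨g, hg⟩ => ?_
      rw [map_conj_conj]
      refine le_iSup_of_le (⟨k * g, ?_⟩ : {g : H // Q.map (MulAut.conj g).toMonoidHom ≤ K}) le_rfl
      rw [← map_conj_conj]
      exact (Subgroup.map_mono hg).trans (conj_map_eq_of_mem_normalizer (Subgroup.le_normalizer hk)).le
    refine (Subgroup.map_mono (sInf_le (show W.subgroupOf K ∈ {S : Subgroup ↥K | Q.subgroupOf K ≤ S ∧ S.IsSubnormal} from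
      ⟨?_, hn.isSubnormal⟩))).trans ?_
    · exact Subgroup.comap_mono hQW
    · rw [Subgroup.subgroupOf_map_subtype]; exact inf_le_left

end Cfsg.Agent.S2840
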