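import Cfsg.Statements.S2841
import Cfsg.Agent.Lib.Large

set_option autoImplicit false
open Cfsg

namespace Cfsg.Agent.S2841
open CfsgLib.LocalBasic CfsgLib.WC CfsgLib.Large
open scoped commutatorElement

/-- Let Q be a nontrivial p-subgroup of the finite group H that is a weakly closed subgroup and N a normal subgroup of H. Then N = N_N(Q)·[N, Q] and [N, Q] = (Q ∩ [N, Q])·[N, Q, Q]. -/
theorem result {H : Type*} [Group H] [Finite H] {p : ℕ} [Fact p.Prime] (Q : Subgroup H) (hQp : IsPGroup p ↥Q) (hQ1 : Q ≠ ⊥) (hwc : Cfsg.IsWeaklyClosedSubgroup p Q) (N' : Subgroup H) [N'.Normal] : (∀ n : H, n ∈ N' → ∃ a ∈ N' ⊓ Subgroup.normalizer ((Q : Subgroup H) : Set H), ∃ b ∈ ⁅N', Q⁆, n = a * b) ∧ (∀ c : H, c ∈ ⁅N', Q⁆ → ∃ a ∈ Q ⊓ ⁅N', Q⁆, ∃ b ∈ ⁅⁅N', Q⁆, Q⁆, c = a * b) := by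
  have hQM : Q ≤ Subgroup.normalizer ((⁅N', Q⁆ : Subgroup H) : Set H) := Subgroup.normalizer_commutator_ge_right N' Q
  have hNM : N' ≤ Subgroup.normalizer ((⁅N', Q⁆ : Subgroup H) : Set H) := Subgroup.normalizer_commutator_ge_left N' Q
  have hMN : ⁅N', Q⁆ ≤ N' := Subgroup.commutator_le_left N' Q
  have h1 : ∀ n : H, n ∈ N' → ∃ a ∈ N' ⊓ Subgroup.normalizer ((Q : Subgroup H) : Set H), ∃ b ∈ ⁅N', Q⁆, n = a * b := by
    intro n hn
    have hle : Q.map (MulAut.conj n).toMonoidHom ≤ ⁅N', Q⁆ ⊔ Q := by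
      rintro _ ⟨q, hq, rfl⟩
      have e : (MulAut.conj n).toMonoidHom q = ⁅n, q⁆ * q := by simp [commutatorElement_def]
      rw [e]
      exact Subgroup.mul_mem_sup (Subgroup.commutator_mem_commutator hn hq) hq
    obtain ⟨k, hk, hkeq⟩ := exists_mem_conj_eq hwc le_sup_right hle
    rw [← SetLike.mem_coe, Subgroup.coe_mul_of_right_le_normalizer_left _ _ hQM, Set.mem_mul] at hk
    obtain ⟨b, hb, q, hq, rfl⟩ := hk
    set a := b⁻¹ * n with ha
    have haN : a ∈ N' := N'.mul_mem (N'.inv_mem (hMN hb)) hn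
    have han : a ∈ Subgroup.normalizer (Q : Set H) := by
      refine mem_normalizer_of_conj_map_eq ?_
      rw [ha, ← map_conj_conj, hkeq, map_conj_conj, inv_mul_cancel_left]
      exact conj_map_eq_of_mem_normalizer (Subgroup.le_normalizer hq)
    refine ⟨a, ⟨haN, han⟩, a⁻¹ * b * a, ?_, by rw [ha]; group⟩
    simpa using (Subgroup.mem_normalizer_iff.mp (Subgroup.inv_mem _ (hNM haN)) b).mp hb
  refine ⟨h1, fun c hc => ?_⟩
  have hMQ : ⁅⁅N', Q⁆, Q⁆ ≤ ⁅N', Q⁆ := Subgroup.le_normalizer_iff_commutator_le_left.mp hQM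
  have hn : Q ⊓ ⁅N', Q⁆ ≤ Subgroup.normalizer ((⁅⁅N', Q⁆, Q⁆ : Subgroup H) : Set H) :=
    inf_le_left.trans (Subgroup.normalizer_commutator_ge_right _ Q)
  have h2 : ⁅N', Q⁆ ≤ (Q ⊓ ⁅N', Q⁆) ⊔ ⁅⁅N', Q⁆, Q⁆ := by
    refine Subgroup.commutator_le.mpr fun n hn q hq => ?_
    obtain ⟨a, ⟨haN, han⟩, b, hb, rfl⟩ := h1 n hn
    have e : ⁅a * b, q⁆ = a * ⁅b, q⁆ * a⁻¹ * ⁅a, q⁆ := by simp only [commutatorElement_def]; group
    rw [e]
    refine Subgroup.mul_mem _ (Subgroup.mem_sup_right ?_) (Subgroup.mem_sup_left ⟨?_, Subgroup.commutator_mem_commutator haN hq⟩)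
    · exact (Subgroup.mem_normalizer_iff.mp (normalizer_commutator_ge (B := N' ⊓ Subgroup.normalizer (Q : Set H))
        (inf_le_left.trans hNM) inf_le_right ⟨haN, han⟩) _).mp (Subgroup.commutator_mem_commutator hb hq)
    · have := Q.mul_mem ((Subgroup.mem_normalizer_iff.mp han q).mp hq) (Q.inv_mem hq)
      simpa [commutatorElement_def] using this
  have h3 := h2 hc
  rw [← SetLike.mem_coe, Subgroup.coe_mul_of_left_le_normalizer_right _ _ hn, Set.mem_mul] at h3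
  obtain ⟨a, ha, b, hb, rfl⟩ := h3
  exact ⟨a, ha, b, hb, rfl⟩

end Cfsg.Agent.S2841
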