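import Cfsg.Statements.S2843
import Cfsg.Agent.Lib.Large

set_option autoImplicit false
open Cfsg

namespace Cfsg.Agent.S2843
open CfsgLib.LocalBasic CfsgLib.WC CfsgLib.PCoreOf CfsgLib.Large
open scoped commutatorElement

/-- Let Q be a nontrivial large p-subgroup of the finite group H, Q ≤ L ≤ H, and Y a nontrivial p-subgroup of H normalized by L. Let L° be the weak closure of Q in L (generated by the conjugates of Q inside L). Then L° equals the weak closure of Q in L·C_H(Y), and [L°, C_H(Y)] ≤ O_p(L°); in particular C_H(Y) normalizes L°. -/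
theorem result {H : Type*} [Group H] [Finite H] {p : ℕ} [Fact p.Prime] (Q : Subgroup H) (hQp : IsPGroup p ↥Q) (hQ1 : Q ≠ ⊥) (hL : Cfsg.IsLarge Q) (L : Subgroup H) (hQL : Q ≤ L) (Y : Subgroup H) (hYp : IsPGroup p ↥Y) (hY1 : Y ≠ ⊥) (hLY : L ≤ Subgroup.normalizer ((Y : Subgroup H) : Set H)) : Cfsg.weakClosure Q L = Cfsg.weakClosure Q (L ⊔ Subgroup.centralizer ((Y : Subgroup H) : Set H)) ∧ ⁅Cfsg.weakClosure Q L, Subgroup.centralizer ((Y : Subgroup H) : Set H)⁆ ≤ (Cfsg.pCoreOf p (Cfsg.weakClosure Q L)) ∧ Subgroup.centralizer ((Y : Subgroup H) : Set H) ≤ Subgroup.normalizer (((Cfsg.weakClosure Q L) : Subgroup H) : Set H) := by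
  set C := Subgroup.centralizer (Y : Set H) with hC
  have hwc := isWeaklyClosed_of_large hQp hQ1 hL
  have hLC : L ≤ Subgroup.normalizer (C : Set H) := normalizer_centralizer_ge hLY
  have hCQ : C ≤ Subgroup.normalizer (Q : Set H) := by
    obtain ⟨⟨y, hy⟩, hy1⟩ := Subgroup.ne_bot_iff_exists_ne_one.mp (inf_centralizer_ne_bot hQp hYp (hQL.trans hLY) hY1)
    refine fun c hc => centralizer_le_normalizer hL (fun h => hy1 (Subtype.ext h)) hy.2 ?_
    exact Subgroup.mem_centralizer_singleton_iff.mpr (hc y hy.1).symm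
  set W := Cfsg.weakClosure Q L with hW
  have hWle : W ≤ L := iSup_le fun g => g.2
  have hCconj : ∀ l ∈ L, C ≤ Subgroup.normalizer ((Q.map (MulAut.conj l).toMonoidHom : Subgroup H) : Set H) := by
    intro l hl c hc
    refine mem_normalizer_of_conj_map_eq ?_
    have h2 : l⁻¹ * c * l ∈ C := by simpa using (Subgroup.mem_normalizer_iff.mp (Subgroup.inv_mem _ (hLC hl)) c).mp hc
    conv_rhs => rw [← conj_map_eq_of_mem_normalizer (hCQ h2)]
    rw [map_conj_conj, map_conj_conj]
    congr 3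
    group
  have hCW : C ≤ Subgroup.normalizer (W : Set H) := by
    intro c hc
    refine mem_normalizer_of_conj_map_eq (Subgroup.eq_of_le_of_card_ge ?_
      (Subgroup.card_map_of_injective (MulEquiv.injective _)).ge)
    rw [hW, Cfsg.weakClosure, Subgroup.map_iSup]
    refine iSup_le fun ⟨g, hg⟩ => ?_
    obtain ⟨l, hl, hleq⟩ := exists_mem_conj_eq hwc hQL hg
    rw [show Q.map (MulAut.conj ((⟨g, hg⟩ : {g : H // Q.map (MulAut.conj g).toMonoidHom ≤ L}) : H)).toMonoidHom =
      Q.map (MulAut.conj g).toMonoidHom from rfl, hleq, conj_map_eq_of_mem_normalizer (hCconj l hl hc), ← hleq]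
    exact le_iSup_of_le (⟨g, hg⟩ : {g : H // Q.map (MulAut.conj g).toMonoidHom ≤ L}) le_rfl
  refine ⟨le_antisymm ?_ ?_, ?_, hCW⟩
  · exact iSup_le fun g => le_iSup_of_le (⟨g.1, g.2.trans le_sup_left⟩ :
      {g : H // Q.map (MulAut.conj g).toMonoidHom ≤ L ⊔ C}) le_rfl
  · refine iSup_le fun ⟨g, hg⟩ => ?_
    obtain ⟨k, hk, hkeq⟩ := exists_mem_conj_eq hwc (hQL.trans le_sup_left) hg
    rw [← SetLike.mem_coe, Subgroup.coe_mul_of_left_le_normalizer_right _ _ hLC, Set.mem_mul] at hk
    obtain ⟨l, hl, c, hc, rfl⟩ := hk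
    refine le_iSup_of_le (⟨l, ?_⟩ : {g : H // Q.map (MulAut.conj g).toMonoidHom ≤ L}) ?_
    · rintro _ ⟨q, hq, rfl⟩
      exact L.mul_mem (L.mul_mem hl (hQL hq)) (L.inv_mem hl)
    · show Q.map (MulAut.conj g).toMonoidHom ≤ Q.map (MulAut.conj l).toMonoidHom
      rw [hkeq, ← map_conj_conj, conj_map_eq_of_mem_normalizer (hCQ hc)]
  · set K := ⁅W, C⁆ with hK
    have hKW : K ≤ W := Subgroup.le_normalizer_iff_commutator_le_left.mp hCW
    have hKC : K ≤ C := Subgroup.le_normalizer_iff_commutator_le_right.mp (hWle.trans hLC)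
    set O := Cfsg.pCoreOf p C
    have hCO : C ≤ Subgroup.normalizer (O : Set H) := le_normalizer_pcoreOf C
    have hKO : K ≤ O := by
      let S : Subgroup H :=
        { carrier := {g | g ∈ Subgroup.normalizer (C : Set H) ∧ ∀ c ∈ C, ⁅g, c⁆ ∈ O}
          one_mem' := ⟨Subgroup.one_mem _, fun c _ => by rw [commutatorElement_one_left]; exact O.one_mem⟩
          mul_mem' := by
            rintro g k ⟨hg1, hg⟩ ⟨hk1, hk⟩
            refine ⟨Subgroup.mul_mem _ hg1 hk1, fun c hc => ?_⟩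
            have e : ⁅g * k, c⁆ = g * ⁅k, c⁆ * g⁻¹ * ⁅g, c⁆ := by simp only [commutatorElement_def]; group
            rw [e]
            exact O.mul_mem ((Subgroup.mem_normalizer_iff.mp (normalizer_le_pcoreOf C hg1) _).mp (hk c hc)) (hg c hc)
          inv_mem' := by
            rintro g ⟨hg1, hg⟩
            refine ⟨Subgroup.inv_mem _ hg1, fun c hc => ?_⟩
            have e : ⁅g⁻¹, c⁆ = g⁻¹ * ⁅g, c⁆⁻¹ * g := by simp only [commutatorElement_def]; group
            rw [e]
            simpa using (Subgroup.mem_normalizer_iff.mp (normalizer_le_pcoreOf C (Subgroup.inv_mem _ hg1)) _).mp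
              (O.inv_mem (hg c hc)) }
      refine Subgroup.commutator_le.mpr fun w hw c hc => ((?_ : W ≤ S) hw).2 c hc
      refine iSup_le fun ⟨g, hg⟩ => ?_
      intro x hx
      refine ⟨hLC (hg hx), fun c hc => ?_⟩
      obtain ⟨l, hl, hleq⟩ := exists_mem_conj_eq hwc hQL hg
      have hmem : ⁅x, c⁆ ∈ Q.map (MulAut.conj l).toMonoidHom ⊓ C := by
        refine commutator_le_inter ?_ (hCconj l hl) (Subgroup.commutator_mem_commutator (hleq ▸ hx) hc)
        exact hleq ▸ hg.trans hLC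
      exact le_pcoreOf inf_le_right (normalizer_inf_ge (hCconj l hl) Subgroup.le_normalizer)
        ((hQp.map _).to_le inf_le_left) hmem
    refine le_pcoreOf hKW (Subgroup.normalizer_commutator_ge_left W C) ((isPGroup_pcoreOf C).to_le hKO)

end Cfsg.Agent.S2843
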