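import Cfsg.Statements.S2844
import Cfsg.Agent.Lib.Large

set_option autoImplicit false
open Cfsg

namespace Cfsg.Agent.S2844
open CfsgLib.LocalBasic CfsgLib.WC CfsgLib.PCoreOf CfsgLib.Large

/-- Let Q be a nontrivial large p-subgroup of the finite group H and Q• = O_p(N_H(Q)). Then for every g ∈ H outside N_H(Q): C_H(Q) ∩ C_H(gQg⁻¹) = 1, C_H(Q•) ∩ C_H(gQ•g⁻¹) = 1, Z(Q) ∩ Z(gQg⁻¹) = 1 and Z(Q•) ∩ Z(gQ•g⁻¹) = 1; moreover N_H(Q) = N_H(Q•) and Q• is large in H. -/
theorem result {H : Type*} [Group H] [Finite H] {p : ℕ} [Fact p.Prime] (Q : Subgroup H) (hQp : IsPGroup p ↥Q) (hQ1 : Q ≠ ⊥) (hL : Cfsg.IsLarge Q) (Qb : Subgroup H) (hQb : Qb = Cfsg.largeBullet p Q) : (∀ g : H, g ∉ Subgroup.normalizer ((Q : Subgroup H) : Set H) → Subgroup.centralizer ((Q : Subgroup H) : Set H) ⊓ Subgroup.centralizer ((((Q : Subgroup H).map (MulAut.conj (g : H)).toMonoidHom) : Subgroup H) : Set H) = ⊥ ∧ Subgroup.centralizer ((Qb : Subgroup H) : Set H) ⊓ Subgroup.centralizer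 ((((Qb : Subgroup H).map (MulAut.conj (g : H)).toMonoidHom) : Subgroup H) : Set H) = ⊥ ∧ (Q ⊓ Subgroup.centralizer ((Q : Subgroup H) : Set H)) ⊓ (((Q : Subgroup H).map (MulAut.conj (g : H)).toMonoidHom) ⊓ Subgroup.centralizer ((((Q : Subgroup H).map (MulAut.conj (g : H)).toMonoidHom) : Subgroup H) : Set H)) = ⊥ ∧ (Qb ⊓ Subgroup.centralizer ((Qb : Subgroup H) : Set H)) ⊓ (((Qb : Subgroup H).map (MulAut.conj (g : H)).toMonoidHom) ⊓ Subgroup.centralizer ((((Qb : Subgroup H).map (MulAut.conj (g : H)).toMonoidHom) : Subgroup H) : Set H)) = ⊥) ∧ Subgroup.normalizer ((Q : Subgroup H) : Set H) = Subgroup.normalizer ((Qb : Subgroup H) : Set H) ∧ Cfsg.IsLarge Qb := by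
  have hwc := isWeaklyClosed_of_large hQp hQ1 hL
  have hQQb : Q ≤ Qb := hQb ▸ le_pcoreOf Subgroup.le_normalizer le_rfl hQp
  have hCb : Subgroup.centralizer (Qb : Set H) ≤ Subgroup.centralizer (Q : Set H) := Subgroup.centralizer_le hQQb
  have hN : Subgroup.normalizer ((Q : Subgroup H) : Set H) = Subgroup.normalizer ((Qb : Subgroup H) : Set H) := by
    refine le_antisymm ?_ (normalizer_le hwc (hQb ▸ isPGroup_pcoreOf _) hQQb)
    rw [hQb]
    exact le_normalizer_pcoreOf _
  refine ⟨fun g hg => ?_, hN, hCb.trans (hL.1.trans hQQb), fun U hU hU1 => hN ▸ hL.2 U (hU.trans hCb) hU1⟩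
  have h1 : Subgroup.centralizer ((Q : Subgroup H) : Set H) ⊓
      Subgroup.centralizer (((Q.map (MulAut.conj g).toMonoidHom) : Subgroup H) : Set H) = ⊥ := by
    by_contra hne
    set U := Subgroup.centralizer ((Q : Subgroup H) : Set H) ⊓
      Subgroup.centralizer (((Q.map (MulAut.conj g).toMonoidHom) : Subgroup H) : Set H)
    have hcn : ∀ P : Subgroup H, U ≤ Subgroup.centralizer (P : Set H) → P ≤ Subgroup.normalizer (U : Set H) := by
      intro P hP x hx
      refine mem_normalizer_of_conj_map_eq (Subgroup.eq_of_le_of_card_ge ?_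
        (Subgroup.card_map_of_injective (MulEquiv.injective _)).ge)
      rintro _ ⟨u, hu, rfl⟩
      show x * u * x⁻¹ ∈ U
      rwa [hP hu x hx, mul_inv_cancel_right]
    have hUg : U.map (MulAut.conj g⁻¹).toMonoidHom ≤ Subgroup.centralizer (Q : Set H) := by
      rintro _ ⟨u, hu, rfl⟩ q hq
      have := hu.2 _ ⟨q, hq, rfl⟩
      simp only [MulEquiv.coe_toMonoidHom, MulAut.conj_apply, inv_inv] at this ⊢
      calc q * (g⁻¹ * u * g) = g⁻¹ * (g * q * g⁻¹ * u) * g := by group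
        _ = g⁻¹ * (u * (g * q * g⁻¹)) * g := by rw [this]
        _ = g⁻¹ * u * g * q := by group
    have hN1 := hL.2 _ hUg (fun h => hne ((Subgroup.map_eq_bot_iff_of_injective _ (MulEquiv.injective _)).mp h))
    have hgQ : Q.map (MulAut.conj g).toMonoidHom ≤ Subgroup.normalizer (Q : Set H) :=
      (hcn _ inf_le_right).trans (hL.2 U inf_le_left hne)
    have hQg : Q ≤ Subgroup.normalizer ((Q.map (MulAut.conj g).toMonoidHom : Subgroup H) : Set H) := by
      intro x hx
      have h2 : g⁻¹ * x * g ∈ Subgroup.normalizer ((U.map (MulAut.conj g⁻¹).toMonoidHom : Subgroup H) : Set H) := by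
        refine mem_normalizer_of_conj_map_eq ?_
        rw [map_conj_conj, show g⁻¹ * x * g * g⁻¹ = g⁻¹ * x by group, ← map_conj_conj,
          conj_map_eq_of_mem_normalizer (hcn _ inf_le_left hx)]
      refine mem_normalizer_of_conj_map_eq ?_
      conv_rhs => rw [← conj_map_eq_of_mem_normalizer (hN1 h2)]
      rw [map_conj_conj, map_conj_conj]
      congr 3
      group
    exact hg (mem_normalizer_of_conj_map_eq (eq_of_commutator_le hwc (commutator_le_inter hQg hgQ)))
  have hb : Subgroup.centralizer ((Qb : Subgroup H) : Set H) ⊓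
      Subgroup.centralizer (((Qb.map (MulAut.conj g).toMonoidHom) : Subgroup H) : Set H) = ⊥ :=
    le_bot_iff.mp (h1 ▸ inf_le_inf hCb (Subgroup.centralizer_le (Subgroup.map_mono hQQb)))
  exact ⟨h1, hb, le_bot_iff.mp (h1 ▸ inf_le_inf inf_le_right inf_le_right),
    le_bot_iff.mp (hb ▸ inf_le_inf inf_le_right inf_le_right)⟩

end Cfsg.Agent.S2844
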