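import Cfsg.Statements.S2845
import Cfsg.Agent.Lib.Large

set_option autoImplicit false
open Cfsg

namespace Cfsg.Agent.S2845
open CfsgLib.LocalBasic CfsgLib.WC CfsgLib.PCoreOf CfsgLib.Large

/-- Let Q be a nontrivial large p-subgroup of the finite group H. Then for every subgroup L ≥ Q with O_p(L) ≠ 1, C_H(O_p(L)) is a p-group and L has characteristic p, and either the weak closure L° of Q in L equals Q or C_H(L°) = 1; for every subgroup R of H containing a Sylow p-subgroup of H with O_p(R) ≠ 1, C_H(O_p(R)) ≤ O_p(R); and H has parabolic characteristic p. -/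
theorem result {H : Type*} [Group H] [Finite H] {p : ℕ} [Fact p.Prime] (Q : Subgroup H) (hQp : IsPGroup p ↥Q) (hQ1 : Q ≠ ⊥) (hL : Cfsg.IsLarge Q) : (∀ L : Subgroup H, Q ≤ L → Cfsg.pCore p ↥L ≠ ⊥ → IsPGroup p ↥(Subgroup.centralizer (((Cfsg.pCoreOf p L) : Subgroup H) : Set H)) ∧ Subgroup.centralizer (Cfsg.pCore p ↥L : Set ↥L) ≤ Cfsg.pCore p ↥L ∧ (Cfsg.weakClosure Q L = Q ∨ Subgroup.centralizer (((Cfsg.weakClosure Q L) : Subgroup H) : Set H) = ⊥)) ∧ (∀ R : Subgroup H, Cfsg.IsParabolic p R → Cfsg.pCore p ↥R ≠ ⊥ → Subgroup.centralizer (((Cfsg.pCoreOf p R) : Subgroup H) : Set H) ≤ (Cfsg.pCoreOf p R)) ∧ Cfsg.IsOfParabolicCharacteristic p H := by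
  have hwc := isWeaklyClosed_of_large hQp hQ1 hL
  have hpar : ∀ R : Subgroup H, Cfsg.IsParabolic p R → Cfsg.pCore p ↥R ≠ ⊥ →
      Subgroup.centralizer (((Cfsg.pCoreOf p R) : Subgroup H) : Set H) ≤ (Cfsg.pCoreOf p R) := by
    rintro R ⟨T, hTR⟩ hR
    obtain ⟨m, -, hm⟩ := exists_conj_le_sylow T (M := (⊤ : Subgroup H)) le_top hQp le_top
    set Q' := Q.map (MulAut.conj m).toMonoidHom with hQ'
    have hQ'T : Q' ≤ (T : Subgroup H) := by rintro _ ⟨q, hq, rfl⟩; exact hm q hq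
    have hQ'1 : Q' ≠ ⊥ := fun h => hQ1 ((Subgroup.map_eq_bot_iff_of_injective _ (MulEquiv.injective _)).mp h)
    have hcm : ∀ x : H, x ∈ Subgroup.centralizer (Q' : Set H) → m⁻¹ * x * m ∈ Subgroup.centralizer (Q : Set H) := by
      intro x hx q hq
      have := hx _ ⟨q, hq, rfl⟩
      simp only [MulEquiv.coe_toMonoidHom, MulAut.conj_apply] at this
      calc q * (m⁻¹ * x * m) = m⁻¹ * (m * q * m⁻¹ * x) * m := by group
        _ = m⁻¹ * (x * (m * q * m⁻¹)) * m := by rw [this]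
        _ = m⁻¹ * x * m * q := by group
    have hL' : Cfsg.IsLarge Q' := by
      refine ⟨fun x hx => ⟨m⁻¹ * x * m, hL.1 (hcm x hx), by simp [mul_assoc]⟩, fun U hU hU1 y hy => ?_⟩
      have hU' : U.map (MulAut.conj m⁻¹).toMonoidHom ≤ Subgroup.centralizer (Q : Set H) := by
        rintro _ ⟨u, hu, rfl⟩
        simpa using hcm u (hU hu)
      have h2 := hL.2 _ hU' (fun h => hU1 ((Subgroup.map_eq_bot_iff_of_injective _ (MulEquiv.injective _)).mp h))
        (x := m⁻¹ * y * m) (mem_normalizer_of_conj_map_eq (by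
          rw [map_conj_conj, show m⁻¹ * y * m * m⁻¹ = m⁻¹ * y by group, ← map_conj_conj, conj_map_eq_of_mem_normalizer hy]))
      refine mem_normalizer_of_conj_map_eq ?_
      conv_rhs => rw [hQ', ← conj_map_eq_of_mem_normalizer h2]
      rw [hQ', map_conj_conj, map_conj_conj]
      congr 3
      group
    obtain ⟨hCp, -⟩ := large_spec (hQp.map _) hQ'1 hL' (hQ'T.trans hTR) (pcoreOf_ne_bot hR)
    have hRC : R ≤ Subgroup.normalizer ((Subgroup.centralizer ((Cfsg.pCoreOf p R : Subgroup H) : Set H) : Subgroup H) : Set H) :=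
      normalizer_centralizer_ge (le_normalizer_pcoreOf R)
    have h3 := T.2.to_sup_of_normal_right' hCp (hTR.trans hRC)
    have hCR : Subgroup.centralizer ((Cfsg.pCoreOf p R : Subgroup H) : Set H) ≤ R :=
      le_sup_right.trans ((T.3 h3 le_sup_left).le.trans hTR)
    exact le_pcoreOf hCR hRC hCp
  refine ⟨fun L hQL hL1 => ?_, hpar, fun R hR hR1 hpa => ?_⟩
  · obtain ⟨h1, h2⟩ := large_spec hQp hQ1 hL hQL (pcoreOf_ne_bot hL1)
    refine ⟨h1, h2, or_iff_not_imp_right.mpr fun hne => ?_⟩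
    set W := Cfsg.weakClosure Q L with hW
    have hQW : Q ≤ W := le_iSup_of_le (⟨1, by rwa [map_conj_one]⟩ : {g : H // Q.map (MulAut.conj g).toMonoidHom ≤ L})
      (map_conj_one Q).ge
    refine le_antisymm (iSup_le fun ⟨g, hg⟩ => ?_) hQW
    have hWN : W ≤ Subgroup.normalizer (Q : Set H) := by
      obtain ⟨⟨u, hu⟩, hu1⟩ := Subgroup.ne_bot_iff_exists_ne_one.mp hne
      exact fun w hw => centralizer_le_normalizer hL (fun h => hu1 (Subtype.ext h)) (Subgroup.centralizer_le hQW hu)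
        (Subgroup.mem_centralizer_singleton_iff.mpr (hu w hw))
    have hgN : Q.map (MulAut.conj g).toMonoidHom ≤ Subgroup.normalizer (Q : Set H) :=
      (le_iSup_of_le (⟨g, hg⟩ : {g : H // Q.map (MulAut.conj g).toMonoidHom ≤ L}) le_rfl).trans hWN
    exact (eq_of_le hwc ((hQp.map _).to_sup_of_normal_right' hQp hgN) le_sup_right le_sup_left).le
  · have hne : Cfsg.pCore p ↥(Subgroup.normalizer (R : Set H)) ≠ ⊥ := by
      intro h
      refine hR1 (le_bot_iff.mp ((le_pcoreOf (N := R) Subgroup.le_normalizer le_rfl hR).trans ?_))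
      rw [Cfsg.pCoreOf, h, Subgroup.map_bot]
    intro x hx
    have h1 : (x : H) ∈ Subgroup.centralizer ((Cfsg.pCoreOf p (Subgroup.normalizer (R : Set H)) : Subgroup H) : Set H) := by
      rintro _ ⟨y, hy, rfl⟩
      exact congrArg Subtype.val (hx y hy)
    have h2 := hpar _ hpa hne h1
    rwa [← pcoreOf_subgroupOf, Subgroup.mem_subgroupOf]

end Cfsg.Agent.S2845
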