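import Cfsg.Statements.S2846
import Cfsg.Agent.Lib.BasicProperty
import Cfsg.Agent.S2843
import Cfsg.Agent.S2845

set_option autoImplicit false
open Cfsg

namespace Cfsg.Agent.S2846

open CfsgLib.LocalBasic CfsgLib.BasicProperty CfsgLib.PReduced CfsgLib.PReduced2

theorem wc_mono {H : Type*} [Group H] {Q A B : Subgroup H} (h : A ≤ B) : weakClosure Q A ≤ weakClosure Q B :=
  iSup_le fun g => le_iSup (fun g : {g : H // Q.map (MulAut.conj g).toMonoidHom ≤ B} =>
    Q.map (MulAut.conj (g : H)).toMonoidHom) ⟨g.1, g.2.trans h⟩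


/-- Let Q be a nontrivial large p-subgroup of the finite group H, S a Sylow p-subgroup containing Q, and L a subgroup containing S with O_p(L) ≠ 1 and C_H(O_p(L)) ≤ O_p(L). Then there are a subgroup M containing S having the basic property (M ∈ 𝔐_H, writing Y_X for the largest p-reduced normal subgroup of X and 𝓛_H for the set of subgroups X with O_p(X) ≠ 1 and C_H(O_p(X)) ≤ O_p(X): M ∈ 𝓛_H, M·C_H(Y_M) is the only maximal member of 𝓛_H containing M and its largest p-reduced normal subgroup is again Y_M, C_M(Y_M) is p-closed, and the image of C_M(Y_M) in M/O_p(M) lies in the Frattini subgroup of M/O_p(M)) and a subgroup L* with S ≤ L* ≤ M, O_p(L*) ≠ 1, C_H(O_p(L*)) ≤ O_p(L*), such that L·C_H(Y_L) = L*·C_H(Y_L), the weak closures of Q in L and in L* agree and lie in that of M, and Y_L = Y_{L*} ≤ Y_M. If moreover Q is not normal in L, then Q is normal in neither L* nor M. -/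
theorem result {H : Type*} [Group H] [Finite H] {p : ℕ} [Fact p.Prime] (Q : Subgroup H) (hQp : IsPGroup p ↥Q) (hQ1 : Q ≠ ⊥) (hLg : Cfsg.IsLarge Q) (S : Sylow p H) (hQS : Q ≤ (S : Subgroup H)) (L : Subgroup H) (hSL : (S : Subgroup H) ≤ L) (hL : L ∈ Cfsg.charPSubgroups p H) : ∃ M Ls : Subgroup H, (S : Subgroup H) ≤ M ∧ Cfsg.IsInFrakM p M ∧ (S : Subgroup H) ≤ Ls ∧ Ls ≤ M ∧ Ls ∈ Cfsg.charPSubgroups p H ∧ L ⊔ Subgroup.centralizer (((Cfsg.largestPReducedOf p L) : Subgroup H) : Set H) = Ls ⊔ Subgroup.centralizer (((Cfsg.largestPReducedOf p L) : Subgroup H) : Set H) ∧ Cfsg.weakClosure Q L = Cfsg.weakClosure Q Ls ∧ Cfsg.weakClosure Q Ls ≤ Cfsg.weakClosure Q M ∧ (Cfsg.largestPReducedOf p L) = (Cfsg.largestPReducedOf p Ls) ∧ (Cfsg.largestPReducedOf p Ls) ≤ (Cfsg.largestPReducedOf p M) ∧ (¬ L ≤ Subgroup.normalizer ((Q : Subgroup H) : Set H) → ¬ Ls ≤ Subgroup.normalizer ((Q : Subgroup H) : Set H) ∧ ¬ M ≤ Subgroup.normalizer ((Q : Subgroup H) : Set H)) := by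
  obtain ⟨M, Ls, h1, h2, h3, h4, h5, h6, h7, h8⟩ :=
    exists_basic (Cfsg.Agent.S2845.result Q hQp hQ1 hLg).2.2 S hSL hL
  have hYp := largest_isPGroup (p := p) L
  have hY1 := largest_ne_bot S hSL hL
  have hwcL := (Cfsg.Agent.S2843.result Q hQp hQ1 hLg L (hQS.trans hSL) _ hYp hY1 (largestOf_spec L).1).1
  have hwcLs := (Cfsg.Agent.S2843.result Q hQp hQ1 hLg Ls (hQS.trans h3) _ hYp hY1
    (h6 ▸ (largestOf_spec Ls).1)).1
  refine ⟨M, Ls, h1, h2, h3, h4, h5, h8, by rw [hwcL, hwcLs, h8], wc_mono h4, h6, h6 ▸ h7, fun hnL => ?_⟩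
  have hLs : ¬ Ls ≤ Subgroup.normalizer ((Q : Subgroup H) : Set H) := by
    intro hc
    refine hnL (le_sup_left.trans (h8.le.trans (sup_le hc ?_)))
    let U : Subgroup H := omegaZ p (S : Subgroup H)
    have hUY : U ≤ largestPReducedOf p L := (omegaZ_le_sylowCenterClosure S hSL).trans
      (le_largestOf (sylowCenterClosure_le L) (reduced_sylowCenterClosure (charP_of_mem hL)))
    have hUQ : U ≤ Subgroup.centralizer (Q : Set H) :=
      (omegaZ_le _).trans (inf_le_right.trans (Subgroup.centralizer_le (SetLike.coe_subset_coe.mpr hQS)))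
    have hU1 : U ≠ ⊥ := by
      intro h
      have hS1 : (S : Subgroup H) ≠ ⊥ := fun h' => hQ1 (le_bot_iff.mp (h' ▸ hQS))
      haveI : Nontrivial ↥(S : Subgroup H) := (Subgroup.nontrivial_iff_ne_bot _).mpr hS1
      haveI := S.2.center_nontrivial
      obtain ⟨z, hz⟩ := exists_prime_orderOf_dvd_card' (G := ↥(Subgroup.center ↥(S : Subgroup H))) p
        ((S.2.to_subgroup _).card_eq_or_dvd.resolve_left Finite.one_lt_card.ne')
      have hzm : ((z : ↥(S : Subgroup H)) : H) ∈ U := by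
        refine mem_omegaZ.mpr ⟨⟨z.1.2, fun t ht => congrArg Subtype.val (Subgroup.mem_center_iff.mp z.2 ⟨t, ht⟩)⟩, ?_⟩
        have := congrArg (fun u : ↥(Subgroup.center ↥(S : Subgroup H)) => ((u : ↥(S : Subgroup H)) : H))
          (pow_orderOf_eq_one z)
        rw [hz] at this
        simpa using this
      rw [h, Subgroup.mem_bot] at hzm
      have : z = 1 := Subtype.ext (Subtype.ext hzm)
      rw [this, orderOf_one] at hz
      exact (Fact.out : p.Prime).ne_one hz.symm
    exact (Subgroup.centralizer_le (SetLike.coe_subset_coe.mpr hUY)).trans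
      ((centralizer_le_normalizer_self U).trans (hLg.2 U hUQ hU1))
  exact ⟨hLs, fun hc => hLs (h4.trans hc)⟩

end Cfsg.Agent.S2846
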