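import Cfsg.Statements.S2848
import Cfsg.Agent.Lib.PReduced2
import Cfsg.Agent.Lib.PCoreOf

set_option autoImplicit false
open Cfsg

namespace Cfsg.Agent.S2848

open CfsgLib.LocalBasic CfsgLib.PCoreOf CfsgLib.PReduced CfsgLib.PReduced2

/-- Standing hypotheses: G a finite group, S a Sylow p-subgroup, Q a nontrivial large p-subgroup of G contained in S (C_G(Q) ≤ Q and N_G(U) ≤ N_G(Q) for all nontrivial U ≤ C_G(Q)), and M a subgroup containing S with the basic property (M ∈ 𝔐_G(S)); Y_M denotes the largest p-reduced normal subgroup of M and M† = M·C_G(Y_M). Then O_p(M) is a weakly closed subgroup of M† (for p): it is the only M†-conjugate of itself inside some Sylow p-subgroup of M† containing it. -/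
theorem result {G : Type*} [Group G] [Finite G] {p : ℕ} [Fact p.Prime] (S : Sylow p G) (Q : Subgroup G) (hQp : IsPGroup p ↥Q) (hQ1 : Q ≠ ⊥) (hQS : Q ≤ (S : Subgroup G)) (hQ : Cfsg.IsLarge Q) (M : Subgroup G) (hSM : (S : Subgroup G) ≤ M) (hM : Cfsg.IsInFrakM p M) : Cfsg.IsWeaklyClosedSubgroup p (((Cfsg.pCoreOf p M)).subgroupOf (M ⊔ Subgroup.centralizer (((Cfsg.largestPReducedOf p M) : Subgroup G) : Set G))) := by
  set Y := Cfsg.largestPReducedOf p M with hY
  set C := Subgroup.centralizer ((Y : Subgroup G) : Set G) with hC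
  set P := Cfsg.pCoreOf p M with hP
  have hPS : P ≤ (S : Subgroup G) := pcoreOf_le_sylow S hSM
  have hPC : P ≤ C := pCoreOf_le_centralizer_largestOf M
  have hMC : M ≤ Subgroup.normalizer (C : Set G) := normalizer_centralizer_ge (largestOf_spec (p := p) M).1
  set D := M ⊓ C with hD
  have hcl : Cfsg.IsPClosed p ↥D := hM.2.2.2.2.1
  obtain ⟨U⟩ := (inferInstance : Nonempty (Sylow p ↥D))
  haveI : (U : Subgroup ↥D).Normal := hcl U
  have hall : ∀ K : Subgroup G, K ≤ D → IsPGroup p ↥K → K ≤ (U : Subgroup ↥D).map D.subtype := by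
    intro K hKD hK x hx
    have h1 : K.subgroupOf D ≤ (U : Subgroup ↥D) :=
      le_sup_left.trans (U.3 ((hK.comap_subtype (H := K) (K := D)).to_sup_of_normal_right U.2) le_sup_right).le
    exact ⟨⟨x, hKD hx⟩, h1 (Subgroup.mem_subgroupOf.mpr hx), rfl⟩
  have hUD : (U : Subgroup ↥D).map D.subtype ≤ D := Subgroup.map_subtype_le _
  have hUP : (U : Subgroup ↥D).map D.subtype ≤ P := by
    refine le_pcoreOf (hUD.trans inf_le_left) (fun m hm => ?_) (U.2.map _)
    refine mem_normalizer_of_conj_map_eq (Subgroup.eq_of_le_of_card_ge ?_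
      (Subgroup.card_map_of_injective (MulEquiv.injective _)).ge)
    refine hall _ ?_ ((U.2.map _).map _)
    have hmD : m ∈ Subgroup.normalizer (D : Set G) := normalizer_inf_ge Subgroup.le_normalizer hMC hm
    exact (Subgroup.map_mono hUD).trans (conj_map_eq_of_mem_normalizer hmD).le
  refine ⟨S.subtype (hSM.trans le_sup_left), ?_, fun k hk => ?_⟩
  · intro x hx
    rw [Sylow.coe_subtype]
    exact Subgroup.mem_subgroupOf.mpr (hPS (Subgroup.mem_subgroupOf.mp hx))
  · refine Subgroup.eq_of_le_of_card_ge ?_ (Subgroup.card_map_of_injective (MulEquiv.injective _)).ge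
    have hk2 := k.2
    rw [← SetLike.mem_coe, Subgroup.coe_mul_of_left_le_normalizer_right _ _ hMC, Set.mem_mul] at hk2
    obtain ⟨m, hm, c, hc, hmc⟩ := hk2
    have hc' : m * c * m⁻¹ ∈ C := (Subgroup.mem_normalizer_iff.mp (hMC hm) c).mp hc
    have key : P.map (MulAut.conj (k : G)).toMonoidHom ≤ P := by
      refine (hall _ ?_ ((isPGroup_pcoreOf M).map _)).trans hUP
      rintro _ ⟨x, hx, rfl⟩
      have hxk : (⟨x, Subgroup.mem_sup_left (pcoreOf_le M hx)⟩ : ↥(M ⊔ C)) ∈ P.subgroupOf (M ⊔ C) :=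
        Subgroup.mem_subgroupOf.mpr hx
      have hS := hk ⟨_, hxk, rfl⟩
      rw [Sylow.coe_subtype, Subgroup.mem_subgroupOf] at hS
      have hS' : (k : G) * x * (k : G)⁻¹ ∈ (S : Subgroup G) := by simpa using hS
      show (k : G) * x * (k : G)⁻¹ ∈ D
      refine Subgroup.mem_inf.mpr ⟨hSM hS', ?_⟩
      rw [← hmc]
      have : m * c * x * (m * c)⁻¹ = (m * c * m⁻¹) * (m * x * m⁻¹) * (m * c * m⁻¹)⁻¹ := by group
      rw [this]
      exact C.mul_mem (C.mul_mem hc' ((Subgroup.mem_normalizer_iff.mp (hMC hm) x).mp (hPC hx))) (C.inv_mem hc')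
    rintro _ ⟨x, hx, rfl⟩
    exact Subgroup.mem_subgroupOf.mpr (by
      simpa using key ⟨x, Subgroup.mem_subgroupOf.mp hx, rfl⟩)

end Cfsg.Agent.S2848
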