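import Cfsg.Statements.S2849
import Cfsg.Agent.Lib.PReduced2

set_option autoImplicit false
open Cfsg

namespace Cfsg.Agent.S2849

open CfsgLib.LocalBasic CfsgLib.PReduced CfsgLib.PReduced2
open scoped commutatorElement

/-- Standing hypotheses: G a finite group, S a Sylow p-subgroup, Q a nontrivial large p-subgroup of G contained in S (C_G(Q) ≤ Q and N_G(U) ≤ N_G(Q) for all nontrivial U ≤ C_G(Q)), and M a subgroup containing S with the basic property (M ∈ 𝔐_G(S)); Y_M denotes the largest p-reduced normal subgroup of M and M† = M·C_G(Y_M). Suppose Y_M is asymmetric in G. Then for every subgroup R with Y_M ≤ R ≤ M†, the normal closure of Y_M in N_G(R) is elementary abelian. -/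
theorem result {G : Type*} [Group G] [Finite G] {p : ℕ} [Fact p.Prime] (S : Sylow p G) (Q : Subgroup G) (hQp : IsPGroup p ↥Q) (hQ1 : Q ≠ ⊥) (hQS : Q ≤ (S : Subgroup G)) (hQ : Cfsg.IsLarge Q) (M : Subgroup G) (hSM : (S : Subgroup G) ≤ M) (hM : Cfsg.IsInFrakM p M) (hasym : ¬ Cfsg.IsSymmetricIn (Cfsg.largestPReducedOf p M)) (R : Subgroup G) (hYR : (Cfsg.largestPReducedOf p M) ≤ R) (hRM : R ≤ (M ⊔ Subgroup.centralizer (((Cfsg.largestPReducedOf p M) : Subgroup G) : Set G))) : Cfsg.IsElementaryAbelian p ((Subgroup.normalClosure ((((Cfsg.largestPReducedOf p M)).subgroupOf (Subgroup.normalizer ((R : Subgroup G) : Set G)) : Subgroup ↥(Subgroup.normalizer ((R : Subgroup G) : Set G))) : Set ↥(Subgroup.normalizer ((R : Subgroup G) : Set G)))).map (Subgroup.normalizer ((R : Subgroup G) : Set G)).subtype) := by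
  set Y := Cfsg.largestPReducedOf p M with hY
  set N := Subgroup.normalizer ((R : Subgroup G) : Set G) with hN
  obtain ⟨hMY, hel, -⟩ := largestOf_spec (p := p) M
  have hRY : R ≤ Subgroup.normalizer (Y : Set G) :=
    hRM.trans (sup_le hMY (centralizer_le_normalizer_self Y))
  have hcomm : ∀ y ∈ Y, ∀ z ∈ Y, y * z = z * y := by
    intro y hy z hz
    exact congrArg Subtype.val (hel.1.is_comm.comm (⟨y, hy⟩ : ↥Y) ⟨z, hz⟩)
  have key : ∀ g ∈ N, ∀ y ∈ Y, ∀ z ∈ Y, y * (g * z * g⁻¹) = g * z * g⁻¹ * y := by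
    intro g hg y hy z hz
    set Yg := Y.map (MulAut.conj g).toMonoidHom with hYg
    have h1 : Yg ≤ Subgroup.normalizer (Y : Set G) :=
      ((Subgroup.map_mono hYR).trans (conj_map_eq_of_mem_normalizer hg).le).trans hRY
    have h2 : Y ≤ Subgroup.normalizer (Yg : Set G) := by
      intro w hw
      have hw' : g⁻¹ * w * g ∈ R := by
        simpa using (Subgroup.mem_normalizer_iff.mp (N.inv_mem hg) w).mp (hYR hw)
      refine mem_normalizer_of_conj_map_eq ?_
      conv_rhs => rw [hYg, ← conj_map_eq_of_mem_normalizer (hRY hw')]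
      rw [hYg, Subgroup.map_map, Subgroup.map_map]
      congr 1; ext v; simp [mul_assoc]
    have h3 : ⁅Y, Yg⁆ ≤ Y ⊓ Yg :=
      le_inf (Subgroup.le_normalizer_iff_commutator_le_left.mp h1)
        (Subgroup.le_normalizer_iff_commutator_le_right.mp h2)
    have h4 : ⁅Y, Yg⁆ = ⊥ := by
      by_contra hne
      exact hasym ⟨g, hne, h3⟩
    exact commutatorElement_eq_one_iff_mul_comm.mp
      (Subgroup.mem_bot.mp (h4 ▸ Subgroup.commutator_mem_commutator hy ⟨z, hz, rfl⟩))
  set K : Set G := {x | ∃ n ∈ N, ∃ y ∈ Y, x = n * y * n⁻¹} with hK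
  have hKc : ∀ a ∈ K, ∀ b ∈ K, a * b = b * a := by
    rintro _ ⟨n, hn, y, hy, rfl⟩ _ ⟨m, hm, z, hz, rfl⟩
    have h := key (n⁻¹ * m) (N.mul_mem (N.inv_mem hn) hm) y hy z hz
    calc n * y * n⁻¹ * (m * z * m⁻¹) = n * (y * (n⁻¹ * m * z * (n⁻¹ * m)⁻¹)) * n⁻¹ := by group
      _ = n * (n⁻¹ * m * z * (n⁻¹ * m)⁻¹ * y) * n⁻¹ := by rw [h]
      _ = m * z * m⁻¹ * (n * y * n⁻¹) := by group
  have hle : (Subgroup.normalClosure ((Y.subgroupOf N : Subgroup ↥N) : Set ↥N)).map N.subtype ≤ Subgroup.closure K := by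
    rw [Subgroup.normalClosure, MonoidHom.map_closure]
    refine (Subgroup.closure_le _).mpr ?_
    rintro _ ⟨x, hx, rfl⟩
    obtain ⟨y, hy, hxy⟩ := Group.mem_conjugatesOfSet_iff.mp hx
    obtain ⟨c, rfl⟩ := isConj_iff.mp hxy
    exact Subgroup.subset_closure ⟨c, c.2, y, Subgroup.mem_subgroupOf.mp hy, by simp⟩
  have hc1 : Subgroup.closure K ≤ Subgroup.centralizer K :=
    (Subgroup.closure_le _).mpr fun a ha b hb => hKc b hb a ha
  have hc2 : ∀ a ∈ Subgroup.closure K, ∀ b ∈ Subgroup.closure K, a * b = b * a := by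
    intro a ha b hb
    have h5 : Subgroup.closure K ≤ Subgroup.centralizer {b} :=
      (Subgroup.closure_le _).mpr fun x hx => Subgroup.mem_centralizer_singleton_iff.mpr (hc1 hb x hx)
    exact Subgroup.mem_centralizer_singleton_iff.mp (h5 ha)
  refine ⟨⟨⟨fun a b => Subtype.ext (hc2 _ (hle a.2) _ (hle b.2))⟩⟩, fun a ha => ?_⟩
  suffices hp' : ∀ x ∈ Subgroup.closure K, x ^ p = 1 from hp' a (hle ha)
  intro x hx
  induction hx using Subgroup.closure_induction with
  | mem x hx =>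
    obtain ⟨n, hn, y, hy, rfl⟩ := hx
    rw [conj_pow, hel.2 y hy]; group
  | one => simp
  | mul a b ha hb h1 h2 => rw [Commute.mul_pow (hc2 a ha b hb), h1, h2, one_mul]
  | inv a _ h1 => rw [inv_pow, h1, inv_one]

end Cfsg.Agent.S2849
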