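import Cfsg.Statements.S2855
import Cfsg.Agent.Lib.SubnormalSylow
import Cfsg.Agent.Lib.PIrr
import Cfsg.Agent.Lib.Core
import Cfsg.Agent.Lib.LocalBasic
import Cfsg.Agent.Lib.GroupB.Coprime

set_option autoImplicit false
open Cfsg

namespace Cfsg.Agent.S2855
open scoped commutatorElement Pointwise
open Cfsg CfsgLib.SubnormalSylow CfsgLib.GroupB.Coprime

variable {H : Type*} [Group H] [Finite H] {p : ℕ} [hp : Fact p.Prime]

theorem res_eq (A : Subgroup H) : (Cfsg.pResidual p ↥A).map A.subtype = res p A := by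
  rw [Cfsg.pResidual, MonoidHom.map_closure, res]
  congr 1
  ext x
  constructor
  · rintro ⟨a, ha, rfl⟩
    exact ⟨a.2, by show (orderOf (a : H)).Coprime p; rw [Subgroup.orderOf_coe]; exact ha⟩
  · rintro ⟨hx, hc⟩
    exact ⟨⟨x, hx⟩, by show (orderOf (⟨x, hx⟩ : ↥A)).Coprime p; rwa [Subgroup.orderOf_mk], rfl⟩

theorem map_conj_conj (X : Subgroup H) (a b : H) :
    (X.map (MulAut.conj b).toMonoidHom).map (MulAut.conj a).toMonoidHom = X.map (MulAut.conj (a * b)).toMonoidHom := by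
  rw [Subgroup.map_map]; congr 1; ext y; simp [mul_assoc]

/-- Commutators of `p`-elements into a central section. -/
theorem comm_pow_mem {O : Subgroup H} [O.Normal] {x d : H} {n : ℕ} (hc : ⁅x, ⁅x, d⁆⁆ ∈ O) (hx : x ^ n = 1) :
    ⁅x, d⁆ ^ n ∈ O := by
  have h0 : ∀ y : H, y ∈ O ↔ QuotientGroup.mk' O y = 1 := fun y => (QuotientGroup.eq_one_iff y).symm
  rw [h0, map_pow]
  rw [h0, map_commutatorElement, commutatorElement_eq_one_iff_mul_comm, map_commutatorElement] at hc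
  set a := QuotientGroup.mk' O x
  set b := QuotientGroup.mk' O d
  rw [map_commutatorElement]
  have key : ∀ m : ℕ, a ^ m * b * (a ^ m)⁻¹ = ⁅a, b⁆ ^ m * b := by
    intro m
    induction m with
    | zero => simp
    | succ m ih =>
      have hcm : Commute a (⁅a, b⁆ ^ m) := Commute.pow_right hc m
      calc a ^ (m + 1) * b * (a ^ (m + 1))⁻¹ = a * (a ^ m * b * (a ^ m)⁻¹) * a⁻¹ := by rw [pow_succ']; group
        _ = a * ⁅a, b⁆ ^ m * b * a⁻¹ := by rw [ih]; group
        _ = ⁅a, b⁆ ^ m * a * b * a⁻¹ := by rw [hcm.eq]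
        _ = ⁅a, b⁆ ^ (m + 1) * b := by rw [pow_succ, commutatorElement_def]; group
  have h := key n
  rw [show a ^ n = 1 by rw [← map_pow, hx, map_one], one_mul, inv_one, mul_one] at h
  exact (mul_eq_right.mp h.symm)

/-- A `p`-element central in a subnormal subgroup modulo `O_p` lies in `O_p`. -/
theorem mem_pCore_of_central {E : Subgroup H} (hE : E.IsSubnormal) (hOE : pCore p H ≤ E) {c : H} (hcE : c ∈ E)
    (hc : ∀ e ∈ E, ⁅e, c⁆ ∈ pCore p H) {n : ℕ} (hn : c ^ p ^ n ∈ pCore p H) : c ∈ pCore p H := by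
  set O := pCore p H with hO
  haveI : O.Normal := pCore_normal p H
  set X := Subgroup.zpowers c ⊔ O with hX
  have hXp : IsPGroup p ↥X := by
    intro x
    obtain ⟨z, hz, o, ho, e⟩ := Subgroup.mem_sup_of_normal_right.mp x.2
    obtain ⟨j, rfl⟩ := Subgroup.mem_zpowers_iff.mp hz
    have h1 : (x : H) ^ p ^ n ∈ O := by
      rw [← e]
      refine (QuotientGroup.eq_one_iff _).mp ?_
      rw [QuotientGroup.mk_pow, QuotientGroup.mk_mul, (QuotientGroup.eq_one_iff o).mpr ho, mul_one, ← QuotientGroup.mk_pow,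
        ← zpow_natCast (c ^ j), ← zpow_mul, mul_comm, zpow_mul, zpow_natCast, QuotientGroup.mk_zpow,
        (QuotientGroup.eq_one_iff _).mpr hn, one_zpow]
    obtain ⟨k, hk⟩ := CfsgLib.Core.isPGroup_pCore (G := H) p ⟨_, h1⟩
    refine ⟨n + k, Subtype.ext ?_⟩
    have := congrArg Subtype.val hk
    rw [Subgroup.coe_pow, pow_add, pow_mul]
    simpa using this
  have hXn : E ≤ Subgroup.normalizer (X : Set H) := by
    refine le_normalizer_of_conj_mem fun e he x hx => ?_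
    have hmap : X.map (MulAut.conj e).toMonoidHom ≤ X := by
      rw [hX, Subgroup.map_sup]
      refine sup_le ?_ ?_
      · rw [MonoidHom.map_zpowers, Subgroup.zpowers_le]
        show e * c * e⁻¹ ∈ X
        rw [show e * c * e⁻¹ = ⁅e, c⁆ * c by simp [commutatorElement_def]]
        exact mul_mem (Subgroup.mem_sup_right (hc e he)) (Subgroup.mem_sup_left (Subgroup.mem_zpowers c))
      · rintro _ ⟨o, ho, rfl⟩
        exact Subgroup.mem_sup_right (Subgroup.Normal.conj_mem inferInstance o ho e)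
    exact hmap ⟨x, hx, rfl⟩
  have hXE : X ≤ E := sup_le (Subgroup.zpowers_le.mpr hcE) hOE
  exact CfsgLib.Core.isPGroup_subnormal_le_pCore
    (Subgroup.IsSubnormal.step X E hXE hE ((Subgroup.normal_subgroupOf_iff_le_normalizer hXE).mpr hXn)) hXp
    (Subgroup.mem_sup_left (Subgroup.mem_zpowers c))

structure Family (p : ℕ) [Fact p.Prime] (𝒦 : Set (Subgroup H)) : Prop where
  inv : ∀ h : H, ∀ E ∈ 𝒦, E.map (MulAut.conj h).toMonoidHom ∈ 𝒦
  tr : ∀ E ∈ 𝒦, ∀ K ∈ 𝒦, ∃ h : H, K = E.map (MulAut.conj h).toMonoidHom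
  res_le : pResidual p H ≤ sSup 𝒦
  norm : ∀ E ∈ 𝒦, sSup 𝒦 ⊔ pCore p H ≤ Subgroup.normalizer ((E ⊔ pCore p H : Subgroup H) : Set H)

variable {𝒦 : Set (Subgroup H)} (F : Family p 𝒦)

theorem conj_pCore (g : H) : (pCore p H).map (MulAut.conj g).toMonoidHom = pCore p H :=
  CfsgLib.Core.pCore_map_equiv (MulAut.conj g) p

include F in
theorem normal_R : (sSup 𝒦).Normal := by
  refine ⟨fun x hx g => ?_⟩
  have h : (sSup 𝒦).map (MulAut.conj g).toMonoidHom ≤ sSup 𝒦 := by
    rw [sSup_eq_iSup', Subgroup.map_iSup]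
    exact iSup_le fun E => le_iSup (fun E : ↥𝒦 => (E : Subgroup H)) ⟨_, F.inv g E E.2⟩
  exact h ⟨x, hx, rfl⟩

include F in
theorem top_eq (S : Sylow p H) : sSup 𝒦 ⊔ (S : Subgroup H) = ⊤ :=
  top_le_iff.mp ((CfsgLib.PResidual.sup_pResidual_eq_top S).ge.trans (sup_le le_sup_right (le_sup_of_le_left F.res_le)))

include F in
theorem subnormal_bar {E : Subgroup H} (hE : E ∈ 𝒦) : (E ⊔ pCore p H).IsSubnormal := by
  haveI := normal_R F
  haveI : (pCore p H).Normal := pCore_normal p H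
  exact Subgroup.IsSubnormal.step _ _ (sup_le_sup_right (le_sSup hE) _)
    (Subgroup.Normal.isSubnormal (inferInstance : (sSup 𝒦 ⊔ pCore p H).Normal))
    ((Subgroup.normal_subgroupOf_iff_le_normalizer (sup_le_sup_right (le_sSup hE) _)).mpr (F.norm E hE))

include F in
theorem trans_bar (S : Sylow p H) {E K : Subgroup H} (hE : E ∈ 𝒦) (hK : K ∈ 𝒦) :
    ∃ s ∈ (S : Subgroup H), (E ⊔ pCore p H).map (MulAut.conj s).toMonoidHom = K ⊔ pCore p H := by
  haveI := normal_R F
  obtain ⟨h, rfl⟩ := F.tr E hE K hK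
  obtain ⟨s, hs, r, hr, rfl⟩ := Subgroup.mem_sup_of_normal_right.mp
    ((by rw [sup_comm]; exact top_eq F S : (S : Subgroup H) ⊔ sSup 𝒦 = ⊤).ge (Subgroup.mem_top h))
  refine ⟨s, hs, ?_⟩
  conv_lhs => rw [← mem_normalizer_iff_map_conj_eq.mp (F.norm E hE (Subgroup.mem_sup_left hr))]
  rw [map_conj_conj, Subgroup.map_sup, conj_pCore]

include F in
theorem sylow_member (S : Sylow p H) {E : Subgroup H} (hE : E ∈ 𝒦) :
    ¬ p ∣ ((S : Subgroup H).subgroupOf E).index := by
  set O := pCore p H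
  haveI : O.Normal := pCore_normal p H
  have hOS : O ≤ (S : Subgroup H) := CfsgLib.Core.pCore_le_sylow S
  set X := (S : Subgroup H) ⊓ (E ⊔ O) with hX
  have hXeq : X = O ⊔ ((S : Subgroup H) ⊓ E) := by
    refine le_antisymm ?_ (sup_le (le_inf hOS le_sup_right) (inf_le_inf_left _ le_sup_left))
    rintro x ⟨hxS, hxE⟩
    obtain ⟨e, he, o, ho, rfl⟩ := Subgroup.mem_sup_of_normal_right.mp hxE
    have heS : e ∈ (S : Subgroup H) := by simpa using mul_mem (show e * o ∈ (S : Subgroup H) from hxS) (inv_mem (hOS ho))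
    exact mul_mem (Subgroup.mem_sup_right ⟨heS, he⟩) (Subgroup.mem_sup_left ho)
  have hn : ∀ A : Subgroup H, A ≤ Subgroup.normalizer (O : Set H) := fun A => by
    rw [Subgroup.normalizer_eq_top O]; exact le_top
  have h1 := sylow_of_subnormal S.not_dvd_index (subnormal_bar F hE)
  rw [← hX, hXeq] at h1
  have e1 : O.relIndex (O ⊔ ((S : Subgroup H) ⊓ E)) * (O ⊔ ((S : Subgroup H) ⊓ E)).relIndex (E ⊔ O) =
      O.relIndex (E ⊔ O) := Subgroup.relIndex_mul_relIndex _ _ _ le_sup_left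
        (sup_le le_sup_right (inf_le_right.trans le_sup_left))
  have e2 : O.relIndex ((S : Subgroup H) ⊓ E) = (O ⊓ E).relIndex ((S : Subgroup H) ⊓ E) := by
    rw [← Subgroup.inf_relIndex_right O, show O ⊓ ((S : Subgroup H) ⊓ E) = O ⊓ E from
      le_antisymm (inf_le_inf_left _ inf_le_right) (le_inf inf_le_left (le_inf (inf_le_left.trans hOS) inf_le_right))]
  have e3 : (O ⊓ E).relIndex ((S : Subgroup H) ⊓ E) * ((S : Subgroup H) ⊓ E).relIndex E = (O ⊓ E).relIndex E :=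
    Subgroup.relIndex_mul_relIndex _ _ _ (le_inf (inf_le_left.trans hOS) inf_le_right) inf_le_right
  rw [relIndex_sup_of_le_normalizer (hn _), sup_comm E O, relIndex_sup_of_le_normalizer (hn _), e2,
    ← Subgroup.inf_relIndex_right O E, ← e3] at e1
  intro hd
  refine h1 ?_
  have hne : (O ⊓ E).relIndex ((S : Subgroup H) ⊓ E) ≠ 0 := Subgroup.index_ne_zero_of_finite
  rw [sup_comm E O, Nat.eq_of_mul_eq_mul_left (Nat.pos_of_ne_zero hne) e1, Subgroup.inf_relIndex_right]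
  exact hd

include F in
theorem minimal_part (hmin : ∀ E ∈ 𝒦, ∀ T : Sylow p ↥E, IsMinimalOver (T : Subgroup ↥E)) (hne : 𝒦.Nonempty)
    (S : Sylow p H) : IsMinimalOver (S : Subgroup H) := by
  classical
  haveI hRn := normal_R F
  set O := pCore p H with hO
  haveI hOn : O.Normal := pCore_normal p H
  set R := sSup 𝒦 with hR
  have hOS : O ≤ (S : Subgroup H) := CfsgLib.Core.pCore_le_sylow S
  have hE0 : ∀ E ∈ 𝒦, IsMinimalOver ((S : Subgroup H).subgroupOf E) := fun E hE =>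
    hmin E hE ((S.2.comap_subtype (K := E)).toSylow (sylow_member F S hE))
  have htop : R ⊔ (S : Subgroup H) = ⊤ := top_eq F S
  have hRS : ∀ h : H, ∃ r ∈ R, ∃ s ∈ (S : Subgroup H), r * s = h := fun h =>
    Subgroup.mem_sup_of_normal_left.mp (htop.ge (Subgroup.mem_top h))
  -- a normal subgroup containing the Sylow of E contains E
  have hclosE : ∀ E ∈ 𝒦, ∀ N : Subgroup H, E ≤ Subgroup.normalizer (N : Set H) → (S : Subgroup H) ⊓ E ≤ N → E ≤ N := by
    intro E hE N hEN hSN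
    haveI : (N.subgroupOf E).Normal := ⟨fun a ha b => Subgroup.mem_subgroupOf.mpr
      ((Subgroup.mem_normalizer_iff.mp (hEN b.2) _).mp (Subgroup.mem_subgroupOf.mp ha))⟩
    have h : Subgroup.normalClosure (((S : Subgroup H).subgroupOf E : Subgroup ↥E) : Set ↥E) ≤ N.subgroupOf E :=
      Subgroup.normalClosure_le_normal fun a ha =>
        Subgroup.mem_subgroupOf.mpr (hSN ⟨Subgroup.mem_subgroupOf.mp ha, a.2⟩)
    rw [(hE0 E hE).1] at h
    exact Subgroup.subgroupOf_eq_top.mp (top_le_iff.mp h)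
  choose M hM hMu using fun (E : Subgroup H) (hE : E ∈ 𝒦) => (hE0 E hE).2
  let M' : ∀ E : Subgroup H, E ∈ 𝒦 → Subgroup H := fun E hE => (M E hE).map E.subtype ⊔ O
  have hSM : ∀ E (hE : E ∈ 𝒦), (S : Subgroup H) ⊓ E ≤ M' E hE := fun E hE x hx => Subgroup.mem_sup_left
    ⟨⟨x, hx.2⟩, (hM E hE).2 (Subgroup.mem_subgroupOf.mpr hx.1), rfl⟩
  have hM'le : ∀ E (hE : E ∈ 𝒦), M' E hE ≤ E ⊔ O := fun E hE => sup_le_sup_right (Subgroup.map_subtype_le _) _
  have hM'ne : ∀ E (hE : E ∈ 𝒦), ¬ E ≤ M' E hE := by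
    intro E hE h
    refine (hM E hE).1.1 (eq_top_iff.mpr fun e _ => ?_)
    obtain ⟨m, ⟨m₀, hm₀, rfl⟩, o, ho, he⟩ := Subgroup.mem_sup_of_normal_right.mp (h e.2)
    have hoE : o ∈ E := by
      rw [show o = (m₀ : H)⁻¹ * e by rw [← he]; simp]
      exact mul_mem (inv_mem m₀.2) e.2
    have hoM : (⟨o, hoE⟩ : ↥E) ∈ M E hE := (hM E hE).2 (Subgroup.mem_subgroupOf.mpr (hOS ho))
    rw [show e = m₀ * ⟨o, hoE⟩ from Subtype.ext he.symm]
    exact mul_mem hm₀ hoM
  have hle : ∀ E (hE : E ∈ 𝒦), ∀ X : Subgroup H, X ≤ E ⊔ O → O ≤ X → (S : Subgroup H) ⊓ E ≤ X → ¬ E ≤ X →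
      X ≤ M' E hE := by
    intro E hE X hX hOX hSX hEX
    have h1 : X.subgroupOf E ≤ M E hE := by
      obtain ⟨N, hN, hXN⟩ := (IsCoatomic.eq_top_or_exists_le_coatom (X.subgroupOf E)).resolve_left
        fun h => hEX (Subgroup.subgroupOf_eq_top.mp h)
      have : N = M E hE := hMu E hE N ⟨hN, fun a ha => hXN (Subgroup.mem_subgroupOf.mpr
        (hSX ⟨Subgroup.mem_subgroupOf.mp ha, a.2⟩))⟩
      exact this ▸ hXN
    intro x hx
    obtain ⟨e, he, o, ho, rfl⟩ := Subgroup.mem_sup_of_normal_right.mp (hX hx)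
    refine mul_mem (Subgroup.mem_sup_left ⟨⟨e, he⟩, h1 (Subgroup.mem_subgroupOf.mpr ?_), rfl⟩) (Subgroup.mem_sup_right ho)
    simpa using mul_mem hx (inv_mem (hOX ho))
  have hPle : ∀ E (hE : E ∈ 𝒦), (S : Subgroup H) ⊓ (E ⊔ O) ≤ M' E hE := by
    intro E hE x hx
    obtain ⟨hxS, hxE⟩ := Subgroup.mem_inf.mp hx
    obtain ⟨e, he, o, ho, rfl⟩ := Subgroup.mem_sup_of_normal_right.mp hxE
    have heS : e ∈ (S : Subgroup H) := by simpa using mul_mem (show e * o ∈ (S : Subgroup H) from hxS) (inv_mem (hOS ho))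
    exact mul_mem (hSM E hE ⟨heS, he⟩) (Subgroup.mem_sup_right ho)
  -- transport
  have hequiv : ∀ E (hE : E ∈ 𝒦), ∀ K (hK : K ∈ 𝒦), ∀ g : H, (E ⊔ O).map (MulAut.conj g).toMonoidHom = K ⊔ O →
      ((S : Subgroup H) ⊓ (E ⊔ O)).map (MulAut.conj g).toMonoidHom = (S : Subgroup H) ⊓ (K ⊔ O) →
      (M' E hE).map (MulAut.conj g).toMonoidHom ≤ M' K hK := by
    intro E hE K hK g h1 h2
    refine hle K hK _ ((Subgroup.map_mono (hM'le E hE)).trans h1.le) ?_ ?_ ?_
    · exact (conj_pCore g).ge.trans (Subgroup.map_mono le_sup_right)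
    · exact (inf_le_inf_left _ le_sup_left).trans (h2.ge.trans (Subgroup.map_mono (hPle E hE)))
    · intro h
      refine hM'ne E hE ?_
      have h3 : (E ⊔ O).map (MulAut.conj g).toMonoidHom ≤ (M' E hE).map (MulAut.conj g).toMonoidHom :=
        h1.le.trans (sup_le h ((conj_pCore g).ge.trans (Subgroup.map_mono le_sup_right)))
      exact le_sup_left.trans ((Subgroup.map_le_map_iff_of_injective (f := (MulAut.conj g).toMonoidHom)
        (MulAut.conj g).injective).mp h3)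
  have hnP : ∀ E (hE : E ∈ 𝒦), ∀ g ∈ Subgroup.normalizer ((E ⊔ O : Subgroup H) : Set H),
      g ∈ Subgroup.normalizer (((S : Subgroup H) ⊓ (E ⊔ O) : Subgroup H) : Set H) →
      g ∈ Subgroup.normalizer (M' E hE : Set H) := fun E hE g hg hgP =>
    mem_normalizer_iff_map_conj_eq.mpr (Subgroup.eq_of_le_of_card_ge
      (hequiv E hE E hE g (mem_normalizer_iff_map_conj_eq.mp hg) (mem_normalizer_iff_map_conj_eq.mp hgP))
      (Subgroup.card_map_of_injective (f := (MulAut.conj g).toMonoidHom) (MulAut.conj g).injective).ge)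
  set V := (R ⊔ O) ⊓ ⨅ E : ↥𝒦, Subgroup.normalizer (M' E E.2 : Set H) with hV
  have hSV : (S : Subgroup H) ≤ Subgroup.normalizer (V : Set H) := by
    refine le_normalizer_of_conj_mem fun s hs v hv => ?_
    obtain ⟨hvR, hvN⟩ := Subgroup.mem_inf.mp hv
    refine Subgroup.mem_inf.mpr ⟨Subgroup.Normal.conj_mem inferInstance v hvR s, Subgroup.mem_iInf.mpr fun E => ?_⟩
    set E' := (E : Subgroup H).map (MulAut.conj s⁻¹).toMonoidHom with hE'
    have hE'K := F.inv s⁻¹ E E.2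
    have hb : (E' ⊔ O).map (MulAut.conj s).toMonoidHom = (E : Subgroup H) ⊔ O := by
      rw [Subgroup.map_sup, conj_pCore, hE', map_conj_conj, mul_inv_cancel, map_one]
      exact congrArg (· ⊔ O) (Subgroup.map_id _)
    have hb2 : ((S : Subgroup H) ⊓ (E' ⊔ O)).map (MulAut.conj s).toMonoidHom = (S : Subgroup H) ⊓ ((E : Subgroup H) ⊔ O) := by
      rw [Subgroup.map_inf _ _ _ (MulAut.conj s).injective, hb, mem_normalizer_iff_map_conj_eq.mp (Subgroup.le_normalizer hs)]
    have hb' : ((E : Subgroup H) ⊔ O).map (MulAut.conj s⁻¹).toMonoidHom = E' ⊔ O := by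
      rw [Subgroup.map_sup, conj_pCore, hE']
    have hb2' : ((S : Subgroup H) ⊓ ((E : Subgroup H) ⊔ O)).map (MulAut.conj s⁻¹).toMonoidHom = (S : Subgroup H) ⊓ (E' ⊔ O) := by
      rw [Subgroup.map_inf _ _ _ (MulAut.conj s⁻¹).injective, hb',
        mem_normalizer_iff_map_conj_eq.mp (Subgroup.le_normalizer (inv_mem hs))]
    have heq : (M' E' hE'K).map (MulAut.conj s).toMonoidHom = M' E E.2 := by
      refine le_antisymm (hequiv _ hE'K _ E.2 s hb hb2) fun x hx => ?_
      refine ⟨s⁻¹ * x * s, hequiv _ E.2 _ hE'K s⁻¹ hb' hb2' ⟨x, hx, by simp⟩, by simp [mul_assoc]⟩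
    have hv' := Subgroup.mem_iInf.mp hvN ⟨E', hE'K⟩
    show s * v * s⁻¹ ∈ Subgroup.normalizer (M' E E.2 : Set H)
    rw [← heq]
    have := Subgroup.mem_map_of_mem (MulAut.conj s).toMonoidHom hv'
    rwa [Subgroup.map_equiv_normalizer_eq] at this
  have hSR : (S : Subgroup H) ⊓ (R ⊔ O) ≤ V := fun s hs => by
    obtain ⟨hsS, hsR⟩ := Subgroup.mem_inf.mp hs
    refine Subgroup.mem_inf.mpr ⟨hsR, Subgroup.mem_iInf.mpr fun E => hnP E E.2 s (F.norm E E.2 hsR) ?_⟩
    exact CfsgLib.LocalBasic.normalizer_inf_ge (B := (S : Subgroup H) ⊓ (R ⊔ O))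
      (inf_le_left.trans Subgroup.le_normalizer) (inf_le_right.trans (F.norm E E.2)) hs
  set Mt := V ⊔ (S : Subgroup H) with hMt
  have hMtne : Mt ≠ ⊤ := by
    intro h
    obtain ⟨E, hE⟩ := hne
    have hEV : E ≤ V := by
      intro e he
      obtain ⟨v, hv, s, hs, heq⟩ := (mem_sup_of_le_normalizer hSV).mp (h.ge (Subgroup.mem_top e))
      have hsR : s ∈ R ⊔ O := by
        rw [show s = v⁻¹ * e by rw [← heq]; group]
        exact mul_mem (inv_mem (Subgroup.mem_inf.mp hv).1) (Subgroup.mem_sup_left (le_sSup hE he))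
      rw [← heq]
      exact mul_mem hv (hSR (Subgroup.mem_inf.mpr ⟨hs, hsR⟩))
    exact hM'ne E hE (hclosE E hE _ (hEV.trans (inf_le_right.trans (iInf_le _ (⟨E, hE⟩ : ↥𝒦)))) (hSM E hE))
  have key : ∀ U : Subgroup H, (S : Subgroup H) ≤ U → U ≠ ⊤ → U ≤ Mt := by
    intro U hSU hU
    have hnE : ∀ E ∈ 𝒦, ¬ E ≤ U := by
      intro E hE h
      refine hU (top_le_iff.mp (htop.ge.trans (sup_le (sSup_le fun K hK => ?_) hSU)))
      obtain ⟨s, hs, e⟩ := trans_bar F S hE hK
      refine le_sup_left.trans (e.ge.trans ?_)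
      rintro _ ⟨x, hx, rfl⟩
      exact mul_mem (mul_mem (hSU hs) ((sup_le h (hOS.trans hSU)) hx)) (inv_mem (hSU hs))
    have hD : U ⊓ (R ⊔ O) ≤ V := by
      intro d hd
      obtain ⟨hdU, hdR⟩ := Subgroup.mem_inf.mp hd
      refine Subgroup.mem_inf.mpr ⟨hdR, Subgroup.mem_iInf.mpr fun E => ?_⟩
      have hdE := F.norm E E.2 hdR
      set UE := U ⊓ ((E : Subgroup H) ⊔ O)
      set P := (S : Subgroup H) ⊓ ((E : Subgroup H) ⊔ O) with hP
      have hPU : P ≤ UE := inf_le_inf_right _ hSU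
      have hUM : UE ≤ M' E E.2 := hle E E.2 UE inf_le_right (le_inf (hOS.trans hSU) le_sup_right)
        ((inf_le_inf_left _ le_sup_left).trans hPU) fun h => hnE E E.2 (h.trans inf_le_left)
      have hdUE : d ∈ Subgroup.normalizer (UE : Set H) :=
        CfsgLib.LocalBasic.normalizer_inf_ge (B := U ⊓ Subgroup.normalizer (((E : Subgroup H) ⊔ O : Subgroup H) : Set H))
          (inf_le_left.trans Subgroup.le_normalizer) inf_le_right (Subgroup.mem_inf.mpr ⟨hdU, hdE⟩)
      have hPS : IsSylowOf p P UE := by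
        refine ⟨hPU, ?_⟩
        have hi : ¬ p ∣ P.relIndex UE := fun h => sylow_of_subnormal S.not_dvd_index (subnormal_bar F E.2)
          (h.trans (dvd_of_mul_right_eq _ (Subgroup.relIndex_mul_relIndex P UE _ hPU inf_le_right)))
        rw [← Nat.card_congr (Subgroup.subgroupOfEquivOfLe hPU).toEquiv]
        exact (((S.2.to_le inf_le_left : IsPGroup p ↥P).comap_subtype (K := UE)).toSylow hi).card_eq_multiplicity
      obtain ⟨u, hu, hue⟩ := (hPS.map_conj hdUE).exists_conj hPS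
      have hud : u * d ∈ Subgroup.normalizer (P : Set H) := mem_normalizer_iff_map_conj_eq.mpr (by
        rw [← map_conj_conj]; exact hue)
      have h1 : u * d ∈ Subgroup.normalizer (M' E E.2 : Set H) :=
        hnP E E.2 _ (mul_mem (Subgroup.le_normalizer (inf_le_right (a := U) hu)) hdE) hud
      have h2 : u ∈ Subgroup.normalizer (M' E E.2 : Set H) := Subgroup.le_normalizer (hUM hu)
      simpa using mul_mem (inv_mem h2) h1
    intro x hx
    obtain ⟨r, hr, s, hs, rfl⟩ := hRS x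
    refine mul_mem (Subgroup.mem_sup_left (hD (Subgroup.mem_inf.mpr ⟨?_, Subgroup.mem_sup_left hr⟩))) (Subgroup.mem_sup_right hs)
    simpa using mul_mem hx (inv_mem (hSU hs))
  refine ⟨?_, Mt, ⟨⟨hMtne, fun U hU => ?_⟩, le_sup_right⟩, fun N hN => ?_⟩
  · rw [eq_top_iff, ← htop]
    refine sup_le (sSup_le fun E hE => ?_) Subgroup.le_normalClosure
    refine hclosE E hE _ (by rw [Subgroup.normalizer_eq_top]; exact le_top) (inf_le_left.trans Subgroup.le_normalClosure)
  · by_contra h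
    exact hU.not_ge (key U (le_sup_right.trans hU.le) h)
  · by_contra hne'
    exact hMtne (hN.1.2 Mt (lt_of_le_of_ne (key N hN.2 hN.1.1) hne'))

theorem res_sup_pCore {E : Subgroup H} (hn : E ≤ Subgroup.normalizer ((res p E ⊔ pCore p H : Subgroup H) : Set H)) :
    res p (E ⊔ pCore p H) ≤ res p E ⊔ pCore p H := by
  haveI : (pCore p H).Normal := pCore_normal p H
  refine res_le_of fun a ha => ?_
  obtain ⟨o, ho, e, he, rfl⟩ := Subgroup.mem_sup_of_normal_left.mp
    (show a ∈ pCore p H ⊔ E by rw [sup_comm]; exact ha)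
  obtain ⟨k, hk⟩ := pow_mem_res (p := p) he
  refine ⟨k, ?_⟩
  have h : (o * e) ^ p ^ k * (e ^ p ^ k)⁻¹ ∈ pCore p H := by
    rw [← QuotientGroup.eq_one_iff, QuotientGroup.mk_mul, QuotientGroup.mk_inv, QuotientGroup.mk_pow, QuotientGroup.mk_mul,
      (QuotientGroup.eq_one_iff o).mpr ho, one_mul, QuotientGroup.mk_pow, mul_inv_cancel]
  rw [show (o * e) ^ p ^ k = (o * e) ^ p ^ k * (e ^ p ^ k)⁻¹ * e ^ p ^ k by group]
  exact mul_mem (Subgroup.mem_sup_right h) (Subgroup.mem_sup_left hk)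

/-- The alternative for a strongly irreducible member. -/
theorem strong_cases {E N : Subgroup H} (hE : IsStronglyPIrreducible p ↥E) (hs : (E ⊔ pCore p H).IsSubnormal)
    (hON : pCore p H ≤ N) (hN : E ≤ Subgroup.normalizer (N : Set H)) :
    res p E ≤ N ∨ ⁅N ⊓ (E ⊔ pCore p H), E ⊔ pCore p H⁆ ≤ pCore p H := by
  set O := pCore p H
  haveI hOn : O.Normal := pCore_normal p H
  haveI : (N.subgroupOf E).Normal := ⟨fun a ha b => Subgroup.mem_subgroupOf.mpr
    ((Subgroup.mem_normalizer_iff.mp (hN b.2) _).mp (Subgroup.mem_subgroupOf.mp ha))⟩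
  by_cases hc : ⁅N.subgroupOf E, (⊤ : Subgroup ↥E)⁆ ≤ pCore p ↥E
  swap
  · refine Or.inl ?_
    rw [← res_eq]
    exact (Subgroup.map_mono (hE.2 _ inferInstance hc)).trans (by rw [Subgroup.subgroupOf_map_subtype]; exact inf_le_left)
  refine Or.inr ?_
  have hpc : (pCore p ↥E).map E.subtype ≤ O := by
    set Y := (pCore p ↥E).map E.subtype ⊔ O
    have hY : Y ≤ E ⊔ O := sup_le_sup_right (Subgroup.map_subtype_le _) _
    have hYn : E ⊔ O ≤ Subgroup.normalizer (Y : Set H) := by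
      refine sup_le ?_ (le_sup_right.trans Subgroup.le_normalizer)
      refine CfsgLib.LocalBasic.normalizer_sup_ge ?_ (by rw [Subgroup.normalizer_eq_top O]; exact le_top)
      refine le_normalizer_of_conj_mem fun k hk x hx => ?_
      obtain ⟨a, ha, rfl⟩ := hx
      exact ⟨⟨k, hk⟩ * a * ⟨k, hk⟩⁻¹, (pCore_normal p ↥E).conj_mem a ha _, rfl⟩
    exact le_sup_left.trans (CfsgLib.Core.isPGroup_subnormal_le_pCore
      (Subgroup.IsSubnormal.step Y _ hY hs ((Subgroup.normal_subgroupOf_iff_le_normalizer hY).mpr hYn))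
      (IsPGroup.to_sup_of_normal_right ((CfsgLib.Core.isPGroup_pCore p).map _) (CfsgLib.Core.isPGroup_pCore p)))
  rw [Subgroup.commutator_le]
  intro a ha b hb
  obtain ⟨haN, haE⟩ := Subgroup.mem_inf.mp ha
  obtain ⟨e, he, o, ho, rfl⟩ := Subgroup.mem_sup_of_normal_right.mp haE
  obtain ⟨e', he', o', ho', rfl⟩ := Subgroup.mem_sup_of_normal_right.mp hb
  have heN : e ∈ N := by simpa using mul_mem haN (inv_mem (hON ho))
  have h1 : ⁅e, e'⁆ ∈ O := hpc ⟨⁅(⟨e, he⟩ : ↥E), ⟨e', he'⟩⁆,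
    hc (Subgroup.commutator_mem_commutator (Subgroup.mem_subgroupOf.mpr heN) (Subgroup.mem_top _)), rfl⟩
  rw [← QuotientGroup.eq_one_iff] at h1 ho ho' ⊢
  have hm : ∀ x y : H, ((⁅x, y⁆ : H) : H ⧸ O) = ⁅(x : H ⧸ O), (y : H ⧸ O)⁆ := map_commutatorElement (QuotientGroup.mk' O)
  rw [hm, QuotientGroup.mk_mul, QuotientGroup.mk_mul, ho, ho', mul_one, mul_one, ← hm, h1]

theorem gen_pElements {E : Subgroup H} (hE : IsStronglyPIrreducible p ↥E) :
    Subgroup.closure {x : H | x ∈ E ∧ ∃ k : ℕ, x ^ p ^ k = 1} = E := by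
  set N₀ : Subgroup ↥E := Subgroup.closure {x : ↥E | ∃ k : ℕ, x ^ p ^ k = 1}
  haveI hn : N₀.Normal := ⟨fun a ha g => by
    have h : N₀.map (MulAut.conj g).toMonoidHom ≤ N₀ := by
      rw [MonoidHom.map_closure, Subgroup.closure_le]
      rintro _ ⟨x, ⟨k, hk⟩, rfl⟩
      exact Subgroup.subset_closure ⟨k, by rw [← map_pow, hk, map_one]⟩
    exact h ⟨a, ha, rfl⟩⟩
  obtain ⟨P⟩ := (inferInstance : Nonempty (Sylow p ↥E))
  have hPN : (P : Subgroup ↥E) ≤ N₀ := fun x hx => Subgroup.subset_closure (CfsgLib.PIrr.isPElt_of_mem P.2 hx)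
  have htop : N₀ = ⊤ := by
    by_cases hc : ⁅N₀, (⊤ : Subgroup ↥E)⁆ ≤ pCore p ↥E
    · exfalso
      refine hE.1 fun Q => ?_
      have hQN : (Q : Subgroup ↥E) ≤ N₀ := fun x hx => Subgroup.subset_closure (CfsgLib.PIrr.isPElt_of_mem Q.2 hx)
      rw [← Subgroup.normalizer_eq_top_iff, eq_top_iff]
      refine Subgroup.le_normalizer_iff_commutator_le_right.mpr ?_
      rw [Subgroup.commutator_comm]
      exact ((Subgroup.commutator_mono hQN le_rfl).trans hc).trans (CfsgLib.Core.pCore_le_sylow Q)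
    · exact top_le_iff.mp ((CfsgLib.PResidual.sup_pResidual_eq_top P).ge.trans (sup_le hPN (hE.2 N₀ inferInstance hc)))
  refine le_antisymm ((Subgroup.closure_le _).mpr fun x hx => hx.1) fun x hx => ?_
  have : (⟨x, hx⟩ : ↥E) ∈ N₀ := htop ▸ Subgroup.mem_top _
  have h2 := Subgroup.mem_map_of_mem E.subtype this
  rw [MonoidHom.map_closure] at h2
  refine Subgroup.closure_mono ?_ h2
  rintro _ ⟨y, ⟨k, hk⟩, rfl⟩
  exact ⟨y.2, k, by simpa using congrArg Subtype.val hk⟩

include F in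
/-- Something meeting `E O_p` centrally commutes with `E` modulo `O_p`. -/
theorem comm_le_of_central {E D : Subgroup H} (hE : E ∈ 𝒦) (hs : IsStronglyPIrreducible p ↥E)
    (hDE : E ⊔ pCore p H ≤ Subgroup.normalizer (D : Set H)) (hDn : D ≤ Subgroup.normalizer ((E ⊔ pCore p H : Subgroup H) : Set H))
    (hc : ⁅D ⊓ (E ⊔ pCore p H), E ⊔ pCore p H⁆ ≤ pCore p H) : ⁅E, D⁆ ≤ pCore p H := by
  set O := pCore p H
  haveI hOn : O.Normal := pCore_normal p H
  rw [Subgroup.commutator_le]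
  intro x hx d hd
  have hmain : ∀ y ∈ E, (∃ k : ℕ, y ^ p ^ k = 1) → ⁅y, d⁆ ∈ O := by
    intro y hy ⟨k, hk⟩
    have hcA : ⁅y, d⁆ ∈ D ⊓ (E ⊔ O) := Subgroup.mem_inf.mpr
      ⟨Subgroup.le_normalizer_iff_commutator_le_right.mp hDE (Subgroup.commutator_mem_commutator (Subgroup.mem_sup_left hy) hd),
       Subgroup.le_normalizer_iff_commutator_le_left.mp hDn (Subgroup.commutator_mem_commutator (Subgroup.mem_sup_left hy) hd)⟩
    have hcen : ∀ e ∈ E ⊔ O, ⁅e, ⁅y, d⁆⁆ ∈ O := fun e he => by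
      have := hc (Subgroup.commutator_mem_commutator hcA he)
      rw [← inv_mem_iff, commutatorElement_inv] at this
      exact this
    exact mem_pCore_of_central (subnormal_bar F hE) le_sup_right (Subgroup.mem_inf.mp hcA).2 hcen
      (comm_pow_mem (hcen y (Subgroup.mem_sup_left hy)) hk)
  rw [← gen_pElements hs] at hx
  rw [← QuotientGroup.eq_one_iff]
  have hm : ∀ x y : H, ((⁅x, y⁆ : H) : H ⧸ O) = ⁅(x : H ⧸ O), (y : H ⧸ O)⁆ := map_commutatorElement (QuotientGroup.mk' O)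
  rw [hm, commutatorElement_eq_one_iff_mul_comm]
  induction hx using Subgroup.closure_induction with
  | mem z hz =>
    have := (QuotientGroup.eq_one_iff _).mpr (hmain z hz.1 hz.2)
    rw [hm, commutatorElement_eq_one_iff_mul_comm] at this
    exact this
  | one => simp
  | mul a b _ _ ha hb =>
    show Commute ((a * b : H) : H ⧸ O) (d : H ⧸ O)
    rw [QuotientGroup.mk_mul]; exact Commute.mul_left ha hb
  | inv a _ ha =>
    show Commute ((a⁻¹ : H) : H ⧸ O) (d : H ⧸ O)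
    rw [QuotientGroup.mk_inv]; exact Commute.inv_left ha

include F in
theorem irreducible_part (hst : ∀ E ∈ 𝒦, IsStronglyPIrreducible p ↥E) (hne : 𝒦.Nonempty) :
    IsPIrreducible p H ∧ ∀ E ∈ 𝒦, ∀ K ∈ 𝒦,
      res p (E ⊔ pCore p H) = res p (K ⊔ pCore p H) ∨ ⁅E, K⁆ ≤ pCore p H := by
  classical
  set O := pCore p H with hO
  haveI hOn : O.Normal := pCore_normal p H
  haveI hRn := normal_R F
  set R := sSup 𝒦 with hR
  have hbarn : ∀ E ∈ 𝒦, ∀ K ∈ 𝒦, E ⊔ O ≤ Subgroup.normalizer ((K ⊔ O : Subgroup H) : Set H) := fun E hE K hK =>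
    (sup_le_sup_right (le_sSup hE) _).trans (F.norm K hK)
  have hcard : ∀ E ∈ 𝒦, ∀ K ∈ 𝒦, res p (E ⊔ O) ≤ res p (K ⊔ O) → res p (E ⊔ O) = res p (K ⊔ O) := by
    intro E hE K hK h
    refine Subgroup.eq_of_le_of_card_ge h (le_of_eq ?_)
    obtain ⟨S⟩ := (inferInstance : Nonempty (Sylow p H))
    obtain ⟨s, -, e⟩ := trans_bar F S hE hK
    rw [← e, ← map_res, Subgroup.card_map_of_injective (f := (MulAut.conj s).toMonoidHom) (MulAut.conj s).injective]
  refine ⟨⟨fun hcl => ?_, fun N₁ hN₁ hN₁c => ?_⟩, fun E hE K hK => ?_⟩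
  · -- not p-closed
    obtain ⟨E, hE⟩ := hne
    obtain ⟨S⟩ := (inferInstance : Nonempty (Sylow p H))
    refine (hst E hE).1 fun P => ?_
    haveI := hcl S
    haveI hSE : ((S : Subgroup H).subgroupOf E).Normal := inferInstance
    set T := (S.2.comap_subtype (K := E)).toSylow (sylow_member F S hE)
    haveI hT : (T : Subgroup ↥E).Normal := hSE
    haveI := Sylow.unique_of_normal T hT
    rwa [Subsingleton.elim P T]
  · set N := N₁ ⊔ O with hN
    haveI : N.Normal := Subgroup.sup_normal N₁ O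
    suffices h : pResidual p H ≤ N from
      CfsgLib.PIrr.pResidual_le_of_le_sup (D := O) (CfsgLib.Core.isPGroup_pCore p) h
    by_cases hbig : ∃ E ∈ 𝒦, res p E ≤ N
    · obtain ⟨E, hE, hEN⟩ := hbig
      obtain ⟨S⟩ := (inferInstance : Nonempty (Sylow p H))
      have hall : ∀ K ∈ 𝒦, res p K ≤ N := fun K hK => by
        obtain ⟨h, rfl⟩ := F.tr E hE K hK
        rw [← map_res]
        exact (Subgroup.map_mono hEN).trans (mem_normalizer_iff_map_conj_eq.mp (by rw [Subgroup.normalizer_eq_top]; trivial)).le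
      refine CfsgLib.PIrr.pResidual_le_of_le_sup S.2 (F.res_le.trans (sSup_le fun K hK => ?_))
      refine (le_res_sup (p := p) (X := (S : Subgroup H) ⊓ K) inf_le_right (S.2.to_le inf_le_left) ?_).trans
        (sup_le_sup (hall K hK) inf_le_left)
      rw [Subgroup.inf_relIndex_right]
      exact sylow_member F S hK
    push Not at hbig
    exfalso
    set D := N ⊓ (R ⊔ O) with hD
    have hEn : ∀ A : Subgroup H, ∀ M : Subgroup H, M.Normal → A ≤ Subgroup.normalizer (M : Set H) := fun A M hM => by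
      rw [Subgroup.normalizer_eq_top (H := M)]; exact le_top
    have hDc : ∀ E ∈ 𝒦, ⁅E, D⁆ ≤ O := fun E hE => by
      refine comm_le_of_central F hE (hst E hE) (hEn _ D inferInstance) (inf_le_right.trans (F.norm E hE)) ?_
      refine (Subgroup.commutator_mono (inf_le_inf_right _ inf_le_left) le_rfl).trans ?_
      exact (strong_cases (hst E hE) (subnormal_bar F hE) le_sup_right (hEn E N inferInstance)).resolve_left (hbig E hE)
    have hm : ∀ x y : H, ((⁅x, y⁆ : H) : H ⧸ O) = ⁅(x : H ⧸ O), (y : H ⧸ O)⁆ := map_commutatorElement (QuotientGroup.mk' O)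
    have hfix : ∀ y : H, (∀ E ∈ 𝒦, ∀ e ∈ E, ⁅e, y⁆ ∈ O) → ∀ r ∈ R ⊔ O, ⁅r, y⁆ ∈ O := by
      intro y hy r hr
      have hle : R ⊔ O ≤ (Subgroup.centralizer ({(y : H ⧸ O)} : Set (H ⧸ O))).comap (QuotientGroup.mk' O) := by
        refine sup_le (sSup_le fun E hE e he => ?_) fun o ho => ?_
        · refine Subgroup.mem_comap.mpr (Subgroup.mem_centralizer_singleton_iff.mpr ?_)
          rw [QuotientGroup.mk'_apply, ← commutatorElement_eq_one_iff_mul_comm, ← hm]
          exact (QuotientGroup.eq_one_iff _).mpr (hy E hE e he)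
        · refine Subgroup.mem_comap.mpr (Subgroup.mem_centralizer_singleton_iff.mpr ?_)
          rw [QuotientGroup.mk'_apply, (QuotientGroup.eq_one_iff o).mpr ho, one_mul, mul_one]
      have h2 := Subgroup.mem_centralizer_singleton_iff.mp (Subgroup.mem_comap.mp (hle hr))
      rw [QuotientGroup.mk'_apply, ← commutatorElement_eq_one_iff_mul_comm, ← hm] at h2
      exact (QuotientGroup.eq_one_iff _).mp h2
    have hDp : ∀ c ∈ D, ∀ n : ℕ, c ^ p ^ n ∈ O → c ∈ O := fun c hc n hn =>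
      mem_pCore_of_central (E := R ⊔ O) (Subgroup.Normal.isSubnormal inferInstance) le_sup_right (Subgroup.mem_inf.mp hc).2
        (hfix c fun E hE e he => hDc E hE (Subgroup.commutator_mem_commutator he hc)) hn
    -- p-elements of N lie in O
    refine hN₁c (CfsgLib.PIrr.isPClosed_normal_iff.mpr fun t ht htp => ?_)
    obtain ⟨k, hk⟩ := htp
    obtain ⟨S, hS⟩ := (CfsgLib.LocalBasic.isPGroup_zpowers_of_pow_eq_one hk).exists_le_sylow
    set T := (S : Subgroup H) ⊓ N with hT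
    have hTc : ∀ y ∈ T, ∀ r ∈ R ⊔ O, ⁅r, y⁆ ∈ O := by
      intro y hy
      refine hfix y fun E hE e he => ?_
      obtain ⟨hyS, hyN⟩ := Subgroup.mem_inf.mp hy
      rw [← gen_pElements (hst E hE)] at he
      induction he using Subgroup.closure_induction with
      | mem z hz =>
        obtain ⟨hzE, j, hj⟩ := hz
        have hzR : z ∈ R ⊔ O := Subgroup.mem_sup_left (le_sSup hE hzE)
        have hcD : ⁅z, y⁆ ∈ D := Subgroup.mem_inf.mpr
          ⟨Subgroup.commutator_le_right (⊤ : Subgroup H) N (Subgroup.commutator_mem_commutator (Subgroup.mem_top z) hyN),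
           Subgroup.commutator_le_left (R ⊔ O) (⊤ : Subgroup H) (Subgroup.commutator_mem_commutator hzR (Subgroup.mem_top y))⟩
        exact hDp _ hcD j (comm_pow_mem (hDc E hE (Subgroup.commutator_mem_commutator hzE hcD)) hj)
      | one => rw [commutatorElement_one_left]; exact one_mem _
      | mul a b _ _ ha hb =>
        rw [show ⁅a * b, y⁆ = a * ⁅b, y⁆ * a⁻¹ * ⁅a, y⁆ by simp only [commutatorElement_def]; group]
        exact mul_mem (hOn.conj_mem _ hb a) ha
      | inv a _ ha =>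
        rw [show ⁅a⁻¹, y⁆ = a⁻¹ * ⁅a, y⁆⁻¹ * a⁻¹⁻¹ by simp only [commutatorElement_def]; group]
        exact hOn.conj_mem _ (inv_mem ha) a⁻¹
    have hTO : (T ⊔ O).Normal := by
      rw [← Subgroup.normalizer_eq_top_iff, eq_top_iff, ← top_eq F S]
      refine sup_le ?_ (CfsgLib.LocalBasic.normalizer_sup_ge
        (CfsgLib.LocalBasic.normalizer_inf_ge Subgroup.le_normalizer (hEn _ N inferInstance)) (hEn _ O hOn))
      refine Subgroup.le_normalizer_iff_commutator_le_right.mpr (Subgroup.commutator_le.mpr fun r hr z hz => ?_)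
      obtain ⟨y, hy, o, ho, rfl⟩ := Subgroup.mem_sup_of_normal_right.mp hz
      refine Subgroup.mem_sup_right ((QuotientGroup.eq_one_iff _).mp ?_)
      rw [hm, QuotientGroup.mk_mul, (QuotientGroup.eq_one_iff o).mpr ho, mul_one, ← hm]
      exact (QuotientGroup.eq_one_iff _).mpr (hTc y hy r (Subgroup.mem_sup_left hr))
    exact CfsgLib.Core.le_pCore hTO (IsPGroup.to_sup_of_normal_right (S.2.to_le inf_le_left) (CfsgLib.Core.isPGroup_pCore p))
      (Subgroup.mem_sup_left (Subgroup.mem_inf.mpr ⟨hS (Subgroup.mem_zpowers t), Subgroup.mem_sup_left ht⟩))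
  · rcases strong_cases (hst E hE) (subnormal_bar F hE) le_sup_right (le_sup_left.trans (hbarn E hE K hK))
      (N := K ⊔ O) with h | h
    · refine Or.inl (hcard E hE K hK ?_)
      have hn : E ≤ Subgroup.normalizer ((res p E ⊔ O : Subgroup H) : Set H) :=
        CfsgLib.LocalBasic.normalizer_sup_ge (fun e he => mem_normalizer_res p (Subgroup.le_normalizer he))
          (by rw [Subgroup.normalizer_eq_top O]; exact le_top)
      have h1 := (res_sup_pCore hn).trans (sup_le h le_sup_right)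
      rw [← res_res p (E ⊔ O)]
      exact res_mono h1
    · refine Or.inr ((Subgroup.commutator_mono le_rfl (le_sup_left : K ≤ K ⊔ O)).trans ?_)
      exact comm_le_of_central F hE (hst E hE) (hbarn E hE K hK) (hbarn K hK E hE) h

/-- Let H be a finite group, p a prime, and 𝒦 a nonempty set of subgroups of H permuted transitively by conjugation, with R the subgroup generated by the members of 𝒦. Suppose O^p(H) ≤ R, each E ∈ 𝒦 has E·O_p(H) normal in R·O_p(H), and each E ∈ 𝒦 is p-minimal (generated by the conjugates of a Sylow p-subgroup T_E of E, with T_E in exactly one maximal subgroup of E). Then H is p-minimal in the same sense. If instead each E ∈ 𝒦 is strongly p-irreducible, then H is p-irreducible and, for E, K ∈ 𝒦, either O^p(E·O_p(H)) = O^p(K·O_p(H)) or [E, K] ≤ O_p(H). -/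
theorem result {H : Type*} [Group H] [Finite H] {p : ℕ} [Fact p.Prime] (𝒦 : Set (Subgroup H)) (hne : 𝒦.Nonempty) (hinv : ∀ h : H, ∀ E ∈ 𝒦, E.map (MulAut.conj h).toMonoidHom ∈ 𝒦) (htr : ∀ E ∈ 𝒦, ∀ K ∈ 𝒦, ∃ h : H, K = E.map (MulAut.conj h).toMonoidHom) (hres : Cfsg.pResidual p H ≤ sSup 𝒦) (hnorm : ∀ E ∈ 𝒦, sSup 𝒦 ⊔ Cfsg.pCore p H ≤ Subgroup.normalizer ((E ⊔ Cfsg.pCore p H : Subgroup H) : Set H)) : ((∀ E ∈ 𝒦, ∀ T : Sylow p ↥E, Cfsg.IsMinimalOver (T : Subgroup ↥E)) → ∀ T : Sylow p H, Cfsg.IsMinimalOver (T : Subgroup H)) ∧ ((∀ E ∈ 𝒦, Cfsg.IsStronglyPIrreducible p ↥E) → Cfsg.IsPIrreducible p H ∧ ∀ E ∈ 𝒦, ∀ K ∈ 𝒦, (Cfsg.pResidual p ↥(E ⊔ Cfsg.pCore p H)).map (E ⊔ Cfsg.pCore p H).subtype = (Cfsg.pResidual p ↥(K ⊔ Cfsg.pCore p H)).map (K ⊔ Cfsg.pCore p H).subtype ∨ ⁅E, K⁆ ≤ Cfsg.pCore p H) := by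
  have F : Family p 𝒦 := ⟨hinv, htr, hres, hnorm⟩
  refine ⟨fun h T => minimal_part F h hne T, fun h => ?_⟩
  obtain ⟨h1, h2⟩ := irreducible_part F h hne
  refine ⟨h1, fun E hE K hK => ?_⟩
  rw [res_eq, res_eq]
  exact h2 E hE K hK

end Cfsg.Agent.S2855
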