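import Cfsg.Statements.S2859
import Cfsg.Agent.Lib.WeaklyClosedSub
import Cfsg.Agent.Lib.PCoreOf
import Cfsg.Agent.Lib.SubnormalSylow
import Cfsg.Agent.S2820

set_option autoImplicit false
open Cfsg

namespace Cfsg.Agent.S2859
open scoped commutatorElement Pointwise
open CfsgLib.SubnormalSylow CfsgLib.LocalBasic

variable {G : Type*} [Group G] [Finite G] {p : ℕ} [hp : Fact p.Prime]

theorem res_eq (A : Subgroup G) : (Cfsg.pResidual p ↥A).map A.subtype = res p A := by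
  rw [Cfsg.pResidual, MonoidHom.map_closure, res]
  congr 1
  ext x
  constructor
  · rintro ⟨a, ha, rfl⟩
    exact ⟨a.2, by show (orderOf (a : G)).Coprime p; rw [Subgroup.orderOf_coe]; exact ha⟩
  · rintro ⟨hx, hc⟩
    exact ⟨⟨x, hx⟩, by show (orderOf (⟨x, hx⟩ : ↥A)).Coprime p; rwa [Subgroup.orderOf_mk], rfl⟩

theorem pow_mul_mem {N : Subgroup G} {t f : G} (hf : f ∈ Subgroup.normalizer (N : Set G)) (ht : t ∈ N) (n : ℕ) :
    (t * f) ^ n * (f ^ n)⁻¹ ∈ N := by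
  induction n with
  | zero => simp
  | succ n ih =>
    have h2 := (Subgroup.mem_normalizer_iff.mp (pow_mem hf n) t).mp ht
    rw [show (t * f) ^ (n + 1) * (f ^ (n + 1))⁻¹ = (t * f) ^ n * (f ^ n)⁻¹ * (f ^ n * t * (f ^ n)⁻¹) by
      rw [pow_succ, pow_succ]; group]
    exact mul_mem ih h2

/-- `O^p(N R) ≤ N` for a `p`-group `R` normalizing `N`. -/
theorem res_sup_le {N R : Subgroup G} (hR : IsPGroup p ↥R) (hRN : R ≤ Subgroup.normalizer (N : Set G)) :
    res p (N ⊔ R) ≤ N := by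
  refine res_le_of fun a ha => ?_
  obtain ⟨n, hn, r, hr, rfl⟩ := (CfsgLib.GroupB.Coprime.mem_sup_of_le_normalizer hRN).mp ha
  obtain ⟨k, hk⟩ := hR ⟨r, hr⟩
  refine ⟨k, ?_⟩
  have h := pow_mul_mem (hRN hr) hn (p ^ k)
  rwa [show r ^ p ^ k = 1 by simpa using congrArg Subtype.val hk, inv_one, mul_one] at h

theorem comm_mem_sup {K X : Subgroup G} {a q : G} (ha : a ∈ K) (hq : q ∈ X) : a * q * a⁻¹ ∈ ⁅K, X⁆ ⊔ X := by
  rw [show a * q * a⁻¹ = ⁅a, q⁆ * q by simp [commutatorElement_def]]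
  exact mul_mem (Subgroup.mem_sup_left (Subgroup.commutator_mem_commutator ha hq)) (Subgroup.mem_sup_right hq)

theorem one_side {Q : Subgroup G} (hQp : IsPGroup p ↥Q) (hwc : Cfsg.IsWeaklyClosedSubgroup p Q) (D : Subgroup G)
    (hD : D = Cfsg.weakClosure Q ⊤) (H₁ H₂ : Subgroup G) (hn₁ : H₁ ≤ D ∧ D ≤ Subgroup.normalizer (H₁ : Set G))
    (hn₂ : H₂ ≤ D ∧ D ≤ Subgroup.normalizer (H₂ : Set G)) (hprod : H₁ ⊔ H₂ = D)
    (hcomm : ⁅H₁, H₂⁆ ≤ Subgroup.normalizer (Q : Set G)) (K : Subgroup G)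
    (hK : K = res p (Cfsg.weakClosure Q (H₁ ⊔ Q))) :
    ⁅K, Q⁆ = K ∧ ⁅K, H₁⁆ = K ∧ K ≤ ⁅H₁, H₁⁆ ∧ D ≤ Subgroup.normalizer (K : Set G) ∧
      K ≤ res p D ∧ ⁅K, H₂⁆ ≤ Cfsg.pCoreOf p D ∧
      (∀ h ∈ H₁, ∀ q ∈ Q, h * q * h⁻¹ ∈ K ⊔ Q) := by
  have hQD : Q ≤ D := hD ▸ le_iSup_of_le ⟨1, le_top⟩ (by rw [CfsgLib.WC.map_conj_one])
  obtain ⟨hH₁, hH₁n⟩ := hn₁
  obtain ⟨hH₂, hH₂n⟩ := hn₂
  set O := Cfsg.pCoreOf p D with hO
  have hOn : D ≤ Subgroup.normalizer (O : Set G) := CfsgLib.PCoreOf.le_normalizer_pcoreOf D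
  have hOp : IsPGroup p ↥O := CfsgLib.PCoreOf.isPGroup_pcoreOf D
  -- N = [H₁, H₂] is central in D modulo O
  set N := ⁅H₁, H₂⁆ with hN
  have hND : N ≤ D := (Subgroup.le_normalizer_iff_commutator_le_left.mp (hH₂.trans hH₁n)).trans hH₁
  have hNn : D ≤ Subgroup.normalizer (N : Set G) := normalizer_commutator_ge hH₁n hH₂n
  have hcls : ∀ g : G, Q.map (MulAut.conj g).toMonoidHom ≤ D →
      ∃ d ∈ D, Q.map (MulAut.conj g).toMonoidHom = Q.map (MulAut.conj d).toMonoidHom := fun g hg =>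
    CfsgLib.WC.exists_mem_conj_eq hwc hQD hg
  have hND0 : ⁅D, N⁆ ≤ O := by
    have hgen : ∀ g : G, ⁅Q.map (MulAut.conj g).toMonoidHom, N⁆ ≤ O := by
      intro g
      have hgD : Q.map (MulAut.conj g).toMonoidHom ≤ D :=
        hD ▸ le_iSup (fun g : {g : G // Q.map (MulAut.conj g).toMonoidHom ≤ ⊤} => Q.map (MulAut.conj (g : G)).toMonoidHom) ⟨g, le_top⟩
      obtain ⟨d, hd, e⟩ := hcls g hgD
      have hNR : N ≤ Subgroup.normalizer ((Q.map (MulAut.conj g).toMonoidHom : Subgroup G) : Set G) := by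
        rw [e, ← conj_map_eq_of_mem_normalizer (hNn hd)]
        intro x hx
        rw [← Subgroup.map_equiv_normalizer_eq]
        exact Subgroup.map_mono hcomm hx
      have h1 : ⁅Q.map (MulAut.conj g).toMonoidHom, N⁆ ≤ Q.map (MulAut.conj g).toMonoidHom ⊓ N :=
        le_inf (Subgroup.le_normalizer_iff_commutator_le_left.mp hNR)
          (Subgroup.le_normalizer_iff_commutator_le_right.mp (hgD.trans hNn))
      refine h1.trans ?_
      have h2 : Q.map (MulAut.conj g).toMonoidHom ⊓ N ≤ Cfsg.pCoreOf p N :=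
        CfsgLib.PCoreOf.le_pcoreOf inf_le_right (normalizer_inf_ge hNR Subgroup.le_normalizer)
          ((hQp.map _).to_le inf_le_left)
      refine h2.trans (CfsgLib.PCoreOf.le_pcoreOf ((CfsgLib.PCoreOf.pcoreOf_le N).trans hND)
        (hNn.trans (CfsgLib.PCoreOf.normalizer_le_pcoreOf N)) (CfsgLib.PCoreOf.isPGroup_pcoreOf N))
    rw [Subgroup.commutator_le]
    intro d hd n hn
    let T : Subgroup G :=
      { carrier := {x | x ∈ Subgroup.normalizer (O : Set G) ∧ ∀ m ∈ N, ⁅x, m⁆ ∈ O}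
        one_mem' := ⟨one_mem _, fun m _ => by rw [commutatorElement_one_left]; exact one_mem _⟩
        mul_mem' := by
          rintro a b ⟨han, ha⟩ ⟨hbn, hb⟩
          refine ⟨mul_mem han hbn, fun m hm => ?_⟩
          rw [show ⁅a * b, m⁆ = a * ⁅b, m⁆ * a⁻¹ * ⁅a, m⁆ by simp only [commutatorElement_def]; group]
          exact mul_mem ((Subgroup.mem_normalizer_iff.mp han _).mp (hb m hm)) (ha m hm)
        inv_mem' := by
          rintro a ⟨han, ha⟩
          refine ⟨inv_mem han, fun m hm => ?_⟩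
          rw [show ⁅a⁻¹, m⁆ = a⁻¹ * ⁅a, m⁆⁻¹ * a by simp only [commutatorElement_def]; group]
          exact (Subgroup.mem_normalizer_iff''.mp han _).mp (inv_mem (ha m hm)) }
    have hle : D ≤ T := by
      conv_lhs => rw [hD]
      refine iSup_le fun g => ?_
      intro x hx
      refine ⟨hOn ((hD ▸ le_iSup (fun g : {g : G // Q.map (MulAut.conj g).toMonoidHom ≤ ⊤} =>
        Q.map (MulAut.conj (g : G)).toMonoidHom) g : _ ≤ D) hx), fun m hm => hgen g (Subgroup.commutator_mem_commutator hx hm)⟩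
    exact (hle hd).2 n hn
  -- H₁' centralizes H₂ modulo O
  have hder : ⁅⁅H₁, H₁⁆, H₂⁆ ≤ O := by
    refine three_subgroup (hH₁.trans hOn) (hH₁.trans hOn) (hH₂.trans hOn) ?_ ?_
    · rw [Subgroup.commutator_comm]
      exact (Subgroup.commutator_mono hH₁ le_rfl).trans hND0
    · rw [Subgroup.commutator_comm H₂ H₁, Subgroup.commutator_comm]
      exact (Subgroup.commutator_mono hH₁ le_rfl).trans hND0
  -- the weak closure
  set W := Cfsg.weakClosure Q (H₁ ⊔ Q) with hW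
  have hWR : W ≤ H₁ ⊔ Q := iSup_le fun g => g.2
  have hQW : Q ≤ W := le_iSup_of_le ⟨1, by rw [CfsgLib.WC.map_conj_one]; exact le_sup_right⟩ (by rw [CfsgLib.WC.map_conj_one])
  have hQH₁ : Q ≤ Subgroup.normalizer (H₁ : Set G) := hQD.trans hH₁n
  have hWn : H₁ ⊔ Q ≤ Subgroup.normalizer (W : Set G) := by
    refine CfsgLib.GroupB.Coprime.le_normalizer_of_conj_mem fun r hr x hx => ?_
    have h : W.map (MulAut.conj r).toMonoidHom ≤ W := by
      rw [hW, Cfsg.weakClosure, Subgroup.map_iSup]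
      refine iSup_le fun g => ?_
      rw [CfsgLib.WC.map_conj_conj]
      refine le_iSup (fun g : {g : G // Q.map (MulAut.conj g).toMonoidHom ≤ H₁ ⊔ Q} => Q.map (MulAut.conj (g : G)).toMonoidHom) ⟨r * g, ?_⟩
      rw [← CfsgLib.WC.map_conj_conj]
      exact (Subgroup.map_mono g.2).trans (conj_map_eq_of_mem_normalizer (Subgroup.le_normalizer hr)).le
    exact h ⟨x, hx, rfl⟩
  have hKW : K ≤ W := hK ▸ res_le p W
  have hKH : H₁ ⊔ Q ≤ Subgroup.normalizer (K : Set G) := fun r hr => hK ▸ mem_normalizer_res p (hWn hr)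
  have hKH₁ : K ≤ H₁ := hK ▸ (res_mono hWR).trans (res_sup_le hQp hQH₁)
  have hWKQ : W ≤ K ⊔ Q := by
    obtain ⟨T, hT⟩ := ((hQp.comap_subtype (H := Q) (K := W))).exists_le_sylow
    set T' := (T : Subgroup ↥W).map W.subtype with hT'
    have hT'W : T' ≤ W := Subgroup.map_subtype_le _
    have hi : ¬ p ∣ T'.relIndex W := by
      rw [Subgroup.relIndex, Subgroup.subgroupOf, hT', Subgroup.comap_map_eq_self_of_injective W.subtype_injective]
      exact T.not_dvd_index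
    have hQT' : Q ≤ T' := fun q hq => ⟨⟨q, hQW hq⟩, hT (Subgroup.mem_subgroupOf.mpr hq), rfl⟩
    have hT'Q := CfsgLib.WC.le_normalizer_of_le hwc (T.2.map W.subtype) hQT'
    have hdec := le_res_sup (p := p) hT'W (T.2.map W.subtype) hi
    rw [← hK] at hdec
    have hT'K : T' ≤ Subgroup.normalizer (K : Set G) := hT'W.trans (hWR.trans hKH)
    conv_lhs => rw [hW, Cfsg.weakClosure]
    refine iSup_le fun g => ?_
    obtain ⟨w, hw, e⟩ := CfsgLib.WC.exists_mem_conj_eq hwc hQW (g := (g : G))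
      (le_iSup (fun g : {g : G // Q.map (MulAut.conj g).toMonoidHom ≤ H₁ ⊔ Q} => Q.map (MulAut.conj (g : G)).toMonoidHom) g)
    obtain ⟨a, ha, t, ht, rfl⟩ := (CfsgLib.GroupB.Coprime.mem_sup_of_le_normalizer hT'K).mp (hdec hw)
    rw [e, ← CfsgLib.WC.map_conj_conj, conj_map_eq_of_mem_normalizer (hT'Q ht)]
    rintro _ ⟨q, hq, rfl⟩
    exact (sup_le_sup_right (Subgroup.le_normalizer_iff_commutator_le_left.mp (le_sup_right.trans hKH)) Q) (comm_mem_sup ha hq)
  have hKQ : ⁅K, Q⁆ = K := by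
    refine le_antisymm (Subgroup.le_normalizer_iff_commutator_le_left.mp (le_sup_right.trans hKH)) ?_
    have hn : Q ≤ Subgroup.normalizer ((⁅K, Q⁆ : Subgroup G) : Set G) :=
      normalizer_commutator_ge (le_sup_right.trans hKH) Subgroup.le_normalizer
    have hW2 : W ≤ ⁅K, Q⁆ ⊔ Q := by
      conv_lhs => rw [hW, Cfsg.weakClosure]
      refine iSup_le fun g => ?_
      obtain ⟨w, hw, e⟩ := CfsgLib.WC.exists_mem_conj_eq hwc hQW (g := (g : G))
        (le_iSup (fun g : {g : G // Q.map (MulAut.conj g).toMonoidHom ≤ H₁ ⊔ Q} => Q.map (MulAut.conj (g : G)).toMonoidHom) g)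
      obtain ⟨a, ha, q₀, hq₀, rfl⟩ :=
        (CfsgLib.GroupB.Coprime.mem_sup_of_le_normalizer (le_sup_right.trans hKH)).mp (hWKQ hw)
      rw [e, ← CfsgLib.WC.map_conj_conj, conj_map_eq_of_mem_normalizer (Subgroup.le_normalizer hq₀)]
      rintro _ ⟨q, hq, rfl⟩
      exact comm_mem_sup ha hq
    conv_lhs => rw [hK]
    exact (res_mono hW2).trans (res_sup_le hQp hn)
  have hKD : K ≤ D := hKH₁.trans hH₁
  have hK1 : K ≤ ⁅H₁, H₁⁆ ⊔ N := by
    rw [← hKQ]
    refine (Subgroup.commutator_mono hKH₁ (hQD.trans hprod.ge)).trans ?_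
    rw [Subgroup.commutator_comm]
    refine commutator_sup_le ?_ ?_ le_sup_left ?_
    · exact normalizer_sup_ge (normalizer_commutator_ge Subgroup.le_normalizer Subgroup.le_normalizer) (hH₁.trans hNn)
    · exact normalizer_sup_ge (normalizer_commutator_ge (hH₂.trans hH₁n) (hH₂.trans hH₁n)) (hH₂.trans hNn)
    · rw [Subgroup.commutator_comm]; exact le_sup_right
  have hKH₂ : ⁅K, H₂⁆ ≤ O := by
    refine (Subgroup.commutator_mono hK1 le_rfl).trans (commutator_sup_le ?_ (hND.trans hOn) hder ?_)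
    · exact ((Subgroup.commutator_mono hH₁ hH₁).trans (Subgroup.le_normalizer_iff_commutator_le_left.mp Subgroup.le_normalizer)).trans hOn
    · rw [Subgroup.commutator_comm]
      exact (Subgroup.commutator_mono hH₂ le_rfl).trans hND0
  -- O normalizes every subgroup X of D subnormal with O^p(X) = X
  have hOK : ∀ X : Subgroup G, X ≤ D → (X.subgroupOf D).IsSubnormal → res p X = X →
      O ≤ Subgroup.normalizer (X : Set G) := by
    intro X hXD hXs hXres o ho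
    have hOD := CfsgLib.PCoreOf.pcoreOf_le (p := p) D
    have hOsn : (O.subgroupOf D).IsSubnormal := by
      rw [hO, CfsgLib.PCoreOf.pcoreOf_subgroupOf]; exact Subgroup.Normal.isSubnormal (Cfsg.pCore_normal p ↥D)
    have hres : (Cfsg.pResidual p ↥(X.subgroupOf D)).map (X.subgroupOf D).subtype = X.subgroupOf D := by
      refine Subgroup.map_injective D.subtype_injective ?_
      rw [res_eq, map_res, Subgroup.map_subgroupOf_eq_of_le hXD, hXres]
    have h := (Cfsg.Agent.S2820.result (p := p) (O.subgroupOf D) (X.subgroupOf D) hOsn hXs (hOp.comap_subtype) hres).1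
      (show (⟨o, hOD ho⟩ : ↥D) ∈ O.subgroupOf D from ho)
    refine Subgroup.mem_normalizer_iff.mpr fun z => ⟨fun hz => ?_, fun hz => ?_⟩
    · exact (Subgroup.mem_normalizer_iff.mp h ⟨z, hXD hz⟩).mp hz
    · have hzD : z ∈ D := by
        have := mul_mem (mul_mem (inv_mem (hOD ho)) (hXD hz)) (hOD ho)
        simpa [mul_assoc] using this
      exact (Subgroup.mem_normalizer_iff.mp h ⟨z, hzD⟩).mpr hz
  have hKsn : (K.subgroupOf D).IsSubnormal := by
    refine Subgroup.IsSubnormal.step _ (H₁.subgroupOf D) (fun x hx => hKH₁ hx)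
      (Subgroup.Normal.isSubnormal ((Subgroup.normal_subgroupOf_iff_le_normalizer hH₁).mpr hH₁n)) ?_
    refine (Subgroup.normal_subgroupOf_iff_le_normalizer (fun x hx => hKH₁ hx :
      K.subgroupOf D ≤ H₁.subgroupOf D)).mpr fun r hr => Subgroup.mem_normalizer_iff.mpr fun z => ?_
    exact Subgroup.mem_normalizer_iff.mp (hKH (Subgroup.mem_sup_left hr)) (z : G)
  have hKres : res p K = K := by rw [hK, res_res]
  have hKn : D ≤ Subgroup.normalizer (K : Set G) := by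
    rw [← hprod]
    refine sup_le (le_sup_left.trans hKH) fun h hh => ?_
    refine CfsgLib.GroupB.Coprime.mem_normalizer_iff_map_conj_eq.mpr (Subgroup.eq_of_le_of_card_ge ?_
      (Subgroup.card_map_of_injective (f := (MulAut.conj h).toMonoidHom) (MulAut.conj h).injective).ge)
    have hle : K.map (MulAut.conj h).toMonoidHom ≤ K ⊔ O := by
      rintro _ ⟨x, hx, rfl⟩
      show h * x * h⁻¹ ∈ K ⊔ O
      rw [show h * x * h⁻¹ = ⁅x, h⁆⁻¹ * x by simp [commutatorElement_def, mul_assoc]]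
      exact mul_mem (Subgroup.mem_sup_right (inv_mem (hKH₂ (Subgroup.commutator_mem_commutator hx hh))))
        (Subgroup.mem_sup_left hx)
    conv_lhs => rw [← hKres, map_res]
    exact (res_mono hle).trans (res_sup_le hOp (hOK K hKD hKsn hKres))
  have hKH1 : ⁅K, H₁⁆ = K := by
    set M := ⁅K, H₁⁆ with hM
    refine le_antisymm (Subgroup.le_normalizer_iff_commutator_le_left.mp (le_sup_left.trans hKH)) ?_
    have hMn : D ≤ Subgroup.normalizer (M : Set G) := normalizer_commutator_ge hKn hH₁n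
    have hMD : M ≤ D := (Subgroup.le_normalizer_iff_commutator_le_left.mp (le_sup_left.trans hKH)).trans hKD
    have h1 : K ≤ M ⊔ O := by
      conv_lhs => rw [← hKQ]
      refine (Subgroup.commutator_mono le_rfl (hQD.trans hprod.ge)).trans ?_
      rw [Subgroup.commutator_comm]
      refine commutator_sup_le ?_ ?_ ?_ ?_
      · exact normalizer_sup_ge (hH₁.trans hMn) (hH₁.trans hOn)
      · exact normalizer_sup_ge (hH₂.trans hMn) (hH₂.trans hOn)
      · rw [Subgroup.commutator_comm]; exact le_sup_left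
      · rw [Subgroup.commutator_comm]; exact hKH₂.trans le_sup_right
    conv_lhs => rw [← hKres]
    exact (res_mono h1).trans (res_sup_le hOp ((CfsgLib.PCoreOf.pcoreOf_le D).trans hMn))
  refine ⟨hKQ, hKH1, hKH1.ge.trans (Subgroup.commutator_mono hKH₁ le_rfl), hKn, ?_, hKH₂, ?_⟩
  · rw [← hKres]; exact res_mono hKD
  · intro h hh q hq
    refine hWKQ ?_
    exact (Subgroup.mem_normalizer_iff.mp (hWn (Subgroup.mem_sup_left hh)) q).mp (hQW hq)

/-- Let Q be a nontrivial p-subgroup of the finite group H that is a weakly closed subgroup, H° the weak closure of Q in H (generated by the conjugates of Q) and H_∘ = O^p(H°). Suppose H₁, H₂ are normal subgroups of H° with H° = H₁H₂ and [H₁, H₂] ≤ N_H(Q), and put Kᵢ = O^p of the weak closure of Q in HᵢQ. Then for i = 1, 2: Kᵢ = [Kᵢ, Q] = [Kᵢ, Hᵢ] ≤ Hᵢ′ and Kᵢ is normal in H°; H_∘ = K₁K₂; and [K₁, K₂] ≤ O_p(H°). -/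
theorem result {G : Type*} [Group G] [Finite G] {p : ℕ} [Fact p.Prime] (Q : Subgroup G) (hQp : IsPGroup p ↥Q) (hQ1 : Q ≠ ⊥) (hwc : Cfsg.IsWeaklyClosedSubgroup p Q) (Hc : Subgroup G) (hHc : Hc = Cfsg.weakClosure Q ⊤) (H₁ H₂ : Subgroup G) (hn₁ : H₁ ≤ Hc ∧ Hc ≤ Subgroup.normalizer ((H₁ : Subgroup G) : Set G)) (hn₂ : H₂ ≤ Hc ∧ Hc ≤ Subgroup.normalizer ((H₂ : Subgroup G) : Set G)) (hprod : H₁ ⊔ H₂ = Hc) (hcomm : ⁅H₁, H₂⁆ ≤ Subgroup.normalizer ((Q : Subgroup G) : Set G)) (K₁ K₂ : Subgroup G) (hK₁ : K₁ = ((Cfsg.pResidual p ↥(Cfsg.weakClosure Q (H₁ ⊔ Q))).map ((Cfsg.weakClosure Q (H₁ ⊔ Q))).subtype)) (hK₂ : K₂ = ((Cfsg.pResidual p ↥(Cfsg.weakClosure Q (H₂ ⊔ Q))).map ((Cfsg.weakClosure Q (H₂ ⊔ Q))).subtype)) : (⁅K₁, Q⁆ = K₁ ∧ ⁅K₁, H₁⁆ = K₁ ∧ K₁ ≤ ⁅H₁, H₁⁆ ∧ Hc ≤ Subgroup.normalizer ((K₁ : Subgroup G) : Set G)) ∧ (⁅K₂, Q⁆ = K₂ ∧ ⁅K₂, H₂⁆ = K₂ ∧ K₂ ≤ ⁅H₂, H₂⁆ ∧ Hc ≤ Subgroup.normalizer ((K₂ : Subgroup G) : Set G)) ∧ K₁ ⊔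 K₂ = ((Cfsg.pResidual p ↥Hc).map (Hc).subtype) ∧ ⁅K₁, K₂⁆ ≤ (Cfsg.pCoreOf p Hc) := by
  rw [res_eq] at hK₁ hK₂ ⊢
  obtain ⟨a1, a2, a3, a4, a5, a6, a7⟩ := one_side hQp hwc Hc hHc H₁ H₂ hn₁ hn₂ hprod hcomm K₁ hK₁
  obtain ⟨b1, b2, b3, b4, b5, -, b7⟩ := one_side hQp hwc Hc hHc H₂ H₁ hn₂ hn₁ (by rw [sup_comm, hprod])
    (by rwa [Subgroup.commutator_comm]) K₂ hK₂
  have hK₂H : K₂ ≤ H₂ := b2.ge.trans (Subgroup.le_normalizer_iff_commutator_le_right.mp
    ((b3.trans ((Subgroup.commutator_mono hn₂.1 hn₂.1).trans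
      (Subgroup.le_normalizer_iff_commutator_le_left.mp Subgroup.le_normalizer))).trans hn₂.2))
  refine ⟨⟨a1, a2, a3, a4⟩, ⟨b1, b2, b3, b4⟩, le_antisymm (sup_le a5 b5) ?_,
    (Subgroup.commutator_mono le_rfl hK₂H).trans a6⟩
  set V := K₁ ⊔ K₂ with hV
  have hVn : Hc ≤ Subgroup.normalizer (V : Set G) := normalizer_sup_ge a4 b4
  have hQHc : Q ≤ Hc := hHc ▸ le_iSup_of_le ⟨1, le_top⟩ (by rw [CfsgLib.WC.map_conj_one])
  have hn : ∀ h ∈ Hc, (V ⊔ Q).map (MulAut.conj h).toMonoidHom = V ⊔ Q := by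
    intro h hh
    refine CfsgLib.GroupB.Coprime.mem_normalizer_iff_map_conj_eq.mp ((?_ : Hc ≤ Subgroup.normalizer ((V ⊔ Q : Subgroup G) : Set G)) hh)
    rw [← hprod]
    refine sup_le ?_ ?_ <;>
    · refine CfsgLib.GroupB.Coprime.le_normalizer_of_conj_mem fun r hr x hx => ?_
      have hmap : (V ⊔ Q).map (MulAut.conj r).toMonoidHom ≤ V ⊔ Q := by
        rw [Subgroup.map_sup]
        refine sup_le ?_ ?_
        · rintro _ ⟨v, hv, rfl⟩
          exact Subgroup.mem_sup_left ((Subgroup.mem_normalizer_iff.mp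
            (hVn (by first | exact hn₁.1 hr | exact hn₂.1 hr)) v).mp hv)
        · rintro _ ⟨q, hq, rfl⟩
          first
            | exact (sup_le_sup_right le_sup_left Q) (a7 r hr q hq)
            | exact (sup_le_sup_right le_sup_right Q) (b7 r hr q hq)
      exact hmap ⟨x, hx, rfl⟩
  have hDV : Hc ≤ V ⊔ Q := by
    conv_lhs => rw [hHc, Cfsg.weakClosure]
    refine iSup_le fun g => ?_
    obtain ⟨d, hd, e⟩ := CfsgLib.WC.exists_mem_conj_eq hwc hQHc (g := (g : G))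
      (hHc ▸ le_iSup (fun g : {g : G // Q.map (MulAut.conj g).toMonoidHom ≤ ⊤} => Q.map (MulAut.conj (g : G)).toMonoidHom) g)
    rw [e, ← hn d hd]
    exact Subgroup.map_mono le_sup_right
  exact (res_mono hDV).trans (res_sup_le hQp (hQHc.trans hVn))

end Cfsg.Agent.S2859
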