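import Cfsg.Statements.S2864
import Cfsg.Agent.Lib.Large
import Cfsg.Agent.Lib.BasicProperty

set_option autoImplicit false
open Cfsg

namespace Cfsg.Agent.S2864

open CfsgLib.LocalBasic CfsgLib.PCoreOf
open scoped commutatorElement

variable {G : Type*} [Group G]

/-- Elements of `L` acting trivially on `X` modulo `N`. -/
def stab (L X N : Subgroup G) (hL : L ≤ Subgroup.normalizer (N : Set G)) : Subgroup G where
  carrier := {k | k ∈ L ∧ ∀ x ∈ X, ⁅k, x⁆ ∈ N}
  one_mem' := ⟨L.one_mem, fun x _ => by rw [commutatorElement_one_left]; exact N.one_mem⟩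
  mul_mem' {a b} ha hb := ⟨L.mul_mem ha.1 hb.1, fun x hx => by
    rw [show ⁅a * b, x⁆ = a * ⁅b, x⁆ * a⁻¹ * ⁅a, x⁆ by simp only [commutatorElement_def]; group]
    exact N.mul_mem ((Subgroup.mem_normalizer_iff.mp (hL ha.1) _).mp (hb.2 x hx)) (ha.2 x hx)⟩
  inv_mem' {a} ha := ⟨L.inv_mem ha.1, fun x hx => by
    rw [show ⁅a⁻¹, x⁆ = a⁻¹ * ⁅a, x⁆⁻¹ * a by simp only [commutatorElement_def]; group]
    exact (Subgroup.mem_normalizer_iff''.mp (hL ha.1) _).mp (N.inv_mem (ha.2 x hx))⟩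

theorem stab_normal {L X N : Subgroup G} (hL : L ≤ Subgroup.normalizer (N : Set G))
    (hX : L ≤ Subgroup.normalizer (X : Set G)) :
    L ≤ Subgroup.normalizer ((stab L X N hL : Subgroup G) : Set G) := by
  have key : ∀ l ∈ L, ∀ k ∈ stab L X N hL, l * k * l⁻¹ ∈ stab L X N hL := fun l hl k hk =>
    ⟨L.mul_mem (L.mul_mem hl hk.1) (L.inv_mem hl), fun x hx => by
      rw [show ⁅l * k * l⁻¹, x⁆ = l * ⁅k, l⁻¹ * x * l⁆ * l⁻¹ by simp only [commutatorElement_def]; group]
      exact (Subgroup.mem_normalizer_iff.mp (hL hl) _).mp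
        (hk.2 _ ((Subgroup.mem_normalizer_iff''.mp (hX hl) _).mp hx))⟩
  intro l hl
  refine Subgroup.mem_normalizer_iff.mpr fun k => ⟨key l hl k, fun hk => ?_⟩
  have h := key l⁻¹ (L.inv_mem hl) _ hk
  simpa [mul_assoc] using h

theorem coprime_centralizes [Finite G] {p : ℕ} [Fact p.Prime] {A D : Subgroup G} (hA : IsPGroup p ↥A)
    (hDA : D ≤ Subgroup.normalizer (A : Set G)) (h1 : ⁅D, A⁆ ≤ ⁅A, A⁆) {b : G} (hb : b ∈ D)
    (hbp : (orderOf b).Coprime p) : ∀ x ∈ A, b * x = x * b := by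
  let f : ℕ → Subgroup G := fun i => (fun X : Subgroup G => ⁅X, A⁆)^[i] A
  have hf : ∀ i : ℕ, f (i + 1) = ⁅f i, A⁆ := fun i => Function.iterate_succ_apply' (fun X : Subgroup G => ⁅X, A⁆) i A
  have hfA : ∀ i, f i ≤ A := by
    intro i
    induction i with
    | zero => exact le_rfl
    | succ i ih => rw [hf]; exact (Subgroup.commutator_mono ih le_rfl).trans (Subgroup.commutator_le_self A)
  have hfN : ∀ B : Subgroup G, B ≤ Subgroup.normalizer (A : Set G) →
      ∀ i, B ≤ Subgroup.normalizer ((f i : Subgroup G) : Set G) := by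
    intro B hB i
    induction i with
    | zero => exact hB
    | succ i ih => rw [hf]; exact normalizer_commutator_ge ih hB
  have hAA : A ≤ Subgroup.normalizer (A : Set G) := Subgroup.le_normalizer
  have h11 : ∀ i, ⁅⁅A, A⁆, f i⁆ ≤ f (i + 2) := fun i =>
    three_subgroup (hfN A hAA _) (hfN A hAA _) ((hfA i).trans (hfN A hAA _))
      (by rw [hf (i + 1), hf i, Subgroup.commutator_comm A (f i)]) (by rw [hf (i + 1), hf i])
  have hD : ∀ i, ⁅D, f i⁆ ≤ f (i + 1) := by
    intro i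
    induction i with
    | zero => rw [hf]; exact h1
    | succ i ih =>
      rw [Subgroup.commutator_comm, hf i]
      refine three_subgroup ((hfA i).trans (hfN A hAA _)) (hfN A hAA _) (hfN D hDA _) ?_ ?_
      · refine le_trans (Subgroup.commutator_mono ?_ le_rfl) (h11 i)
        rw [Subgroup.commutator_comm]; exact h1
      · rw [hf (i + 1)]
        exact Subgroup.commutator_mono ih le_rfl
  have hle : ∀ i, f i ≤ ((⊤ : Subgroup ↥A).lowerCentralSeries i).map A.subtype := by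
    intro i
    induction i with
    | zero => exact fun x hx => ⟨⟨x, hx⟩, Subgroup.mem_top _, rfl⟩
    | succ i ih =>
      rw [hf, Subgroup.lowerCentralSeries_succ, Subgroup.map_commutator, ← MonoidHom.range_eq_map,
        Subgroup.range_subtype]
      exact Subgroup.commutator_mono ih le_rfl
  obtain ⟨m, hm⟩ := Subgroup.nilpotent_iff_lowerCentralSeries.mp hA.isNilpotent
  have hm' : f m = ⊥ := le_bot_iff.mp ((hle m).trans (by rw [hm, Subgroup.map_bot]))
  exact centralizes_of_series f m hm' (fun i _ => hA.to_le (hfA _)) hbp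
    fun i _ x hx => hD i (Subgroup.commutator_mem_commutator hb hx)


/-- Standing hypotheses: G a finite group, S a Sylow p-subgroup, Q a nontrivial large p-subgroup of G contained in S, M a subgroup containing S with the basic property (M ∈ 𝔐_G(S)); Y_M the largest p-reduced normal subgroup of M and M† = M·C_G(Y_M). Let I be a nontrivial normal p-subgroup of M and Y ≤ O_p(M†); let L be a subgroup of G containing Y and A a normal p-subgroup of L with I ≤ A ≤ M. If [Y, A] ≤ [I, A], then Y ≤ O_p(L). -/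
theorem result {G : Type*} [Group G] [Finite G] {p : ℕ} [Fact p.Prime] (S : Sylow p G) (Q : Subgroup G) (hQp : IsPGroup p ↥Q) (hQ1 : Q ≠ ⊥) (hQS : Q ≤ (S : Subgroup G)) (hQ : Cfsg.IsLarge Q) (M : Subgroup G) (hSM : (S : Subgroup G) ≤ M) (hM : Cfsg.IsInFrakM p M) (I : Subgroup G) (hI1 : I ≠ ⊥) (hIp : IsPGroup p ↥I) (hIM : I ≤ M ∧ M ≤ Subgroup.normalizer ((I : Subgroup G) : Set G)) (Y : Subgroup G) (hY : Y ≤ (Cfsg.pCoreOf p (M ⊔ Subgroup.centralizer (((Cfsg.largestPReducedOf p M) : Subgroup G) : Set G)))) (L : Subgroup G) (hYL : Y ≤ L) (A : Subgroup G) (hAp : IsPGroup p ↥A) (hAL : A ≤ L ∧ L ≤ Subgroup.normalizer ((A : Subgroup G) : Set G)) (hIA : I ≤ A) (hAM : A ≤ M) (hc : ⁅Y, A⁆ ≤ ⁅I, A⁆) : Y ≤ (Cfsg.pCoreOf p L) := by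
  have hp : p.Prime := Fact.out
  -- the normalizer of `I` lies in `M†`
  set Md := M ⊔ Subgroup.centralizer (((Cfsg.largestPReducedOf p M) : Subgroup G) : Set G) with hMd
  set NI := Subgroup.normalizer ((I : Subgroup G) : Set G) with hNI
  have hQN : Q ≤ NI := hQS.trans (hSM.trans hIM.2)
  have hIO : I ≤ Cfsg.pCoreOf p NI := le_pcoreOf Subgroup.le_normalizer le_rfl hIp
  have hO1 : Cfsg.pCoreOf p NI ≠ ⊥ := fun h => hI1 (le_bot_iff.mp (h ▸ hIO))
  have hCI : Subgroup.centralizer (I : Set G) ≤ NI := fun c hc => by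
    refine Subgroup.mem_normalizer_iff.mpr fun x => ⟨fun hx => ?_, fun hx => ?_⟩
    · rw [← hc x hx, mul_assoc, mul_inv_cancel, mul_one]; exact hx
    · have h : c⁻¹ * (c * x * c⁻¹) * c = c * x * c⁻¹ := by
        have h' := hc _ hx
        rw [mul_assoc, h']; group
      rw [show x = c⁻¹ * (c * x * c⁻¹) * c by group, h]; exact hx
  have hNIc : NI ∈ Cfsg.charPSubgroups p G := by
    refine ⟨fun h => hO1 (by rw [Cfsg.pCoreOf, h, Subgroup.map_bot]), ?_⟩
    show Subgroup.centralizer ((Cfsg.pCoreOf p NI : Subgroup G) : Set G) ≤ Cfsg.pCoreOf p NI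
    exact le_pcoreOf ((Subgroup.centralizer_le (SetLike.coe_subset_coe.mpr hIO)).trans hCI)
      (normalizer_centralizer_ge (le_normalizer_pcoreOf NI))
      (CfsgLib.Large.large_spec hQp hQ1 hQ hQN hO1).1
  obtain ⟨X, ⟨hX, hNX⟩, hXmax⟩ := CfsgLib.BasicProperty.exists_max_nat
    (fun X : Subgroup G => X ∈ Cfsg.charPSubgroups p G ∧ NI ≤ X) (fun X => Nat.card ↥X) ⟨NI, hNIc, le_rfl⟩
  have hXM : X = Md := hM.2.2.1 X
    ⟨hX, fun X' hX' hle => (Subgroup.eq_of_le_of_card_ge hle (hXmax X' ⟨hX', hNX.trans hle⟩)).symm⟩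
    (hIM.2.trans hNX)
  -- the centralizer of `A` in `L`
  set C := L ⊓ Subgroup.centralizer (A : Set G) with hC
  have hLC : L ≤ Subgroup.normalizer (C : Set G) :=
    normalizer_inf_ge Subgroup.le_normalizer (normalizer_centralizer_ge hAL.2)
  have hCM : C ≤ Md := by
    rw [← hXM]
    exact inf_le_right.trans ((Subgroup.centralizer_le (SetLike.coe_subset_coe.mpr hIA)).trans (hCI.trans hNX))
  set R := Cfsg.pCoreOf p L with hR
  have hLR : L ≤ Subgroup.normalizer (R : Set G) := le_normalizer_pcoreOf L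
  have hCO : C ⊓ Cfsg.pCoreOf p Md ≤ R := by
    have h1 : C ⊓ Cfsg.pCoreOf p Md ≤ Cfsg.pCoreOf p C :=
      le_pcoreOf inf_le_left (normalizer_inf_ge Subgroup.le_normalizer (hCM.trans (le_normalizer_pcoreOf Md)))
        ((isPGroup_pcoreOf Md).to_le inf_le_right)
    exact h1.trans (le_pcoreOf ((pcoreOf_le C).trans inf_le_left)
      (hLC.trans (normalizer_le_pcoreOf C)) (isPGroup_pcoreOf C))
  have hYC : ∀ y ∈ Y, ∀ c ∈ C, ⁅y, c⁆ ∈ R := fun y hy c hc => hCO ⟨by
      rw [commutatorElement_def]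
      exact C.mul_mem ((Subgroup.mem_normalizer_iff.mp (hLC (hYL hy)) c).mp hc) (C.inv_mem hc), by
      rw [show ⁅y, c⁆ = y * (c * y⁻¹ * c⁻¹) by simp only [commutatorElement_def]; group]
      exact (Cfsg.pCoreOf p Md).mul_mem (hY hy)
        ((Subgroup.mem_normalizer_iff.mp (le_normalizer_pcoreOf Md (hCM hc)) _).mp (inv_mem (hY hy)))⟩
  -- the kernel of both actions
  have hLAA : L ≤ Subgroup.normalizer ((⁅A, A⁆ : Subgroup G) : Set G) := normalizer_commutator_ge hAL.2 hAL.2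
  set D := stab L A ⁅A, A⁆ hLAA ⊓ stab L C R hLR with hD
  have hLD : L ≤ Subgroup.normalizer (D : Set G) :=
    normalizer_inf_ge (stab_normal hLAA hAL.2) (stab_normal hLR hLC)
  have hDL : D ≤ L := fun d hd => hd.1.1
  have hYD : Y ≤ D := fun y hy => ⟨⟨hYL hy, fun a ha => (hc.trans (Subgroup.commutator_mono hIA le_rfl))
    (Subgroup.commutator_mem_commutator hy ha)⟩, ⟨hYL hy, hYC y hy⟩⟩
  haveI hCn : (C.subgroupOf D).Normal :=
    ⟨fun n hn g => Subgroup.mem_subgroupOf.mpr (by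
      simpa using (Subgroup.mem_normalizer_iff.mp (hLC (hDL g.2)) _).mp (Subgroup.mem_subgroupOf.mp hn))⟩
  have hquot : IsPGroup p (↥D ⧸ C.subgroupOf D) := by
    intro q
    obtain ⟨x, rfl⟩ := QuotientGroup.mk'_surjective _ q
    obtain ⟨k, m, hm, hxm⟩ := Nat.exists_eq_pow_mul_and_not_dvd (orderOf_pos x).ne' p hp.ne_one
    refine ⟨k, ?_⟩
    rw [← map_pow]
    refine (QuotientGroup.eq_one_iff _).mpr ?_
    have hord : (orderOf ((x ^ p ^ k : ↥D) : G)).Coprime p := by
      rw [Subgroup.orderOf_coe, orderOf_pow' x (pow_ne_zero k hp.ne_zero), hxm, Nat.gcd_mul_right_left,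
        Nat.mul_div_cancel_left _ (pow_pos hp.pos k)]
      exact (hp.coprime_iff_not_dvd.mpr hm).symm
    exact ⟨hDL (x ^ p ^ k).2, fun a ha => (coprime_centralizes hAp (hDL.trans hAL.2)
      (Subgroup.commutator_le.mpr fun d hd a ha => hd.1.2 a ha) (x ^ p ^ k).2 hord a ha).symm⟩
  have hYp : IsPGroup p ↥Y := (isPGroup_pcoreOf Md).to_le hY
  obtain ⟨T, hT⟩ := (hYp.comap_of_injective D.subtype D.subtype_injective).exists_le_sylow
  have hTC : (T : Subgroup ↥D) ⊔ C.subgroupOf D = ⊤ := by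
    have hs := QuotientGroup.mk'_surjective (C.subgroupOf D)
    have h2 : ((T.mapSurjective hs : Sylow p (↥D ⧸ C.subgroupOf D)) : Subgroup (↥D ⧸ C.subgroupOf D)) = ⊤ := by
      refine ((T.mapSurjective hs).is_maximal' ?_ le_top).symm
      exact hquot.to_subgroup ⊤
    have h3 := Subgroup.comap_map_eq (QuotientGroup.mk' (C.subgroupOf D)) (T : Subgroup ↥D)
    rw [QuotientGroup.ker_mk'] at h3
    rw [← h3, ← Subgroup.comap_top (QuotientGroup.mk' (C.subgroupOf D)), ← h2, Sylow.coe_mapSurjective]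
  set U := (T : Subgroup ↥D).map D.subtype with hU
  have hUD : U ≤ D := Subgroup.map_subtype_le _
  have hDUC : D ≤ U ⊔ (D ⊓ C) := by
    have h := congrArg (Subgroup.map D.subtype) hTC
    rw [Subgroup.map_sup, ← MonoidHom.range_eq_map, Subgroup.range_subtype, Subgroup.subgroupOf_map_subtype] at h
    rw [inf_comm]; exact h.ge
  set P := U ⊔ R with hP
  have hPp : IsPGroup p ↥P :=
    IsPGroup.to_sup_of_normal_right' (T.2.map D.subtype) (isPGroup_pcoreOf L) ((hUD.trans hDL).trans hLR)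
  have hDP : D ⊔ R ≤ Subgroup.normalizer (P : Set G) := by
    refine sup_le (hDUC.trans (sup_le (le_sup_left.trans Subgroup.le_normalizer) ?_))
      (le_sup_right.trans Subgroup.le_normalizer)
    have key : ∀ c ∈ D ⊓ C, ∀ z ∈ P, c * z * c⁻¹ ∈ P := by
      intro c hc z hz
      refine (show P ≤ P.comap (MulAut.conj c).toMonoidHom from sup_le ?_ ?_) hz
      · intro t ht
        show c * t * c⁻¹ ∈ P
        rw [show c * t * c⁻¹ = ⁅t, c⁆⁻¹ * t by simp only [commutatorElement_def]; group]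
        exact P.mul_mem (P.inv_mem (Subgroup.mem_sup_right ((hUD ht).2.2 c hc.2))) (Subgroup.mem_sup_left ht)
      · intro t ht
        exact Subgroup.mem_sup_right ((Subgroup.mem_normalizer_iff.mp (hLR (hDL hc.1)) t).mp ht)
    intro c hc
    refine Subgroup.mem_normalizer_iff.mpr fun z => ⟨key c hc z, fun hz => ?_⟩
    have h := key c⁻¹ ((D ⊓ C).inv_mem hc) _ hz
    simpa [mul_assoc] using h
  have hPO : P ≤ Cfsg.pCoreOf p (D ⊔ R) := le_pcoreOf (sup_le_sup_right hUD R) hDP hPp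
  have hfin : Cfsg.pCoreOf p (D ⊔ R) ≤ R := le_pcoreOf ((pcoreOf_le _).trans (sup_le hDL (pcoreOf_le L)))
    ((normalizer_sup_ge hLD hLR).trans (normalizer_le_pcoreOf _)) (isPGroup_pcoreOf _)
  intro y hy
  exact hfin (hPO (Subgroup.mem_sup_left ⟨⟨y, hYD hy⟩, hT hy, rfl⟩))

end Cfsg.Agent.S2864
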