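import Cfsg.Statements.S2872
import Cfsg.Agent.Lib.ThompsonTransfer
import Mathlib.GroupTheory.Frattini
import Mathlib.GroupTheory.Nilpotent

set_option autoImplicit false
open Cfsg

namespace Cfsg.Agent.S2872

/-- Let S be a Sylow 2-subgroup of the finite group G. Then G has a proper normal subgroup of 2-power index (O²(G) ≠ G), or Ω₁(Z(S)) is contained in the Frattini subgroup of S, or N_G(S) acts nontrivially on Ω₁(Z(S)) by conjugation. -/
theorem result {G : Type*} [Group G] [Finite G] (S : Sylow 2 G) : Cfsg.pResidual 2 G ≠ ⊤ ∨ Cfsg.omegaOne 2 ((S : Subgroup G) ⊓ Subgroup.centralizer ((S : Subgroup G) : Set G)) ≤ (frattini ↥(S : Subgroup G)).map (S : Subgroup G).subtype ∨ ∃ g ∈ Subgroup.normalizer ((S : Subgroup G) : Set G), ∃ z ∈ Cfsg.omegaOne 2 ((S : Subgroup G) ⊓ Subgroup.centralizer ((S : Subgroup G) : Set G)), g * z * g⁻¹ ≠ z := by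
  classical
  haveI := Fact.mk Nat.prime_two
  by_contra hcon
  push Not at hcon
  obtain ⟨hres, hle, hfix⟩ := hcon
  apply hle
  refine (Subgroup.closure_le _).mpr ?_
  rintro z ⟨hzS, hz2⟩
  by_contra hzphi
  obtain ⟨hzS, hzC⟩ := Subgroup.mem_inf.mp hzS
  set H := (S : Subgroup G)
  have hz : orderOf z = 2 := by
    refine orderOf_eq_prime hz2 fun h => hzphi ?_
    rw [h]; exact one_mem _
  obtain ⟨M, hM, hzM⟩ : ∃ M : Subgroup ↥H, IsCoatom M ∧ (⟨z, hzS⟩ : ↥H) ∉ M := by
    by_contra hall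
    push Not at hall
    refine hzphi ⟨⟨z, hzS⟩, ?_, rfl⟩
    simp only [frattini, Order.radical, Subgroup.mem_iInf, SetLike.mem_coe]
    exact fun M hM => hall M hM
  haveI : Group.IsNilpotent ↥H := S.2.isNilpotent
  haveI hMn : M.Normal :=
    Subgroup.NormalizerCondition.normal_of_coatom M Group.normalizerCondition_of_isNilpotent hM
  have hTM : (M.map H.subtype).subgroupOf H = M :=
    Subgroup.comap_map_eq_self_of_injective H.subtype_injective M
  haveI : ((M.map H.subtype).subgroupOf H).Normal := by rw [hTM]; exact hMn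
  have hcyc : IsCyclic (↥H ⧸ (M.map H.subtype).subgroupOf H) := by
    refine ⟨⟨QuotientGroup.mk ⟨z, hzS⟩, fun q => ?_⟩⟩
    have htop : (Subgroup.zpowers (QuotientGroup.mk ⟨z, hzS⟩ : ↥H ⧸ (M.map H.subtype).subgroupOf H)).comap
        (QuotientGroup.mk' _) = ⊤ := by
      refine hM.2 _ (lt_of_le_of_ne ?_ fun h => hzM (h ▸ Subgroup.mem_zpowers _))
      intro m hm
      rw [Subgroup.mem_comap, QuotientGroup.mk'_apply, (QuotientGroup.eq_one_iff m).mpr (hTM.symm ▸ hm)]
      exact one_mem _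
    obtain ⟨u, rfl⟩ := QuotientGroup.mk'_surjective _ q
    exact (htop.ge (Subgroup.mem_top u) :)
  obtain ⟨g, hgT, -, hmap⟩ := CfsgLib.ThompsonTransfer.extremal S (M.map H.subtype) hcyc z hz (by
    intro ψ
    have : Cfsg.pResidual 2 G ≤ ψ.ker := by
      refine (Subgroup.closure_le _).mpr fun x hx => orderOf_eq_one_iff.mp ?_
      obtain ⟨k, hk⟩ := IsPGroup.iff_orderOf.mp (S.2.to_quotient ((M.map H.subtype).subgroupOf H)) (ψ x)
      exact Nat.eq_one_of_dvd_coprimes (hx.pow_right k) (orderOf_map_dvd ψ x) (hk ▸ dvd_rfl)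
    exact MonoidHom.mem_ker.mp (this (hres ▸ Subgroup.mem_top z)))
  have hgN : g ∈ Subgroup.normalizer ((S : Subgroup G) : Set G) := by
    have hsub : ∀ s ∈ H, g * s * g⁻¹ ∈ H := fun s hs =>
      ((Subgroup.mem_inf.mp (hmap ⟨s, Subgroup.mem_inf.mpr ⟨hs, Subgroup.mem_centralizer_singleton_iff.mpr
        (Subgroup.mem_centralizer_iff.mp hzC s hs)⟩, rfl⟩)).1)
    exact (CfsgLib.ThompsonTransfer.mem_normalizer_of_conj_le H hsub)
  obtain ⟨m, hm, hme⟩ := hgT
  rw [hfix g hgN z (Subgroup.subset_closure ⟨Subgroup.mem_inf.mpr ⟨hzS, hzC⟩, hz2⟩)] at hme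
  exact hzM (by rwa [← show m = ⟨z, hzS⟩ from Subtype.ext hme])

end Cfsg.Agent.S2872
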