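import Cfsg.Statements.S2873
import Cfsg.Agent.Lib.Core
import Cfsg.Agent.Lib.LocalBasic
import Mathlib.GroupTheory.SpecificGroups.Dihedral

set_option autoImplicit false
open Cfsg

namespace Cfsg.Agent.S2873

open DihedralGroup

/-- Let G be a finite group and r an odd prime such that G ⧸ O₂(G) is dihedral of order 2r, and let R be a Sylow r-subgroup of G with C_{O₂(G)}(R) = 1. Then N_G(R) is dihedral of order 2r; for any involution a of N_G(R), every involution of G outside O₂(G) is conjugate to a; and |C_{O₂(G)}(a)|² = |O₂(G)|. -/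
theorem result {G : Type*} [Group G] [Finite G] {r : ℕ} [Fact r.Prime] (hr : r ≠ 2) [hN : (Cfsg.pCore 2 G).Normal] (hquot : Nonempty (G ⧸ Cfsg.pCore 2 G ≃* DihedralGroup r)) (R : Sylow r G) (hC : Cfsg.pCore 2 G ⊓ Subgroup.centralizer ((R : Subgroup G) : Set G) = ⊥) : Nonempty (↥(Subgroup.normalizer ((R : Subgroup G) : Set G)) ≃* DihedralGroup r) ∧ ∀ a : G, a ∈ Subgroup.normalizer ((R : Subgroup G) : Set G) → orderOf a = 2 → (∀ b : G, orderOf b = 2 → b ∉ Cfsg.pCore 2 G → ∃ g : G, g * a * g⁻¹ = b) ∧ Nat.card ↥(Cfsg.pCore 2 G ⊓ Subgroup.centralizer ({a} : Set G)) ^ 2 = Nat.card ↥(Cfsg.pCore 2 G) := by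
  classical
  set Q := Cfsg.pCore 2 G with hQ
  set N := Subgroup.normalizer ((R : Subgroup G) : Set G) with hNdef
  have hrp : r.Prime := Fact.out
  haveI : Fact (Nat.Prime 2) := ⟨Nat.prime_two⟩
  haveI : NeZero r := ⟨hrp.ne_zero⟩
  obtain ⟨e⟩ := hquot
  set ρ : G →* DihedralGroup r := e.toMonoidHom.comp (QuotientGroup.mk' Q) with hρ
  have hρk : ∀ x, ρ x = 1 ↔ x ∈ Q := by
    intro x; simp [hρ]
  have hodd : Odd r := hrp.odd_of_ne_two hr
  have h2x : ∀ i : ZMod r, i + i = 0 → i = 0 := by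
    intro i hi
    have h : ((2 : ℕ) : ZMod r) * i = 0 := by push_cast; rw [two_mul]; exact hi
    haveI := Fact.mk hrp
    rcases mul_eq_zero.mp h with h | h
    · exact absurd ((Nat.prime_dvd_prime_iff_eq hrp Nat.prime_two).mp ((ZMod.natCast_eq_zero_iff 2 r).mp h)) hr
    · exact h
  set Cr : Subgroup (DihedralGroup r) := Subgroup.zpowers (DihedralGroup.r 1) with hCr
  have hCrmem : ∀ i : ZMod r, DihedralGroup.r i ∈ Cr := fun i => ⟨(i.val : ℤ), by simp [DihedralGroup.r_one_pow]⟩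
  have hCrcard : Nat.card ↥Cr = r := by rw [Nat.card_zpowers, DihedralGroup.orderOf_r_one]
  haveI : Cr.Normal := by
    refine Subgroup.normal_of_index_eq_two ?_
    have := Cr.card_mul_index
    rw [hCrcard, DihedralGroup.nat_card] at this
    exact Nat.eq_of_mul_eq_mul_left hrp.pos (this.trans (mul_comm _ _))
  have hRCr : (R : Subgroup G).map ρ ≤ Cr := by
    rintro _ ⟨x, hx, rfl⟩
    cases hρx : ρ x with
    | r i => exact hCrmem i
    | sr i =>
      exfalso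
      obtain ⟨k, hk⟩ := R.2 ⟨x, hx⟩
      have hk' : x ^ r ^ k = 1 := by simpa using congrArg Subtype.val hk
      have h := congrArg ρ hk'
      rw [map_pow, map_one, hρx] at h
      have h2 := orderOf_dvd_of_pow_eq_one h
      rw [DihedralGroup.orderOf_sr] at h2
      exact hr ((Nat.prime_dvd_prime_iff_eq Nat.prime_two hrp).mp (Nat.prime_two.dvd_of_dvd_pow h2)).symm
  have hRQ : (R : Subgroup G) ⊓ Q = ⊥ := by
    refine disjoint_iff.mp (Disjoint.mono le_rfl le_rfl ?_)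
    exact IsPGroup.disjoint_of_ne r 2 hr _ _ R.2 (CfsgLib.Core.isPGroup_pCore 2)
  have hrG : r ∣ Nat.card G :=
    dvd_trans ⟨2, by rw [Nat.card_congr e.toEquiv, DihedralGroup.nat_card, mul_comm]⟩ (Subgroup.card_quotient_dvd_card Q)
  have hR1 : (R : Subgroup G) ≠ ⊥ := R.ne_bot_of_dvd_card hrG
  have hRinj : ∀ x ∈ (R : Subgroup G), ρ x = 1 → x = 1 := fun x hx h =>
    Subgroup.mem_bot.mp (hRQ ▸ Subgroup.mem_inf.mpr ⟨hx, (hρk x).mp h⟩)
  have hRmap : (R : Subgroup G).map ρ = Cr := by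
    haveI : Fact (Nat.card ↥Cr).Prime := ⟨hCrcard.symm ▸ hrp⟩
    rcases (((R : Subgroup G).map ρ).subgroupOf Cr).eq_bot_or_eq_top_of_prime_card with h | h
    · exfalso
      refine hR1 ((Subgroup.eq_bot_iff_forall _).mpr fun x hx => hRinj x hx ?_)
      have h' := Subgroup.subgroupOf_eq_bot.mp h
      exact Subgroup.mem_bot.mp (h'.le_bot ⟨⟨x, hx, rfl⟩, hRCr ⟨x, hx, rfl⟩⟩)
    · exact le_antisymm hRCr (Subgroup.subgroupOf_eq_top.mp h)
  have hQN : Q ⊓ N = ⊥ := by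
    refine le_bot_iff.mp (le_trans ?_ hC.le)
    intro q hq
    refine Subgroup.mem_inf.mpr ⟨hq.1, fun x hx => ?_⟩
    have h : q * x * q⁻¹ * x⁻¹ ∈ (R : Subgroup G) ⊓ Q := Subgroup.mem_inf.mpr
      ⟨(R : Subgroup G).mul_mem ((Subgroup.mem_normalizer_iff.mp hq.2 x).mp hx) ((R : Subgroup G).inv_mem hx), by
        rw [mul_assoc q x, mul_assoc q (x * q⁻¹)]
        exact Q.mul_mem hq.1 (hN.conj_mem _ (Q.inv_mem hq.1) x)⟩
    rw [hRQ, Subgroup.mem_bot, mul_inv_eq_one, mul_inv_eq_iff_eq_mul] at h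
    exact h.symm
  have hNinj : ∀ x ∈ N, ρ x = 1 → x = 1 := fun x hx h =>
    Subgroup.mem_bot.mp (hQN ▸ Subgroup.mem_inf.mpr ⟨(hρk x).mp h, hx⟩)
  have hNsurj : ∀ d, ∃ x ∈ N, ρ x = d := by
    intro d
    have hρs : Function.Surjective ρ := e.surjective.comp (QuotientGroup.mk'_surjective Q)
    obtain ⟨g, rfl⟩ := hρs d
    have hRN' : (R : Subgroup G) ≤ Cr.comap ρ := Subgroup.map_le_iff_le_comap.mp hRCr
    have hfr := Sylow.normalizer_sup_eq_top (R.subtype hRN')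
    have e1 : ((R.subtype hRN' : Sylow r ↥(Cr.comap ρ)) : Subgroup ↥(Cr.comap ρ)).map (Cr.comap ρ).subtype = (R : Subgroup G) := by
      rw [Sylow.coe_subtype, Subgroup.subgroupOf_map_subtype, inf_eq_left.mpr hRN']
    rw [e1] at hfr
    have hg : ρ g ∈ (N ⊔ Cr.comap ρ).map ρ := ⟨g, hfr.symm ▸ Subgroup.mem_top g, rfl⟩
    have h1 : (N ⊔ Cr.comap ρ).map ρ ≤ N.map ρ := by
      rw [Subgroup.map_sup]
      refine sup_le le_rfl ((Subgroup.map_comap_le _ _).trans ?_)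
      rw [← hRmap]; exact Subgroup.map_mono Subgroup.le_normalizer
    obtain ⟨x, hx, hxe⟩ := h1 hg
    exact ⟨x, hx, hxe⟩
  have hbij : Function.Bijective (ρ.comp N.subtype) := ⟨(injective_iff_map_eq_one _).mpr
    (fun x hx => Subtype.ext (hNinj x x.2 hx)), fun d => let ⟨x, hx, hxe⟩ := hNsurj d; ⟨⟨x, hx⟩, hxe⟩⟩
  refine ⟨⟨MulEquiv.ofBijective _ hbij⟩, ?_⟩
  have hNeq : ∀ x ∈ N, ∀ y ∈ N, ρ x = ρ y → x = y := fun x hx y hy h =>
    mul_inv_eq_one.mp (hNinj _ (N.mul_mem hx (N.inv_mem hy)) (by rw [map_mul, map_inv, h, mul_inv_cancel]))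
  have hinv2 : ∀ x : G, orderOf x = 2 → x * x = 1 := fun x hx => by
    have := pow_orderOf_eq_one x; rwa [hx, pow_two] at this
  have hsr : ∀ x : G, x * x = 1 → ρ x ≠ 1 → ∃ i, ρ x = DihedralGroup.sr i := by
    intro x hx hne
    cases hρx : ρ x with
    | r i =>
      exfalso
      have h := congrArg ρ hx
      rw [map_mul, map_one, hρx, DihedralGroup.r_mul_r, DihedralGroup.one_def] at h
      rw [hρx, h2x i (DihedralGroup.r.inj h)] at hne
      exact hne rfl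
    | sr i => exact ⟨i, rfl⟩
  have core : ∀ a : G, a ∈ N → a * a = 1 → a ≠ 1 →
      (∀ q ∈ Q, q * a * (q * a) = 1 → ∃ u : G, u * a * u⁻¹ = q * a) ∧
      Nat.card ↥(Q ⊓ Subgroup.centralizer ({a} : Set G)) ^ 2 = Nat.card ↥Q := by
    intro a haN ha2 ha1
    obtain ⟨i, hi⟩ := hsr a ha2 (fun h => ha1 (hNinj a haN h))
    obtain ⟨s, hsN, hs⟩ := hNsurj (DihedralGroup.r 1)
    set a₂ := s * a * s⁻¹ with ha₂
    clear_value a₂
    have ha₂2 : a₂ * a₂ = 1 := by rw [ha₂, show s * a * s⁻¹ * (s * a * s⁻¹) = s * (a * a) * s⁻¹ by group, ha2]; group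
    have ha₂N : a₂ ∈ N := ha₂.symm ▸ N.mul_mem (N.mul_mem hsN haN) (N.inv_mem hsN)
    have hainv : a⁻¹ = a := inv_eq_of_mul_eq_one_right ha2
    have ha₂inv : a₂⁻¹ = a₂ := inv_eq_of_mul_eq_one_right ha₂2
    have hρy : ρ (a * a₂) ∈ Cr ∧ ρ (a * a₂) ≠ 1 := by
      have : ρ (a * a₂) = DihedralGroup.r (-2) := by
        rw [map_mul, ha₂, map_mul, map_mul, map_inv, hi, hs]
        simp [DihedralGroup.inv_r]
        ring
      rw [this]
      refine ⟨hCrmem _, fun h => ?_⟩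
      rw [DihedralGroup.one_def] at h
      have h' : ((2 : ℕ) : ZMod r) = 0 := by push_cast; exact neg_eq_zero.mp (DihedralGroup.r.inj h)
      exact hr ((Nat.prime_dvd_prime_iff_eq hrp Nat.prime_two).mp ((ZMod.natCast_eq_zero_iff 2 r).mp h'))
    have hyR : a * a₂ ∈ (R : Subgroup G) := by
      obtain ⟨x, hx, hxe⟩ := hRmap.symm.le hρy.1
      rwa [← hNeq x (Subgroup.le_normalizer hx) _ (N.mul_mem haN ha₂N) hxe]
    have hcy : ∀ u ∈ Q, u * (a * a₂) = a * a₂ * u → u = 1 := by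
      intro u hu hc
      refine Subgroup.mem_bot.mp (hC ▸ Subgroup.mem_inf.mpr ⟨hu, fun x hx => ?_⟩)
      have hz : x ∈ Subgroup.zpowers (a * a₂) := by
        haveI : Fact (Nat.card ↥Cr).Prime := ⟨hCrcard.symm ▸ hrp⟩
        have h1 : (⟨ρ x, hRCr ⟨x, hx, rfl⟩⟩ : ↥Cr) ∈ Subgroup.zpowers (⟨ρ (a * a₂), hρy.1⟩ : ↥Cr) := by
          rcases (Subgroup.zpowers (⟨ρ (a * a₂), hρy.1⟩ : ↥Cr)).eq_bot_or_eq_top_of_prime_card with h | h
          · exact absurd (Subgroup.zpowers_eq_bot.mp h) (fun h' => hρy.2 (congrArg Subtype.val h'))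
          · rw [h]; trivial
        obtain ⟨k, hk⟩ := h1
        have hk' : ρ (a * a₂) ^ k = ρ x := by simpa using congrArg Subtype.val hk
        exact ⟨k, hNeq _ (N.zpow_mem (N.mul_mem haN ha₂N) k) _ (Subgroup.le_normalizer hx) (by rw [map_zpow, hk'])⟩
      obtain ⟨k, rfl⟩ := hz
      exact ((Commute.zpow_right (show Commute u (a * a₂) from hc) k).eq).symm
    set y := a * a₂ with hy
    clear_value y
    let Φ : ↥Q → ↥Q := fun u => ⟨(u : G) * y * (u : G)⁻¹ * y⁻¹, by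
      rw [mul_assoc (u : G) y, mul_assoc (u : G) (y * _)]
      exact Q.mul_mem u.2 (hN.conj_mem _ (Q.inv_mem u.2) y)⟩
    have hΦ : Function.Bijective Φ := by
      refine Finite.injective_iff_bijective.mp fun u v h => ?_
      have h' : (u : G) * y * (u : G)⁻¹ * y⁻¹ = (v : G) * y * (v : G)⁻¹ * y⁻¹ := congrArg Subtype.val h
      have h2 := mul_right_cancel h'
      have := hcy ((v : G)⁻¹ * u) (Q.mul_mem (Q.inv_mem v.2) u.2) (by
        calc (v : G)⁻¹ * u * y = (v : G)⁻¹ * ((u : G) * y * (u : G)⁻¹) * u := by group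
          _ = (v : G)⁻¹ * ((v : G) * y * (v : G)⁻¹) * u := by rw [h2]
          _ = y * ((v : G)⁻¹ * u) := by group)
      exact Subtype.ext (inv_mul_eq_one.mp this).symm
    set A := Q ⊓ Subgroup.centralizer ({a} : Set G) with hA
    set B := Q ⊓ Subgroup.centralizer ({a₂} : Set G) with hB
    have hAB : ∀ x ∈ A, x ∈ B → x = 1 := by
      intro x hxA hxB
      refine hcy x hxA.1 ?_
      have h1 := Subgroup.mem_centralizer_singleton_iff.mp hxA.2
      have h2 := Subgroup.mem_centralizer_singleton_iff.mp hxB.2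
      rw [hy, ← mul_assoc, h1, mul_assoc, h2, ← mul_assoc]
    have main : ∀ q ∈ Q, q * a * (q * a) = 1 → ∃ u ∈ B, u * a * u⁻¹ = q * a := by
      intro q hq hq2
      obtain ⟨⟨u, hu⟩, hΦu⟩ := hΦ.2 ⟨q, hq⟩
      have hqy : u * y * u⁻¹ * y⁻¹ = q := congrArg Subtype.val hΦu
      have hz : u * y * u⁻¹ = q * a * a₂ := by rw [← hqy, hy]; group
      have hinv : a₂ * (u * y * u⁻¹) * a₂ = (u * y * u⁻¹)⁻¹ := by
        rw [hz, mul_inv_rev, ha₂inv, inv_eq_of_mul_eq_one_right hq2,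
          show a₂ * (q * a * a₂) * a₂ = a₂ * (q * a) * (a₂ * a₂) by group, ha₂2, mul_one]
      have hyinv : a₂ * y * a₂ = y⁻¹ := by
        rw [hy, mul_inv_rev, ha₂inv, hainv, show a₂ * (a * a₂) * a₂ = a₂ * a * (a₂ * a₂) by group, ha₂2, mul_one]
      have hw : u⁻¹ * (a₂ * u * a₂) ∈ Q := Q.mul_mem (Q.inv_mem hu) (by
        have := hN.conj_mem _ hu a₂; rwa [ha₂inv] at this)
      have hw1 : u⁻¹ * (a₂ * u * a₂) = 1 := hcy _ hw (inv_inj.mp (by
        have h3 : a₂ * u * a₂ * y⁻¹ * (a₂ * u⁻¹ * a₂) = u * y⁻¹ * u⁻¹ := by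
          rw [← hyinv, show u * (a₂ * y * a₂) * u⁻¹ = u * (a₂ * y * a₂) * u⁻¹ from rfl]
          have : a₂ * (u * y * u⁻¹) * a₂ = u * y⁻¹ * u⁻¹ := by rw [hinv]; group
          rw [hyinv, ← this]
          calc a₂ * u * a₂ * y⁻¹ * (a₂ * u⁻¹ * a₂) = a₂ * u * (a₂ * y⁻¹ * a₂) * u⁻¹ * a₂ := by group
            _ = a₂ * u * (a₂ * (a₂ * y * a₂) * a₂) * u⁻¹ * a₂ := by rw [hyinv]
            _ = a₂ * u * ((a₂ * a₂) * y * (a₂ * a₂)) * u⁻¹ * a₂ := by group
            _ = a₂ * (u * y * u⁻¹) * a₂ := by rw [ha₂2]; group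
        have h4 : a₂ * u⁻¹ * a₂ = (a₂ * u * a₂)⁻¹ := by rw [mul_inv_rev, mul_inv_rev, ha₂inv]; group
        rw [h4] at h3
        calc (u⁻¹ * (a₂ * u * a₂) * y)⁻¹ = y⁻¹ * (a₂ * u * a₂)⁻¹ * u := by group
          _ = (a₂ * u * a₂)⁻¹ * (a₂ * u * a₂ * y⁻¹ * (a₂ * u * a₂)⁻¹) * u := by group
          _ = (a₂ * u * a₂)⁻¹ * (u * y⁻¹ * u⁻¹) * u := by rw [h3]
          _ = (y * (u⁻¹ * (a₂ * u * a₂)))⁻¹ := by group))
      have hcm : u * a₂ = a₂ * u := by
        have := (inv_mul_eq_one.mp hw1)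
        calc u * a₂ = a₂ * u * a₂ * a₂ := by rw [← this]
          _ = a₂ * u := by rw [mul_assoc, ha₂2, mul_one]
      refine ⟨u, Subgroup.mem_inf.mpr ⟨hu, Subgroup.mem_centralizer_singleton_iff.mpr hcm⟩, ?_⟩
      calc u * a * u⁻¹ = u * (y * a₂) * u⁻¹ := by rw [hy, mul_assoc a a₂ a₂, ha₂2, mul_one]
        _ = u * y * u⁻¹ * (u * a₂ * u⁻¹) := by group
        _ = q * a * a₂ * a₂ := by rw [hz, hcm, mul_inv_cancel_right]
        _ = q * a := by rw [mul_assoc, ha₂2, mul_one]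
    refine ⟨fun q hq h => (main q hq h).imp fun u hu => hu.2, ?_⟩
    have hprod : Nat.card ↥Q = Nat.card ↥B * Nat.card ↥A := by
      rw [← Nat.card_prod]
      refine (Nat.card_congr (Equiv.ofBijective
        (fun w : ↥B × ↥A => (⟨(w.1 : G) * w.2, Q.mul_mem w.1.2.1 w.2.2.1⟩ : ↥Q)) ⟨?_, ?_⟩)).symm
      · rintro ⟨v, x⟩ ⟨v', x'⟩ h
        have h' : (v : G) * x = v' * x' := congrArg Subtype.val h
        have hd : (v' : G)⁻¹ * v = x' * (x : G)⁻¹ := by
          rw [eq_mul_inv_iff_mul_eq, mul_assoc, h']; group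
        have h1 := hAB _ (hd ▸ A.mul_mem x'.2 (A.inv_mem x.2)) (B.mul_mem (B.inv_mem v'.2) v.2)
        have hv : (v' : G) = v := inv_mul_eq_one.mp h1
        rw [hv] at h'
        exact Prod.ext (Subtype.ext hv.symm) (Subtype.ext (mul_left_cancel h'))
      · rintro ⟨w, hw⟩
        obtain ⟨v, hv, hve⟩ := main (w * a * w⁻¹ * a⁻¹) (by
          rw [mul_assoc w a, mul_assoc w (a * _)]; exact Q.mul_mem hw (hN.conj_mem _ (Q.inv_mem hw) a))
          (by rw [show w * a * w⁻¹ * a⁻¹ * a * (w * a * w⁻¹ * a⁻¹ * a) = w * (a * a) * w⁻¹ by group, ha2]; group)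
        rw [inv_mul_cancel_right] at hve
        refine ⟨(⟨v, hv⟩, ⟨v⁻¹ * w, Subgroup.mem_inf.mpr ⟨Q.mul_mem (Q.inv_mem hv.1) hw,
          Subgroup.mem_centralizer_singleton_iff.mpr ?_⟩⟩), Subtype.ext (mul_inv_cancel_left v w)⟩
        calc v⁻¹ * w * a = v⁻¹ * (w * a * w⁻¹) * w := by group
          _ = v⁻¹ * (v * a * v⁻¹) * w := by rw [hve]
          _ = a * (v⁻¹ * w) := by group
    have hcard : Nat.card ↥B = Nat.card ↥A := by
      rw [← Subgroup.card_map_of_injective (K := A) (f := (MulAut.conj s).toMonoidHom) (MulEquiv.injective _)]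
      apply congrArg (fun K : Subgroup G => Nat.card ↥K)
      ext x
      rw [Subgroup.mem_map_equiv, hA, hB, Subgroup.mem_inf, Subgroup.mem_inf,
        Subgroup.mem_centralizer_singleton_iff, Subgroup.mem_centralizer_singleton_iff, MulAut.conj_symm_apply, ha₂]
      constructor
      · rintro ⟨h1, h2⟩
        refine ⟨by simpa using hN.conj_mem x h1 s⁻¹, ?_⟩
        calc s⁻¹ * x * s * a = s⁻¹ * (x * (s * a * s⁻¹)) * s := by group
          _ = s⁻¹ * (s * a * s⁻¹ * x) * s := by rw [h2]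
          _ = a * (s⁻¹ * x * s) := by group
      · rintro ⟨h1, h2⟩
        refine ⟨by simpa [mul_assoc] using hN.conj_mem _ h1 s, ?_⟩
        calc x * (s * a * s⁻¹) = s * (s⁻¹ * x * s * a) * s⁻¹ := by group
          _ = s * (a * (s⁻¹ * x * s)) * s⁻¹ := by rw [h2]
          _ = s * a * s⁻¹ * x := by group
    rw [hprod, hcard, pow_two]
  intro a haN haord
  have ha2 := hinv2 a haord
  have ha1 : a ≠ 1 := fun h => by simp [h] at haord
  refine ⟨fun b hbord hbQ => ?_, (core a haN ha2 ha1).2⟩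
  have hb2 := hinv2 b hbord
  obtain ⟨i, hi⟩ := hsr a ha2 (fun h => ha1 (hNinj a haN h))
  obtain ⟨j, hj⟩ := hsr b hb2 (fun h => hbQ ((hρk b).mp h))
  obtain ⟨k, hk⟩ : ∃ k : ZMod r, k + k = i - j := by
    have h := Finite.injective_iff_surjective.mp (fun x y (h : x + x = y + y) =>
      sub_eq_zero.mp (h2x (x - y) (by rw [show x - y + (x - y) = x + x - (y + y) by ring, h, sub_self]))) (i - j)
    exact h
  obtain ⟨n, hnN, hn⟩ := hNsurj (DihedralGroup.r k)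
  set a' := n * a * n⁻¹ with ha'
  have ha'N : a' ∈ N := N.mul_mem (N.mul_mem hnN haN) (N.inv_mem hnN)
  have ha'2 : a' * a' = 1 := by rw [ha', show n * a * n⁻¹ * (n * a * n⁻¹) = n * (a * a) * n⁻¹ by group, ha2]; group
  have ha'1 : a' ≠ 1 := fun h => ha1 (by rw [show a = n⁻¹ * a' * n by rw [ha']; group, h]; group)
  have hρa' : ρ a' = ρ b := by
    rw [ha', map_mul, map_mul, map_inv, hi, hn, hj]
    simp only [DihedralGroup.r_mul_sr, DihedralGroup.inv_r, DihedralGroup.sr_mul_r]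
    congr 1
    linear_combination -hk
  obtain ⟨u, hu⟩ := (core a' ha'N ha'2 ha'1).1 (b * a'⁻¹) ((hρk _).mp (by rw [map_mul, map_inv, hρa', mul_inv_cancel]))
    (by rw [inv_mul_cancel_right, hb2])
  refine ⟨u * n, ?_⟩
  rw [inv_mul_cancel_right] at hu
  rw [← hu, ha']; group

end Cfsg.Agent.S2873
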