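import Cfsg.Statements.S2874
import Mathlib.GroupTheory.Sylow
import Mathlib.GroupTheory.SpecificGroups.Alternating
import Mathlib.GroupTheory.Perm.Fin
-- import your own Cfsg.Agent.* helpers here

set_option autoImplicit false
open Cfsg

namespace Cfsg.Agent.S2874

set_option linter.style.haveILetI false

abbrev MR (k : ℕ) := Matrix (Fin 2) (Fin 2) (ZMod (2 ^ k))
abbrev M2 := Matrix (Fin 2) (Fin 2) (ZMod 2)

theorem order_three_cases : ∀ a b c d : ZMod 2, (!![a, b; c, d] : M2) * !![a, b; c, d] * !![a, b; c, d] = 1 →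
    (!![a, b; c, d] : M2) = 1 ∨ (!![a, b; c, d] : M2) = !![0, 1; 1, 1] ∨ (!![a, b; c, d] : M2) = !![1, 1; 1, 0] := by
  decide +kernel

theorem order_three (R : M2) (h : R * R * R = 1) :
    R = 1 ∨ R = !![0, 1; 1, 1] ∨ R = !![1, 1; 1, 0] := by
  rw [Matrix.eta_fin_two R] at h ⊢
  exact order_three_cases _ _ _ _ h

/-- The sum of the three conjugates. -/
def tr3 (R M : M2) : M2 := M + R * M * (R * R) + R * R * M * R

theorem idem_zero_cases : ∀ a b c d : ZMod 2,
    (!![a, b; c, d] : M2) * !![a, b; c, d] = !![a, b; c, d] →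
    (tr3 !![0, 1; 1, 1] !![a, b; c, d] = 0 ∨ tr3 !![1, 1; 1, 0] !![a, b; c, d] = 0) →
    (!![a, b; c, d] : M2) = 0 := by
  unfold tr3
  decide +kernel

theorem unique_cases : ∀ a b c d a' b' c' d' : ZMod 2,
    ¬(!![a, b; c, d] : M2) = 0 → ¬(!![a', b'; c', d'] : M2) = 0 →
    tr3 !![0, 1; 1, 1] !![a, b; c, d] = 0 → tr3 !![0, 1; 1, 1] !![a', b'; c', d'] = 0 →
    (!![a', b'; c', d'] : M2) = !![a, b; c, d] ∨
      (!![a', b'; c', d'] : M2) = !![0, 1; 1, 1] * !![a, b; c, d] * (!![0, 1; 1, 1] * !![0, 1; 1, 1]) ∨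
      (!![a', b'; c', d'] : M2) = !![0, 1; 1, 1] * !![0, 1; 1, 1] * !![a, b; c, d] * !![0, 1; 1, 1] := by
  unfold tr3
  decide +kernel

theorem unique (R M M' : M2) (hR : R * R * R = 1) (hR1 : R ≠ 1) (hM : M ≠ 0) (hM' : M' ≠ 0)
    (h : tr3 R M = 0) (h' : tr3 R M' = 0) :
    M' = M ∨ M' = R * M * (R * R) ∨ M' = R * R * M * R := by
  have sq : (!![1, 1; 1, 0] : M2) = !![0, 1; 1, 1] * !![0, 1; 1, 1] := by decide +kernel
  have cu : (!![0, 1; 1, 1] : M2) * !![0, 1; 1, 1] * !![0, 1; 1, 1] = 1 := by decide +kernel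
  rcases (order_three R hR).resolve_left hR1 with e | e
  · subst e
    rw [Matrix.eta_fin_two M] at hM h ⊢
    rw [Matrix.eta_fin_two M'] at hM' h' ⊢
    exact unique_cases _ _ _ _ _ _ _ _ hM hM' h h'
  · subst e
    rw [sq] at h h' ⊢
    set S : M2 := !![0, 1; 1, 1] with hS
    have h4 : S * S * (S * S) = S := by
      rw [show S * S * (S * S) = S * S * S * S by simp only [mul_assoc], cu, one_mul]
    have et : ∀ X : M2, tr3 (S * S) X = tr3 S X := fun X => by
      unfold tr3; rw [h4]; abel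
    rw [et] at h h'
    rw [h4]
    rw [Matrix.eta_fin_two M] at hM h ⊢
    rw [Matrix.eta_fin_two M'] at hM' h' ⊢
    rcases unique_cases _ _ _ _ _ _ _ _ hM hM' h h' with e | e | e
    · exact Or.inl e
    · exact Or.inr (Or.inr e)
    · exact Or.inr (Or.inl e)

theorem idem_zero (R M : M2) (hR : R * R * R = 1) (hR1 : R ≠ 1) (hM : M * M = M) (h : tr3 R M = 0) : M = 0 := by
  rw [Matrix.eta_fin_two M] at hM h ⊢
  refine idem_zero_cases _ _ _ _ hM ?_
  rcases (order_three R hR).resolve_left hR1 with e | e <;> subst e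
  · exact Or.inl h
  · exact Or.inr h

variable {k : ℕ}

/-- Reduction modulo two. -/
def red (hk : 2 ≤ k) : MR k →+* M2 :=
  (ZMod.castHom (dvd_pow_self 2 (by omega : k ≠ 0)) (ZMod 2)).mapMatrix

theorem exists_two_smul (hk : 2 ≤ k) {X : MR k} (h : red hk X = 0) : ∃ Y : MR k, X = (2 : ZMod (2 ^ k)) • Y := by
  refine ⟨Matrix.of fun i j => (((X i j).val / 2 : ℕ) : ZMod (2 ^ k)), ?_⟩
  ext i j
  have h1 : ((X i j).val : ZMod 2) = 0 := by
    have h2 := congrFun (congrFun h i) j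
    simp only [red, RingHom.mapMatrix_apply, Matrix.map_apply, Matrix.zero_apply, ZMod.castHom_apply] at h2
    rw [← ZMod.cast_eq_val]
    exact h2
  rw [ZMod.natCast_eq_zero_iff] at h1
  rw [Matrix.smul_apply, Matrix.of_apply, smul_eq_mul]
  conv_lhs => rw [← ZMod.natCast_zmod_val (X i j), ← Nat.mul_div_cancel' h1]
  push_cast
  ring

theorem red_eq_zero (hk : 2 ≤ k) {j : ℕ} (hj : j < k) {X : MR k} (h : ((2 : ZMod (2 ^ k)) ^ j) • X = 0) :
    red hk X = 0 := by
  ext a b
  simp only [red, RingHom.mapMatrix_apply, Matrix.map_apply, Matrix.zero_apply, ZMod.castHom_apply]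
  have h1 := congrFun (congrFun h a) b
  simp only [Matrix.smul_apply, smul_eq_mul, Matrix.zero_apply] at h1
  rw [ZMod.cast_eq_val, ZMod.natCast_eq_zero_iff]
  have h2 : ((2 ^ j * (X a b).val : ℕ) : ZMod (2 ^ k)) = 0 := by
    push_cast; rw [ZMod.natCast_zmod_val]; exact h1
  rw [ZMod.natCast_eq_zero_iff] at h2
  have h3 : 2 ^ j * 2 ∣ 2 ^ j * (X a b).val := by
    rw [← pow_succ]; exact (pow_dvd_pow 2 (by omega : j + 1 ≤ k)).trans h2
  exact Nat.dvd_of_mul_dvd_mul_left (by positivity) h3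

theorem two_pow_zero : (2 : ZMod (2 ^ k)) ^ k = 0 := by
  have := ZMod.natCast_self (2 ^ k)
  push_cast at this
  exact this

theorem pow_two_pow_eq_one (hk : 2 ≤ k) {X : MR k} (h : red hk X = 1) : X ^ 2 ^ k = 1 := by
  have hs : ∀ i : ℕ, ∃ Y : MR k, X ^ 2 ^ i = 1 + ((2 : ZMod (2 ^ k)) ^ (i + 1)) • Y := by
    intro i
    induction i with
    | zero =>
      obtain ⟨Y, hY⟩ := exists_two_smul hk (X := X - 1) (by rw [map_sub, h, map_one, sub_self])
      exact ⟨Y, by rw [pow_zero, pow_one, pow_one, ← hY]; abel⟩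
    | succ i ih =>
      obtain ⟨Y, hY⟩ := ih
      refine ⟨Y + ((2 : ZMod (2 ^ k)) ^ i) • (Y * Y), ?_⟩
      rw [pow_succ, pow_mul, hY, sq, mul_add, mul_one, add_mul, one_mul, smul_mul_smul_comm, smul_add, smul_smul,
        ← pow_add, ← pow_add]
      have e : ((2 : ZMod (2 ^ k)) ^ (i + 1 + 1)) • Y = ((2 : ZMod (2 ^ k)) ^ (i + 1)) • Y + ((2 : ZMod (2 ^ k)) ^ (i + 1)) • Y := by
        rw [← add_smul, pow_succ (2 : ZMod (2 ^ k)) (i + 1)]; congr 1; ring
      rw [e, show i + 1 + (i + 1) = i + 1 + 1 + i by ring]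
      abel
  obtain ⟨Y, hY⟩ := hs k
  rw [hY, pow_succ, two_pow_zero, zero_mul, zero_smul, add_zero]

/-- An involution of the wanted kind lies in the last congruence layer. -/
theorem layer (hk : 2 ≤ k) {X r s : MR k} (hrs : r * s = 1) (hsr : s * r = 1) (hr3 : r * r * r = 1)
    (hr1 : red hk r ≠ 1) (hX : red hk X = 1) (hX2 : X * X = 1) (hprod : X * (r * X * s) * (r * r * X * (s * s)) = 1)
    (hne : X ≠ 1) :
    ∃ M : MR k, X = 1 + ((2 : ZMod (2 ^ k)) ^ (k - 1)) • M ∧ red hk M ≠ 0 ∧ tr3 (red hk r) (red hk M) = 0 := by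
  have hR3 : red hk r * red hk r * red hk r = 1 := by rw [← map_mul, ← map_mul, hr3, map_one]
  have hs : red hk s = red hk r * red hk r := by
    have : s = r * r := by
      calc s = (r * r * r) * s := by rw [hr3, one_mul]
        _ = r * r := by rw [mul_assoc, hrs, mul_one]
    rw [this, map_mul]
  have hR4 : red hk r * red hk r * (red hk r * red hk r) = red hk r := by
    rw [show red hk r * red hk r * (red hk r * red hk r) = red hk r * red hk r * red hk r * red hk r by
      simp only [mul_assoc], hR3, one_mul]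
  have conj1 : ∀ (c : ZMod (2 ^ k)) (M u v : MR k), u * v = 1 → u * (1 + c • M) * v = 1 + c • (u * M * v) := by
    intro c M u v huv
    rw [mul_add, mul_one, add_mul, huv, Algebra.mul_smul_comm, Algebra.smul_mul_assoc]
  have hrrss : r * r * (s * s) = 1 := by
    rw [show r * r * (s * s) = r * (r * s) * s by simp only [mul_assoc], hrs, mul_one, hrs]
  -- the linear consequence of the product relation
  have hlin : ∀ j : ℕ, 1 ≤ j → j < k → ∀ M : MR k, X = 1 + ((2 : ZMod (2 ^ k)) ^ j) • M →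
      tr3 (red hk r) (red hk M) = 0 := by
    intro j hj hjk M hM
    have h := hprod
    rw [hM, conj1 _ _ _ _ hrs, conj1 _ _ _ _ hrrss] at h
    set N := r * M * s with hN
    set P := r * r * M * (s * s) with hP
    set c := (2 : ZMod (2 ^ k)) ^ j with hc
    have e : (1 + c • M) * (1 + c • N) * (1 + c • P) =
        1 + c • (M + N + P + c • (M * N + M * P + N * P + c • (M * N * P))) := by
      simp only [mul_add, add_mul, one_mul, mul_one, smul_mul_smul_comm, smul_add, smul_smul, mul_assoc]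
      abel
    rw [e, add_eq_left] at h
    have h2 := red_eq_zero hk hjk h
    have hc0 : ∀ Z : MR k, red hk (c • Z) = 0 := fun Z => by
      have : c • Z = (c • (1 : MR k)) * Z := by rw [Algebra.smul_mul_assoc, one_mul]
      rw [this, map_mul]
      have : red hk (c • (1 : MR k)) = 0 := by
        ext a b
        simp only [red, RingHom.mapMatrix_apply, Matrix.map_apply, Matrix.smul_apply, smul_eq_mul, map_mul,
          Matrix.zero_apply, hc, map_pow, map_ofNat]
        rw [show (2 : ZMod 2) = 0 from rfl, zero_pow (by omega), zero_mul]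
      rw [this, zero_mul]
    rw [map_add, hc0, add_zero, map_add, map_add, hN, hP] at h2
    simpa only [map_mul, hs, hR4, tr3] using h2
  -- climb the layers
  have climb : ∀ j : ℕ, 1 ≤ j → j ≤ k - 1 → ∃ M : MR k, X = 1 + ((2 : ZMod (2 ^ k)) ^ j) • M := by
    intro j hj
    induction j, hj using Nat.le_induction with
    | base =>
      intro _
      obtain ⟨Y, hY⟩ := exists_two_smul hk (X := X - 1) (by rw [map_sub, hX, map_one, sub_self])
      exact ⟨Y, by rw [pow_one, ← hY]; abel⟩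
    | succ j hj ih =>
      intro hjk
      obtain ⟨M, hM⟩ := ih (by omega)
      have h := hX2
      rw [hM] at h
      have e : (1 + ((2 : ZMod (2 ^ k)) ^ j) • M) * (1 + ((2 : ZMod (2 ^ k)) ^ j) • M) =
          1 + ((2 : ZMod (2 ^ k)) ^ (j + 1)) • (M + ((2 : ZMod (2 ^ k)) ^ (j - 1)) • (M * M)) := by
        rw [mul_add, mul_one, add_mul, one_mul, smul_mul_smul_comm, smul_add, smul_smul, ← pow_add, ← pow_add,
          show j + 1 + (j - 1) = j + j by omega]
        have : ((2 : ZMod (2 ^ k)) ^ (j + 1)) • M = ((2 : ZMod (2 ^ k)) ^ j) • M + ((2 : ZMod (2 ^ k)) ^ j) • M := by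
          rw [← add_smul, pow_succ]; congr 1; ring
        rw [this]; abel
      rw [e, add_eq_left] at h
      have h2 := red_eq_zero hk (by omega : j + 1 < k) h
      have hM0 : red hk M = 0 := by
        rcases Nat.lt_or_ge 1 j with hj1 | hj1
        · have h3 : red hk (((2 : ZMod (2 ^ k)) ^ (j - 1)) • (M * M)) = 0 := by
            ext a b
            simp only [red, RingHom.mapMatrix_apply, Matrix.map_apply, Matrix.smul_apply, smul_eq_mul, map_mul,
              Matrix.zero_apply, map_pow, map_ofNat]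
            rw [show (2 : ZMod 2) = 0 from rfl, zero_pow (by omega), zero_mul]
          rwa [map_add, h3, add_zero] at h2
        · have hj1' : j - 1 = 0 := by omega
          rw [hj1', pow_zero, one_smul, map_add, map_mul] at h2
          refine idem_zero _ _ hR3 hr1 ?_ (hlin j hj (by omega) M hM)
          have hneg : ∀ Z : M2, -Z = Z := fun Z => by ext a b; exact ZMod.neg_eq_self_mod_two _
          rw [← hneg (red hk M * red hk M)]
          exact (eq_neg_of_add_eq_zero_left h2).symm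
      obtain ⟨M', hM'⟩ := exists_two_smul hk hM0
      exact ⟨M', by rw [hM, hM', smul_smul, ← pow_succ]⟩
  obtain ⟨M, hM⟩ := climb (k - 1) (by omega) le_rfl
  refine ⟨M, hM, fun h0 => hne ?_, hlin (k - 1) (by omega) (by omega) M hM⟩
  obtain ⟨M', hM'⟩ := exists_two_smul hk h0
  rw [hM, hM', smul_smul, ← pow_succ, show k - 1 + 1 = k by omega, two_pow_zero, zero_smul, add_zero]

theorem top_layer_congr (hk : 2 ≤ k) {M N : MR k} (h : red hk M = red hk N) :
    ((2 : ZMod (2 ^ k)) ^ (k - 1)) • M = ((2 : ZMod (2 ^ k)) ^ (k - 1)) • N := by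
  obtain ⟨Y, hY⟩ := exists_two_smul hk (X := M - N) (by rw [map_sub, h, sub_self])
  rw [← sub_eq_zero, ← smul_sub, hY, smul_smul, ← pow_succ, show k - 1 + 1 = k by omega, two_pow_zero, zero_smul]

/-- Generators of a subgroup isomorphic to `A₄`. -/
theorem a4_gens {G : Type*} [Group G] (H : Subgroup G) (h : Nonempty (↥H ≃* ↥(alternatingGroup (Fin 4)))) :
    Nat.card ↥H = 12 ∧ ∃ x r : G, H = Subgroup.closure {x, r} ∧ x ≠ 1 ∧ x * x = 1 ∧ r ≠ 1 ∧ r * r * r = 1 ∧
      x * (r * x * r⁻¹) * (r * r * x * (r⁻¹ * r⁻¹)) = 1 := by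
  obtain ⟨e⟩ := h
  let a : ↥(alternatingGroup (Fin 4)) :=
    ⟨Equiv.swap 0 1 * Equiv.swap 2 3, Equiv.Perm.mem_alternatingGroup.mpr (by decide +kernel)⟩
  let b : ↥(alternatingGroup (Fin 4)) := ⟨Equiv.swap 0 1 * Equiv.swap 1 2, Equiv.Perm.mem_alternatingGroup.mpr (by decide +kernel)⟩
  have hgen : ∀ g : ↥(alternatingGroup (Fin 4)), ∃ i : Fin 2, ∃ j : Fin 2, ∃ l : Fin 3,
      g = a ^ (i : ℕ) * (b * a * b⁻¹) ^ (j : ℕ) * b ^ (l : ℕ) := by decide +kernel
  have hfacts : a ≠ 1 ∧ a * a = 1 ∧ b ≠ 1 ∧ b * b * b = 1 ∧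
      a * (b * a * b⁻¹) * (b * b * a * (b⁻¹ * b⁻¹)) = 1 := by decide +kernel
  obtain ⟨f1, f2, f3, f4, f5⟩ := hfacts
  refine ⟨?_, (e.symm a : G), (e.symm b : G), le_antisymm ?_ ?_, ?_, ?_, ?_, ?_, ?_⟩
  · rw [Nat.card_congr e.toEquiv, Nat.card_eq_fintype_card]; decide +kernel
  · intro g hg
    obtain ⟨i, j, l, hijl⟩ := hgen (e ⟨g, hg⟩)
    have hg' : g = ((e.symm (a ^ (i : ℕ) * (b * a * b⁻¹) ^ (j : ℕ) * b ^ (l : ℕ)) : ↥H) : G) := by
      rw [← hijl, MulEquiv.symm_apply_apply]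
    rw [hg']
    simp only [map_mul, map_pow, map_inv, Subgroup.coe_mul, Subgroup.coe_inv, SubmonoidClass.coe_pow]
    have ha : ((e.symm a : ↥H) : G) ∈ Subgroup.closure ({(e.symm a : G), (e.symm b : G)} : Set G) :=
      Subgroup.subset_closure (Or.inl rfl)
    have hb : ((e.symm b : ↥H) : G) ∈ Subgroup.closure ({(e.symm a : G), (e.symm b : G)} : Set G) :=
      Subgroup.subset_closure (Or.inr rfl)
    exact mul_mem (mul_mem (pow_mem ha _) (pow_mem (mul_mem (mul_mem hb ha) (inv_mem hb)) _)) (pow_mem hb _)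
  · rw [Subgroup.closure_le]
    rintro g (rfl | rfl) <;> exact SetLike.coe_mem _
  · exact fun h => f1 (e.symm.injective (Subtype.ext (h.trans (by rw [map_one]; rfl))))
  · have := congrArg (fun u => ((e.symm u : ↥H) : G)) f2
    simpa using this
  · exact fun h => f3 (e.symm.injective (Subtype.ext (h.trans (by rw [map_one]; rfl))))
  · have := congrArg (fun u => ((e.symm u : ↥H) : G)) f4
    simpa using this
  · have := congrArg (fun u => ((e.symm u : ↥H) : G)) f5
    simpa using this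


/-- For k ≥ 2, any two subgroups of GL₂(ℤ/2ᵏℤ) (the automorphism group of the homocyclic group ℤ/2ᵏ × ℤ/2ᵏ) that are isomorphic to the alternating group of degree 4 are conjugate. -/
theorem result (k : ℕ) (hk : 2 ≤ k) (H₁ H₂ : Subgroup (GL (Fin 2) (ZMod (2 ^ k)))) (h₁ : Nonempty (↥H₁ ≃* ↥(alternatingGroup (Fin 4)))) (h₂ : Nonempty (↥H₂ ≃* ↥(alternatingGroup (Fin 4)))) : ∃ g : GL (Fin 2) (ZMod (2 ^ k)), H₂ = H₁.map (MulAut.conj g).toMonoidHom := by
  classical
  haveI : NeZero (2 ^ k) := ⟨by positivity⟩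
  haveI : Fact (Nat.Prime 3) := ⟨Nat.prime_three⟩
  obtain ⟨c₁, x, r, hH₁, hx1, hx2, hr1, hr3, hxp⟩ := a4_gens H₁ h₁
  obtain ⟨c₂, x', r', hH₂, hx1', hx2', hr1', hr3', hxp'⟩ := a4_gens H₂ h₂
  let π := Units.map ((red hk) : MR k →* M2)
  have hker : ∀ u : GL (Fin 2) (ZMod (2 ^ k)), π u = 1 → u ^ 2 ^ k = 1 := fun u hu =>
    Units.ext (by rw [Units.val_pow_eq_pow_val]; exact pow_two_pow_eq_one hk (congrArg Units.val hu))
  have hkerp : IsPGroup 2 ↥π.ker := fun u => ⟨k, Subtype.ext (hker u u.2)⟩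
  have hord : ∀ u : GL (Fin 2) (ZMod (2 ^ k)), u ≠ 1 → u * u * u = 1 → π u ≠ 1 := fun u h1 h3 hu => h1 (by
    have a := orderOf_dvd_of_pow_eq_one (show u ^ 3 = 1 by rw [pow_succ, pow_two]; exact h3)
    have b := orderOf_dvd_of_pow_eq_one (hker u hu)
    exact orderOf_eq_one_iff.mp (Nat.dvd_one.mp
      ((Nat.Coprime.pow_right k (by norm_num : Nat.Coprime 3 2)) ▸ Nat.dvd_gcd a b)))
  have h9 : ¬ 3 ^ 2 ∣ Nat.card (GL (Fin 2) (ZMod (2 ^ k))) := by
    obtain ⟨n, hn⟩ := IsPGroup.iff_card.mp hkerp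
    rw [← π.ker.card_mul_index, Subgroup.index_ker, hn]
    intro h
    have h2 : 3 ^ 2 ∣ Nat.card ↥π.range :=
      ((Nat.Coprime.pow 2 n (by norm_num : Nat.Coprime 3 2)).dvd_mul_left).mp h
    have h3 := h2.trans (Subgroup.card_subgroup_dvd_card π.range)
    have h6 : Nat.card M2ˣ = 6 := by rw [Nat.card_eq_fintype_card]; decide +kernel
    rw [h6] at h3
    omega
  have hsyl : ∀ u : GL (Fin 2) (ZMod (2 ^ k)), u ≠ 1 → u * u * u = 1 →
      ∃ T : Sylow 3 (GL (Fin 2) (ZMod (2 ^ k))), (T : Subgroup _) = Subgroup.zpowers u := by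
    intro u h1 h3
    have ho : orderOf u = 3 := orderOf_eq_prime (by rw [pow_succ, pow_two]; exact h3) h1
    have hc : Nat.card ↥(Subgroup.zpowers u) = 3 ^ (Nat.card (GL (Fin 2) (ZMod (2 ^ k)))).factorization 3 := by
      rw [Nat.card_zpowers, ho]
      have hd : 3 ∣ Nat.card (GL (Fin 2) (ZMod (2 ^ k))) := ho ▸ orderOf_dvd_natCard u
      have : (Nat.card (GL (Fin 2) (ZMod (2 ^ k)))).factorization 3 = 1 := by
        have a := (Nat.prime_three.dvd_iff_one_le_factorization Nat.card_pos.ne').mp hd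
        have b : ¬ 2 ≤ (Nat.card (GL (Fin 2) (ZMod (2 ^ k)))).factorization 3 := fun hh =>
          h9 ((Nat.prime_three.pow_dvd_iff_le_factorization Nat.card_pos.ne').mpr hh)
        omega
      rw [this, pow_one]
    exact ⟨Sylow.ofCard _ hc, rfl⟩
  obtain ⟨T₁, hT₁⟩ := hsyl r hr1 hr3
  obtain ⟨T₂, hT₂⟩ := hsyl r' hr1' hr3'
  obtain ⟨g, hg⟩ := MulAction.exists_smul_eq (GL (Fin 2) (ZMod (2 ^ k))) T₁ T₂
  -- transport the first subgroup
  let c := (MulAut.conj g).toMonoidHom
  refine ⟨g, ?_⟩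
  have hmap : H₁.map c = Subgroup.closure {c x, c r} := by rw [hH₁, MonoidHom.map_closure, Set.image_pair]
  have hcinj : Function.Injective c := (MulAut.conj g).injective
  have hr'mem : r' ∈ Subgroup.zpowers (c r) := by
    have e : (Subgroup.zpowers r).map c = Subgroup.zpowers r' := by
      rw [← hT₁, ← hT₂, ← hg, Sylow.coe_subgroup_smul]; rfl
    rw [← MonoidHom.map_zpowers, e]
    exact Subgroup.mem_zpowers r'
  set u := c r with hu
  have hu1 : u ≠ 1 := fun h => hr1 (hcinj (by rw [← hu, h, map_one]))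
  have hu3 : u * u * u = 1 := by rw [hu, ← map_mul, ← map_mul, hr3, map_one]
  have hy1 : c x ≠ 1 := fun h => hx1 (hcinj (by rw [h, map_one]))
  have hy2 : c x * c x = 1 := by rw [← map_mul, hx2, map_one]
  have hyp : c x * (u * c x * u⁻¹) * (u * u * c x * (u⁻¹ * u⁻¹)) = 1 := by
    simp only [hu, ← map_mul, ← map_inv, hxp, map_one]
  -- involutions lie in the congruence kernel
  have hinv : ∀ y v : GL (Fin 2) (ZMod (2 ^ k)), v ≠ 1 → v * v * v = 1 → y * y = 1 →
      y * (v * y * v⁻¹) * (v * v * y * (v⁻¹ * v⁻¹)) = 1 → π y = 1 := by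
    intro y v hv hv3 hy hyv
    have key : ∀ Y V : M2ˣ, V ≠ 1 → V * V * V = 1 → Y * Y = 1 →
        Y * (V * Y * V⁻¹) * (V * V * Y * (V⁻¹ * V⁻¹)) = 1 → Y = 1 := by decide +kernel
    refine key (π y) (π v) (hord v hv hv3) ?_ ?_ ?_
    · simp only [← map_mul, hv3, map_one]
    · simp only [← map_mul, hy, map_one]
    · simp only [← map_mul, ← map_inv, hyv, map_one]
  -- normalise the generator of order three
  have hu2 : u⁻¹ = u * u := (eq_inv_of_mul_eq_one_left hu3).symm
  have hr'u : r' = u ∨ r' = u⁻¹ := by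
    obtain ⟨n, (hn : u ^ n = r')⟩ := hr'mem
    have ho : orderOf u = 3 := orderOf_eq_prime (by rw [pow_succ, pow_two]; exact hu3) hu1
    rw [← zpow_mod_orderOf, ho] at hn
    have h01 : n % ((3 : ℕ) : ℤ) = 0 ∨ n % ((3 : ℕ) : ℤ) = 1 ∨ n % ((3 : ℕ) : ℤ) = 2 := by omega
    rcases h01 with e | e | e <;> rw [e] at hn
    · exact absurd (hn.symm.trans (zpow_zero u)) hr1'
    · exact Or.inl (hn.symm.trans (zpow_one u))
    · exact Or.inr (hn.symm.trans (by rw [hu2, zpow_two]))
  have hyp' : x' * (u * x' * u⁻¹) * (u * u * x' * (u⁻¹ * u⁻¹)) = 1 := by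
    rcases hr'u with e | e
    · rw [← e]; exact hxp'
    · rw [e, inv_inv] at hxp'
      rw [hu2] at hxp' ⊢
      have h4 : u * u * (u * u) = u := by rw [← mul_assoc, hu3, one_mul]
      rw [h4] at hxp' ⊢
      have hsq : ∀ v : GL (Fin 2) (ZMod (2 ^ k)), x' * v * x' * v = 1 → x' * v = v⁻¹ * x'⁻¹ := fun v hv =>
        (eq_inv_of_mul_eq_one_left (by rw [← mul_assoc]; exact hv)).trans (mul_inv_rev _ _)
      -- `x' * A * B = 1` and all factors involutions give `x' * B * A = 1`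
      have hA : (u * u * x' * u) * (u * u * x' * u) = 1 := by
        rw [show (u * u * x' * u) * (u * u * x' * u) = u * u * x' * (u * u * u) * x' * u by simp only [mul_assoc],
          hu3, mul_one, mul_assoc (u * u) x' x', hx2', mul_one, hu3]
      have hB : (u * x' * (u * u)) * (u * x' * (u * u)) = 1 := by
        rw [show (u * x' * (u * u)) * (u * x' * (u * u)) = u * x' * (u * u * u) * x' * (u * u) by
          simp only [mul_assoc], hu3, mul_one, mul_assoc u x' x', hx2', mul_one, ← mul_assoc, hu3]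
      generalize u * u * x' * u = A at hxp' hA ⊢
      generalize u * x' * (u * u) = B at hxp' hB ⊢
      have eA : A⁻¹ = A := inv_eq_of_mul_eq_one_right hA
      have eB : B⁻¹ = B := inv_eq_of_mul_eq_one_right hB
      have ex : x'⁻¹ = x' := inv_eq_of_mul_eq_one_right hx2'
      have h5 : x' * A = B := by rw [← eB]; exact eq_inv_of_mul_eq_one_left hxp'
      have h6 : A * x' = B := by rw [← eA, ← ex, ← mul_inv_rev, h5, eB]
      rw [← h6, ← mul_assoc x' A x', mul_assoc (x' * A) x' A, h5]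
      exact hB
  -- matrices
  have hM : ∀ y : GL (Fin 2) (ZMod (2 ^ k)), y ≠ 1 → y * y = 1 →
      y * (u * y * u⁻¹) * (u * u * y * (u⁻¹ * u⁻¹)) = 1 →
      ∃ M : MR k, (y : MR k) = 1 + ((2 : ZMod (2 ^ k)) ^ (k - 1)) • M ∧ red hk M ≠ 0 ∧
        tr3 (red hk (u : MR k)) (red hk M) = 0 := fun y h1 h2 h3 =>
    layer hk (r := (u : MR k)) (s := ((u⁻¹ : GL (Fin 2) (ZMod (2 ^ k))) : MR k)) u.mul_inv u.inv_mul
      (congrArg Units.val hu3) (fun h => hord u hu1 hu3 (Units.ext h)) (congrArg Units.val (hinv y u hu1 hu3 h2 h3))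
      (congrArg Units.val h2) (congrArg Units.val h3) fun h => h1 (Units.ext h)
  obtain ⟨M, eM, hM0, hMt⟩ := hM (c x) hy1 hy2 hyp
  obtain ⟨M', eM', hM0', hMt'⟩ := hM x' hx1' hx2' hyp'
  have hR3 : red hk (u : MR k) * red hk (u : MR k) * red hk (u : MR k) = 1 := by
    simp only [← map_mul, ← Units.val_mul, hu3, Units.val_one, map_one]
  have hconj : ∀ v w : GL (Fin 2) (ZMod (2 ^ k)), v * w = 1 →
      red hk M' = red hk (v : MR k) * red hk M * red hk (w : MR k) → x' = v * c x * w := by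
    intro v w hvw h
    apply Units.ext
    rw [Units.val_mul, Units.val_mul, eM, eM', mul_add, mul_one, add_mul, ← Units.val_mul, hvw, Units.val_one,
      Algebra.mul_smul_comm, Algebra.smul_mul_assoc]
    exact congrArg (1 + ·) (top_layer_congr hk (by rw [h, map_mul, map_mul]))
  have hcx : c x ∈ H₁.map c := hmap ▸ Subgroup.subset_closure (Or.inl rfl)
  have huH : u ∈ H₁.map c := hmap ▸ Subgroup.subset_closure (Or.inr rfl)
  have hx'H : x' ∈ H₁.map c := by
    rcases unique _ _ _ hR3 (fun h => hord u hu1 hu3 (Units.ext h)) hM0 hM0' hMt hMt' with e | e | e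
    · rw [hconj 1 1 (one_mul 1) (by simpa using e)]; simpa using hcx
    · rw [hconj u (u * u) (by rw [← mul_assoc, hu3]) (by simpa using e)]
      exact mul_mem (mul_mem huH hcx) (mul_mem huH huH)
    · rw [hconj (u * u) u hu3 (by simpa using e)]
      exact mul_mem (mul_mem (mul_mem huH huH) hcx) huH
  have hle : H₂ ≤ H₁.map c := by
    rw [hH₂, Subgroup.closure_le]
    rintro y (rfl | rfl)
    · exact hx'H
    · rcases hr'u with e | e <;> rw [e]
      · exact huH
      · exact inv_mem huH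
  exact Subgroup.eq_of_le_of_card_ge hle (by rw [Subgroup.card_map_of_injective hcinj, c₁, c₂])

end Cfsg.Agent.S2874
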