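import Cfsg.Statements.S2879
import Cfsg.Agent.S0106
import Cfsg.Agent.Lib.GenFitting
import Cfsg.Agent.Lib.Metacyclic.TwoAut
import Cfsg.Agent.Lib.TwoModels.QuasiDihedral

set_option autoImplicit false
open Cfsg

namespace Cfsg.Agent.S2879
open Subgroup Cfsg.Agent.S0106

theorem aut_pairs : Fintype.card {uv : Q8 × Q8 // (∀ s t, gen uv.1 uv.2 (s * t) = gen uv.1 uv.2 s * gen uv.1 uv.2 t) ∧
    (∀ s t, gen uv.1 uv.2 s = gen uv.1 uv.2 t → s = t)} = 24 := by decide +kernel

theorem card_aut_le : Nat.card (MulAut Q8) ≤ 24 := by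
  rw [← aut_pairs, ← Nat.card_eq_fintype_card]
  let f : MulAut Q8 → {uv : Q8 × Q8 // (∀ s t, gen uv.1 uv.2 (s * t) = gen uv.1 uv.2 s * gen uv.1 uv.2 t) ∧
      (∀ s t, gen uv.1 uv.2 s = gen uv.1 uv.2 t → s = t)} := fun σ =>
    ⟨(σ (QuaternionGroup.a 1), σ (QuaternionGroup.xa 0)), by
      have h := fun q => hom_eq_gen σ.toMonoidHom q
      constructor
      · intro s t
        simp only [MulEquiv.coe_toMonoidHom] at h
        rw [← h, ← h, ← h]; exact map_mul σ s t
      · intro s t
        simp only [MulEquiv.coe_toMonoidHom] at h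
        rw [← h, ← h]; exact fun e => σ.injective e⟩
  refine Nat.card_le_card_of_injective f fun σ τ h => MulEquiv.ext fun q => ?_
  have h1 := congrArg Subtype.val h
  simp only [f, Prod.mk.injEq] at h1
  have hs := hom_eq_gen σ.toMonoidHom q
  have ht := hom_eq_gen τ.toMonoidHom q
  simp only [MulEquiv.coe_toMonoidHom] at hs ht
  rw [hs, ht, h1.1, h1.2]

theorem cyclic_two {T : Type*} [Group T] [Finite T]
    (hT : (∃ n : ℕ, 4 ≤ n ∧ Nonempty (T ≃* DihedralGroup n)) ∨ Cfsg.IsQuasiDihedral T) :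
    (∃ C : Subgroup T, IsCyclic ↥C ∧ C.index = 2) ∧ 8 ≤ Nat.card T := by
  rcases hT with ⟨n, hn, ⟨e⟩⟩ | hT
  · have : NeZero n := ⟨by omega⟩
    have hc : Nat.card T = 2 * n := by rw [Nat.card_congr e.toEquiv, DihedralGroup.nat_card]
    refine ⟨⟨Subgroup.zpowers (e.symm (DihedralGroup.r 1)), inferInstance, ?_⟩, by omega⟩
    have h := (Subgroup.zpowers (e.symm (DihedralGroup.r 1))).card_mul_index
    rw [Nat.card_zpowers, MulEquiv.orderOf_eq, DihedralGroup.orderOf_r_one, hc, mul_comm 2 n] at h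
    exact Nat.eq_of_mul_eq_mul_left (by omega) h
  · obtain ⟨D⟩ := CfsgLib.TwoModels.QD.exists_gen hT
    refine ⟨⟨Subgroup.zpowers D.x, inferInstance, D.index_zpowers⟩, ?_⟩
    rw [D.hc]; have := D.h_two; omega

/-- Let G be a finite solvable group with O(G) = 1 whose Sylow 2-subgroup T is dihedral of order at least 8 or semidihedral, with G ≠ T and Z(T) normal in G. Then G has a normal subgroup isomorphic to SL₂(3). -/
theorem result {G : Type*} [Group G] [Finite G] (hsol : IsSolvable G) (hO : Cfsg.oddCore G = ⊥) (T : Sylow 2 G) (hT : (∃ n : ℕ, 4 ≤ n ∧ Nonempty (↥(T : Subgroup G) ≃* DihedralGroup n)) ∨ Cfsg.IsQuasiDihedral ↥(T : Subgroup G)) (hne : (T : Subgroup G) ≠ ⊤) (hZ : ((T : Subgroup G) ⊓ Subgroup.centralizer ((T : Subgroup G) : Set G)).Normal) : ∃ U : Subgroup G, U.Normal ∧ Nonempty (↥U ≃* Matrix.SpecialLinearGroup (Fin 2) (ZMod 3)) := by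
  classical
  have : Fact (Nat.Prime 2) := ⟨Nat.prime_two⟩
  have hsol' : Group.IsSolvable G := hsol
  set Q := Cfsg.pCore 2 G with hQdef
  have hQn : Q.Normal := Cfsg.pCore_normal 2 G
  have hQp : IsPGroup 2 ↥Q := CfsgLib.Core.isPGroup_pCore 2
  have hQT : Q ≤ (T : Subgroup G) := CfsgLib.Core.pCore_le_sylow T
  have hF : Cfsg.fittingSubgroup G = Q := by
    refine le_antisymm ?_ (CfsgLib.Core.pCore_le_fittingSubgroup Nat.prime_two)
    rw [CfsgLib.Core.fittingSubgroup_eq_iSup_pCore]
    refine iSup_le fun ⟨q, hq⟩ => ?_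
    by_cases h2 : q = 2
    · subst h2; exact le_rfl
    · have := Fact.mk hq
      refine le_trans ?_ bot_le (b := ⊥)
      rw [← hO]
      exact CfsgLib.Core.le_pPrimeCore (Cfsg.pCore_normal q G) (by
        obtain ⟨k, hk⟩ := IsPGroup.iff_card.mp (CfsgLib.Core.isPGroup_pCore (G := G) q)
        rw [hk]; exact Nat.Coprime.pow_left k ((Nat.coprime_primes hq Nat.prime_two).mpr h2))
  have := hQn
  have hCQ : Subgroup.centralizer (Q : Set G) ≤ Q := by
    have h := CfsgLib.GenFitting.solvable_le_fitting (R := Subgroup.centralizer (Q : Set G))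
      (Group.isSolvable_of_isSolvable_injective (Subgroup.subtype_injective _)) (by rw [hF])
    rwa [hF] at h
  obtain ⟨⟨C, hCc, hC2⟩, hT8⟩ := cyclic_two hT
  obtain ⟨q, hq, hq2, hqG⟩ : ∃ q : ℕ, q.Prime ∧ q ≠ 2 ∧ q ∣ Nat.card G := by
    have hne1 : (T : Subgroup G).index ≠ 1 := fun h => hne (Subgroup.index_eq_one.mp h)
    obtain ⟨q, hq, hqd⟩ := Nat.exists_prime_and_dvd hne1
    refine ⟨q, hq, fun h => ?_, hqd.trans (Subgroup.index_dvd_card _)⟩
    subst h; exact T.not_dvd_index hqd
  have := Fact.mk hq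
  obtain ⟨y, hy⟩ := exists_prime_orderOf_dvd_card' q hqG
  have hyodd : Odd (orderOf y) := by rw [hy]; exact hq.odd_of_ne_two hq2
  let act : G →* MulAut ↥Q := MulAut.conjNormal
  set α := act y with hαdef
  have hker : ∀ g : G, act g = 1 → g ∈ Q := fun g hg => hCQ (Subgroup.mem_centralizer_iff.mpr fun x hx => by
    have h1 : g * x * g⁻¹ = x := congrArg (fun z : MulAut ↥Q => ((z ⟨x, hx⟩ : ↥Q) : G)) hg
    exact (mul_inv_eq_iff_eq_mul.mp h1).symm)
  have hα1 : α ≠ 1 := by
    intro h
    obtain ⟨k, hk⟩ := hQp ⟨y, hker y h⟩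
    have h1 : orderOf y ∣ 2 ^ k := orderOf_dvd_of_pow_eq_one (by simpa using congrArg Subtype.val hk)
    rw [hy] at h1
    exact hq2 ((Nat.prime_dvd_prime_iff_eq hq Nat.prime_two).mp (hq.dvd_of_dvd_pow h1))
  have hαodd : Odd (orderOf α) := hyodd.of_dvd_nat (orderOf_map_dvd act y)
  -- Q is metacyclic
  let ι : ↥Q →* ↥(T : Subgroup G) := Subgroup.inclusion hQT
  have hι : Function.Injective ι := Subgroup.inclusion_injective hQT
  set N := C.comap ι with hNdef
  have : C.Normal := Subgroup.normal_of_index_eq_two hC2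
  have hNn : N.Normal := inferInstance
  have hNc : IsCyclic ↥N := by
    have := hCc
    exact isCyclic_of_injective ((ι.comp N.subtype).codRestrict C (fun x => x.2)) (fun a b h => by
      have := congrArg Subtype.val h
      exact Subtype.ext (hι this))
  have hNi : N.index ∣ 2 := by
    rw [hNdef, Subgroup.index_comap]
    exact (Subgroup.relIndex_dvd_index_of_normal C ι.range).trans (dvd_of_eq hC2)
  have hNq : IsCyclic (↥Q ⧸ N) := by
    rcases (Nat.dvd_prime Nat.prime_two).mp hNi with h | h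
    · have : Subsingleton (↥Q ⧸ N) := (Nat.card_eq_one_iff_unique.mp (by rw [← Subgroup.index_eq_card, h])).1
      infer_instance
    · exact isCyclic_of_prime_card (p := 2) (by rw [← Subgroup.index_eq_card, h])
  obtain ⟨m, hm⟩ := IsPGroup.iff_card.mp hQp
  have hZ2 : ((T : Subgroup G) ⊓ Subgroup.centralizer ((T : Subgroup G) : Set G)) ≤ Q :=
    CfsgLib.Core.le_pCore hZ (T.isPGroup'.to_le inf_le_left)
  rcases CfsgLib.Metacyclic.TwoAut.main m ↥Q hm ⟨N, hNn, hNc, hNq⟩ α hαodd hα1 with ⟨⟨e⟩⟩ | ⟨n, hn0, ⟨e⟩⟩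
  swap
  · exfalso
    have hcardQ : Nat.card ↥Q = 2 ^ n * 2 ^ n := by
      rw [Nat.card_congr e.toEquiv, Nat.card_prod]
      simp [Nat.card_eq_fintype_card]
    have hexp : ∀ x : ↥Q, x ^ 2 ^ n = 1 := fun x => e.injective (by
      rw [map_pow, map_one]
      exact Prod.ext (Multiplicative.toAdd.injective (by simp [toAdd_pow])) (Multiplicative.toAdd.injective (by simp [toAdd_pow])))
    have hNle : Nat.card ↥N ≤ 2 ^ n := by
      obtain ⟨g, hg⟩ := hNc.exists_generator
      rw [← orderOf_eq_card_of_forall_mem_zpowers hg]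
      exact orderOf_le_of_pow_eq_one (by positivity) (Subtype.ext (by simpa using hexp g.1))
    have h2n : 2 ^ n ≤ 2 := by
      have h := N.card_mul_index
      rw [hcardQ] at h
      have : 2 ^ n * 2 ^ n ≤ 2 ^ n * 2 := by
        rw [← h]; exact Nat.mul_le_mul hNle (Nat.le_of_dvd (by norm_num) hNi)
      exact Nat.le_of_mul_le_mul_left this (by positivity)
    obtain rfl : n = 1 := by
      rcases n with _ | _ | n
      · omega
      · rfl
      · exfalso; rw [pow_succ, pow_succ] at h2n; have := Nat.one_le_two_pow (n := n); omega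
    have hQ4 : Nat.card ↥Q = 4 := by rw [hcardQ]; norm_num
    set Zs := (((T : Subgroup G) ⊓ Subgroup.centralizer ((T : Subgroup G) : Set G))).subgroupOf Q with hZs
    have hTnt : Nontrivial ↥(T : Subgroup G) := Finite.one_lt_card_iff_nontrivial.mp (by omega)
    have hZne : Zs ≠ ⊥ := by
      intro h
      have := T.isPGroup'.center_nontrivial
      obtain ⟨z, hz⟩ := exists_ne (1 : Subgroup.center ↥(T : Subgroup G))
      have hzm : ((z.1 : ↥(T : Subgroup G)) : G) ∈ (T : Subgroup G) ⊓ Subgroup.centralizer ((T : Subgroup G) : Set G) :=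
        ⟨z.1.2, fun t ht => congrArg Subtype.val (Subgroup.mem_center_iff.mp z.2 ⟨t, ht⟩)⟩
      have h2 : (⟨((z.1 : ↥(T : Subgroup G)) : G), hZ2 hzm⟩ : ↥Q) ∈ Zs := hzm
      rw [h, Subgroup.mem_bot] at h2
      have h4 := congrArg Subtype.val h2
      exact hz (Subtype.ext (Subtype.ext h4))
    have hZlt : Nat.card ↥Zs < 4 := by
      by_contra hc
      have htop : Zs = ⊤ := Subgroup.eq_top_of_le_card _ (by omega)
      have hTC : (T : Subgroup G) ≤ Subgroup.centralizer (Q : Set G) := by
        refine Subgroup.le_centralizer_iff.mp fun x hx => ?_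
        have : (⟨x, hx⟩ : ↥Q) ∈ Zs := htop ▸ Subgroup.mem_top _
        exact this.2
      have := Subgroup.card_le_of_le (hTC.trans hCQ)
      omega
    have hZc2 : Nat.card ↥Zs = 2 := by
      have hd : Nat.card ↥Zs ∣ 4 := hQ4 ▸ Subgroup.card_subgroup_dvd_card Zs
      have h1 : Nat.card ↥Zs ≠ 1 := fun h => hZne (Subgroup.eq_bot_of_card_eq _ h)
      have h3 : Nat.card ↥Zs ≠ 3 := fun h => by rw [h] at hd; norm_num at hd
      have h0 : 0 < Nat.card ↥Zs := Nat.card_pos
      omega
    have hZsn : Zs.Normal := hZ.comap Q.subtype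
    obtain ⟨a, ha, hau⟩ := (Nat.card_eq_two_iff' (1 : ↥Zs)).mp hZc2
    have hfix : ∀ z ∈ Zs, α z = z := by
      intro z hz
      have hαz : α z ∈ Zs := by
        show ((α z : ↥Q) : G) ∈ ((T : Subgroup G) ⊓ Subgroup.centralizer ((T : Subgroup G) : Set G))
        exact hZ.conj_mem _ hz y
      by_cases hz1 : z = 1
      · subst hz1; exact map_one α
      · have e1 := hau ⟨z, hz⟩ (fun h => hz1 (congrArg Subtype.val h))
        have e2 := hau ⟨α z, hαz⟩ (fun h => hz1 (α.injective ((congrArg Subtype.val h).trans (map_one α).symm)))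
        exact congrArg Subtype.val (e2.trans e1.symm)
    refine hα1 (CfsgLib.Metacyclic.TwoAut.eq_one_of_stable hαodd Zs hfix (fun z _ => ?_) fun x => ?_)
    · simpa using hexp z
    · have hi : Zs.index = 2 := by
        have h := Zs.card_mul_index
        rw [hZc2, hQ4] at h; omega
      by_cases hx : x ∈ Zs
      · exact Zs.mul_mem (inv_mem hx) ((hfix x hx).symm ▸ hx)
      · rw [Subgroup.mul_mem_iff_of_index_two hi]
        have hαx : α x ∉ Zs := fun h => hx (by
          have := hfix _ h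
          rwa [α.injective this] at h)
        simp [hx, hαx]
  -- the quaternion case
  set τ := MulAut.congr e α with hτ
  have hτodd : Odd (orderOf τ) := by rw [hτ, MulEquiv.orderOf_eq]; exact hαodd
  have hτ3 := aut_three τ hτodd
  have hα3 : α ^ 3 = 1 := (MulAut.congr e).injective (by rw [map_pow, map_one, ← hτ, hτ3])
  have hy3 : y ^ 3 = 1 := by
    have h1 : orderOf α ∣ q := hy ▸ orderOf_map_dvd act y
    have h2 : orderOf α = q := ((Nat.dvd_prime hq).mp h1).resolve_left fun h => hα1 (orderOf_eq_one_iff.mp h)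
    have h3 : orderOf α = 3 := orderOf_eq_prime hα3 hα1
    rw [← h3, h2, ← hy, pow_orderOf_eq_one]
  obtain ⟨x, z, hxz1, hxz2, hxz3⟩ : ∃ x z : Q8, (∀ s t, gen x z (s * t) = gen x z s * gen x z t) ∧
      (∀ s t, gen x z s = gen x z t → s = t) ∧ ∀ s, τ (gen x z s) = gen x z (σ0 s) := by
    have hg : ⇑τ = gen (τ (QuaternionGroup.a 1)) (τ (QuaternionGroup.xa 0)) := funext (hom_eq_gen τ.toMonoidHom)
    have := q8_normal_form (τ (QuaternionGroup.a 1)) (τ (QuaternionGroup.xa 0))
      (fun s t => by rw [← hg]; exact map_mul τ s t)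
      (fun s => by
        rw [← hg]
        show τ (τ (τ s)) = s
        rw [← MulAut.mul_apply, ← MulAut.mul_apply, ← pow_two, ← pow_succ, hτ3, MulAut.one_apply])
      (by
        by_contra hcon
        push Not at hcon
        refine hα1 ((MulAut.congr e).injective ?_)
        rw [map_one, ← hτ]
        ext s
        have := hcon s
        rwa [← hg] at this)
    rwa [← hg] at this
  let φ : Q8 →* ↥Q := e.symm.toMonoidHom.comp (MonoidHom.mk' (gen x z) hxz1)
  have hφinj : Function.Injective φ := fun a b hab => hxz2 a b (e.symm.injective hab)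
  have hconj : ∀ s, y * (φ s : G) * y⁻¹ = (φ (σ0 s) : G) := by
    intro s
    have h := hxz3 s
    have h2 : α (φ s) = φ (σ0 s) := by
      apply e.injective
      show e (α (e.symm (gen x z s))) = e (e.symm (gen x z (σ0 s)))
      rw [e.apply_symm_apply, ← h]
      rfl
    exact congrArg Subtype.val h2
  let ν : Q8 × Fin 3 → G := fun w => (φ w.1 : G) * y ^ (w.2 : ℕ)
  have hswap : ∀ (k : ℕ) s, y ^ k * (φ s : G) = (φ (σ0^[k] s) : G) * y ^ k := by
    intro k
    induction k with
    | zero => intro s; simp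
    | succ k ih =>
      intro s
      have h1 : y * (φ (σ0^[k] s) : G) = (φ (σ0^[k + 1] s) : G) * y := by
        rw [Function.iterate_succ_apply', ← hconj, inv_mul_cancel_right]
      rw [pow_succ', mul_assoc, ih, ← mul_assoc, h1, mul_assoc]
  have hνmul : ∀ v w, ν (v.1 * σ0^[(v.2 : ℕ)] w.1, v.2 + w.2) = ν v * ν w := by
    intro v w
    simp only [ν]
    rw [map_mul, Subgroup.coe_mul, Fin.val_add, ← pow_eq_pow_mod _ hy3, pow_add]
    rw [mul_assoc, ← mul_assoc ((φ (σ0^[(v.2 : ℕ)] w.1) : G)), ← hswap, mul_assoc, ← mul_assoc]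
  have hcard : Fintype.card L3 = Fintype.card (Q8 × Fin 3) := by decide +kernel
  have hβ : Function.Bijective β :=
    (Fintype.bijective_iff_injective_and_card β).mpr ⟨fun v w => β_injective v w, hcard.symm⟩
  let B := Equiv.ofBijective β hβ
  let F : L3 →* G := MonoidHom.mk' (fun l => ν (B.symm l)) (fun l l' => by
    obtain ⟨v, rfl⟩ := B.surjective l
    obtain ⟨w, rfl⟩ := B.surjective l'
    have e1 : B v * B w = B (v.1 * σ0^[(v.2 : ℕ)] w.1, v.2 + w.2) := β_mul v w
    rw [e1, B.symm_apply_apply, B.symm_apply_apply, B.symm_apply_apply, hνmul])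
  have hy_ord : orderOf y = 3 := orderOf_eq_prime hy3 (fun h => hα1 (by rw [hαdef, h, map_one]))
  have hinj : Function.Injective F := by
    rw [injective_iff_map_eq_one]
    intro l hl
    obtain ⟨⟨s, k⟩, rfl⟩ := B.surjective l
    replace hl : ν (s, k) = 1 := by rw [← B.symm_apply_apply (s, k)]; exact hl
    have hk : (y ^ (k : ℕ)) ∈ Q := by
      rw [← inv_eq_of_mul_eq_one_right hl]; exact Q.inv_mem (φ s).2
    have hk0 : (k : ℕ) = 0 := by
      by_contra h0
      have hcop : (orderOf y).Coprime (k : ℕ) := by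
        rw [hy_ord]
        exact (Nat.prime_three.coprime_iff_not_dvd).mpr (fun h => by have := Nat.le_of_dvd (by omega) h; omega)
      obtain ⟨j, hj⟩ := exists_pow_eq_self_of_coprime hcop.symm
      have hyQ : y ∈ Q := hj ▸ pow_mem hk j
      obtain ⟨i, hi⟩ := hQp ⟨y, hyQ⟩
      have h1 : orderOf y ∣ 2 ^ i := orderOf_dvd_of_pow_eq_one (by simpa using congrArg Subtype.val hi)
      rw [hy_ord] at h1
      exact absurd (Nat.prime_three.dvd_of_dvd_pow h1) (by norm_num)
    have hs : s = 1 := hφinj (by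
      rw [map_one]; apply Subtype.ext
      simpa [ν, hk0] using hl)
    have : k = 0 := Fin.ext (by simpa using hk0)
    subst hs this
    show β (1, 0) = 1
    decide +kernel
  refine ⟨F.range, ?_, ⟨(MonoidHom.ofInjective hinj).symm⟩⟩
  have h24 : Nat.card ↥F.range = 24 := by
    rw [← Nat.card_congr (MonoidHom.ofInjective hinj).toEquiv, Nat.card_eq_fintype_card, hcard]
    decide +kernel
  have hQ8 : Nat.card ↥Q = 8 := by rw [Nat.card_congr e.toEquiv, Nat.card_eq_fintype_card, QuaternionGroup.card]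
  have hGle : Nat.card G ≤ 48 := by
    have h := act.ker.card_mul_index
    rw [Subgroup.index_ker] at h
    have h2 : Nat.card ↥act.ker ≤ 2 := by
      have hle : act.ker.subgroupOf Q ≤ Subgroup.center ↥Q := by
        intro g hg
        rw [Subgroup.mem_center_iff]
        intro a
        have h1 := congrArg (fun z : MulAut ↥Q => ((z a : ↥Q) : G)) (MonoidHom.mem_ker.mp (Subgroup.mem_subgroupOf.mp hg))
        exact Subtype.ext (mul_inv_eq_iff_eq_mul.mp h1).symm
      rw [← Nat.card_congr (Subgroup.subgroupOfEquivOfLe (H := act.ker) (K := Q) fun g hg => hker g hg).toEquiv]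
      refine (Subgroup.card_le_of_le hle).trans ?_
      rw [Nat.card_congr (Subgroup.centerCongr e).toEquiv, Nat.card_eq_fintype_card]
      decide +kernel
    have h3 : Nat.card ↥act.range ≤ 24 :=
      (Subgroup.card_le_card_group _).trans ((Nat.card_congr (MulAut.congr e).toEquiv).le.trans card_aut_le)
    rw [← h]
    exact (Nat.mul_le_mul h2 h3).trans (by norm_num)
  have hidx := F.range.card_mul_index
  rw [h24] at hidx
  have hpos : 0 < F.range.index := Nat.pos_of_ne_zero Subgroup.index_ne_zero_of_finite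
  rcases (show F.range.index = 1 ∨ F.range.index = 2 by omega) with h | h
  · rw [Subgroup.index_eq_one.mp h]; infer_instance
  · exact Subgroup.normal_of_index_eq_two h

end Cfsg.Agent.S2879
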