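import Cfsg.Statements.S2880
import Cfsg.Agent.Lib.LocalBasic
import Mathlib.Tactic

set_option autoImplicit false
open Cfsg

namespace Cfsg.Agent.S2880

open CfsgLib.LocalBasic
open scoped commutatorElement

theorem hom_card {X : Type*} [Group X] [Finite X] {Z : Type*} [Group Z] (f : X →* Z) (hZ : Nat.card Z = 2)
    (h : f ≠ 1) : 2 * Nat.card ↥f.ker = Nat.card X := by
  haveI : Finite Z := Nat.finite_of_card_ne_zero (by omega)
  have h1 := f.ker.card_mul_index
  rw [Subgroup.index_ker] at h1
  have h2 : Nat.card ↥f.range = 2 := by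
    rcases (Nat.dvd_prime Nat.prime_two).mp (hZ ▸ Subgroup.card_subgroup_dvd_card f.range) with h' | h'
    · exact absurd (MonoidHom.range_eq_bot_iff.mp (Subgroup.card_eq_one.mp h')) h
    · exact h'
  rw [h2] at h1
  omega

theorem count_pairs {X Y : Type*} [Fintype X] [Fintype Y] (R : X → Y → Prop) [DecidableRel R] :
    ∑ x, (Finset.univ.filter (fun y => R x y)).card = ∑ y, (Finset.univ.filter (fun x => R x y)).card := by
  simp only [Finset.card_filter]
  exact Finset.sum_comm


/-- Let E be an extraspecial 2-group of order 2^(2m+1) of plus type, that is, containing an elementary abelian subgroup of order 2^(m+1) (equivalently, a central product of m dihedral groups of order 8). Then E has exactly 2^(2m) − 2^m elements of order 4. -/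
theorem result {E : Type*} [Group E] [Finite E] (m : ℕ) (hm : 1 ≤ m) (hE : Cfsg.IsExtraspecial 2 E) (hcard : Nat.card E = 2 ^ (2 * m + 1)) (hplus : ∃ A : Subgroup E, Cfsg.IsElementaryAbelian 2 A ∧ Nat.card A = 2 ^ (m + 1)) : Nat.card {x : E // orderOf x = 4} = 2 ^ (2 * m) - 2 ^ m := by
  classical
  haveI : Fintype E := Fintype.ofFinite E
  obtain ⟨⟨-, hfr, hcomm⟩, hZ⟩ := hE
  obtain ⟨A, hA, hAcard⟩ := hplus
  have hAc : ∀ x ∈ A, ∀ y ∈ A, x * y = y * x := fun x hx y hy =>
    congrArg Subtype.val (hA.1.is_comm.comm ⟨x, hx⟩ ⟨y, hy⟩)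
  set Z := Subgroup.center E with hZdef
  have hcZ : ∀ a b : E, ⁅a, b⁆ ∈ Z := fun a b => by
    rw [← hcomm, commutator_def]
    exact Subgroup.commutator_mem_commutator (Subgroup.mem_top a) (Subgroup.mem_top b)
  have hhom : ∀ x y b : E, ⁅x * y, b⁆ = ⁅x, b⁆ * ⁅y, b⁆ := by
    intro x y b
    have h1 : x * ⁅y, b⁆ = ⁅y, b⁆ * x := Subgroup.mem_center_iff.mp (hcZ y b) x
    calc ⁅x * y, b⁆ = (x * ⁅y, b⁆) * (b * x⁻¹ * b⁻¹) := by simp only [commutatorElement_def]; group
      _ = ⁅y, b⁆ * ⁅x, b⁆ := by rw [h1]; simp only [commutatorElement_def]; group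
      _ = ⁅x, b⁆ * ⁅y, b⁆ := (Subgroup.mem_center_iff.mp (hcZ y b) _).symm
  let f : E → E →* ↥Z := fun b => MonoidHom.mk' (fun x => ⟨⁅x, b⁆, hcZ x b⟩) (fun x y => Subtype.ext (hhom x y b))
  have hf : ∀ a b : E, f b a = 1 ↔ a * b = b * a := fun a b => by
    simp [f, Subtype.ext_iff, commutatorElement_eq_one_iff_mul_comm]
  -- `A` contains the centre
  have hrow : ∀ a : E, a ∉ Z → 2 * (Finset.univ.filter (fun x : E => a * x = x * a)).card = Nat.card E := by
    intro a ha
    have hne : f a ≠ 1 := fun h => ha (Subgroup.mem_center_iff.mpr fun g => (hf g a).mp (DFunLike.congr_fun h g))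
    rw [← hom_card (f a) hZ hne, Nat.card_eq_fintype_card (α := ↥(f a).ker), Fintype.card_subtype]
    congr 2
    ext x
    simp only [Finset.mem_filter, Finset.mem_univ, true_and, MonoidHom.mem_ker]
    exact ⟨fun h => (hf x a).mpr h.symm, fun h => ((hf x a).mp h).symm⟩
  -- `|C(B)| |B| = 2 |E|` for abelian `B` above the centre
  have key : ∀ B : Subgroup E, Z ≤ B → (∀ u ∈ B, ∀ v ∈ B, u * v = v * u) →
      B ≤ Subgroup.centralizer (B : Set E) ∧ Nat.card ↥(Subgroup.centralizer (B : Set E)) * Nat.card ↥B = 2 * Nat.card E := by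
    intro B hBZ hBc
    refine ⟨fun u hu v hv => hBc v hv u hu, ?_⟩
    haveI : Fintype ↥B := Fintype.ofFinite _
    have hpair := count_pairs (fun (u : ↥B) (x : E) => (u : E) * x = x * u)
    have hr : ∀ u : ↥B, 2 * (Finset.univ.filter (fun x : E => (u : E) * x = x * u)).card =
        Nat.card E * (1 + if (u : E) ∈ Z then 1 else 0) := fun u => by
      split_ifs with h
      · rw [Finset.filter_true_of_mem (fun x _ => (Subgroup.mem_center_iff.mp h x).symm), Finset.card_univ,
          Nat.card_eq_fintype_card, mul_comm]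
      · rw [hrow u h]; omega
    set C := Subgroup.centralizer (B : Set E) with hC
    have hcol : ∀ x : E, 2 * (Finset.univ.filter (fun u : ↥B => (u : E) * x = x * u)).card =
        Nat.card ↥B * (1 + if x ∈ C then 1 else 0) := by
      intro x
      split_ifs with h
      · rw [Finset.filter_true_of_mem (fun (u : ↥B) _ => h (u : E) u.2), Finset.card_univ, ← Nat.card_eq_fintype_card]; ring
      · let g : ↥B →* ↥Z := (f x).comp B.subtype
        have hg : g ≠ 1 := fun hg => h fun u hu => (hf u x).mp (DFunLike.congr_fun hg ⟨u, hu⟩)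
        have hk : (Finset.univ.filter (fun u : ↥B => (u : E) * x = x * u)).card = Nat.card ↥g.ker := by
          rw [Nat.card_eq_fintype_card, Fintype.card_subtype]
          congr 1
          ext u
          simp only [Finset.mem_filter, Finset.mem_univ, true_and, MonoidHom.mem_ker]
          exact (hf (u : E) x).symm
        rw [hk, hom_card g hZ hg]; omega
    have h1 := congrArg (2 * ·) hpair
    change 2 * _ = 2 * _ at h1
    rw [Finset.mul_sum, Finset.mul_sum, Finset.sum_congr rfl (fun u _ => hr u), Finset.sum_congr rfl (fun x _ => hcol x),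
      ← Finset.mul_sum, ← Finset.mul_sum, Finset.sum_add_distrib, Finset.sum_add_distrib, Finset.sum_boole, Finset.sum_boole,
      Finset.sum_const, Finset.sum_const, Finset.card_univ, Finset.card_univ, smul_eq_mul, smul_eq_mul, mul_one, mul_one,
      ← Nat.card_eq_fintype_card, ← Nat.card_eq_fintype_card] at h1
    have hz2 : (Finset.univ.filter (fun u : ↥B => (u : E) ∈ Z)).card = 2 := by
      rw [← hZ, ← Nat.card_congr (Subgroup.subgroupOfEquivOfLe hBZ).toEquiv, Nat.card_eq_fintype_card, Fintype.card_subtype]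
      simp [Subgroup.mem_subgroupOf]
    have hc2 : (Finset.univ.filter (fun x : E => x ∈ C)).card = Nat.card ↥C := by
      rw [Nat.card_eq_fintype_card, Fintype.card_subtype]
    simp only [hz2, hc2, Nat.cast_id, mul_add] at h1
    rw [mul_comm (Nat.card ↥B) (Nat.card ↥C), mul_comm (Nat.card ↥B) (Nat.card E)] at h1
    omega
  have hc2 : ∀ z ∈ Z, z ^ 2 = 1 := fun z hz => by
    have h := pow_card_eq_one' (G := ↥Z) (x := ⟨z, hz⟩)
    rw [hZ] at h
    simpa using congrArg Subtype.val h
  have hAZ : Z ≤ A := by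
    by_contra hc
    have hn : A ≤ Subgroup.centralizer (Z : Set E) := fun a _ z hz => ((Subgroup.mem_center_iff.mp hz) a).symm
    have hab : ∀ u ∈ A ⊔ Z, ∀ v ∈ A ⊔ Z, u * v = v * u := by
      intro u hu v hv
      rw [← SetLike.mem_coe, Subgroup.mul_normal A Z, Set.mem_mul] at hu hv
      obtain ⟨a₁, ha₁, z₁, hz₁, rfl⟩ := hu
      obtain ⟨a₂, ha₂, z₂, hz₂, rfl⟩ := hv
      have e1 : ∀ g : E, Commute z₁ g := fun g => (Subgroup.mem_center_iff.mp hz₁ g).symm
      have e2 : ∀ g : E, Commute z₂ g := fun g => (Subgroup.mem_center_iff.mp hz₂ g).symm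
      exact (((show Commute a₁ a₂ from hAc _ ha₁ _ ha₂).mul_right (e2 a₁).symm).mul_left
        ((e1 a₂).mul_right (e1 z₂))).eq
    obtain ⟨hle, hcard2⟩ := key (A ⊔ Z) le_sup_right hab
    have hlt : 2 * Nat.card ↥A ≤ Nat.card ↥(A ⊔ Z : Subgroup E) := by
      obtain ⟨k, hk⟩ := Subgroup.card_dvd_of_le (le_sup_left : A ≤ A ⊔ Z)
      have hk1 : k ≠ 1 := fun h => hc (by
        rw [h, mul_one] at hk
        exact le_sup_right.trans (Subgroup.eq_of_le_of_card_ge le_sup_left hk.le).ge)
      have hk0 : k ≠ 0 := fun h => by rw [h, mul_zero] at hk; exact Nat.card_pos.ne' hk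
      rw [hk, mul_comm 2]
      exact Nat.mul_le_mul_left _ (by omega)
    have h2 := Nat.mul_le_mul ((hlt).trans (Subgroup.card_le_of_le hle)) hlt
    rw [hcard2, hAcard, hcard] at h2
    have e : 2 ^ (2 * m + 1) = 2 * (2 ^ m * 2 ^ m) := by rw [pow_succ, two_mul m, pow_add]; ring
    have e1 : 2 ^ (m + 1) = 2 * 2 ^ m := by rw [pow_add]; ring
    rw [e, e1] at h2
    nlinarith [Nat.two_pow_pos m]
  set C := Subgroup.centralizer (A : Set E) with hC
  have hCA : C = A := by
    obtain ⟨hle, hcard2⟩ := key A hAZ hAc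
    refine (Subgroup.eq_of_le_of_card_ge hle (le_of_eq ?_)).symm
    rw [hAcard, hcard, ← pow_succ'] at hcard2
    rw [hAcard]
    apply Nat.eq_of_mul_eq_mul_right (Nat.two_pow_pos (m + 1))
    rw [hcard2, ← pow_add]; congr 1; omega
  have hAnormal : A.Normal := ⟨fun a ha g => by
    have h : ⁅g, a⁆ ∈ A := hAZ (hcZ g a)
    have := A.mul_mem h ha
    simpa [commutatorElement_def, mul_assoc] using this⟩
  have hsq : ∀ x : E, ∀ a ∈ A, (x * a) ^ 2 = x ^ 2 * ⁅a, x⁆ := by
    intro x a ha
    have hc : ⁅a, x⁆ * x = x * ⁅a, x⁆ := (Subgroup.mem_center_iff.mp (hcZ a x) x).symm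
    have ha2 : a * a = 1 := by simpa [pow_two] using hA.2 a ha
    have hca : ⁅a, x⁆ * a = a * ⁅a, x⁆ := (Subgroup.mem_center_iff.mp (hcZ a x) a).symm
    have e : a * x = ⁅a, x⁆ * x * a := by rw [commutatorElement_def]; group
    calc (x * a) ^ 2 = x * (a * x) * a := by rw [pow_two]; group
      _ = x * ⁅a, x⁆ * x * (a * a) := by rw [e]; group
      _ = x ^ 2 * ⁅a, x⁆ := by rw [ha2, mul_one, mul_assoc, hc, ← mul_assoc, pow_two]
  have hord : ∀ x : E, orderOf x = 4 ↔ ¬ x ^ 2 = 1 := by
    have h4 : ∀ x : E, x ^ 4 = 1 := by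
      intro x
      have hx2 : x ^ 2 ∈ Z := by
        by_cases hxA : x ∈ A
        · rw [hA.2 x hxA]; exact Z.one_mem
        · refine Subgroup.mem_center_iff.mpr fun g => ?_
          have h1 : ⁅x ^ 2, g⁆ = 1 := by
            rw [pow_two, hhom, ← pow_two]
            have h := pow_card_eq_one' (G := ↥Z) (x := ⟨⁅x, g⁆, hcZ x g⟩)
            rw [hZ] at h
            simpa using congrArg Subtype.val h
          exact (commutatorElement_eq_one_iff_mul_comm.mp h1).symm
      have h := pow_card_eq_one' (G := ↥Z) (x := ⟨x ^ 2, hx2⟩)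
      rw [hZ] at h
      simpa [← pow_mul] using congrArg Subtype.val h
    intro x
    constructor
    · intro h h2
      have := orderOf_dvd_of_pow_eq_one h2
      rw [h] at this
      exact absurd (Nat.le_of_dvd (by norm_num) this) (by norm_num)
    · intro h
      exact orderOf_eq_prime_pow (p := 2) (n := 1) (by simpa using h) (h4 x)
  have hfib : ∀ x : E, x ∉ A → 2 * (Finset.univ.filter (fun a : ↥A => (x * (a : E)) ^ 2 = 1)).card = 2 ^ (m + 1) := by
    intro x hx
    let g : ↥A →* ↥Z := (f x).comp A.subtype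
    have hg : g ≠ 1 := fun hg => hx (hCA ▸ fun a ha => (hf a x).mp (DFunLike.congr_fun hg ⟨a, ha⟩))
    have hk : 2 * Nat.card ↥g.ker = 2 ^ (m + 1) := by rw [hom_card g hZ hg, hAcard]
    have hsplit : (Finset.univ.filter (fun a : ↥A => (x * (a : E)) ^ 2 = 1)) =
        if x ^ 2 = 1 then Finset.univ.filter (fun a : ↥A => g a = 1) else Finset.univ.filter (fun a : ↥A => ¬ g a = 1) := by
      have hx2 : x ^ 2 ∈ Z := by
        refine Subgroup.mem_center_iff.mpr fun u => ?_
        have h1 : ⁅x ^ 2, u⁆ = 1 := by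
          rw [pow_two, hhom, ← pow_two]
          have h := pow_card_eq_one' (G := ↥Z) (x := ⟨⁅x, u⁆, hcZ x u⟩)
          rw [hZ] at h
          simpa using congrArg Subtype.val h
        exact (commutatorElement_eq_one_iff_mul_comm.mp h1).symm
      have htwo : ∀ c : ↥Z, c ≠ 1 → ∀ d : ↥Z, d ≠ 1 → c = d := by
        intro c hc d hd
        obtain ⟨w, -, hw⟩ := (Nat.card_eq_two_iff' (1 : ↥Z)).mp hZ
        rw [hw c hc, hw d hd]
      split_ifs with h
      · ext a
        simp only [Finset.mem_filter, Finset.mem_univ, true_and, hsq x a a.2, h, one_mul]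
        exact ⟨fun e => Subtype.ext e, fun e => congrArg Subtype.val e⟩
      · ext a
        simp only [Finset.mem_filter, Finset.mem_univ, true_and, hsq x a a.2]
        constructor
        · intro e hga
          have : (⁅(a : E), x⁆ : E) = 1 := congrArg Subtype.val hga
          rw [this, mul_one] at e
          exact h e
        · intro hga
          have hxz : (⟨x ^ 2, hx2⟩ : ↥Z) ≠ 1 := fun e => h (congrArg Subtype.val e)
          have heq := congrArg Subtype.val (htwo _ hxz _ hga)
          have hc2 := pow_card_eq_one' (G := ↥Z) (x := ⟨x ^ 2, hx2⟩)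
          rw [hZ] at hc2
          have h22 : x ^ 2 * x ^ 2 = 1 := by simpa [pow_two] using congrArg Subtype.val hc2
          rw [show ⁅(a : E), x⁆ = x ^ 2 from heq.symm]
          exact h22
    have hkc : (Finset.univ.filter (fun a : ↥A => g a = 1)).card = Nat.card ↥g.ker := by
      rw [Nat.card_eq_fintype_card, Fintype.card_subtype]; simp [MonoidHom.mem_ker]
    rw [hsplit]
    split_ifs
    · rw [hkc, hk]
    · rw [Finset.filter_not, Finset.card_sdiff, Finset.inter_univ, hkc, Finset.card_univ, ← Nat.card_eq_fintype_card, hAcard]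
      omega
  -- double count over `E × A`
  have htot : 2 * ∑ x : E, (Finset.univ.filter (fun a : ↥A => (x * (a : E)) ^ 2 = 1)).card =
      2 ^ (m + 1) * (Nat.card E + 2 ^ (m + 1)) := by
    have h : ∀ x : E, 2 * (Finset.univ.filter (fun a : ↥A => (x * (a : E)) ^ 2 = 1)).card =
        2 ^ (m + 1) * (1 + if x ∈ A then 1 else 0) := by
      intro x
      split_ifs with hx
      · rw [Finset.filter_true_of_mem (fun a _ => hA.2 _ (A.mul_mem hx a.2)), Finset.card_univ,
          ← Nat.card_eq_fintype_card, hAcard]; ring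
      · rw [hfib x hx]; ring
    rw [Finset.mul_sum, Finset.sum_congr rfl (fun x _ => h x), ← Finset.mul_sum, Finset.sum_add_distrib,
      Finset.sum_const, Finset.card_univ, smul_eq_mul, mul_one, ← Nat.card_eq_fintype_card, Finset.sum_boole]
    congr 2
    rw [← hAcard, Nat.card_eq_fintype_card, Fintype.card_subtype]
    simp
  have hpair2 := count_pairs (fun (x : E) (a : ↥A) => (x * (a : E)) ^ 2 = 1)
  have hshift : ∀ a : ↥A, (Finset.univ.filter (fun x : E => (x * (a : E)) ^ 2 = 1)).card =
      (Finset.univ.filter (fun x : E => x ^ 2 = 1)).card := by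
    intro a
    refine Finset.card_equiv (Equiv.mulRight (a : E)) fun x => ?_
    simp only [Finset.mem_filter, Finset.mem_univ, true_and, Equiv.coe_mulRight]
  rw [hpair2, Finset.sum_congr rfl (fun a _ => hshift a), Finset.sum_const, Finset.card_univ, smul_eq_mul,
    ← Nat.card_eq_fintype_card, hAcard, ← mul_assoc, mul_comm 2, mul_assoc] at htot
  have hinv := Nat.eq_of_mul_eq_mul_left (by positivity) htot
  rw [Nat.card_eq_fintype_card, Fintype.card_subtype, Finset.filter_congr (fun x _ => hord x), Finset.filter_not,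
    Finset.card_sdiff, Finset.inter_univ, Finset.card_univ, ← Nat.card_eq_fintype_card]
  rw [hcard] at hinv ⊢
  have e : 2 ^ (2 * m + 1) = 2 * 2 ^ (2 * m) := by rw [pow_succ]; ring
  have e1 : 2 ^ (m + 1) = 2 * 2 ^ m := by rw [pow_succ]; ring
  rw [e, e1] at hinv
  rw [e]
  omega

end Cfsg.Agent.S2880
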