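import Cfsg.Statements.S2881
import Cfsg.Agent.S2880
import Mathlib.GroupTheory.GroupAction.Quotient

set_option autoImplicit false
open Cfsg

namespace Cfsg.Agent.S2881


/-- Let E be an extraspecial 2-group of order 2^(2m+1) of plus type (containing an elementary abelian subgroup of order 2^(m+1)), and let ω be an automorphism of E of order 5 whose fixed points are exactly the centre of E. Then m is divisible by 4. -/
theorem result {E : Type*} [Group E] [Finite E] (m : ℕ) (hm : 1 ≤ m) (hE : Cfsg.IsExtraspecial 2 E) (hcard : Nat.card E = 2 ^ (2 * m + 1)) (hplus : ∃ A : Subgroup E, Cfsg.IsElementaryAbelian 2 A ∧ Nat.card A = 2 ^ (m + 1)) (ω : E ≃* E) (hω : orderOf ω = 5) (hfix : ∀ x : E, ω x = x ↔ x ∈ Subgroup.center E) : 4 ∣ m := by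
  have hc := Cfsg.Agent.S2880.result m hm hE hcard hplus
  haveI : Fact (Nat.Prime 5) := ⟨by norm_num⟩
  let X := {x : E // orderOf x = 4}
  have hmem : ∀ (k : ↥(Subgroup.zpowers ω)) (x : X), orderOf ((k : E ≃* E) x.1) = 4 := fun k x => by
    rw [(k : E ≃* E).orderOf_eq]; exact x.2
  letI : MulAction ↥(Subgroup.zpowers (ω : MulAut E)) X :=
    { smul := fun k x => ⟨(k : MulAut E) x.1, hmem k x⟩
      one_smul := fun x => Subtype.ext rfl
      mul_smul := fun a b x => Subtype.ext rfl }
  have hp : IsPGroup 5 ↥(Subgroup.zpowers (ω : MulAut E)) :=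
    IsPGroup.of_card (n := 1) (by rw [Nat.card_zpowers]; exact hω.trans (pow_one 5).symm)
  have hfp : MulAction.fixedPoints ↥(Subgroup.zpowers (ω : MulAut E)) X = ∅ := by
    refine Set.eq_empty_iff_forall_notMem.mpr fun x hx => ?_
    have h1 : ω x.1 = x.1 := congrArg Subtype.val (hx ⟨ω, Subgroup.mem_zpowers _⟩)
    have hz := (hfix x.1).mp h1
    have h2 := pow_card_eq_one' (G := ↥(Subgroup.center E)) (x := ⟨x.1, hz⟩)
    rw [hE.2] at h2
    have h3 : x.1 ^ 2 = 1 := by simpa using congrArg Subtype.val h2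
    have h4 := orderOf_dvd_of_pow_eq_one h3
    rw [x.2] at h4
    exact absurd (Nat.le_of_dvd (by norm_num) h4) (by norm_num)
  have h5 := hp.card_modEq_card_fixedPoints X
  rw [hfp] at h5
  simp only [Nat.card_of_isEmpty] at h5
  have h6 : 5 ∣ Nat.card X := Nat.modEq_zero_iff_dvd.mp h5
  rw [hc, show 2 ^ (2 * m) - 2 ^ m = 2 ^ m * (2 ^ m - 1) by rw [Nat.mul_sub, mul_one, ← pow_add, two_mul]] at h6
  have h7 : 5 ∣ 2 ^ m - 1 := (Nat.Coprime.pow_right m (by norm_num : Nat.Coprime 5 2)).dvd_of_dvd_mul_left h6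
  have h8 : ∀ m : ℕ, 2 ^ m % 5 = [1, 2, 4, 3][m % 4]! := by
    intro m
    induction m with
    | zero => decide
    | succ m ih =>
      rw [pow_succ, Nat.mul_mod, ih]
      have h := Nat.mod_lt m (show 4 > 0 by norm_num)
      rw [show (m + 1) % 4 = (m % 4 + 1) % 4 by omega]
      interval_cases m % 4 <;> decide
  have h9 : 2 ^ m % 5 = 1 := by have := Nat.one_le_two_pow (n := m); omega
  rw [h8 m] at h9
  have h := Nat.mod_lt m (show 4 > 0 by norm_num)
  apply Nat.dvd_of_mod_eq_zero
  interval_cases hm4 : m % 4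
  · rfl
  all_goals simp at h9

end Cfsg.Agent.S2881
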