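import Cfsg.Statements.S2882
import Cfsg.Agent.Lib.Golay.TwoM24
import Cfsg.Agent.Lib.Golay.TwoSelfNorm

set_option autoImplicit false
set_option linter.all false
open Cfsg

namespace Cfsg.Agent.S2882

/-- In the Mathieu group of degree 24 (realised as the automorphism group of the extended binary Golay code) every Sylow 2-subgroup is self-normalizing. -/
theorem result (S : Sylow 2 ↥Cfsg.M24) : Subgroup.normalizer ((S : Subgroup ↥Cfsg.M24) : Set ↥Cfsg.M24) = (S : Subgroup ↥Cfsg.M24) := by
  exact CfsgLib.Golay.TwoFusion.normalizer_sylow_eq CfsgLib.Golay.TwoFusion.M24.cert Cfsg.M24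
    (fun g => ⟨fun h => ⟨h, fun o ho => by simp [CfsgLib.Golay.TwoFusion.M24.cert] at ho⟩, fun h => h.1⟩)
    CfsgLib.Golay.TwoFusion.M24.grp_ok CfsgLib.Golay.TwoFusion.M24.nrm_ok S

end Cfsg.Agent.S2882
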