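import Cfsg.Statements.S2911
import Cfsg.Agent.S2872
import Cfsg.Agent.Lib.PResidual
import Mathlib.GroupTheory.SpecificGroups.Dihedral

set_option autoImplicit false
open Cfsg

namespace Cfsg.Agent.S2911
abbrev M8 := Multiplicative (ZMod 2) × DihedralGroup 4

def dd : M8 := (1, DihedralGroup.r 2)
def zz : M8 := (Multiplicative.ofAdd 1, 1)

theorem central_cases : ∀ x : M8, (∀ y : M8, x * y = y * x) → x = 1 ∨ x = dd ∨ x = zz ∨ x = zz * dd := by
  decide

theorem zz_sq : zz * zz = 1 := by decide

theorem zz_comm : ∀ u : M8, u * zz = zz * u := by decide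

theorem sq_cases : ∀ y : M8, y * y = 1 ∨ y * y = dd := by decide

theorem invol (α : M8 ≃* M8) : ∀ x : M8, (∀ y : M8, x * y = y * x) → α (α x) = x := by
  have hd : α dd = dd := by
    have e : dd = ((1, DihedralGroup.r 1) : M8) * (1, DihedralGroup.r 1) := by decide
    have h := sq_cases (α (1, DihedralGroup.r 1))
    rw [← map_mul, ← e] at h
    exact h.resolve_left ((map_ne_one_iff α α.injective).mpr (by decide))
  have hz : α zz = zz ∨ α zz = zz * dd := by
    rcases central_cases (α zz) (fun y => by
      obtain ⟨u, rfl⟩ := α.surjective y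
      rw [← map_mul, ← map_mul]
      exact congrArg α ((by decide : ∀ u : M8, zz * u = u * zz) u)) with h | h | h | h
    · exact absurd h ((map_ne_one_iff α α.injective).mpr (by decide))
    · exact absurd (α.injective (h.trans hd.symm)) (by decide)
    · exact Or.inl h
    · exact Or.inr h
  have hz2 : α (α zz) = zz := by
    rcases hz with h | h
    · rw [h, h]
    · rw [h, map_mul, h, hd, mul_assoc, show dd * dd = 1 by decide, mul_one]
  intro x hx
  rcases central_cases x hx with h | h | h | h
  · subst h; simp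
  · subst h; rw [hd, hd]
  · subst h; exact hz2
  · subst h; rw [map_mul, map_mul, hd, hd, hz2]

/-- A finite group whose Sylow 2-subgroups are isomorphic to the direct product of a group of order 2 and a dihedral group of order 8 has a subgroup of index two. -/
theorem result {G : Type*} [Group G] [Finite G] (S : Sylow 2 G) (hS : Nonempty (↥(S : Subgroup G) ≃* Multiplicative (ZMod 2) × DihedralGroup 4)) : ∃ H : Subgroup G, H.index = 2 := by
  classical
  haveI := Fact.mk Nat.prime_two
  obtain ⟨e⟩ := hS
  rcases Cfsg.Agent.S2872.result S with h | h | ⟨g, hg, z, hz, hgz⟩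
  · haveI := Fact.mk Nat.prime_two
    have hP : IsPGroup 2 (G ⧸ Cfsg.pResidual 2 G) := CfsgLib.PResidual.isPGroup_quotient
    obtain ⟨n, hn⟩ := IsPGroup.iff_card.mp hP
    rcases n with _ | n
    · exact absurd (Subgroup.index_eq_one.mp (by rw [Subgroup.index_eq_card, hn, pow_zero])) h
    · obtain ⟨K, hK⟩ := Sylow.exists_subgroup_card_pow_prime 2 (G := G ⧸ Cfsg.pResidual 2 G) (n := n)
        (by rw [hn]; exact pow_dvd_pow 2 n.le_succ)
      refine ⟨K.comap (QuotientGroup.mk' _), ?_⟩
      rw [Subgroup.index_comap_of_surjective _ (QuotientGroup.mk'_surjective _)]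
      have := K.card_mul_index
      rw [hK, hn, pow_succ] at this
      exact Nat.eq_of_mul_eq_mul_left (pow_pos two_pos n) this
  · exfalso
    set H := (S : Subgroup G)
    have hmem : ((e.symm zz : ↥H) : G) ∈ (frattini ↥H).map H.subtype := by
      refine h (Subgroup.subset_closure ⟨Subgroup.mem_inf.mpr ⟨(e.symm zz).2, Subgroup.mem_centralizer_iff.mpr fun s hs => ?_⟩, ?_⟩)
      · have he : (⟨s, hs⟩ : ↥H) * e.symm zz = e.symm zz * ⟨s, hs⟩ := e.injective (by
          simp only [map_mul, MulEquiv.apply_symm_apply]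
          exact zz_comm _)
        exact congrArg Subtype.val he
      · rw [← Subgroup.coe_pow, ← map_pow, pow_two, zz_sq, map_one, Subgroup.coe_one]
    obtain ⟨w, hw, hwe⟩ := hmem
    obtain rfl : w = e.symm zz := Subtype.ext hwe
    let π : ↥H →* Multiplicative (ZMod 2) := (MonoidHom.fst _ _).comp e.toMonoidHom
    have hsurj : Function.Surjective π := fun c => ⟨e.symm (c, 1), by simp [π]⟩
    have hcard : π.ker.index = 2 := by
      rw [Subgroup.index_ker, MonoidHom.range_eq_top.mpr hsurj, Subgroup.card_top, Nat.card_eq_fintype_card]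
      rfl
    have hco : IsCoatom π.ker := by
      refine ⟨fun ht => by rw [ht, Subgroup.index_top] at hcard; omega, fun K hK => ?_⟩
      have h1 := Subgroup.index_dvd_of_le hK.le
      have h2 := (Subgroup.index_strictAnti hK)
      rw [hcard] at h1 h2
      exact Subgroup.index_eq_one.mp (by
        rcases (Nat.dvd_prime Nat.prime_two).mp h1 with h3 | h3
        · exact h3
        · omega)
    have := frattini_le_coatom hco hw
    rw [MonoidHom.mem_ker] at this
    simp [π, zz] at this
  · exfalso
    set H := (S : Subgroup G)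
    obtain ⟨hzS, hzC⟩ : z ∈ H ∧ z ∈ Subgroup.centralizer (H : Set G) :=
      Subgroup.mem_inf.mp ((Subgroup.closure_le _).mpr (fun x hx => hx.1) hz)
    have hcen : ∀ y : M8, e ⟨z, hzS⟩ * y = y * e ⟨z, hzS⟩ := fun y => by
      obtain ⟨u, rfl⟩ := e.surjective y
      rw [← map_mul, ← map_mul]
      exact congrArg e (Subtype.ext (Subgroup.mem_centralizer_iff.mp hzC u u.2).symm)
    let a : MulAut ↥H := H.normalizerMonoidHom ⟨g, hg⟩
    have hsq : g * (g * z * g⁻¹) * g⁻¹ = z := by
      have h2 := invol ((e.symm.trans a).trans e) (e ⟨z, hzS⟩) hcen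
      simp only [MulEquiv.trans_apply, MulEquiv.symm_apply_apply] at h2
      exact congrArg Subtype.val (e.injective h2)
    have hpow : ∀ k, g ^ (2 * k) * z * (g ^ (2 * k))⁻¹ = z := fun k => by
      induction k with
      | zero => simp
      | succ k ih =>
        rw [show g ^ (2 * (k + 1)) = g * g * g ^ (2 * k) by rw [← pow_two, ← pow_add]; congr 1; omega]
        calc g * g * g ^ (2 * k) * z * (g * g * g ^ (2 * k))⁻¹
            = g * (g * (g ^ (2 * k) * z * (g ^ (2 * k))⁻¹) * g⁻¹) * g⁻¹ := by group
          _ = z := by rw [ih, hsq]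
    obtain ⟨k, n, hn, hkn⟩ := Nat.exists_eq_two_pow_mul_odd (orderOf_pos g).ne'
    have hu : g ^ n ∈ H := by
      have hP : IsPGroup 2 ↥(Subgroup.zpowers (g ^ n)) := IsPGroup.of_card (n := k) (by
        rw [Nat.card_zpowers, orderOf_pow_of_dvd hn.pos.ne' (hkn ▸ dvd_mul_left n _), hkn, Nat.mul_div_cancel _ hn.pos])
      have hle : Subgroup.zpowers (g ^ n) ≤ Subgroup.normalizer (H : Set G) :=
        Subgroup.zpowers_le.mpr (pow_mem hg n)
      have := hP.inf_normalizer_sylow S
      exact (Subgroup.mem_inf.mp (this.le (Subgroup.mem_inf.mpr ⟨Subgroup.mem_zpowers _, pow_mem hg n⟩))).2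
    obtain ⟨j, rfl⟩ := hn
    apply hgz
    have hfix : g ^ (2 * j + 1) * z * (g ^ (2 * j + 1))⁻¹ = z := by
      rw [← Subgroup.mem_centralizer_iff.mp hzC _ hu |>.symm]
      group
    rw [pow_succ'] at hfix
    calc g * z * g⁻¹ = g * (g ^ (2 * j) * z * (g ^ (2 * j))⁻¹) * g⁻¹ := by rw [hpow]
      _ = g * g ^ (2 * j) * z * (g * g ^ (2 * j))⁻¹ := by group
      _ = z := hfix

end Cfsg.Agent.S2911
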