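import Cfsg.Statements.S2968
import Cfsg.Agent.Lib.IsolatedP

set_option autoImplicit false
open Cfsg

namespace Cfsg.Agent.S2968
open CfsgLib.IsolatedP

/-- Let G be a finite group, p a prime, P a Sylow p-subgroup of G and x ∈ P an element of p-power order which is isolated in G (the only conjugate of x commuting with x is x itself). Then x lies in the centre of P, and the subgroup generated by x is both strongly closed and weakly closed in P with respect to G. -/
theorem result {G : Type*} [Group G] [Finite G] {p : ℕ} [Fact p.Prime] (P : Sylow p G) (x : G) (hxP : x ∈ (P : Subgroup G)) (hx : ∃ k : ℕ, orderOf x = p ^ k) (hiso : Cfsg.IsIsolated x) : x ∈ (P : Subgroup G) ⊓ Subgroup.centralizer ((P : Subgroup G) : Set G) ∧ Cfsg.IsStronglyClosed (Subgroup.zpowers x) (P : Subgroup G) ∧ Cfsg.IsWeaklyClosed (Subgroup.zpowers x) (P : Subgroup G) := by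
  have hsc : Cfsg.IsStronglyClosed (Subgroup.zpowers x) (P : Subgroup G) := by
    refine ⟨Subgroup.zpowers_le.mpr hxP, fun y hy g hg => ?_⟩
    rw [pow_eq_of_mem hiso hx P hxP hy hg]
    exact hy
  refine ⟨⟨hxP, fun r hr => central_of_mem hiso P.2 hxP r hr⟩, hsc, hsc.1, fun g hg => ?_⟩
  rw [MonoidHom.map_zpowers] at hg ⊢
  congr 1
  exact eq_of_mem hiso P.2 hxP (Subgroup.zpowers_le.mp hg)

end Cfsg.Agent.S2968
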