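import Cfsg.Statements.S2969
import Cfsg.Agent.Lib.IsolatedP

set_option autoImplicit false
open Cfsg

namespace Cfsg.Agent.S2969
open CfsgLib.IsolatedP CfsgLib.LocalBasic

/-- Let G be a finite group, p a prime and x ∈ G an element of p-power order which is isolated in G. If R is a p-subgroup of G containing x, then N_G(R) ≤ C_G(x); in particular x lies in the centre of R. Moreover, if x lies in a normal subgroup N of a subgroup H of G, then H = N·C_H(x). -/
theorem result {G : Type*} [Group G] [Finite G] {p : ℕ} [Fact p.Prime] (x : G) (hx : ∃ k : ℕ, orderOf x = p ^ k) (hiso : Cfsg.IsIsolated x) : (∀ R : Subgroup G, IsPGroup p ↥R → x ∈ R → Subgroup.normalizer (R : Set G) ≤ Subgroup.centralizer ({x} : Set G)) ∧ (∀ H N : Subgroup G, N ≤ H → H ≤ Subgroup.normalizer (N : Set G) → x ∈ N → N ⊔ (H ⊓ Subgroup.centralizer ({x} : Set G)) = H) := by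
  refine ⟨fun R hR hxR => normalizer_le_centralizer hiso hR hxR, fun H N hNH hHN hxN => ?_⟩
  refine le_antisymm (sup_le hNH inf_le_left) fun h hh => ?_
  obtain ⟨Q, hQ⟩ := ((isPGroup_zpowers hx).comap_subtype (K := N)).exists_le_sylow
  set Q' := (Q : Subgroup ↥N).map N.subtype with hQ'
  have hxQ : x ∈ Q' := ⟨⟨x, hxN⟩, hQ (Subgroup.mem_subgroupOf.mpr (Subgroup.mem_zpowers x)), rfl⟩
  have hQN : Q' ≤ N := Subgroup.map_subtype_le _
  have hconjN : Q'.map (MulAut.conj h).toMonoidHom ≤ N := by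
    rintro _ ⟨q, hq, rfl⟩
    exact (Subgroup.mem_normalizer_iff.mp (hHN hh) q).mp (hQN hq)
  obtain ⟨n, -, hn⟩ := exists_conj_le_sylow Q (M := ⊤) le_top
    (((Q.2.map N.subtype).map (MulAut.conj h).toMonoidHom).comap_subtype (K := N)) le_top
  have hnh : (n : G) * h ∈ Subgroup.normalizer (Q' : Set G) := by
    refine mem_normalizer_of_conj_map_eq (Subgroup.eq_of_le_of_card_ge ?_
      (Subgroup.card_map_of_injective (MulEquiv.injective _)).ge)
    rintro _ ⟨q, hq, rfl⟩
    refine ⟨_, hn ⟨_, hconjN ⟨q, hq, rfl⟩⟩ (Subgroup.mem_subgroupOf.mpr ⟨q, hq, rfl⟩), ?_⟩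
    simp [mul_assoc]
  have h1 := normalizer_le_centralizer hiso (Q.2.map N.subtype) hxQ hnh
  have e : h = (n : G)⁻¹ * ((n : G) * h) := by group
  rw [e]
  exact Subgroup.mul_mem_sup (N.inv_mem n.2) ⟨H.mul_mem (hNH n.2) hh, h1⟩

end Cfsg.Agent.S2969
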