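import Cfsg.Statements.S2970
import Cfsg.Agent.Lib.IsolatedP
import Cfsg.Agent.Lib.Thompson.PClosed
import Mathlib.GroupTheory.Transfer

set_option autoImplicit false
open Cfsg

namespace Cfsg.Agent.S2970
open CfsgLib.IsolatedP CfsgLib.LocalBasic
open scoped commutatorElement

/-- Let G be a finite group, p a prime and x ∈ G an element of p-power order which is isolated in G. Then the image of x in any quotient G ⧸ N is isolated in G ⧸ N; and if x ≠ 1 and the Sylow p-subgroups of G are cyclic, then G has a normal p-complement. -/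
theorem result {G : Type*} [Group G] [Finite G] {p : ℕ} [Fact p.Prime] (x : G) (hx : ∃ k : ℕ, orderOf x = p ^ k) (hiso : Cfsg.IsIsolated x) : (∀ (N : Subgroup G) [N.Normal], Cfsg.IsIsolated (QuotientGroup.mk x : G ⧸ N)) ∧ (x ≠ 1 → (∀ P : Sylow p G, IsCyclic ↥(P : Subgroup G)) → Cfsg.HasNormalPComplement p G) := by
  refine ⟨fun N hN gbar hgbar => ?_, fun hx1 hcyc => ?_⟩
  · obtain ⟨g, rfl⟩ := QuotientGroup.mk'_surjective N gbar
    set π := QuotientGroup.mk' N with hπ
    set x' := g * x * g⁻¹ with hx'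
    set W : Subgroup G := Subgroup.closure ({x, x'} : Set G) with hW
    have hcomm : Commute (π x) (π x') := by
      simpa [hπ, hx'] using hgbar
    have hWab : IsMulCommutative ↥(W.map π) := by
      rw [hW, MonoidHom.map_closure]
      refine Subgroup.isMulCommutative_closure ?_
      rintro _ ⟨a, ha, rfl⟩ _ ⟨b, hb, rfl⟩
      simp only [Set.mem_insert_iff, Set.mem_singleton_iff] at ha hb
      rcases ha with rfl | rfl <;> rcases hb with rfl | rfl
      exacts [rfl, hcomm.eq, hcomm.eq.symm, rfl]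
    have hxW : x ∈ W := Subgroup.subset_closure (by simp)
    have hx'W : x' ∈ W := Subgroup.subset_closure (by simp)
    have hp' : IsPGroup p ↥(Subgroup.zpowers x') := by
      obtain ⟨k, hk⟩ := hx
      exact CfsgLib.IsolatedP.isPGroup_zpowers ⟨k, by rw [← hk]; exact MulEquiv.orderOf_eq (MulAut.conj g) x⟩
    obtain ⟨Q, hQ⟩ := ((CfsgLib.IsolatedP.isPGroup_zpowers hx).comap_subtype (K := W)).exists_le_sylow
    obtain ⟨c, -, hc⟩ := exists_conj_le_sylow Q (M := ⊤) le_top (hp'.comap_subtype (K := W)) le_top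
    have h1 : (⟨x, hxW⟩ : ↥W) ∈ (Q : Subgroup ↥W) := hQ (Subgroup.mem_subgroupOf.mpr (Subgroup.mem_zpowers x))
    have h2 : (c : G) * x' * (c : G)⁻¹ ∈ (Q : Subgroup ↥W).map W.subtype :=
      ⟨_, hc ⟨x', hx'W⟩ (Subgroup.mem_subgroupOf.mpr (Subgroup.mem_zpowers x')), by simp⟩
    have e : (c : G) * x' * (c : G)⁻¹ = ((c : G) * g) * x * ((c : G) * g)⁻¹ := by rw [hx']; group
    rw [e] at h2
    have h3 := eq_of_mem hiso (Q.2.map W.subtype) ⟨⟨x, hxW⟩, h1, rfl⟩ h2
    rw [← e] at h3
    have h4 : π (c : G) * π x' = π x' * π (c : G) :=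
      congrArg Subtype.val (hWab.is_comm.comm ⟨_, c, c.2, rfl⟩ ⟨_, x', hx'W, rfl⟩)
    have h5 := congrArg π h3
    rw [map_mul, map_mul, map_inv, h4, mul_inv_cancel_right, hx', map_mul, map_mul, map_inv] at h5
    exact h5
  · obtain ⟨P, hP⟩ := (CfsgLib.IsolatedP.isPGroup_zpowers hx).exists_le_sylow
    have hxP : x ∈ (P : Subgroup G) := hP (Subgroup.mem_zpowers x)
    haveI := hcyc P
    obtain ⟨a, ha⟩ := IsCyclic.exists_generator (α := ↥(P : Subgroup G))
    obtain ⟨k, hk⟩ := IsPGroup.iff_orderOf.mp P.2 a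
    have hab : ∀ u ∈ (P : Subgroup G), ∀ v ∈ (P : Subgroup G), u * v = v * u := fun u hu v hv => by
      obtain ⟨i, hi⟩ := Subgroup.mem_zpowers_iff.mp (ha ⟨u, hu⟩)
      obtain ⟨j, hj⟩ := Subgroup.mem_zpowers_iff.mp (ha ⟨v, hv⟩)
      have hcm : a ^ i * a ^ j = a ^ j * a ^ i := ((Commute.refl a).zpow_zpow i j).eq
      rw [hi, hj] at hcm
      exact congrArg Subtype.val hcm
    set A : G := (a : G) with hA
    have hPA : (P : Subgroup G) = Subgroup.zpowers A := by
      refine le_antisymm (fun u hu => ?_) (Subgroup.zpowers_le.mpr a.2)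
      obtain ⟨i, hi⟩ := Subgroup.mem_zpowers_iff.mp (ha ⟨u, hu⟩)
      exact ⟨i, by simpa using congrArg Subtype.val hi⟩
    obtain ⟨s, hs⟩ := Subgroup.mem_zpowers_iff.mp (hPA ▸ hxP : x ∈ Subgroup.zpowers A)
    have hkA : orderOf A = p ^ k := by rw [hA, Subgroup.orderOf_coe, hk]
    have hcent : ∀ n ∈ Subgroup.normalizer ((P : Subgroup G) : Set G), (orderOf n).Coprime p → n * A = A * n := by
      intro n hn hnc
      obtain ⟨r, hr⟩ := Subgroup.mem_zpowers_iff.mp
        (hPA ▸ (Subgroup.mem_normalizer_iff.mp hn A).mp a.2 : n * A * n⁻¹ ∈ Subgroup.zpowers A)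
      have hpr : (p : ℤ) ∣ r - 1 := by
        have h1 : n * x * n⁻¹ = x := by
          have := Subgroup.mem_centralizer_singleton_iff.mp (normalizer_le_centralizer hiso P.2 hxP hn)
          rw [this, mul_inv_cancel_right]
        rw [← hs, ← conj_zpow, ← hr, ← zpow_mul] at h1
        have h2 : (orderOf A : ℤ) ∣ (r - 1) * s := by
          rw [orderOf_dvd_iff_zpow_eq_one, sub_mul, one_mul, zpow_sub, h1, mul_inv_cancel]
        rw [hkA, Nat.cast_pow] at h2
        by_contra hp1
        have h3 := (((Nat.prime_iff_prime_int.mp (Fact.out : p.Prime)).coprime_iff_not_dvd.mpr hp1).pow_left (m := k)).dvd_of_dvd_mul_left h2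
        apply hx1
        rw [← hs]
        obtain ⟨d, rfl⟩ := h3
        rw [zpow_mul, ← Nat.cast_pow, zpow_natCast, ← hkA, pow_orderOf_eq_one, one_zpow]
      obtain ⟨d, hd⟩ := hpr
      let f : ℕ → Subgroup G := fun i => Subgroup.zpowers (A ^ (p ^ i : ℕ))
      refine centralizes_of_series (p := p) f k ?_ (fun i _ => P.2.to_le ?_) hnc ?_ A ?_
      · show Subgroup.zpowers (A ^ (p ^ k : ℕ)) = ⊥
        rw [← hkA, pow_orderOf_eq_one, Subgroup.zpowers_one_eq_bot]
      · rw [hPA, Subgroup.zpowers_le]; exact Subgroup.npow_mem_zpowers A _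
      · intro i _ u hu
        obtain ⟨j, rfl⟩ := Subgroup.mem_zpowers_iff.mp hu
        refine Subgroup.mem_zpowers_iff.mpr ⟨d * j, ?_⟩
        rw [commutatorElement_def, ← zpow_natCast A, ← zpow_natCast A, ← zpow_mul, ← zpow_mul, ← conj_zpow, ← hr,
          ← zpow_mul, ← zpow_neg, ← zpow_add]
        congr 1
        rw [show r = 1 + (p : ℤ) * d by linarith]
        push_cast
        ring
      · show A ∈ Subgroup.zpowers (A ^ (p ^ 0 : ℕ))
        rw [pow_zero, pow_one]; exact Subgroup.mem_zpowers A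
    have hNC : Subgroup.normalizer ((P : Subgroup G) : Set G) ≤ Subgroup.centralizer ((P : Subgroup G) : Set G) := by
      intro n hn u hu
      obtain ⟨v, w, hv, hw, rfl, ⟨l, hl⟩, hwc⟩ := CfsgLib.ThompsonNPC.exists_mul_parts p n
      have hvN := Subgroup.zpowers_le.mpr hn hv
      have hwN := Subgroup.zpowers_le.mpr hn hw
      have hvP : v ∈ (P : Subgroup G) := by
        have hsup : IsPGroup p ↥(Subgroup.zpowers v ⊔ (P : Subgroup G) : Subgroup G) :=
          (isPGroup_zpowers_of_pow_eq_one (k := l) hl).to_sup_of_normal_right' P.2 (Subgroup.zpowers_le.mpr hvN)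
        exact P.3 hsup le_sup_right ▸ Subgroup.mem_sup_left (Subgroup.mem_zpowers v)
      obtain ⟨i, rfl⟩ := Subgroup.mem_zpowers_iff.mp (hPA ▸ hu : u ∈ Subgroup.zpowers A)
      have h1 : A ^ i * v = v * A ^ i := hab _ hu v hvP
      have h2 : A ^ i * w = w * A ^ i := ((show Commute w A from hcent w hwN hwc).zpow_right i).eq.symm
      rw [← mul_assoc, h1, mul_assoc, h2, mul_assoc]
    exact ⟨P, _, inferInstance, MonoidHom.ker_transferSylow_isComplement' P hNC⟩

end Cfsg.Agent.S2970
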