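import Cfsg.Statements.S2971
import Cfsg.Agent.Lib.UniqueOrderP
import Cfsg.Agent.Lib.Core
import Cfsg.Agent.Lib.LocalBasic

set_option autoImplicit false
open Cfsg

namespace Cfsg.Agent.S2971
open CfsgLib
open scoped commutatorElement

/-- Let G be a finite group and p an odd prime such that G has p-rank at most 1 (no elementary abelian subgroup of order p²). If x ∈ G is an isolated element of order p, then x is central modulo the largest normal subgroup of G of order prime to p. -/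
theorem result {G : Type*} [Group G] [Finite G] {p : ℕ} [Fact p.Prime] (hp : p ≠ 2) (hrk : Cfsg.PRankLE p 1 G) (x : G) (hx : orderOf x = p) (hiso : Cfsg.IsIsolated x) : Cfsg.InZStar p x := by
  classical
  obtain ⟨P, hP⟩ := (IsPGroup.of_card (n := 1) (by rw [Nat.card_zpowers, hx, pow_one]) : IsPGroup p ↥(Subgroup.zpowers x)).exists_le_sylow
  have hxP : x ∈ (P : Subgroup G) := hP (Subgroup.mem_zpowers x)
  have hx1 : x ≠ 1 := fun e => by rw [e, orderOf_one] at hx; exact (Fact.out : p.Prime).one_lt.ne hx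
  -- commuting elements of order `p` lie in `⟨x⟩`
  have hcom : ∀ y : G, y ^ p = 1 → y * x = x * y → y ∈ Subgroup.zpowers x := by
    intro y hy hyx
    set A := Subgroup.closure ({x, y} : Set G)
    have hxy : ∀ a ∈ ({x, y} : Set G), ∀ b ∈ ({x, y} : Set G), a * b = b * a := by
      rintro a (rfl | rfl) b (rfl | rfl) <;> first | rfl | exact hyx | exact hyx.symm
    have hA : IsMulCommutative A := Subgroup.isMulCommutative_closure hxy
    have hexp : ∀ a ∈ A, a ^ p = 1 := by
      intro a ha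
      induction ha using Subgroup.closure_induction with
      | mem a ha => rcases ha with rfl | rfl; exacts [hx ▸ pow_orderOf_eq_one _, hy]
      | one => exact one_pow _
      | mul a b ha hb iha ihb =>
        rw [(show Commute a b from congrArg Subtype.val (hA.is_comm.comm ⟨a, ha⟩ ⟨b, hb⟩)).mul_pow, iha, ihb, one_mul]
      | inv a _ iha => rw [inv_pow, iha, inv_one]
    have hle : Subgroup.zpowers x ≤ A := Subgroup.zpowers_le.mpr (Subgroup.subset_closure (Or.inl rfl))
    have := hrk A hA hexp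
    rw [pow_one] at this
    have he : Subgroup.zpowers x = A := Subgroup.eq_of_le_of_card_ge hle (by rwa [Nat.card_zpowers, hx])
    exact he ▸ Subgroup.subset_closure (Or.inr rfl)
  haveI : Nontrivial ↥(P : Subgroup G) := ⟨⟨⟨x, hxP⟩, 1, fun e => hx1 (congrArg Subtype.val e)⟩⟩
  haveI := P.2.center_nontrivial
  obtain ⟨⟨z, hzc⟩, hz⟩ : ∃ z : ↥(Subgroup.center ↥(P : Subgroup G)), orderOf z = p := by
    obtain ⟨k, hk0, hk⟩ := (P.2.to_subgroup (Subgroup.center _)).nontrivial_iff_card.mp inferInstance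
    exact exists_prime_orderOf_dvd_card' p (hk ▸ dvd_pow_self p hk0.ne')
  rw [Subgroup.orderOf_mk, ← Subgroup.orderOf_coe] at hz
  have hzx : (z : G) ∈ Subgroup.zpowers x :=
    hcom _ (orderOf_dvd_iff_pow_eq_one.mp hz.dvd) (congrArg Subtype.val (Subgroup.mem_center_iff.mp hzc ⟨x, hxP⟩)).symm
  have hgen : Subgroup.zpowers (z : G) = Subgroup.zpowers x :=
    Subgroup.eq_of_le_of_card_ge (Subgroup.zpowers_le.mpr hzx) (by rw [Nat.card_zpowers, Nat.card_zpowers, hx, hz])
  have hxc : ∀ s ∈ (P : Subgroup G), s * x = x * s := by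
    intro s hs
    obtain ⟨i, hi⟩ : x ∈ Subgroup.zpowers (z : G) := hgen ▸ Subgroup.mem_zpowers x
    rw [← hi]
    exact ((show Commute s (z : G) from congrArg Subtype.val (Subgroup.mem_center_iff.mp hzc ⟨s, hs⟩)).zpow_right i).eq
  have huniq : UniqueOrderP.Uniq p ↥(P : Subgroup G) := by
    have key : ∀ a : ↥(P : Subgroup G), orderOf a = p → Subgroup.zpowers (a : G) = Subgroup.zpowers x := fun a ha => by
      rw [← Subgroup.orderOf_coe] at ha
      exact Subgroup.eq_of_le_of_card_ge (Subgroup.zpowers_le.mpr (hcom _ (orderOf_dvd_iff_pow_eq_one.mp ha.dvd) (hxc _ a.2)))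
        (by rw [Nat.card_zpowers, Nat.card_zpowers, hx, ha])
    intro a b ha hb
    obtain ⟨i, hi⟩ : (b : G) ∈ Subgroup.zpowers (a : G) := (key a ha).trans (key b hb).symm ▸ Subgroup.mem_zpowers (b : G)
    exact ⟨i, Subtype.ext (by rw [← hi, Subgroup.coe_zpow])⟩
  obtain ⟨⟨a, ha⟩⟩ := (UniqueOrderP.cyclic_or_quaternion P.2 huniq).resolve_right fun h => hp h.1
  have hPcomm : ∀ u ∈ (P : Subgroup G), ∀ v ∈ (P : Subgroup G), u * v = v * u := fun u hu v hv => by
    obtain ⟨i, hi⟩ := ha ⟨u, hu⟩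
    obtain ⟨j, hj⟩ := ha ⟨v, hv⟩
    rw [show u = ((a ^ i : ↥(P : Subgroup G)) : G) from (congrArg Subtype.val hi).symm,
      show v = ((a ^ j : ↥(P : Subgroup G)) : G) from (congrArg Subtype.val hj).symm, ← Subgroup.coe_mul, ← Subgroup.coe_mul,
      zpow_mul_comm]
  obtain ⟨e, he⟩ := IsPGroup.iff_orderOf.mp P.2 a
  -- elements of order prime to `p` in the normalizer centralize the Sylow subgroup
  have hcop : ∀ n ∈ Subgroup.normalizer ((P : Subgroup G) : Set G), (orderOf n).Coprime p →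
      n ∈ Subgroup.centralizer ((P : Subgroup G) : Set G) := by
    intro n hn hnc
    have hnx : n * x * n⁻¹ = x := hiso n (hxc _ ((Subgroup.mem_normalizer_iff.mp hn x).mp hxP)).symm
    let f : ℕ → Subgroup G := fun i => Subgroup.zpowers ((a : G) ^ p ^ i)
    have h0 : f e = ⊥ := by
      show Subgroup.zpowers ((a : G) ^ p ^ e) = ⊥
      rw [← he, ← Subgroup.orderOf_coe, pow_orderOf_eq_one, Subgroup.zpowers_one_eq_bot]
    obtain ⟨r, hr⟩ := ha ⟨n * (a : G) * n⁻¹, (Subgroup.mem_normalizer_iff.mp hn a).mp a.2⟩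
    have hr' : (a : G) ^ r = n * (a : G) * n⁻¹ := by rw [← Subgroup.coe_zpow]; exact congrArg Subtype.val hr
    obtain ⟨i, hi⟩ : ∃ i : ℤ, (a : G) ^ i = x := by
      obtain ⟨i, hi⟩ := ha ⟨x, hxP⟩
      exact ⟨i, by rw [← Subgroup.coe_zpow]; exact congrArg Subtype.val hi⟩
    -- `r ≡ 1 (mod p)`
    have hr1 : (p : ℤ) ∣ r - 1 := by
      by_contra hnd
      have h1 : x ^ (r - 1) = 1 := by
        have h2 : x ^ r = x := by
          conv_rhs => rw [← hnx, ← hi]
          rw [← conj_zpow, ← hr', ← zpow_mul, ← hi, ← zpow_mul, mul_comm]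
        rw [zpow_sub, zpow_one, h2, mul_inv_cancel]
      exact hnd (hx ▸ orderOf_dvd_iff_zpow_eq_one.mpr h1)
    obtain ⟨t, ht⟩ := hr1
    have hser := CfsgLib.LocalBasic.centralizes_of_series (p := p) f e h0
      (fun j _ => P.2.to_le (Subgroup.zpowers_le.mpr (pow_mem a.2 _))) hnc (fun j _ y hy => ?_)
    · intro y hy
      obtain ⟨k, hk⟩ := ha ⟨y, hy⟩
      refine (hser y ⟨k, ?_⟩).symm
      show ((a : G) ^ p ^ 0) ^ k = y
      rw [pow_zero, pow_one, ← Subgroup.coe_zpow]
      exact congrArg Subtype.val hk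
    · obtain ⟨k, rfl⟩ := Subgroup.mem_zpowers_iff.mp hy
      refine ⟨t * k, ?_⟩
      show ((a : G) ^ p ^ (j + 1)) ^ (t * k) = ⁅n, ((a : G) ^ p ^ j) ^ k⁆
      rw [commutatorElement_def, ← zpow_natCast (a : G) (p ^ j), ← zpow_mul, ← conj_zpow, ← hr', ← zpow_mul, ← zpow_neg,
        ← zpow_add, ← zpow_natCast (a : G), ← zpow_mul]
      congr 1
      have : r = p * t + 1 := by linarith
      rw [this]; push_cast; ring
  have hN : Subgroup.normalizer ((P : Subgroup G) : Set G) ≤ Subgroup.centralizer ((P : Subgroup G) : Set G) := by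
    intro n hn
    obtain ⟨k, m, hm, hnkm⟩ := Nat.exists_eq_pow_mul_and_not_dvd (orderOf_pos n).ne' p (Fact.out : p.Prime).ne_one
    have hcp : (p ^ k).Coprime m := ((Fact.out : p.Prime).coprime_iff_not_dvd.mpr hm).pow_left k
    have h1 : n ^ p ^ k ∈ Subgroup.centralizer ((P : Subgroup G) : Set G) := by
      refine hcop _ (pow_mem hn _) ?_
      rw [orderOf_pow_of_dvd (pow_ne_zero k (Fact.out : p.Prime).ne_zero) (hnkm ▸ dvd_mul_right _ _), hnkm,
        Nat.mul_div_cancel_left _ (pow_pos (Fact.out : p.Prime).pos k)]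
      exact ((Fact.out : p.Prime).coprime_iff_not_dvd.mpr hm).symm
    have h2 : n ^ m ∈ Subgroup.centralizer ((P : Subgroup G) : Set G) := by
      have hP' : IsPGroup p ↥(Subgroup.zpowers (n ^ m)) := IsPGroup.of_card (n := k) (by
        rw [Nat.card_zpowers, orderOf_pow_of_dvd ((fun h => by rw [h] at hm; exact hm (dvd_zero p))) (hnkm ▸ dvd_mul_left m _), hnkm,
          Nat.mul_div_cancel _ (Nat.pos_of_ne_zero (fun h => by rw [h] at hm; exact hm (dvd_zero p)))])
      have hmP : n ^ m ∈ (P : Subgroup G) :=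
        (Subgroup.mem_inf.mp ((hP'.inf_normalizer_sylow P).le ⟨Subgroup.mem_zpowers _, pow_mem hn m⟩)).2
      exact fun y hy => hPcomm y hy _ hmP
    have hbez := Nat.gcd_eq_gcd_ab (p ^ k) m
    rw [hcp.gcd_eq_one] at hbez
    rw [← zpow_one n, show (1 : ℤ) = _ from hbez, zpow_add, zpow_mul, zpow_mul, zpow_natCast, zpow_natCast]
    exact mul_mem (Subgroup.zpow_mem _ h1 _) (Subgroup.zpow_mem _ h2 _)
  set τ := MonoidHom.transferSylow P hN
  haveI : IsMulCommutative ↥(P : Subgroup G) := ⟨⟨fun u v => Subtype.ext (hPcomm u u.2 v v.2)⟩⟩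
  intro g
  refine Core.le_pPrimeCore (inferInstance : τ.ker.Normal)
    ((Fact.out : p.Prime).coprime_iff_not_dvd.mpr (MonoidHom.not_dvd_card_ker_transferSylow P hN)).symm ?_
  have hcm : τ g * τ x = τ x * τ g := Subtype.ext (hPcomm _ (τ g).2 _ (τ x).2)
  rw [MonoidHom.mem_ker, map_mul, map_mul, map_mul, map_inv, map_inv, hcm]
  group

end Cfsg.Agent.S2971
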