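import Cfsg.Statements.S2972
import Cfsg.Agent.Lib.IsolatedP
import Cfsg.Agent.Lib.Core

set_option autoImplicit false
open Cfsg

namespace Cfsg.Agent.S2972
open Subgroup CfsgLib.IsolatedP
open scoped commutatorElement Pointwise
set_option maxHeartbeats 400000

/-- Let G be a finite group, p a prime and x ∈ G an isolated element of order p (the only conjugate of x commuting with x is x) which is not central modulo the largest normal subgroup of order prime to p, while x is central modulo the largest normal subgroup of order prime to p in every proper subgroup containing x, and the image of x is so in every quotient of G by a nontrivial normal subgroup (a minimal counterexample to the Z*_p statement). Then the derived subgroup G' is a non-abelian simple group and G = G'⟨x⟩. -/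
theorem result {G : Type*} [Group G] [Finite G] {p : ℕ} [Fact p.Prime] (x : G) (hx : orderOf x = p) (hiso : Cfsg.IsIsolated x) (hnz : ¬ Cfsg.InZStar p x) (hmin : ∀ (H : Subgroup G) (hxH : x ∈ H), H ≠ ⊤ → Cfsg.InZStar p (⟨x, hxH⟩ : ↥H)) (hquot : ∀ (N : Subgroup G) [N.Normal], N ≠ ⊥ → Cfsg.InZStar p (QuotientGroup.mk x : G ⧸ N)) : IsSimpleGroup ↥(commutator G) ∧ ¬ IsMulCommutative ↥(commutator G) ∧ commutator G ⊔ Subgroup.zpowers x = ⊤ := by
  classical
  set K := Cfsg.pPrimeCore p G with hKdef
  have hnc : ¬ ∀ g : G, g * x * g⁻¹ = x := fun h => hnz fun g => by rw [h g, mul_inv_cancel]; exact one_mem _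
  have hnc' : ¬ ∀ g : G, g * x = x * g := fun h => hnc fun g => by rw [h g, mul_inv_cancel_right]
  have hO : K = ⊥ := by
    by_contra hne
    apply hnz
    intro g
    have h := hquot K hne (QuotientGroup.mk g)
    rw [CfsgLib.Core.pPrimeCore_quotient_eq_bot, Subgroup.mem_bot, ← QuotientGroup.mk_inv, ← QuotientGroup.mk_inv,
      ← QuotientGroup.mk_mul, ← QuotientGroup.mk_mul, ← QuotientGroup.mk_mul, QuotientGroup.eq_one_iff] at h
    exact h
  -- dichotomy for normal subgroups
  have hdich : ∀ N : Subgroup G, N.Normal → N ⊔ Subgroup.zpowers x ≠ ⊤ → ∀ n ∈ N, n * x = x * n := by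
    intro N hN hne n hn
    set H := N ⊔ Subgroup.zpowers x with hH
    have hxH : x ∈ H := mem_sup_right (mem_zpowers x)
    have h1 := hmin H hxH hne ⟨n, mem_sup_left hn⟩
    set c : ↥H := ⟨n, mem_sup_left hn⟩ * ⟨x, hxH⟩ * (⟨n, mem_sup_left hn⟩)⁻¹ * (⟨x, hxH⟩)⁻¹
    have hcN : (c : G) ∈ N := by
      have := N.mul_mem hn (hN.conj_mem _ (N.inv_mem hn) x)
      simpa [c, mul_assoc] using this
    set D : Subgroup ↥H := Cfsg.pPrimeCore p ↥H ⊓ N.subgroupOf H with hD
    have hNs : (N.subgroupOf H).Normal := hN.subgroupOf H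
    have hDp : (Nat.card ↥D).Coprime p :=
      (CfsgLib.Core.card_pPrimeCore_coprime (G := ↥H) p).coprime_dvd_left (Subgroup.card_dvd_of_le inf_le_left)
    have hDs : (D.map H.subtype).IsSubnormal := by
      have e : D.map H.subtype ≤ N := by
        rintro _ ⟨d, hd, rfl⟩; exact hd.2
      refine Subgroup.IsSubnormal.trans (H := D.map H.subtype) e ?_ hN.isSubnormal
      refine (Subgroup.normal_subgroupOf_iff_le_normalizer e |>.mpr ?_).isSubnormal
      intro m hm
      have hDn : D.Normal := inferInstance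
      have := Subgroup.le_normalizer_map (H := D) H.subtype
      rw [Subgroup.normalizer_eq_top (H := D), ← MonoidHom.range_eq_map, Subgroup.range_subtype] at this
      exact this (mem_sup_left hm)
    have h2 : D.map H.subtype ≤ K :=
      CfsgLib.Core.coprime_subnormal_le_pPrimeCore hDs (CfsgLib.Core.coprime_card_map _ hDp)
    have h3 : (c : G) ∈ K := h2 ⟨c, ⟨h1, hcN⟩, rfl⟩
    rw [hO, Subgroup.mem_bot] at h3
    have h4 : n * x * n⁻¹ * x⁻¹ = 1 := h3
    exact mul_inv_eq_iff_eq_mul.mp (mul_inv_eq_one.mp h4)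
  set L1 := Subgroup.normalClosure (Set.range fun g : G => ⁅g, x⁆) with hL1
  have hL1x : L1 ⊔ Subgroup.zpowers x = ⊤ := by
    by_contra hne
    apply hnc
    intro g
    have h1 := hdich L1 Subgroup.normalClosure_normal hne _ (Subgroup.subset_normalClosure ⟨g, rfl⟩)
    refine hiso g ?_
    have e : g * x * g⁻¹ = ⁅g, x⁆ * x := by simp [commutatorElement_def]
    rw [e]
    exact (show Commute x ⁅g, x⁆ from h1.symm).mul_right (Commute.refl x)
  set D := commutator G with hDdef
  have hL1D : L1 ≤ D := Subgroup.normalClosure_le_normal (by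
    rintro _ ⟨g, rfl⟩
    exact Subgroup.commutator_mem_commutator (mem_top g) (mem_top x))
  have hDx : D ⊔ Subgroup.zpowers x = ⊤ := top_le_iff.mp (hL1x ▸ sup_le_sup_right hL1D _)
  have hcent : ∀ z : G, (∀ d ∈ D, d * z = z * d) → z * x = x * z → z ∈ Subgroup.center G := by
    intro z hzD hzx
    rw [Subgroup.mem_center_iff]
    intro g
    have hle : D ⊔ Subgroup.zpowers x ≤ Subgroup.centralizer ({z} : Set G) := sup_le
      (fun d hd => Subgroup.mem_centralizer_singleton_iff.mpr (hzD d hd))
      (Subgroup.zpowers_le.mpr (Subgroup.mem_centralizer_singleton_iff.mpr hzx.symm))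
    exact Subgroup.mem_centralizer_singleton_iff.mp (hle (hDx.ge (mem_top g)))
  -- trivial centre
  have hZ : Subgroup.center G = ⊥ := by
    by_contra hne
    set Z := Subgroup.center G with hZdef
    apply hnc
    intro g
    have h1 := hquot Z hne (QuotientGroup.mk g)
    set π := QuotientGroup.mk' Z with hπ
    set M := (Cfsg.pPrimeCore p (G ⧸ Z)).comap π with hM
    have hcM : g * x * g⁻¹ * x⁻¹ ∈ M := h1
    -- the p'-elements of `M` are trivial
    have hMn : M.Normal := inferInstance
    have hZp : IsPGroup p ↥Z := by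
      intro z
      obtain ⟨a, m, hm, hzam⟩ : ∃ a m : ℕ, m.Coprime p ∧ orderOf z = p ^ a * m := by
        obtain ⟨a, m, hm, he⟩ := Nat.exists_eq_pow_mul_and_not_dvd (orderOf_pos z).ne' p (Fact.out : p.Prime).ne_one
        exact ⟨a, m, ((Fact.out : p.Prime).coprime_iff_not_dvd.mpr hm).symm, he⟩
      refine ⟨a, ?_⟩
      have h2 : Subgroup.zpowers ((z : G) ^ p ^ a) ≤ K := by
        refine CfsgLib.Core.le_pPrimeCore ?_ ?_
        · refine ⟨fun y hy g => ?_⟩
          obtain ⟨i, rfl⟩ := hy
          show g * ((z : G) ^ p ^ a) ^ i * g⁻¹ ∈ _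
          rw [(Subgroup.mem_center_iff.mp (zpow_mem (pow_mem z.2 _) i) g), mul_inv_cancel_right]
          exact ⟨i, rfl⟩
        · rw [Nat.card_zpowers]
          refine hm.coprime_dvd_left (orderOf_dvd_of_pow_eq_one ?_)
          rw [← pow_mul, ← hzam, ← Subgroup.orderOf_coe z, pow_orderOf_eq_one]
      rw [hO, le_bot_iff, Subgroup.zpowers_eq_bot] at h2
      exact Subtype.ext (by simpa using h2)
    have hMZ : M ≤ Z := by
      intro m hm
      set q := Nat.card ↥(Cfsg.pPrimeCore p (G ⧸ Z))
      have hq : q.Coprime p := CfsgLib.Core.card_pPrimeCore_coprime p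
      have hZM : Z ≤ M := by
        intro z hz; rw [hM, Subgroup.mem_comap, hπ, QuotientGroup.mk'_apply, (QuotientGroup.eq_one_iff z).mpr hz]; exact one_mem _
      have hidx : (Z.subgroupOf M).index = q := by
        have h2 : Z.relIndex M = q := by
          rw [show Z = π.ker from (QuotientGroup.ker_mk' Z).symm, Subgroup.relIndex_ker, hM,
            Subgroup.map_comap_eq_self_of_surjective (QuotientGroup.mk'_surjective Z)]
        exact h2
      have hZcop : (Nat.card ↥(Z.subgroupOf M)).Coprime (Z.subgroupOf M).index := by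
        rw [hidx, Nat.card_congr (Subgroup.subgroupOfEquivOfLe hZM).toEquiv]
        obtain ⟨k, hk⟩ := IsPGroup.iff_card.mp hZp
        rw [hk]; exact hq.symm.pow_left k
      have hZMn : (Z.subgroupOf M).Normal := inferInstance
      obtain ⟨C, hC⟩ := Subgroup.exists_right_complement'_of_coprime hZcop
      have hCn : C.Normal := by
        refine ⟨fun c hc y => ?_⟩
        obtain ⟨⟨z, d⟩, rfl⟩ := hC.2 y
        have hz : ((z : ↥M) : G) ∈ Z := z.2
        have e : (z : ↥M) * (d : ↥M) * c * ((z : ↥M) * (d : ↥M))⁻¹ = (d : ↥M) * c * (d : ↥M)⁻¹ := by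
          have hz' : ∀ w : ↥M, (z : ↥M) * w = w * (z : ↥M) := fun w => Subtype.ext (Subgroup.mem_center_iff.mp hz (w : G)).symm
          calc _ = (z : ↥M) * ((d : ↥M) * c * (d : ↥M)⁻¹) * (z : ↥M)⁻¹ := by group
            _ = _ := by rw [hz', mul_inv_cancel_right]
        rw [e]
        exact C.mul_mem (C.mul_mem d.2 hc) (C.inv_mem d.2)
      have hC1 : C = ⊥ := by
        have hCcard : (Nat.card ↥C).Coprime p := by
          have h5 := Subgroup.IsComplement'.card_mul hC
          rw [← Subgroup.card_mul_index (Z.subgroupOf M)] at h5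
          rw [Nat.eq_of_mul_eq_mul_left Nat.card_pos h5, hidx]
          exact hq
        have := CfsgLib.Core.coprime_subnormal_le_pPrimeCore (H := C.map M.subtype)
          (Subgroup.IsSubnormal.trans (Subgroup.map_subtype_le C) (by
            rw [show (C.map M.subtype).subgroupOf M = C from Subgroup.comap_map_eq_self_of_injective M.subtype_injective C]
            exact hCn.isSubnormal) hMn.isSubnormal)
          (CfsgLib.Core.coprime_card_map _ hCcard)
        rw [← hKdef, hO, le_bot_iff] at this
        exact (Subgroup.map_eq_bot_iff_of_injective _ M.subtype_injective).mp this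
      obtain ⟨⟨z, d⟩, hzd⟩ := hC.2 ⟨m, hm⟩
      have hd : (d : ↥M) = 1 := Subgroup.mem_bot.mp (hC1 ▸ d.2)
      have : (z : ↥M) = ⟨m, hm⟩ := by simpa [hd] using hzd
      have hz : ((z : ↥M) : G) ∈ Z := z.2
      rwa [this] at hz
    refine hiso g ?_
    have e : g * x * g⁻¹ = g * x * g⁻¹ * x⁻¹ * x := by group
    rw [e]
    exact (show Commute x (g * x * g⁻¹ * x⁻¹) from Subgroup.mem_center_iff.mp (hMZ hcM) x).mul_right (Commute.refl x)
  -- the derived subgroup is the unique minimal normal subgroup
  have hmindR : ∀ N : Subgroup G, N.Normal → N ≠ ⊥ → D ≤ N := by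
    intro N hN hne
    by_cases hNx : N ⊔ Subgroup.zpowers x = ⊤
    · exact Subgroup.Normal.commutator_le_of_self_sup_commutative_eq_top (N := N) hNx inferInstance
    · exfalso
      have h1 := hdich N hN hNx
      refine hne ((Subgroup.eq_bot_iff_forall _).mpr fun n hn => ?_)
      have h2 : n ∈ Subgroup.center G := by
        refine hcent n (fun d _ => ?_) (h1 n hn)
        -- conjugates of x centralise N
        have hcl : Subgroup.normalClosure ({x} : Set G) ≤ Subgroup.centralizer (N : Set G) :=
          Subgroup.normalClosure_le_normal (fun y hy => by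
            rw [Set.mem_singleton_iff.mp hy]; exact fun m hm => h1 m hm)
        have hall : L1 ⊔ Subgroup.zpowers x ≤ Subgroup.normalClosure ({x} : Set G) := by
          refine sup_le (Subgroup.normalClosure_le_normal ?_) (Subgroup.zpowers_le.mpr (Subgroup.subset_normalClosure rfl))
          rintro _ ⟨g, rfl⟩
          have hxm : x ∈ Subgroup.normalClosure ({x} : Set G) := Subgroup.subset_normalClosure (Set.mem_singleton x)
          have hn' : (Subgroup.normalClosure ({x} : Set G)).Normal := Subgroup.normalClosure_normal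
          show ⁅g, x⁆ ∈ _
          rw [commutatorElement_def]
          exact mul_mem (hn'.conj_mem x hxm g) (inv_mem hxm)
        exact (hcl (hall (hL1x.ge (mem_top d))) n hn).symm
      rw [hZ] at h2
      exact h2
  have hDne : D ≠ ⊥ := by
    intro h
    apply hnc'
    intro g
    have := Subgroup.commutator_mem_commutator (mem_top g) (mem_top x)
    rw [← _root_.commutator_def, ← hDdef, h, Subgroup.mem_bot] at this
    exact commutatorElement_eq_one_iff_mul_comm.mp this
  have hDn : D.Normal := inferInstance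
  have hna : ¬ IsMulCommutative ↥D := by
    intro hab
    have hc : ∀ a b : ↥D, a * b = b * a := fun a b => hab.1.comm a b
    -- the p'-part and the p-part are normal
    have hDp : IsPGroup p ↥D := by
      intro d
      obtain ⟨a, m, hm, he⟩ := Nat.exists_eq_pow_mul_and_not_dvd (orderOf_pos d).ne' p (Fact.out : p.Prime).ne_one
      refine ⟨a, ?_⟩
      have hmp : m.Coprime p := ((Fact.out : p.Prime).coprime_iff_not_dvd.mpr hm).symm
      have hsub : ((Subgroup.zpowers (d ^ p ^ a)).map D.subtype).IsSubnormal := by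
        refine Subgroup.IsSubnormal.trans (Subgroup.map_subtype_le _) ?_ hDn.isSubnormal
        rw [show ((Subgroup.zpowers (d ^ p ^ a)).map D.subtype).subgroupOf D = Subgroup.zpowers (d ^ p ^ a) from
          Subgroup.comap_map_eq_self_of_injective D.subtype_injective _]
        exact (show (Subgroup.zpowers (d ^ p ^ a)).Normal from ⟨fun y hy g => by
          rwa [hc g, mul_inv_cancel_right]⟩).isSubnormal
      have h2 := CfsgLib.Core.coprime_subnormal_le_pPrimeCore (p := p) hsub (CfsgLib.Core.coprime_card_map _ (by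
        rw [Nat.card_zpowers]
        refine hmp.coprime_dvd_left (orderOf_dvd_of_pow_eq_one ?_)
        rw [← pow_mul, ← he, pow_orderOf_eq_one]))
      rw [← hKdef, hO, le_bot_iff, Subgroup.map_eq_bot_iff_of_injective _ D.subtype_injective, Subgroup.zpowers_eq_bot] at h2
      exact h2
    have hxp : IsPGroup p ↥(Subgroup.zpowers x) := isPGroup_zpowers ⟨1, by rw [hx, pow_one]⟩
    have hGp : IsPGroup p ↥(⊤ : Subgroup G) := hDx ▸ hDp.to_sup_of_normal_left hxp
    exact hnc' fun g => central_of_mem hiso hGp (mem_top x) g (mem_top g)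
  refine ⟨?_, hna, hDx⟩
  -- simplicity
  have hnt : Nontrivial ↥D := (Subgroup.nontrivial_iff_ne_bot D).mpr hDne
  refine ⟨fun N hN => ?_⟩
  by_contra hcon
  push Not at hcon
  obtain ⟨hN0, hN1⟩ := hcon
  obtain ⟨S0, ⟨hS0n, hS00, hS0N⟩, hS0min⟩ := (Set.toFinite {S : Subgroup ↥D | S.Normal ∧ S ≠ ⊥ ∧ S ≤ N}).exists_minimal
    ⟨N, hN, hN0, le_rfl⟩
  set S := S0.map D.subtype with hS
  have hSD : S ≤ D := Subgroup.map_subtype_le S0
  have hDS : D ≤ Subgroup.normalizer (S : Set G) := by
    refine (Subgroup.normal_subgroupOf_iff_le_normalizer hSD).mp ?_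
    rwa [hS, show (S0.map D.subtype).subgroupOf D = S0 from Subgroup.comap_map_eq_self_of_injective D.subtype_injective S0]
  have hS1 : S ≠ ⊥ := fun h => hS00 ((Subgroup.map_eq_bot_iff_of_injective _ D.subtype_injective).mp h)
  set S' := S.map (MulAut.conj x).toMonoidHom with hS'
  have hconjS : ∀ d ∈ D, S'.map (MulAut.conj d).toMonoidHom = S' := by
    intro d hd
    have hd' : x⁻¹ * d * x ∈ D := by simpa using hDn.conj_mem d hd x⁻¹
    rw [hS', Subgroup.map_map]
    conv_rhs => rw [← CfsgLib.LocalBasic.conj_map_eq_of_mem_normalizer (hDS hd'), Subgroup.map_map]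
    congr 1; ext y; simp [mul_assoc]
  by_cases hSS : S' = S
  · -- then S is normal in G
    have hSn : S.Normal := Subgroup.normalizer_eq_top_iff.mp (top_le_iff.mp (hDx ▸ sup_le hDS
      (Subgroup.zpowers_le.mpr (CfsgLib.LocalBasic.mem_normalizer_of_conj_map_eq hSS))))
    have hDle := hmindR S hSn hS1
    apply hN1
    rw [eq_top_iff]
    intro d _
    refine hS0N ?_
    obtain ⟨s, hs, he⟩ := hDle d.2
    rwa [← Subtype.ext he]
  · -- p divides |S|
    have hpS : p ∣ Nat.card ↥S := by
      by_contra hnd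
      have h2 := CfsgLib.Core.coprime_subnormal_le_pPrimeCore (p := p)
        (Subgroup.IsSubnormal.trans hSD (((Subgroup.normal_subgroupOf_iff_le_normalizer hSD).mpr hDS).isSubnormal)
          hDn.isSubnormal) ((Fact.out : p.Prime).coprime_iff_not_dvd.mpr hnd).symm
      rw [← hKdef, hO, le_bot_iff] at h2
      exact hS1 h2
    obtain ⟨a, ha⟩ := exists_prime_orderOf_dvd_card' p hpS
    obtain ⟨R, hR⟩ := (isPGroup_zpowers (p := p) (x := (a : G)) ⟨1, by rw [Subgroup.orderOf_coe, ha, pow_one]⟩).exists_le_sylow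
    obtain ⟨P, hP⟩ := (isPGroup_zpowers (p := p) (x := x) ⟨1, by rw [hx, pow_one]⟩).exists_le_sylow
    obtain ⟨g, hg⟩ := MulAction.exists_smul_eq G P R
    set y := g * x * g⁻¹ with hy
    have hyR : y ∈ (R : Subgroup G) := by
      rw [← hg]; exact ⟨x, hP (mem_zpowers x), rfl⟩
    have hay : (a : G) * y = y * a := by
      have hxP := hP (mem_zpowers x)
      have haR := hR (mem_zpowers (a : G))
      rw [← hg] at haR
      obtain ⟨b, hb, hba⟩ := haR
      have := central_of_mem hiso P.2 hxP b hb
      rw [← hba, hy]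
      show g * b * g⁻¹ * (g * x * g⁻¹) = g * x * g⁻¹ * (g * b * g⁻¹)
      calc g * b * g⁻¹ * (g * x * g⁻¹) = g * (b * x) * g⁻¹ := by group
        _ = g * (x * b) * g⁻¹ := by rw [this]
        _ = _ := by group
    have hgdecomp : ∃ d ∈ D, ∃ i : ℤ, g = d * x ^ i := by
      obtain ⟨d, hd, w, hw, e⟩ := Subgroup.mem_sup_of_normal_left.mp (hDx.ge (mem_top g))
      obtain ⟨i, rfl⟩ := hw
      exact ⟨d, hd, i, e.symm⟩
    obtain ⟨d, hd, i, hgd⟩ := hgdecomp
    have hyS : S.map (MulAut.conj y).toMonoidHom = S' := by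
      have e : y = d * x * d⁻¹ := by
        rw [hy, hgd]; group
      have hd2 : S.map (MulAut.conj d⁻¹).toMonoidHom = S :=
        CfsgLib.LocalBasic.conj_map_eq_of_mem_normalizer (hDS (inv_mem hd))
      rw [e, show (MulAut.conj (d * x * d⁻¹)).toMonoidHom = (MulAut.conj d).toMonoidHom.comp
          ((MulAut.conj x).toMonoidHom.comp (MulAut.conj d⁻¹).toMonoidHom) by ext z; simp [mul_assoc],
        ← Subgroup.map_map, ← Subgroup.map_map, hd2]
      exact hconjS d hd
    have haS' : (a : G) ∈ S' := by
      rw [← hyS]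
      exact ⟨a, a.2, by show y * (a : G) * y⁻¹ = a; rw [← hay, mul_inv_cancel_right]⟩
    -- minimality
    set I : Subgroup ↥D := (S ⊓ S').subgroupOf D with hI
    have hIn : I.Normal := by
      refine (Subgroup.normal_subgroupOf_iff_le_normalizer (inf_le_left.trans hSD)).mpr fun d hd => ?_
      exact CfsgLib.LocalBasic.normalizer_inf_ge (B := D) hDS
        (fun d hd => CfsgLib.LocalBasic.mem_normalizer_of_conj_map_eq (hconjS d hd)) hd
    have hIS : I ≤ S0 := fun w hw => by
      obtain ⟨s, hs, he⟩ := (Subgroup.mem_subgroupOf.mp hw).1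
      rwa [← Subtype.ext he]
    have hI0 : I ≠ ⊥ := by
      intro h
      have hm : (⟨(a : G), hSD a.2⟩ : ↥D) ∈ I := ⟨a.2, haS'⟩
      rw [h, Subgroup.mem_bot] at hm
      have h1 : (a : G) = 1 := congrArg Subtype.val hm
      rw [← Subgroup.orderOf_coe, h1, orderOf_one] at ha
      exact (Fact.out : p.Prime).ne_one ha.symm
    have hle := hS0min ⟨hIn, hI0, hIS.trans hS0N⟩ hIS
    have hSle : S ≤ S' := by
      rintro _ ⟨s, hs, rfl⟩
      exact (Subgroup.mem_subgroupOf.mp (hle hs)).2
    exact hSS (Subgroup.eq_of_le_of_card_ge hSle (Subgroup.card_map_of_injective (MulEquiv.injective _)).le).symm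

end Cfsg.Agent.S2972
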