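import Cfsg.Statements.S2975
import Cfsg.Agent.Lib.IsolatedP
import Cfsg.Agent.Lib.Core
import Cfsg.Agent.Lib.GroupB.Coprime
import Cfsg.Agent.Lib.ChermakDelgado

set_option autoImplicit false
open Cfsg

namespace Cfsg.Agent.S2975
open Subgroup CfsgLib.IsolatedP CfsgLib.GroupB.Coprime CfsgLib.LocalBasic
open scoped commutatorElement Pointwise

/-- Let G be a finite group, p a prime and x ∈ G an isolated element of order p (the only conjugate of x commuting with x is x) which is not central modulo the largest normal subgroup of order prime to p, while x is central modulo the largest normal subgroup of order prime to p in every proper subgroup containing x, and the image of x is so in every quotient of G by a nontrivial normal subgroup (a minimal counterexample to the Z*_p statement). Then for every prime q, every q-subgroup of G that is normalized by x and maximal among the q-subgroups normalized by x is either trivial or a Sylow q-subgroup of G; and C_G(x) permutes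 the x-invariant Sylow q-subgroups of G transitively by conjugation. -/
theorem result {G : Type*} [Group G] [Finite G] {p : ℕ} [Fact p.Prime] (x : G) (hx : orderOf x = p) (hiso : Cfsg.IsIsolated x) (hnz : ¬ Cfsg.InZStar p x) (hmin : ∀ (H : Subgroup G) (hxH : x ∈ H), H ≠ ⊤ → Cfsg.InZStar p (⟨x, hxH⟩ : ↥H)) (hquot : ∀ (N : Subgroup G) [N.Normal], N ≠ ⊥ → Cfsg.InZStar p (QuotientGroup.mk x : G ⧸ N)) (q : ℕ) [Fact q.Prime] : (∀ Q : Subgroup G, IsPGroup q ↥Q → x ∈ Subgroup.normalizer (Q : Set G) → (∀ R : Subgroup G, IsPGroup q ↥R → x ∈ Subgroup.normalizer (R : Set G) → Q ≤ R → R = Q) → Q = ⊥ ∨ ∃ S : Sylow q G, (S : Subgroup G) = Q) ∧ (∀ S₁ S₂ : Sylow q G, x ∈ Subgroup.normalizer ((S₁ : Subgroup G) : Set G) → x ∈ Subgroup.normalizer ((S₂ : Subgroup G) : Set G) → ∃ c ∈ Subgroup.centralizer ({x} : Set G), (S₁ : Subgroup G).map (MulAut.conj c).toMonoidHom = (S₂ : Subgroup G)) := by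
  classical
  set A := Subgroup.zpowers x with hA
  have hAp : IsPGroup p ↥A := isPGroup_zpowers ⟨1, by rw [hx, pow_one]⟩
  have hAc : Nat.card ↥A = p := by rw [Nat.card_zpowers, hx]
  have hO : Cfsg.pPrimeCore p G = ⊥ := by
    by_contra hne
    apply hnz
    intro g
    have h := hquot (Cfsg.pPrimeCore p G) hne (QuotientGroup.mk g)
    rw [CfsgLib.Core.pPrimeCore_quotient_eq_bot, Subgroup.mem_bot, ← QuotientGroup.mk_inv, ← QuotientGroup.mk_inv,
      ← QuotientGroup.mk_mul, ← QuotientGroup.mk_mul, ← QuotientGroup.mk_mul, QuotientGroup.eq_one_iff] at h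
    exact h
  refine ⟨fun Q hQ hxQ hmax => ?_, fun S1 S2 h1 h2 => ?_⟩
  swap
  · obtain ⟨g, hg⟩ := MulAction.exists_smul_eq G S1 S2
    have hS2 : (S2 : Subgroup G) = (S1 : Subgroup G).map (MulAut.conj g).toMonoidHom := by rw [← hg]; rfl
    set N := Subgroup.normalizer ((S1 : Subgroup G) : Set G) with hN
    set x' := g⁻¹ * x * g with hx'
    have hx'N : x' ∈ N := by
      refine mem_normalizer_of_conj_map_eq ?_
      have h3 := conj_map_eq_of_mem_normalizer h2
      rw [hS2, Subgroup.map_map] at h3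
      have h4 := congrArg (Subgroup.map (MulAut.conj g⁻¹).toMonoidHom) h3
      rw [Subgroup.map_map, Subgroup.map_map] at h4
      have e : ((MulAut.conj g⁻¹).toMonoidHom.comp (MulAut.conj g).toMonoidHom) = MonoidHom.id G := by ext y; simp [mul_assoc]
      rw [e, Subgroup.map_id] at h4
      refine Eq.trans ?_ h4
      congr 1; ext y; simp [hx', mul_assoc]
    obtain ⟨P, hP⟩ := (hAp.comap_subtype (K := N)).exists_le_sylow
    have hx'p : IsPGroup p ↥(Subgroup.zpowers (⟨x', hx'N⟩ : ↥N)) := isPGroup_zpowers ⟨1, by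
      rw [Subgroup.orderOf_mk, pow_one, hx', show g⁻¹ * x * g = MulAut.conj g⁻¹ x by simp, MulEquiv.orderOf_eq, hx]⟩
    obtain ⟨n, -, hn⟩ := exists_conj_le_sylow P (M := ⊤) le_top hx'p le_top
    have hxP : x ∈ (P : Subgroup ↥N).map N.subtype :=
      ⟨⟨x, h1⟩, hP (Subgroup.mem_subgroupOf.mpr (mem_zpowers x)), rfl⟩
    have hnP : ((n : G) * g⁻¹) * x * ((n : G) * g⁻¹)⁻¹ ∈ (P : Subgroup ↥N).map N.subtype :=
      ⟨_, hn ⟨x', hx'N⟩ (mem_zpowers _), by simp [hx', mul_assoc]⟩
    have h5 := eq_of_mem hiso (P.2.map N.subtype) hxP hnP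
    refine ⟨g * (n : G)⁻¹, ?_, ?_⟩
    · rw [Subgroup.mem_centralizer_singleton_iff]
      have h6 : ((n : G) * g⁻¹) * x = x * ((n : G) * g⁻¹) := mul_inv_eq_iff_eq_mul.mp h5
      have h7 : Commute ((n : G) * g⁻¹) x := h6
      have h8 := h7.inv_left
      rw [mul_inv_rev, inv_inv] at h8
      exact h8
    · rw [hS2]
      conv_rhs => rw [← conj_map_eq_of_mem_normalizer (inv_mem n.2 : (n : G)⁻¹ ∈ N), Subgroup.map_map]
      congr 1; ext y; simp [mul_assoc]
  by_cases hqp : q = p
  · subst hqp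
    right
    have hAQ : A ≤ Subgroup.normalizer (Q : Set G) := Subgroup.zpowers_le.mpr hxQ
    have hR := hmax (Q ⊔ A) (hQ.to_sup_of_normal_left' hAp hAQ)
      (Subgroup.le_normalizer (mem_sup_right (mem_zpowers x))) le_sup_left
    have hxQ' : x ∈ Q := hR ▸ mem_sup_right (mem_zpowers x)
    obtain ⟨S, hS⟩ := hQ.exists_le_sylow
    exact ⟨S, hmax S S.2 (Subgroup.le_normalizer (hS hxQ')) hS⟩
  by_cases hQ1 : Q = ⊥
  · exact Or.inl hQ1
  right
  have hpq : p ≠ q := fun h => hqp h.symm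
  set N := Subgroup.normalizer (Q : Set G) with hN
  have hNtop : N ≠ ⊤ := by
    intro h
    apply hQ1
    rw [eq_bot_iff, ← hO]
    refine CfsgLib.Core.le_pPrimeCore (normalizer_eq_top_iff.mp h) ?_
    obtain ⟨k, hk⟩ := IsPGroup.iff_card.mp hQ
    rw [hk]; exact Nat.Coprime.pow_left k ((Nat.coprime_primes Fact.out Fact.out).mpr hqp)
  have hcz := hmin N hxQ hNtop
  set M := (Cfsg.pPrimeCore p ↥N).map N.subtype with hM
  have hMN : M ≤ N := Subgroup.map_subtype_le _
  have hNM : N ≤ Subgroup.normalizer (M : Set G) := by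
    refine (Subgroup.normal_subgroupOf_iff_le_normalizer hMN).mp ?_
    rw [hM, show ((Cfsg.pPrimeCore p ↥N).map N.subtype).subgroupOf N = Cfsg.pPrimeCore p ↥N from
      Subgroup.comap_map_eq_self_of_injective N.subtype_injective _]
    infer_instance
  have hMp : (Nat.card ↥M).Coprime p := CfsgLib.Core.coprime_card_map _ (CfsgLib.Core.card_pPrimeCore_coprime p)
  have hAM : A ≤ Subgroup.normalizer (M : Set G) := (Subgroup.zpowers_le.mpr hxQ).trans hNM
  have hAs : Group.IsSolvable ↥A := by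
    haveI := hAp.isNilpotent
    infer_instance
  have hQM : Q ≤ M := by
    intro y hy
    have hyN : y ∈ N := Subgroup.le_normalizer hy
    refine ⟨⟨y, hyN⟩, CfsgLib.Core.le_pPrimeCore (N := Q.subgroupOf N) ?_ ?_ (Subgroup.mem_subgroupOf.mpr hy), rfl⟩
    · exact (Subgroup.normal_subgroupOf_iff_le_normalizer Subgroup.le_normalizer).mpr le_rfl
    · rw [Nat.card_congr (Subgroup.subgroupOfEquivOfLe (H := Q) (K := N) Subgroup.le_normalizer).toEquiv]
      obtain ⟨k, hk⟩ := IsPGroup.iff_card.mp hQ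
      rw [hk]; exact Nat.Coprime.pow_left k ((Nat.coprime_primes Fact.out Fact.out).mpr hqp)
  set Nc := N ⊓ Subgroup.centralizer (A : Set G) with hNc
  have hdec : ∀ n ∈ N, ∃ m ∈ M, ∃ c ∈ Nc, m * c = n := by
    intro n hn
    have hc : n * x * n⁻¹ * x⁻¹ ∈ M := ⟨_, hcz ⟨n, hn⟩, rfl⟩
    have hle : A.map (MulAut.conj n).toMonoidHom ≤ M ⊔ A := by
      rw [hA, MonoidHom.map_zpowers, Subgroup.zpowers_le]
      show n * x * n⁻¹ ∈ M ⊔ A
      rw [show n * x * n⁻¹ = (n * x * n⁻¹ * x⁻¹) * x by group]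
      exact mul_mem_sup hc (mem_zpowers x)
    obtain ⟨m, hm, he⟩ := sup_conj M A _ hAM (by rw [hAc]; exact hMp) hle
      (Subgroup.card_map_of_injective (MulEquiv.injective _)) (Or.inr hAs)
    have hmx : m * x * m⁻¹ ∈ A.map (MulAut.conj n).toMonoidHom := he ▸ ⟨x, mem_zpowers x, rfl⟩
    have hnx : n * x * n⁻¹ ∈ A.map (MulAut.conj n).toMonoidHom := ⟨x, mem_zpowers x, rfl⟩
    have hd : (m * x * m⁻¹) * (n * x * n⁻¹)⁻¹ ∈ M := by
      have h1 : m * x * m⁻¹ * x⁻¹ ∈ M := by
        have h3 := M.mul_mem hm ((Subgroup.mem_normalizer_iff.mp (hAM (mem_zpowers x)) m⁻¹).mp (inv_mem hm))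
        simpa [mul_assoc] using h3
      have := M.mul_mem h1 (inv_mem hc)
      simpa [mul_assoc] using this
    have hbot : M ⊓ A.map (MulAut.conj n).toMonoidHom = ⊥ := CfsgLib.GroupB.Coprime.inf_eq_bot_of_coprime (by
      rw [(Subgroup.card_map_of_injective (MulEquiv.injective (MulAut.conj n))).trans hAc |> fun h => show Nat.card ↥(A.map (MulAut.conj n).toMonoidHom) = p from h]; exact hMp)
    have h4 := (Subgroup.eq_bot_iff_forall _).mp hbot _ (Subgroup.mem_inf.mpr ⟨hd, mul_mem hmx (inv_mem hnx)⟩)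
    have h5 : m * x * m⁻¹ = n * x * n⁻¹ := mul_inv_eq_one.mp h4
    refine ⟨m, hm, m⁻¹ * n, Subgroup.mem_inf.mpr ⟨mul_mem (inv_mem (hMN hm)) hn, ?_⟩, by group⟩
    rw [hA, Subgroup.mem_centralizer_iff]
    rintro _ ⟨i, rfl⟩
    have h6 : Commute (m⁻¹ * n) x := by
      show m⁻¹ * n * x = x * (m⁻¹ * n)
      calc m⁻¹ * n * x = m⁻¹ * (n * x * n⁻¹) * n := by group
        _ = m⁻¹ * (m * x * m⁻¹) * n := by rw [h5]
        _ = _ := by group
    exact (h6.zpow_right i).eq.symm
  obtain ⟨T⟩ := (inferInstance : Nonempty (Sylow q ↥Nc))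
  set T' := (T : Subgroup ↥Nc).map Nc.subtype with hT'
  have hT'Nc : T' ≤ Nc := Subgroup.map_subtype_le _
  have hT'M : T' ≤ Subgroup.normalizer (M : Set G) := (hT'Nc.trans inf_le_left).trans hNM
  set W := M ⊔ T' with hW
  have hWN : W ≤ N := sup_le hMN (hT'Nc.trans inf_le_left)
  have hAW : A ≤ Subgroup.normalizer (W : Set G) := by
    refine normalizer_sup_ge hAM ?_
    refine le_trans ?_ (Subgroup.centralizer_le_normalizer (T' : Set G))
    exact Subgroup.le_centralizer_iff.mp (hT'Nc.trans inf_le_right)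
  have hWcard : Nat.card ↥W * Nat.card ↥(M ⊓ T' : Subgroup G) = Nat.card ↥M * Nat.card ↥T' := by
    refine le_antisymm ?_ (CfsgLib.ChermakDelgado.card_mul_le_sup M T')
    rw [show Nat.card ↥W = Nat.card ↥((M : Set G) * (T' : Set G)) by
      rw [← Subgroup.coe_mul_of_right_le_normalizer_left M T' hT'M]; rfl]
    exact CfsgLib.ChermakDelgado.mul_card_le M T'
  have hT'q : IsPGroup q ↥T' := T.2.map _
  have hcop : (Nat.card ↥A).Coprime (Nat.card ↥W) := by
    rw [hAc]
    refine (Nat.Coprime.coprime_dvd_right (Dvd.intro _ hWcard) (hMp.symm.mul_right ?_))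
    obtain ⟨k, hk⟩ := IsPGroup.iff_card.mp hT'q
    rw [hk]; exact Nat.Coprime.pow_right k ((Nat.coprime_primes Fact.out Fact.out).mpr hpq)
  obtain ⟨S, hQS, hSW, hSA⟩ := exists_invariant_sylow_ge hAW hcop (Or.inr hAs) q (hQM.trans le_sup_left) hQ
    (Subgroup.zpowers_le.mpr hxQ)
  have hSQ : S = Q := hmax S hSW.isPGroup (hSA (mem_zpowers x)) hQS
  subst hSQ
  -- the q-part of N divides |W|
  have hNcard : Nat.card ↥N * Nat.card ↥(M ⊓ Nc : Subgroup G) ≤ Nat.card ↥M * Nat.card ↥Nc := by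
    have hset : (N : Set G) ⊆ (M : Set G) * (Nc : Set G) := fun n hn => by
      obtain ⟨m, hm, c, hc, e⟩ := hdec n hn
      exact ⟨m, hm, c, hc, e⟩
    exact (Nat.mul_le_mul_right _ (Nat.card_mono (Set.toFinite _) hset)).trans (CfsgLib.ChermakDelgado.mul_card_le M Nc)
  have hNcard' : Nat.card ↥N * Nat.card ↥(M ⊓ Nc : Subgroup G) = Nat.card ↥M * Nat.card ↥Nc :=
    le_antisymm hNcard ((CfsgLib.ChermakDelgado.card_mul_le_sup M Nc).trans
      (Nat.mul_le_mul_right _ (Subgroup.card_le_of_le (sup_le hMN inf_le_left))))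
  have hfT : (Nat.card ↥T').factorization q = (Nat.card ↥Nc).factorization q := by
    rw [hT', Subgroup.card_map_of_injective Nc.subtype_injective, T.card_eq_multiplicity,
      Nat.factorization_pow, (Fact.out : q.Prime).factorization]
    simp
  have hle : (Nat.card ↥N).factorization q ≤ (Nat.card ↥W).factorization q := by
    have h1 := congrArg (fun k => k.factorization q) hWcard
    have h2 := congrArg (fun k => k.factorization q) hNcard'
    simp only [Nat.factorization_mul Nat.card_pos.ne' Nat.card_pos.ne', Finsupp.add_apply] at h1 h2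
    have h3 : (Nat.card ↥(M ⊓ T' : Subgroup G)).factorization q ≤ (Nat.card ↥(M ⊓ Nc : Subgroup G)).factorization q :=
      (Nat.factorization_le_iff_dvd Nat.card_pos.ne' Nat.card_pos.ne').mpr
        (Subgroup.card_dvd_of_le (inf_le_inf_left M hT'Nc)) q
    omega
  obtain ⟨S', hS'⟩ := hQ.exists_le_sylow
  refine ⟨S', (eq_of_normalizer_inf_le S'.isPGroup' hS' ?_).symm⟩
  set I := (S' : Subgroup G) ⊓ N with hI
  have hQI : S ≤ I := le_inf hS' Subgroup.le_normalizer
  obtain ⟨k, hk⟩ := IsPGroup.iff_card.mp (S'.isPGroup'.to_le (inf_le_left : I ≤ _))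
  have hkN : k ≤ (Nat.card ↥N).factorization q :=
    ((Fact.out : q.Prime).pow_dvd_iff_le_factorization Nat.card_pos.ne').mp (hk ▸ Subgroup.card_dvd_of_le inf_le_right)
  have hcard : Nat.card ↥I ≤ Nat.card ↥S := by
    rw [hk, hSW.2]; exact Nat.pow_le_pow_right (Fact.out : q.Prime).pos (hkN.trans hle)
  exact (Subgroup.eq_of_le_of_card_ge hQI hcard).ge

end Cfsg.Agent.S2975
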