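import Cfsg.Statements.S3836
import Cfsg.Agent.Lib.Core

set_option autoImplicit false
open Cfsg

namespace Cfsg.Agent.S3836

/-- Let G be a finite group that is p-stable in the normalizer form: for every p-subgroup Q and every x ∈ N_G(Q) with [Q, x, x] = 1, the image of x in N_G(Q)/C_G(Q) lies in O_p(N_G(Q)/C_G(Q)). Then every subgroup of G is p-stable in the same sense. -/
theorem result {G : Type*} [Group G] [Finite G] {p : ℕ} [Fact p.Prime] (hst : Cfsg.IsNormalizerPStable p G) (H : Subgroup G) : Cfsg.IsNormalizerPStable p ↥H := by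
  intro P hP g hg hq
  set P₀ := P.map H.subtype
  set N := Subgroup.normalizer (P₀ : Set G)
  have hle : ∀ x ∈ Subgroup.normalizer (P : Set ↥H), (x : G) ∈ N := by
    intro x hx
    refine Subgroup.mem_normalizer_fintype ?_
    rintro _ ⟨y, hy, rfl⟩
    exact ⟨x * y * x⁻¹, (Subgroup.mem_normalizer_iff.mp hx y).mp hy, rfl⟩
  let ι : ↥(Subgroup.normalizer (P : Set ↥H)) →* ↥N := (H.subtype.comp (Subgroup.normalizer (P : Set ↥H)).subtype).codRestrict N fun x => hle x x.2
  have hiff : ∀ x, ι x ∈ (Subgroup.centralizer (P₀ : Set G)).subgroupOf N ↔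
      x ∈ (Subgroup.centralizer (P : Set ↥H)).subgroupOf (Subgroup.normalizer (P : Set ↥H)) := by
    intro x
    rw [Subgroup.mem_subgroupOf, Subgroup.mem_subgroupOf, Subgroup.mem_centralizer_iff, Subgroup.mem_centralizer_iff]
    constructor
    · exact fun h y hy => Subtype.ext (h _ ⟨y, hy, rfl⟩)
    · rintro h _ ⟨y, hy, rfl⟩
      exact congrArg Subtype.val (h y hy)
  let ψ := QuotientGroup.map ((Subgroup.centralizer (P : Set ↥H)).subgroupOf (Subgroup.normalizer (P : Set ↥H)))
    ((Subgroup.centralizer (P₀ : Set G)).subgroupOf N) ι fun x hx => (hiff x).mpr hx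
  have hψ : Function.Injective ψ := by
    rw [injective_iff_map_eq_one]
    intro y hy
    obtain ⟨x, rfl⟩ := QuotientGroup.mk'_surjective _ y
    exact (QuotientGroup.eq_one_iff x).mpr ((hiff x).mp ((QuotientGroup.eq_one_iff _).mp hy))
  have h0 := hst P₀ (hP.map H.subtype) (g : G) (hle g hg) (by
    rw [← (show (Subgroup.zpowers g).map H.subtype = Subgroup.zpowers (g : G) from MonoidHom.map_zpowers _ _),
      ← Subgroup.map_commutator, ← Subgroup.map_commutator, hq, Subgroup.map_bot])
  haveI := Cfsg.pCore_normal p (↥N ⧸ (Subgroup.centralizer (P₀ : Set G)).subgroupOf N)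
  exact CfsgLib.Core.le_pCore (Subgroup.Normal.comap inferInstance ψ)
    ((CfsgLib.Core.isPGroup_pCore p).comap_of_injective ψ hψ) h0

end Cfsg.Agent.S3836
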