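import Cfsg.Statements.S3315
import Mathlib
import Cfsg.Agent.Lib.Unitary.SylowTwo

set_option autoImplicit false
open Cfsg CfsgLib.Unitary.SylowTwo CfsgLib.Unitary.FieldNorm CfsgLib.Unitary.Basic

namespace Cfsg.Agent.S3315

variable {F : Type*} [Field F] [Fintype F] [CharP F 2] {q : ℕ}

theorem fixed_field (hF : Fintype.card F = q ^ 2) (ψ : F →+* F) (hψ : ∀ x, ψ (ψ x) = x) (c : F) (hc : c ^ q = c) :
    ψ c = c := by
  classical
  by_contra hne
  let K : Subfield F :=
    { carrier := {x | ψ x = x}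
      one_mem' := map_one ψ
      zero_mem' := map_zero ψ
      add_mem' := fun {a b} ha hb => by show ψ (a + b) = a + b; rw [map_add, ha, hb]
      mul_mem' := fun {a b} ha hb => by show ψ (a * b) = a * b; rw [map_mul, ha, hb]
      neg_mem' := fun {a} ha => by show ψ (-a) = -a; rw [map_neg, ha]
      inv_mem' := fun a ha => by show ψ a⁻¹ = a⁻¹; rw [map_inv₀, ha] }
  let T : F →+ F := AddMonoidHom.mk' (fun z => z + ψ z) (fun u v => by simp only [map_add]; ring)
  have hker : Nat.card T.ker = Nat.card K := by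
    refine Nat.card_congr (Equiv.subtypeEquivRight fun z => ?_)
    rw [AddMonoidHom.mem_ker]
    show z + ψ z = 0 ↔ ψ z = z
    rw [CharTwo.add_eq_zero, eq_comm]
  have hrange : Nat.card T.range ≤ Nat.card K := by
    refine Nat.card_le_card_of_injective (fun z => ⟨z.1, ?_⟩) fun u v h => Subtype.ext (congrArg Subtype.val h :)
    obtain ⟨w, hw⟩ := z.2
    rw [← hw]
    show ψ (w + ψ w) = w + ψ w
    rw [map_add, hψ, add_comm]
  have hprod : Nat.card T.ker * Nat.card T.range = q ^ 2 := by
    rw [← hF, ← Nat.card_eq_fintype_card, ← AddSubgroup.index_ker, AddSubgroup.card_mul_index]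
  rw [hker] at hprod
  have hcard := Module.natCard_eq_pow_finrank (K := K) (V := F)
  rw [Nat.card_eq_fintype_card, hF] at hcard
  set m := Module.finrank K F
  set s := Nat.card K with hs
  have hm2 : 2 ≤ m := by
    by_contra h
    have hm : m = 0 ∨ m = 1 := by omega
    have hq2 := two_le_q hF
    rcases hm with h0 | h1
    · rw [h0, pow_zero] at hcard; nlinarith
    · rw [h1, pow_one] at hcard
      have : Function.Bijective (fun x : K => (x : F)) :=
        (Function.Injective.bijective_of_nat_card_le Subtype.val_injective (by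
          rw [Nat.card_eq_fintype_card, hF]; exact le_of_eq hcard))
      obtain ⟨⟨x, hx⟩, rfl⟩ := this.2 c
      exact hne hx
  have hs1 : 1 ≤ s := Nat.card_pos
  have hle : s ^ 2 ≤ q ^ 2 := by rw [hcard]; exact Nat.pow_le_pow_right hs1 hm2
  have hge : q ^ 2 ≤ s ^ 2 := by rw [← hprod, sq]; exact Nat.mul_le_mul_left _ hrange
  have hsq : s = q := Nat.pow_left_injective two_ne_zero (le_antisymm hle hge)
  -- so the fixed field of `ψ` is the field with `q` elements
  let j : K → {d : F // d ^ q = d} := fun x => ⟨x.1, by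
    have := FiniteField.pow_card (x : K)
    rw [← Nat.card_eq_fintype_card, ← hs, hsq] at this
    exact congrArg Subtype.val this⟩
  have hj : Function.Bijective j :=
    Function.Injective.bijective_of_nat_card_le (fun u v h => Subtype.ext (congrArg Subtype.val h :)) (by
      rw [card_fixed hF]; exact hsq.ge)
  obtain ⟨⟨x, hx⟩, hxc⟩ := hj.2 ⟨c, hc⟩
  have : x = c := congrArg Subtype.val hxc
  subst this
  exact hne hx

theorem fixed_center (hF : Fintype.card F = q ^ 2) (φ : MulAut (U hF)) (u : U hF)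
    (h2 : ∀ g, φ (φ g) = u * g * u⁻¹) : ∀ g ∈ Subgroup.center (U hF), φ g = g := by
  classical
  have two := two_eq_zero (F := F)
  choose X Y H E using mk_surj hF
  have hX : ∀ x y h, X (mk hF x y h) = x := fun x y h => ((mk_ext hF).mp (E (mk hF x y h))).1
  have hY : ∀ x y h, Y (mk hF x y h) = y := fun x y h => ((mk_ext hF).mp (E (mk hF x y h))).2
  have hXmul : ∀ a b, X (a * b) = X a + X b := fun a b => by
    conv_lhs => rw [← E a, ← E b, mk_mul hF, hX]
  have hXu : ∀ a, X (u * a * u⁻¹) = X a := fun a => by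
    have hu : X (u⁻¹) = X u := by conv_lhs => rw [← E u, mk_inv hF, hX]
    rw [hXmul, hXmul, hu]
    linear_combination (X u) * two
  have hcen : ∀ a, a * a = 1 ↔ X a = 0 := fun a => by
    conv_lhs => rw [← E a]
    exact sq_eq_one_iff hF _
  have hφcen : ∀ a, X a = 0 → X (φ a) = 0 := fun a ha => by
    rw [← hcen] at ha ⊢; rw [← map_mul, ha, map_one]
  let L : F → U hF := fun x => mk hF x (aa hF * x ^ (q + 1)) (lift_cond hF x)
  have hL : ∀ x, X (L x) = x := fun x => hX _ _ _
  let σ : F → F := fun x => X (φ (L x))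
  have hσX : ∀ a, X (φ a) = σ (X a) := fun a => by
    have h0 : X ((L (X a))⁻¹ * a) = 0 := by
      rw [hXmul]
      have : X (L (X a))⁻¹ = X a := by
        show X (mk hF _ _ _)⁻¹ = _
        rw [mk_inv hF, hX]
      rw [this, CharTwo.add_self_eq_zero]
    have := hφcen _ h0
    rw [map_mul, hXmul, map_inv] at this
    have hi : X (φ (L (X a)))⁻¹ = σ (X a) := by
      show _ = X (φ (L (X a)))
      conv_lhs => rw [← E (φ (L (X a))), mk_inv hF, hX]
    rw [hi] at this
    exact (CharTwo.add_eq_zero.mp this).symm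
  have hσadd : ∀ x y, σ (x + y) = σ x + σ y := fun x y => by
    have := hσX (L x * L y)
    rw [map_mul, hXmul, hXmul, hL, hL] at this
    exact this.symm
  have hσσ : ∀ x, σ (σ x) = x := fun x => by
    show σ (X (φ (L x))) = x
    rw [← hσX, h2, hXu, hL]
  let τ : F → F := fun c => if hc : c ^ q = c then Y (φ (mk hF 0 c (zero_cond hF hc))) else 0
  have hτ : ∀ x, τ (x ^ (q + 1)) = σ x ^ (q + 1) := fun x => by
    have hc := fixed_norm hF x
    show (if hc : _ then _ else _) = _
    rw [dif_pos hc]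
    have e : mk hF 0 (x ^ (q + 1)) (zero_cond hF hc) = L x * L x := (mk_sq hF _).symm
    rw [e, map_mul]
    conv_lhs => rw [← E (φ (L x)), mk_sq hF, hY]
  set B : F → F → F := fun x y => x ^ q * y + x * y ^ q with hB
  have hN : ∀ x y, (x + y) ^ (q + 1) = x ^ (q + 1) + y ^ (q + 1) + B x y := fun x y => by
    simp only [hB, pow_succ, add_pow_q hF]; ring
  have hτadd : ∀ c d, c ^ q = c → d ^ q = d → τ (c + d) = τ c + τ d := fun c d hc hd => by
    have hcd : (c + d) ^ q = c + d := by rw [add_pow_q hF, hc, hd]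
    show (if h : _ then _ else _) = (if h : _ then _ else _) + (if h : _ then _ else _)
    rw [dif_pos hc, dif_pos hd, dif_pos hcd]
    have e : mk hF 0 (c + d) (zero_cond hF hcd) = mk hF 0 c (zero_cond hF hc) * mk hF 0 d (zero_cond hF hd) := by
      rw [mk_mul hF, mk_ext hF]; simp
    have hz : X (φ (mk hF 0 c (zero_cond hF hc))) = 0 := hφcen _ (hX _ _ _)
    rw [e, map_mul]
    conv_lhs => rw [← E (φ (mk hF 0 c _)), ← E (φ (mk hF 0 d _)), mk_mul hF, hY, hz, zero_pow (q_ne_zero hF), zero_mul, add_zero]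
  have hBfix : ∀ x y, B x y ^ q = B x y := fun x y => by
    simp only [hB, add_pow_q hF, mul_pow, pow_q_q hF]; ring
  have hBσ : ∀ x y, B (σ x) (σ y) = τ (B x y) := fun x y => by
    have h := hτ (x + y)
    rw [hN, hσadd, hN, hτadd (x ^ (q + 1) + y ^ (q + 1)) (B x y)
      (by rw [add_pow_q hF, fixed_norm hF, fixed_norm hF]) (hBfix x y),
      hτadd (x ^ (q + 1)) (y ^ (q + 1)) (fixed_norm hF x) (fixed_norm hF y), hτ x, hτ y] at h
    exact (add_left_cancel h).symm
  have hσ0 : σ 0 = 0 := by
    have := hσadd 0 0; rw [add_zero] at this; linear_combination -this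
  have hσne : ∀ x, x ≠ 0 → σ x ≠ 0 := fun x hx e => hx (by rw [← hσσ x, e, hσ0])
  have hline : ∀ x y, x ≠ 0 → (B x y = 0 ↔ (y / x) ^ q = y / x) := fun x y hx => by
    rw [div_pow, div_eq_div_iff (pow_ne_zero _ hx) hx]
    simp only [hB]
    rw [CharTwo.add_eq_zero]
    constructor <;> intro h <;> linear_combination -h
  have hτ0 : τ 0 = 0 := by
    have := hτ 0; rwa [zero_pow (Nat.succ_ne_zero q), hσ0, zero_pow (Nat.succ_ne_zero q)] at this
  -- the semilinear structure
  set b := σ 1 with hb
  have hb0 : b ≠ 0 := hσne 1 one_ne_zero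
  let f : F → F := fun c => σ c / b
  have hσc : ∀ c, σ c = f c * b := fun c => (div_mul_cancel₀ _ hb0).symm
  have hf1 : f 1 = 1 := div_self hb0
  have hffix : ∀ c, c ^ q = c → f c ^ q = f c := fun c hc => by
    have : B (σ 1) (σ c) = 0 := by
      rw [hBσ, show B 1 c = 0 by simp [hB, hc, CharTwo.add_self_eq_zero], hτ0]
    exact (hline _ _ hb0).mp this
  obtain ⟨a, ha⟩ : ∃ a : F, a + a ^ q = 1 := ⟨aa hF, aa_spec hF⟩
  have hsemi : ∀ c, c ^ q = c → ∀ x, σ (c * x) = f c * σ x := by
    have key : ∀ c, c ^ q = c → ∀ x, x ^ q ≠ x → ∀ d, d ^ q = d →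
        f (d * c) * b * σ x = f d * b * σ (c * x) := by
      intro c hc x hx d hd
      have hx0 : x ≠ 0 := fun e => hx (by rw [e, zero_pow (q_ne_zero hF)])
      have hB0 : B (σ x) (σ (c * x)) = 0 := by
        rw [hBσ, show B x (c * x) = 0 by
          simp only [hB, mul_pow, hc]; linear_combination (x ^ q * c * x) * two, hτ0]
      obtain ⟨g, hg, hge⟩ : ∃ g, g ^ q = g ∧ σ (c * x) = g * σ x :=
        ⟨_, (hline _ _ (hσne x hx0)).mp hB0, (div_mul_cancel₀ _ (hσne x hx0)).symm⟩
      have hne : B b (σ x) ≠ 0 := fun e => by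
        have hz := (hline _ _ hb0).mp e
        -- `σ x` is then a fixed multiple of `b`, forcing `x` fixed
        have hx' : B (1 : F) x = 0 := by
          by_contra hne'
          have h1 : B (σ (σ 1)) (σ (σ x)) = τ (B b (σ x)) := hBσ _ _
          rw [hσσ, hσσ, e, hτ0] at h1
          exact hne' h1
        rw [hline _ _ one_ne_zero, div_one] at hx'
        exact hx hx'
      have h1 : B (σ d) (σ (c * x)) = B (σ (d * c)) (σ x) := by
        rw [hBσ, hBσ]; congr 1; simp only [hB, mul_pow, hc, hd]; ring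
      rw [hσc d, hσc (d * c), hge] at h1
      have hlin : ∀ s t, s ^ q = s → B (s * b) t = s * B b t := fun s t hs => by
        simp only [hB, mul_pow, hs]; ring
      have hlin2 : ∀ s t, s ^ q = s → B b (s * t) = s * B b t := fun s t hs => by
        simp only [hB, mul_pow, hs]; ring
      rw [hlin _ _ (hffix d hd), hlin _ _ (hffix _ (by rw [mul_pow, hd, hc])), hlin2 _ _ hg, ← mul_assoc] at h1
      rw [hge, ← mul_right_cancel₀ hne h1]; ring
    intro c hc x
    by_cases hx : x ^ q = x
    · have haf : a ^ q ≠ a := fun e => by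
        rw [e, CharTwo.add_self_eq_zero] at ha; exact zero_ne_one ha
      have h1 := key c hc a haf 1 (one_pow q)
      have h2' := key c hc a haf x hx
      rw [one_mul, hf1, one_mul] at h1
      have hne : b * σ a ≠ 0 := mul_ne_zero hb0 (hσne a fun e => haf (by rw [e, zero_pow (q_ne_zero hF)]))
      have e : f (x * c) = f x * f c := mul_right_cancel₀ hne (by linear_combination h2' - f x * h1)
      rw [hσc (c * x), mul_comm c x, e, hσc x]; ring
    · have h1 := key c hc x hx 1 (one_pow q)
      rw [one_mul, hf1, one_mul] at h1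
      exact mul_left_cancel₀ hb0 (by linear_combination -h1)
  have hψadd : ∀ x y, f (x + y) = f x + f y := fun x y => by show σ _ / b = _; rw [hσadd, add_div]
  have hψsemi : ∀ c, c ^ q = c → ∀ x, f (c * x) = f c * f x := fun c hc x => by
    show σ _ / b = _; rw [hsemi c hc, mul_div_assoc]
  have hnb0 : b ^ (q + 1) ≠ 0 := pow_ne_zero _ hb0
  have hτf : ∀ c, c ^ q = c → τ c = b ^ (q + 1) * f c := fun c hc => by
    obtain ⟨r, hr⟩ := FiniteField.isSquare_of_char_two (ringChar.eq F 2) c
    have hrr : r ^ q * r ^ q = r * r := by rw [← mul_pow, ← hr, hc]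
    have hrq : r ^ q = r := CharTwo.add_eq_zero.mp (mul_self_eq_zero.mp (by
      linear_combination hrr + (r ^ q * r + r * r) * two))
    have e : c = r ^ (q + 1) := by rw [pow_succ, hrq, hr]
    have h := hτ r
    rw [← e, hσc r, mul_pow, pow_succ (f r), hffix r hrq, ← hψsemi r hrq, ← hr] at h
    rw [h]; ring
  have hψN : ∀ x, f x ^ (q + 1) = f (x ^ (q + 1)) := fun x => by
    have := hτ x
    rw [hτf _ (fixed_norm hF x), hσc x, mul_pow] at this
    exact mul_left_cancel₀ hnb0 (by linear_combination -this)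
  have hψT : ∀ x, f x + f x ^ q = f (x + x ^ q) := fun x => by
    have h1 : f (1 + x) ^ (q + 1) = f ((1 + x) ^ (q + 1)) := hψN _
    rw [hψadd, hf1, hN, hN, hψadd, hψadd, one_pow, hf1, hψN] at h1
    have := add_left_cancel h1
    simpa [hB] using this
  have hquad : ∀ x : F, x * x = (x + x ^ q) * x + x ^ (q + 1) := fun x => by
    rw [pow_succ]; linear_combination -(x ^ q * x) * two
  have hψsq : ∀ x, f (x * x) = f x * f x := fun x => by
    have hfix : (x + x ^ q) ^ q = x + x ^ q := by rw [add_pow_q hF, pow_q_q hF, add_comm]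
    conv_lhs => rw [hquad x, hψadd, hψsemi _ hfix, ← hψT, ← hψN]
    rw [← hquad]
  have hdec : ∀ x, ∃ c d, c ^ q = c ∧ d ^ q = d ∧ x = c + d * a := fun x =>
    ⟨x + (x + x ^ q) * a, x + x ^ q, by
      rw [add_pow_q hF, mul_pow, add_pow_q hF, pow_q_q hF]
      linear_combination (x + x ^ q) * ha + (x ^ q - (x + x ^ q) * a) * two,
      by rw [add_pow_q hF, pow_q_q hF, add_comm],
      by linear_combination (-(x + x ^ q) * a) * two⟩
  have hψmul : ∀ x y, f (x * y) = f x * f y := fun x y => by
    obtain ⟨c, d, hc, hd, rfl⟩ := hdec x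
    have hfa : ∀ z, f (a * z) = f a * f z := fun z => by
      obtain ⟨c', d', hc', hd', rfl⟩ := hdec z
      rw [show a * (c' + d' * a) = c' * a + d' * (a * a) by ring, hψadd, hψsemi _ hc', hψsemi _ hd', hψsq,
        hψadd, hψsemi _ hd', ]
      ring
    rw [show (c + d * a) * y = c * y + d * (a * y) by ring, hψadd, hψsemi _ hc, hψsemi _ hd, hfa, hψadd, hψsemi _ hd]
    ring
  let ψ : F →+* F :=
    { toFun := f, map_one' := hf1, map_mul' := hψmul,
      map_zero' := by show σ 0 / b = 0; rw [hσ0, zero_div], map_add' := hψadd }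
  have hψψ : ∀ x, ψ (ψ x) = x := fun x => by
    have h1 : ∀ z, f b * f (f z) * b = z := fun z => by
      conv_rhs => rw [← hσσ z, hσc z, hσc (f z * b), hψmul]
      ring
    have h1' := h1 1
    rw [hf1, hf1, mul_one] at h1'
    show f (f x) = x
    linear_combination h1 x - f (f x) * h1'
  have hid : ∀ c, c ^ q = c → f c = c := fun c hc => fixed_field hF ψ hψψ c hc
  -- `τ` is a scalar, which squares to one
  intro g hg
  obtain ⟨x, c, h, rfl⟩ := mk_surj hF g
  obtain rfl := (mem_center_iff hF h).mp hg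
  have hc := cond_zero hF h
  have hτmk : ∀ c h, φ (mk hF 0 c h) = mk hF 0 (τ c) (zero_cond hF (show τ c ^ q = τ c by
      rw [hτf c (cond_zero hF h), mul_pow, fixed_norm hF, hffix c (cond_zero hF h)])) := fun c h => by
    have hz : X (φ (mk hF 0 c h)) = 0 := hφcen _ (hX _ _ _)
    rw [← E (φ (mk hF 0 c h)), mk_ext hF]
    refine ⟨hz, ?_⟩
    show _ = (if h : _ then _ else _)
    rw [dif_pos (cond_zero hF h)]
  have hnb : b ^ (q + 1) = 1 := by
    have h1 := h2 (mk hF 0 1 (zero_cond hF (one_pow q)))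
    rw [hτmk, hτmk] at h1
    have hc1 : mk hF 0 1 (zero_cond hF (one_pow q)) ∈ Subgroup.center (U hF) := (mem_center_iff hF _).mpr rfl
    rw [Subgroup.mem_center_iff.mp hc1 u, mul_inv_cancel_right, mk_ext hF] at h1
    have e1 : τ 1 = b ^ (q + 1) := by rw [hτf 1 (one_pow q), hf1, mul_one]
    rw [e1, hτf _ (fixed_norm hF b), hid _ (fixed_norm hF b)] at h1
    exact CharTwo.add_eq_zero.mp (mul_self_eq_zero.mp (by linear_combination h1.2 + (b ^ (q + 1) + 1) * two))
  rw [hτmk, mk_ext hF, hτf c hc, hid c hc, hnb, one_mul]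
  exact ⟨rfl, rfl⟩

/-- Let S be a Sylow 2-subgroup of SU₃(2ⁿ), n ≥ 2 (realised over the field with 4ⁿ elements). If a finite 2-group R contains a subgroup S' of index 2 isomorphic to S, then the centre of S' is contained in the centre of R. -/
theorem result {R : Type*} [Group R] [Finite R]
    (hR : IsPGroup 2 R) (n : ℕ) (hn : 2 ≤ n) {F : Type*} [Field F] [Fintype F] (hF : Fintype.card F = 4 ^ n)
    (P : Sylow 2 ↥(Cfsg.SU 3 F (2 ^ n))) (S' : Subgroup R) (hS : Nonempty (↥S' ≃* ↥(P : Subgroup ↥(Cfsg.SU 3 F (2 ^ n)))))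
    (hidx : S'.index = 2) :
    (Subgroup.center ↥S').map S'.subtype ≤ Subgroup.center R := by
  classical
  have hF2 : Fintype.card F = (2 ^ n) ^ 2 := by rw [hF, ← pow_mul, mul_comm, pow_mul]; norm_num
  haveI : CharP F 2 := CfsgLib.Unitary.SylowTwo.charTwo hF2
  obtain ⟨e0⟩ := hS
  obtain ⟨e1⟩ := sylow_su hF2 rfl P
  let e : S' ≃* U hF2 := e0.trans e1
  haveI : S'.Normal := Subgroup.normal_of_index_eq_two hidx
  rintro _ ⟨z, hz, rfl⟩
  rw [Subgroup.mem_center_iff]
  intro r
  by_cases hr : r ∈ S'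
  · exact congrArg Subtype.val (Subgroup.mem_center_iff.mp hz ⟨r, hr⟩)
  have hr2 : r * r ∈ S' := Subgroup.mul_self_mem_of_index_two hidx r
  let φ : MulAut (U hF2) := (e.symm.trans (MulAut.conjNormal r)).trans e
  have h := fixed_center hF2 φ (e ⟨r * r, hr2⟩) (fun g => by
    show e (MulAut.conjNormal r (e.symm (e (MulAut.conjNormal r (e.symm g))))) = _
    rw [e.symm_apply_apply]
    obtain ⟨s, rfl⟩ := e.surjective g
    rw [e.symm_apply_apply, ← map_inv, ← map_mul, ← map_mul]
    congr 1
    apply Subtype.ext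
    simp only [MulAut.conjNormal_apply, Subgroup.coe_mul, Subgroup.coe_inv]
    group) (e z) (by
      rw [Subgroup.mem_center_iff]
      intro g
      obtain ⟨s, rfl⟩ := e.surjective g
      rw [← map_mul, ← map_mul, Subgroup.mem_center_iff.mp hz s])
  have h' : e (MulAut.conjNormal r z) = e z := by
    have : φ (e z) = e (MulAut.conjNormal r (e.symm (e z))) := rfl
    rw [e.symm_apply_apply] at this
    rw [← this, h]
  have := congrArg Subtype.val (e.injective h')
  rw [MulAut.conjNormal_apply] at this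
  exact mul_inv_eq_iff_eq_mul.mp this

end Cfsg.Agent.S3315
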