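import Cfsg.Statements.S3156
import Mathlib
import Cfsg.Agent.Lib.Unitary.SylowTwoAut
import Cfsg.Agent.S3315

set_option autoImplicit false
open Cfsg CfsgLib.Unitary.SylowTwo

namespace Cfsg.Agent.S3156

/-- If a finite group T is isomorphic to a Sylow 2-subgroup of the projective special unitary group of dimension 3 with parameter 4 (realised over the field with 16 elements), then no subgroup of the automorphism group of T is isomorphic to the symmetric group of degree 3. -/
theorem result {T : Type*} [Group T] [Finite T] (hT : (∃ (F : Type) (_ : Field F) (_ : Fintype F), Fintype.card F = 16 ∧ ∃ S : Sylow 2 (Cfsg.PSU 3 F 4), Nonempty (T ≃* ↥(S : Subgroup (Cfsg.PSU 3 F 4))))) (H : Subgroup (MulAut T)) : ¬ Nonempty (↥H ≃* Equiv.Perm (Fin 3)) := by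
  classical
  obtain ⟨F, _, _, hF, S, ⟨e0⟩⟩ := hT
  have hF' : Fintype.card F = 4 ^ 2 := by rw [hF]; norm_num
  haveI : CharP F 2 := CfsgLib.Unitary.SylowTwo.charTwo (n := 2) (by rw [hF]; norm_num)
  obtain ⟨e1⟩ := sylow_psu (n := 2) hF' (by norm_num) S
  let e : T ≃* U hF' := e0.trans e1
  rintro ⟨ε⟩
  let c : MulAut T →* MulAut (U hF') :=
    MonoidHom.mk' (fun φ => (e.symm.trans φ).trans e) fun φ ψ => by ext x; simp [MulAut.mul_apply]
  let J : Equiv.Perm (Fin 3) →* MulAut (U hF') := (c.comp H.subtype).comp ε.symm.toMonoidHom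
  have hJ : Function.Injective J := by
    intro x y hxy
    apply ε.symm.injective
    refine Subtype.ext (MulEquiv.ext fun t => e.injective ?_)
    have := congrArg (fun ψ : MulAut (U hF') => ψ (e t)) hxy
    simpa [J, c] using this
  set r := Equiv.swap (0 : Fin 3) 1 * Equiv.swap 1 2 with hr
  set s := Equiv.swap (0 : Fin 3) 1 with hs
  have hr3 : r ^ 3 = 1 := by rw [hr]; decide
  have hs2 : s * s = 1 := by rw [hs]; decide
  have hrel : s * r * s = r * r := by rw [hr, hs]; decide
  have hr1 : r ≠ 1 := by rw [hr]; decide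
  obtain ⟨bs, ψs, hbs, hS⟩ := aut_semilinear hF' (J s)
  obtain ⟨br, ψr, hbr, hR⟩ := aut_semilinear hF' (J r)
  have two := two_eq_zero (F := F)
  -- the involution
  have hss : ∀ x, bs * ψs (bs * ψs x) = x := fun x => by
    obtain ⟨y1, h1, e1, -⟩ := hS x _ (lift_cond hF' x)
    obtain ⟨y2, h2, e2, -⟩ := hS _ y1 h1
    have : (J s * J s) (mk hF' x _ (lift_cond hF' x)) = mk hF' _ y2 h2 := by rw [MulAut.mul_apply, e1, e2]
    rw [← map_mul J, hs2, map_one, MulAut.one_apply, mk_ext hF'] at this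
    exact this.1.symm
  have hψs : ∀ x, ψs (ψs x) = x := fun x => by
    have h1 := hss 1
    rw [map_one, mul_one] at h1
    have h2 := hss x
    rw [map_mul, ← mul_assoc, h1, one_mul] at h2
    exact h2
  have hsfix : ∀ c, c ^ 4 = c → ψs c = c := fun c hc => Cfsg.Agent.S3315.fixed_field hF' ψs hψs c hc
  -- the element of order three
  have hrrr : ∀ x, br * ψr (br * ψr (br * ψr x)) = x := fun x => by
    obtain ⟨y1, h1, e1, -⟩ := hR x _ (lift_cond hF' x)
    obtain ⟨y2, h2, e2, -⟩ := hR _ y1 h1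
    obtain ⟨y3, h3, e3, -⟩ := hR _ y2 h2
    have : (J r * (J r * J r)) (mk hF' x _ (lift_cond hF' x)) = mk hF' _ y3 h3 := by
      rw [MulAut.mul_apply, MulAut.mul_apply, e1, e2, e3]
    rw [← map_mul J, ← map_mul J, show r * (r * r) = r ^ 3 by rw [pow_succ', sq], hr3, map_one, MulAut.one_apply,
      mk_ext hF'] at this
    exact this.1.symm
  have hψr3 : ∀ x, ψr (ψr (ψr x)) = x := fun x => by
    have h1 := hrrr 1
    have h2 := hrrr x
    simp only [map_one, mul_one, map_mul] at h1 h2
    linear_combination h2 - ψr (ψr (ψr x)) * h1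
  have hroot : ∀ z N, ψr N = N → z * z + z + N = 0 → ψr z = z := fun z N hN hz => by
    have h1 : ψr z * ψr z + ψr z + N = 0 := by
      have := congrArg ψr hz
      rwa [map_add, map_add, map_mul, map_zero, hN] at this
    have h2 : (ψr z + z) * (ψr z + z + 1) = 0 := by
      linear_combination h1 + hz + (ψr z * z - N) * two
    rcases mul_eq_zero.mp h2 with h | h
    · exact CharTwo.add_eq_zero.mp h
    · exfalso
      have e1 : ψr z = z + 1 := by linear_combination h - (z + 1) * two
      have := hψr3 z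
      rw [e1, map_add, map_one, e1, map_add, map_add, map_one, e1] at this
      have h' : (1 : F) = 0 := by linear_combination this - two
      exact one_ne_zero h'
  have hrfix : ∀ c, c ^ 4 = c → ψr c = c := fun c hc => by
    have h2 : c * ((c + 1) * (c * c + c + 1)) = 0 := by linear_combination hc + (c ^ 3 + c ^ 2 + c) * two
    rcases mul_eq_zero.mp h2 with h | h
    · rw [h, map_zero]
    rcases mul_eq_zero.mp h with h | h
    · rw [CharTwo.add_eq_zero.mp h, map_one]
    · exact hroot c 1 (map_one ψr) h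
  have ha := aa_spec hF'
  have hψra : ψr (aa hF') = aa hF' :=
    hroot _ (aa hF' ^ 5) (hrfix _ (fixed_norm hF' _)) (by
      rw [pow_succ]; linear_combination aa hF' * ha + aa hF' * two)
  have hψr : ∀ x, ψr x = x := fun x => by
    have hfix : ∀ z : F, (z + z ^ 4) ^ 4 = z + z ^ 4 := fun z => by
      rw [CfsgLib.Unitary.FieldNorm.add_pow_q hF', CfsgLib.Unitary.FieldNorm.pow_q_q hF', add_comm]
    have hc : (x + (x + x ^ 4) * aa hF') ^ 4 = x + (x + x ^ 4) * aa hF' := by
      rw [CfsgLib.Unitary.FieldNorm.add_pow_q hF', mul_pow, hfix]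
      linear_combination (x + x ^ 4) * ha + (x ^ 4 - (x + x ^ 4) * aa hF') * two - (x ^ 4 - x ^ 4) * two
    have e : x = (x + (x + x ^ 4) * aa hF') + (x + x ^ 4) * aa hF' := by
      linear_combination (-(x + x ^ 4) * aa hF') * two
    conv_lhs => rw [e, map_add, hrfix _ hc, map_mul, hrfix _ (hfix x), hψra, ← e]
  have hbr3 : br * br * br = 1 := by
    have := hrrr 1
    rw [hψr, hψr, hψr] at this
    linear_combination this
  have hbr4 : br ^ 4 = br := by linear_combination br * hbr3
  have hbr1 : br = 1 := by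
    obtain ⟨y1, h1, e1, -⟩ := hS 1 _ (lift_cond hF' 1)
    obtain ⟨y2, h2, e2, -⟩ := hR _ y1 h1
    obtain ⟨y3, h3, e3, -⟩ := hS _ y2 h2
    obtain ⟨z1, k1, f1, -⟩ := hR 1 _ (lift_cond hF' 1)
    obtain ⟨z2, k2, f2, -⟩ := hR _ z1 k1
    have eA : (J s * (J r * J s)) (mk hF' 1 _ (lift_cond hF' 1)) = mk hF' _ y3 h3 := by
      rw [MulAut.mul_apply, MulAut.mul_apply, e1, e2, e3]
    have eB : (J r * J r) (mk hF' 1 _ (lift_cond hF' 1)) = mk hF' _ z2 k2 := by rw [MulAut.mul_apply, f1, f2]
    rw [← map_mul J, ← map_mul J, show s * (r * s) = r * r by rw [← mul_assoc, hrel], map_mul J] at eA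
    obtain ⟨e', -⟩ := (mk_ext hF').mp (eA.symm.trans eB)
    simp only [hψr, map_one, mul_one, map_mul, hsfix br hbr4] at e'
    have h1' := hss 1
    rw [map_one, mul_one] at h1'
    have e2' : br = br * br := by linear_combination e' - br * h1'
    have := mul_left_cancel₀ hbr (show br * br = br * 1 by rw [mul_one]; exact e2'.symm)
    exact this
  apply hr1
  apply hJ
  rw [map_one]
  have hsq : ∀ g, (J r * J r) g = g := fun g => by
    obtain ⟨x, y, h, rfl⟩ := mk_surj hF' g
    obtain ⟨y1, h1, e1, -⟩ := hR x y h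
    have hz : ∃ z, ∃ hzc : z ^ 4 = z, mk hF' (br * ψr x) y1 h1 = mk hF' x y h * mk hF' 0 z (zero_cond hF' hzc) := by
      refine ⟨y + y1, ?_, ?_⟩
      · rw [CfsgLib.Unitary.FieldNorm.add_pow_q hF']
        rw [hbr1, hψr, one_mul] at h1
        linear_combination h + h1 - (y + y1 - x ^ 5) * two
      · rw [mk_mul hF', mk_ext hF', hbr1, hψr]
        refine ⟨by ring, ?_⟩
        linear_combination -y * two
    obtain ⟨z, hzc, hz⟩ := hz
    obtain ⟨y2, h2, e2, hy2⟩ := hR 0 z (zero_cond hF' hzc)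
    have hfix0 : J r (mk hF' 0 z (zero_cond hF' hzc)) = mk hF' 0 z (zero_cond hF' hzc) := by
      rw [e2, mk_ext hF', hy2 rfl, hbr1, one_pow, one_mul, one_mul, map_zero, hψr]
      exact ⟨rfl, rfl⟩
    rw [MulAut.mul_apply, e1, hz, map_mul, hfix0, e1, hz, mul_assoc, (sq_eq_one_iff hF' _).mpr rfl, mul_one]
  have h2 : J r * J r = 1 := MulEquiv.ext hsq
  have h3 : J r * (J r * J r) = 1 := by rw [← map_mul J, ← map_mul J, show r * (r * r) = r ^ 3 by rw [pow_succ', sq], hr3, map_one]
  rwa [h2, mul_one] at h3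

end Cfsg.Agent.S3156
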