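import Cfsg.Statements.S3225
import Mathlib.GroupTheory.Transfer
import Mathlib.Data.ZMod.Basic
import Mathlib.Tactic

set_option autoImplicit false
open Cfsg

namespace Cfsg.Agent.S3225

/-- Let G be a finite group of even order with no subgroup of index 2, S a Sylow 2-subgroup of G and M a subgroup of index 2 in S such that, for some n ≥ 1, every element of S outside M has order greater than 2^(n−1). Then every element of S of order 2ⁿ is conjugate in G to an element of M. -/
theorem result {G : Type*} [Group G] [Finite G] (hev : Even (Nat.card G))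
    (hG : ∀ H : Subgroup G, H.index ≠ 2) (S : Sylow 2 G) (M : Subgroup G) (hMS : M ≤ (S : Subgroup G)) (hM : M.relIndex (S : Subgroup G) = 2)
    (n : ℕ) (hn : 1 ≤ n) (hord : ∀ y ∈ (S : Subgroup G), y ∉ M → 2 ^ (n - 1) < orderOf y)
    (x : G) (hx : x ∈ (S : Subgroup G)) (hxn : orderOf x = 2 ^ n) :
    ∃ g : G, g * x * g⁻¹ ∈ M := by
  classical
  by_contra hcon
  push Not at hcon
  set T : Subgroup G := (S : Subgroup G) with hT
  let M' : Subgroup T := M.subgroupOf T
  have hM' : M'.index = 2 := hM
  let φ : T →* Multiplicative (ZMod 2) :=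
    { toFun := fun s => if s ∈ M' then 1 else Multiplicative.ofAdd 1
      map_one' := if_pos M'.one_mem
      map_mul' := fun a b => by
        have h := Subgroup.mul_mem_iff_of_index_two hM' (a := a) (b := b)
        by_cases ha : a ∈ M' <;> by_cases hb : b ∈ M'
        · rw [if_pos ha, if_pos hb, if_pos (h.2 (iff_of_true ha hb)), one_mul]
        · rw [if_pos ha, if_neg hb, if_neg fun e => hb ((h.1 e).1 ha), one_mul]
        · rw [if_neg ha, if_pos hb, if_neg fun e => ha ((h.1 e).2 hb), mul_one]
        · rw [if_neg ha, if_neg hb, if_pos (h.2 (iff_of_false ha hb))]; decide }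
  letI : Fintype (G ⧸ T) := Fintype.ofFinite _
  let τ := MonoidHom.transfer φ
  have hτ : τ x = Multiplicative.ofAdd ((T.index : ZMod 2)) := by
    rw [MonoidHom.transfer_eq_prod_quotient_orbitRel_zpowers_quot, Subgroup.index_eq_sum_minimalPeriod T x,
      Nat.cast_sum, ofAdd_sum]
    refine Finset.prod_congr rfl fun q _ => ?_
    set m := Function.minimalPeriod (x • ·) q.out with hm
    have hmd : m ∣ 2 ^ n := MulAction.pow_smul_eq_iff_minimalPeriod_dvd.1 (by
      rw [← hxn, pow_orderOf_eq_one, one_smul])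
    obtain ⟨j, hjn, hj⟩ := (Nat.dvd_prime_pow Nat.prime_two).1 hmd
    set g := q.out.out
    have hmem : g⁻¹ * x ^ m * g ∈ T := QuotientGroup.out_conj_pow_minimalPeriod_mem T x q.out
    show (if (⟨g⁻¹ * x ^ m * g, hmem⟩ : T) ∈ M' then (1 : Multiplicative (ZMod 2)) else Multiplicative.ofAdd 1) = _
    rcases Nat.eq_zero_or_pos j with h0 | hpos
    · rw [if_neg]
      · show _ = Multiplicative.ofAdd ((m : ℕ) : ZMod 2)
        rw [hj, h0, pow_zero, Nat.cast_one]
      intro hin
      rw [Subgroup.mem_subgroupOf] at hin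
      refine hcon g⁻¹ ?_
      simpa [hj, h0] using hin
    · rw [if_pos]
      · show _ = Multiplicative.ofAdd ((m : ℕ) : ZMod 2)
        rw [hj, Nat.cast_pow, show ((2 : ℕ) : ZMod 2) = 0 from rfl, zero_pow (by omega)]; rfl
      · rw [Subgroup.mem_subgroupOf]
        by_contra hout
        have h1 := hord _ hmem hout
        have hp1 : (g⁻¹ * x ^ m * g) ^ 2 ^ (n - 1) = 1 := by
          have hxm : (x ^ m) ^ 2 ^ (n - 1) = 1 := by
            rw [← pow_mul, ← orderOf_dvd_iff_pow_eq_one, hxn, hj, ← pow_add]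
            exact Nat.pow_dvd_pow 2 (by omega)
          rw [show g⁻¹ * x ^ m * g = g⁻¹ * x ^ m * g⁻¹⁻¹ by rw [inv_inv], conj_pow, hxm]
          simp
        have := orderOf_le_of_pow_eq_one (Nat.two_pow_pos _) hp1
        omega
  have hodd : (T.index : ZMod 2) = 1 := by
    rw [ZMod.natCast_eq_one_iff_odd, ← Nat.not_even_iff_odd, even_iff_two_dvd]
    exact S.not_dvd_index
  rw [hodd] at hτ
  have hsurj : Function.Surjective τ := by
    intro b
    have hb : ∀ b : Multiplicative (ZMod 2), b = 1 ∨ b = Multiplicative.ofAdd 1 := by decide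
    rcases hb b with h | h
    · exact ⟨1, by rw [map_one, h]⟩
    · exact ⟨x, by rw [hτ, h]⟩
  refine hG τ.ker ?_
  rw [Subgroup.index_ker, MonoidHom.range_eq_top.2 hsurj, Subgroup.card_top]
  simp

end Cfsg.Agent.S3225
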