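import Cfsg.Statements.S3178
import Cfsg.Agent.Lib.ModularTwoGroup
import Cfsg.Agent.S3225
import Mathlib.GroupTheory.IndexNormal
import Mathlib.Tactic

set_option autoImplicit false
open Cfsg

namespace Cfsg.Agent.S3178

/-- Groups with a modular Sylow 2-subgroup have a normal 2-complement. Let S, of order 2^(n+1) with n ≥ 3, be a Sylow 2-subgroup of a finite group G, and suppose S contains an element a of order 2^n and an involution b with b a b⁻¹ = a^(2^(n-1) + 1); so S is the non-abelian 2-group with a cyclic subgroup of index 2 that is neither dihedral, semidihedral nor generalized quaternion. Then G has a normal 2-complement. -/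
theorem result {G : Type*} [Group G] [Finite G]
    (S : Sylow 2 G) (n : ℕ) (hn : 3 ≤ n) (hS : Nat.card ↥(S : Subgroup G) = 2 ^ (n + 1))
    (a b : G) (ha : a ∈ (S : Subgroup G)) (hb : b ∈ (S : Subgroup G))
    (hao : orderOf a = 2 ^ n) (hbo : orderOf b = 2) (hrel : b * a * b⁻¹ = a ^ (2 ^ (n - 1) + 1)) :
    Cfsg.HasNormalPComplement 2 G := by
  classical
  have hb2 : b * b = 1 := by rw [← sq, ← hbo, pow_orderOf_eq_one]
  have hb1 : b ≠ 1 := fun h => by simp [h] at hbo
  have hbi : b⁻¹ = b := inv_eq_of_mul_eq_one_right hb2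
  have h8 : 2 ^ n = 2 * 2 ^ (n - 1) := by rw [← pow_succ']; congr 1; omega
  have h4 : 2 ^ (n - 1) = 2 * 2 ^ (n - 2) := by rw [← pow_succ']; congr 1; omega
  have hcb : Commute b (a ^ 2) := by
    have : b * a ^ 2 * b⁻¹ = a ^ 2 := by
      rw [← conj_pow, hrel, ← pow_mul, add_mul, one_mul, pow_add,
        show 2 ^ (n - 1) * 2 = orderOf a by rw [hao, h8, mul_comm], pow_orderOf_eq_one, one_mul]
    exact mul_inv_eq_iff_eq_mul.1 this
  have hbn : b ∉ Subgroup.zpowers a := by
    intro h
    obtain ⟨k, hk⟩ := Subgroup.mem_zpowers_iff.1 h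
    have hc : Commute b a := hk ▸ (Commute.refl a).zpow_left k
    rw [hc.eq, mul_inv_cancel_right, pow_succ] at hrel
    replace hrel : a ^ 2 ^ (n - 1) = 1 := mul_right_cancel (b := a) (by rw [one_mul]; exact hrel.symm)
    have := Nat.le_of_dvd (Nat.two_pow_pos _) (orderOf_dvd_of_pow_eq_one hrel)
    rw [hao, h8] at this
    have := Nat.two_pow_pos (n - 1)
    omega
  have hidx : (Subgroup.zpowers a).relIndex (S : Subgroup G) = 2 := by
    have h := Subgroup.relIndex_mul_relIndex ⊥ (Subgroup.zpowers a) (S : Subgroup G) bot_le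
      (Subgroup.zpowers_le.2 ha)
    rw [Subgroup.relIndex_bot_left, Subgroup.relIndex_bot_left, Nat.card_zpowers, hao, hS, pow_succ] at h
    exact mul_left_cancel₀ (Nat.two_pow_pos n).ne' h
  have hnf : ∀ s ∈ (S : Subgroup G), ∃ i : ℕ, s = a ^ i ∨ s = a ^ i * b := by
    intro s hs
    by_cases h : s ∈ Subgroup.zpowers a
    · obtain ⟨i, hi⟩ := mem_powers_iff_mem_zpowers.2 h
      exact ⟨i, Or.inl hi.symm⟩
    · have h2 : (⟨s, hs⟩ : (S : Subgroup G)) * ⟨b, hb⟩ ∈ (Subgroup.zpowers a).subgroupOf (S : Subgroup G) :=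
        (Subgroup.mul_mem_iff_of_index_two hidx).2 (iff_of_false h hbn)
      obtain ⟨i, hi⟩ := mem_powers_iff_mem_zpowers.2 h2
      exact ⟨i, Or.inr (by
        have hi' : a ^ i = s * b := hi
        rw [hi', mul_assoc, hb2, mul_one])⟩
  have hordC : ∀ i : ℕ, (a ^ i * b) * (a ^ i * b) = a ^ (i * (2 ^ (n - 1) + 2)) := by
    intro i
    have : b * a ^ i * b⁻¹ = a ^ (i * (2 ^ (n - 1) + 1)) := by
      rw [← conj_pow, hrel, ← pow_mul, mul_comm]
    rw [hbi] at this
    rw [show a ^ i * b * (a ^ i * b) = a ^ i * (b * a ^ i * b) by group, this, ← pow_add]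
    congr 1; ring
  -- step 1: a subgroup of index two
  obtain ⟨H, hH⟩ : ∃ H : Subgroup G, H.index = 2 := by
    by_contra hno
    push Not at hno
    let M : Subgroup G :=
      { carrier := {s | ∃ i j : ℤ, s = (a ^ 2) ^ i * b ^ j}
        one_mem' := ⟨0, 0, by simp⟩
        mul_mem' := by
          rintro _ _ ⟨i, j, rfl⟩ ⟨i', j', rfl⟩
          refine ⟨i + i', j + j', ?_⟩
          rw [zpow_add, zpow_add, mul_assoc, ← mul_assoc (b ^ j), ((hcb.zpow_left j).zpow_right i').eq]
          group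
        inv_mem' := by
          rintro _ ⟨i, j, rfl⟩
          refine ⟨-i, -j, ?_⟩
          rw [mul_inv_rev, zpow_neg, zpow_neg, ((hcb.zpow_left j).zpow_right i).inv_inv.eq] }
    have hMS : M ≤ (S : Subgroup G) := by
      rintro _ ⟨i, j, rfl⟩
      exact Subgroup.mul_mem _ (Subgroup.zpow_mem _ (Subgroup.pow_mem _ ha 2) i) (Subgroup.zpow_mem _ hb j)
    have hMexp : ∀ s ∈ M, s ^ 2 ^ (n - 1) = 1 := by
      rintro _ ⟨i, j, rfl⟩
      rw [((hcb.symm.zpow_left i).zpow_right j).mul_pow, ← zpow_natCast, ← zpow_natCast (b ^ j),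
        ← zpow_mul, ← zpow_mul, mul_comm i, mul_comm j, zpow_mul, zpow_mul, zpow_natCast, zpow_natCast,
        ← pow_mul, ← h8, ← hao, pow_orderOf_eq_one, h4, pow_mul, sq, hb2]
      simp
    have hin : ∀ k : ℕ, a ^ (2 * k) ∈ M ∧ a ^ (2 * k) * b ∈ M := fun k =>
      ⟨⟨k, 0, by rw [zpow_natCast, pow_mul, zpow_zero, mul_one]⟩,
        ⟨k, 1, by rw [zpow_natCast, pow_mul, zpow_one]⟩⟩
    have hout : ∀ s ∈ (S : Subgroup G), s ∉ M → 2 ^ (n - 1) < orderOf s := by
      intro s hs hsM
      obtain ⟨i, hi⟩ := hnf s hs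
      have hodd : Odd i := by
        rw [← Nat.not_even_iff_odd]
        rintro ⟨k, hk⟩
        rcases hi with rfl | rfl
        · exact hsM (by rw [hk, ← two_mul]; exact (hin k).1)
        · exact hsM (by rw [hk, ← two_mul]; exact (hin k).2)
      suffices hne : ¬ orderOf s ∣ 2 ^ (n - 1) by
        by_contra hle
        obtain ⟨k, hk⟩ := IsPGroup.iff_orderOf.1 S.isPGroup' ⟨s, hs⟩
        rw [Subgroup.orderOf_mk] at hk
        refine hne ?_
        rw [hk] at hle ⊢
        exact pow_dvd_pow 2 ((Nat.pow_le_pow_iff_right (by norm_num)).1 (not_lt.1 hle))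
      intro hd
      rw [orderOf_dvd_iff_pow_eq_one] at hd
      rcases hi with rfl | rfl
      · rw [← pow_mul, ← orderOf_dvd_iff_pow_eq_one, hao, h8] at hd
        have := Nat.dvd_of_mul_dvd_mul_right (Nat.two_pow_pos _) hd
        exact Nat.not_even_iff_odd.2 hodd (even_iff_two_dvd.2 this)
      · rw [h4, pow_mul, sq, hordC, ← pow_mul, ← orderOf_dvd_iff_pow_eq_one, hao, h8, h4] at hd
        have hd' : 2 * (2 * 2 ^ (n - 2)) ∣ i * (2 ^ (n - 2) + 1) * (2 * 2 ^ (n - 2)) := by
          convert hd using 1; ring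
        have h2 := Nat.dvd_of_mul_dvd_mul_right (by positivity) hd'
        rcases (Nat.prime_two.dvd_mul).1 h2 with h | h
        · exact Nat.not_even_iff_odd.2 hodd (even_iff_two_dvd.2 h)
        · have : 2 ∣ 2 ^ (n - 2) := dvd_pow_self 2 (by omega)
          omega
    have hMa : a ∉ M := fun h => by
      have := orderOf_dvd_of_pow_eq_one (hMexp a h)
      rw [hao] at this
      have := Nat.le_of_dvd (Nat.two_pow_pos _) this
      have := Nat.two_pow_pos (n - 1)
      omega
    have hMidx : M.relIndex (S : Subgroup G) = 2 := by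
      refine Subgroup.relIindex_eq_two_iff'.2 ⟨a, ha, fun s hs => ?_⟩
      obtain ⟨i, hi⟩ := hnf s hs
      rcases Nat.even_or_odd i with ⟨k, rfl⟩ | ⟨k, rfl⟩
      · refine Or.inr ⟨?_, fun h => hMa ?_⟩
        · rw [← two_mul] at hi
          rcases hi with rfl | rfl
          · exact (hin k).1
          · exact (hin k).2
        · have hsM : s ∈ M := by
            rw [← two_mul] at hi
            rcases hi with rfl | rfl
            · exact (hin k).1
            · exact (hin k).2
          simpa using M.mul_mem h (M.inv_mem hsM)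
      · refine Or.inl ⟨?_, fun h => hMa ?_⟩
        · rcases hi with rfl | rfl
          · rw [← pow_succ', show 2 * k + 1 + 1 = 2 * (k + 1) by ring]; exact (hin _).1
          · rw [← mul_assoc, ← pow_succ', show 2 * k + 1 + 1 = 2 * (k + 1) by ring]; exact (hin _).2
        · rcases hi with rfl | rfl
          · rw [pow_succ] at h
            simpa using M.mul_mem (M.inv_mem (hin k).1) h
          · rw [pow_succ, mul_assoc] at h
            have h' := M.mul_mem (M.inv_mem (hin k).1) h
            rw [inv_mul_cancel_left] at h'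
            simpa using M.mul_mem h' (M.inv_mem (hin 0).2)
    have hev : Even (Nat.card G) := even_iff_two_dvd.2 (hbo ▸ orderOf_dvd_natCard b)
    obtain ⟨g, hg⟩ := Cfsg.Agent.S3225.result hev hno S M hMS hMidx n (by omega) hout a ha hao
    have := orderOf_dvd_of_pow_eq_one (hMexp _ hg)
    rw [← MulAut.conj_apply, MulEquiv.orderOf_eq, hao] at this
    have := Nat.le_of_dvd (Nat.two_pow_pos _) this
    have := Nat.two_pow_pos (n - 1)
    omega
  -- step 2: Burnside inside the subgroup of index two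
  haveI := Subgroup.normal_of_index_eq_two hH
  set A := (S : Subgroup G).subgroupOf H with hAdef
  have hrelA : (H.subgroupOf (S : Subgroup G)).index = 2 := by
    have hd : H.relIndex (S : Subgroup G) ∣ 2 := by
      have := Subgroup.relIndex_dvd_index_of_normal H (S : Subgroup G)
      rwa [hH] at this
    refine ((Nat.dvd_prime Nat.prime_two).1 hd).resolve_left fun h1 => ?_
    have hle := Subgroup.relIndex_eq_one.1 h1
    have := Subgroup.index_dvd_of_le hle
    rw [hH] at this
    exact S.not_dvd_index this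
  have hcardA : Nat.card A = 2 ^ n := by
    have h1 := (H.subgroupOf (S : Subgroup G)).card_mul_index
    rw [hrelA, hS, pow_succ] at h1
    have h2 : Nat.card (H.subgroupOf (S : Subgroup G)) = Nat.card A := by
      have e : ∀ (X Y : Subgroup G), Nat.card (X.subgroupOf Y) = Nat.card ↥(X ⊓ Y) := fun X Y => by
        rw [← Subgroup.inf_subgroupOf_right, Nat.card_congr (Subgroup.subgroupOfEquivOfLe inf_le_right).toEquiv]
      rw [hAdef, e, e, inf_comm]
    rw [← h2]; exact mul_right_cancel₀ two_ne_zero h1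
  have hAidx : A.index = (S : Subgroup G).index := by
    have h1 := A.card_mul_index
    have h2 := H.card_mul_index
    have h3 := (S : Subgroup G).card_mul_index
    rw [hH] at h2
    rw [hS, pow_succ] at h3
    rw [hcardA] at h1
    refine mul_left_cancel₀ (Nat.two_pow_pos n).ne' (mul_right_cancel₀ two_ne_zero ?_)
    rw [h1, h2, ← h3]; ring
  have hAp : IsPGroup 2 A := IsPGroup.of_card hcardA
  let P : Sylow 2 H := hAp.toSylow (by rw [hAidx]; exact S.not_dvd_index)
  have hsqH : a ^ 2 ∈ H := Subgroup.sq_mem_of_index_two hH a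
  set Z := Subgroup.zpowers (a ^ 2)
  have hoz : orderOf (a ^ 2) = 2 ^ (n - 1) := by
    rw [orderOf_pow, hao, h8, Nat.gcd_eq_right (Dvd.intro _ rfl), Nat.mul_div_cancel_left _ two_pos]
  have hcentral : ∀ s ∈ (S : Subgroup G), ∀ w ∈ Z, s * w = w * s := by
    intro s hs w hw
    obtain ⟨k, rfl⟩ := Subgroup.mem_zpowers_iff.1 hw
    obtain ⟨i, hi⟩ := hnf s hs
    have h1 : Commute (a ^ i) ((a ^ 2) ^ k) := (((Commute.refl a).pow_pow i 2).zpow_right k)
    rcases hi with rfl | rfl
    · exact h1.eq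
    · exact (h1.mul_left (hcb.zpow_right k)).eq
  have hZidx : (Z.subgroupOf H).relIndex A = 2 := by
    have hle : Z.subgroupOf H ≤ A := fun w hw =>
      Subgroup.zpowers_le.2 (Subgroup.pow_mem _ ha 2) (hw : (w : G) ∈ Z)
    have h := Subgroup.relIndex_mul_relIndex ⊥ _ A bot_le hle
    rw [Subgroup.relIndex_bot_left, Subgroup.relIndex_bot_left, hcardA,
      Nat.card_congr (Subgroup.subgroupOfEquivOfLe (Subgroup.zpowers_le.2 hsqH)).toEquiv,
      Nat.card_zpowers, hoz, h8, mul_comm 2] at h
    exact mul_left_cancel₀ (Nat.two_pow_pos _).ne' h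
  have hmul : ∀ x ∈ A, ∀ x' ∈ A, (x : G) ∉ Z → (x' : G) ∉ Z → (x : G) * x' ∈ Z := by
    intro x hx x' hx' h1 h2
    have := (Subgroup.mul_mem_iff_of_index_two (H := (Z.subgroupOf H).subgroupOf A) hZidx
      (a := ⟨x, hx⟩) (b := ⟨x', hx'⟩)).2 (iff_of_false h1 h2)
    exact this
  have hab : ∀ x ∈ A, ∀ x' ∈ A, x * x' = x' * x := by
    intro x hx x' hx'
    apply Subtype.ext
    show (x : G) * x' = x' * x
    by_cases h1 : (x : G) ∈ Z
    · exact (hcentral _ hx' _ h1).symm
    by_cases h2 : (x' : G) ∈ Z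
    · exact hcentral _ hx _ h2
    have hw := hcentral (x : G) hx _ (hmul x hx x' hx' h1 h2)
    have : (x : G) * (x * x') = x * (x' * x) := by rw [hw]; group
    exact mul_left_cancel this
  set z := a ^ (2 ^ (n - 1)) with hz
  have hinvZ : ∀ e ∈ Z, e * e = 1 → e = 1 ∨ e = z := by
    intro e he he2
    obtain ⟨k, rfl⟩ := mem_powers_iff_mem_zpowers.2 he
    simp only [← pow_mul, ← pow_add] at he2
    have hd : 2 ^ (n - 1) ∣ 2 * k := by
      have := orderOf_dvd_of_pow_eq_one he2
      rw [hao, h8, show 2 * k + 2 * k = 2 * (2 * k) by ring] at this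
      exact Nat.dvd_of_mul_dvd_mul_left two_pos this
    obtain ⟨j, hj⟩ := hd
    have hz2 : (a ^ 2 ^ (n - 1)) ^ 2 = 1 := by rw [← pow_mul, mul_comm, ← h8, ← hao, pow_orderOf_eq_one]
    simp only [← pow_mul]
    rw [hj, pow_mul]
    rcases Nat.even_or_odd j with ⟨m, rfl⟩ | ⟨m, rfl⟩
    · left; rw [← two_mul, pow_mul, hz2, one_pow]
    · right; rw [pow_succ, pow_mul, hz2, one_pow, one_mul]
  obtain ⟨K, hKc, hKmem⟩ := CfsgLib.ModularTwoGroup.complement_of_fix P hab (by
    intro y hy hyA e he he2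
    -- `z` is fixed
    have hsq : ∀ w ∈ A, (w : G) * w ∈ Z := fun w hw => by
      by_cases h : (w : G) ∈ Z
      · exact Z.mul_mem h h
      · exact hmul w hw w hw h h
    have hzH : z ∈ H := by rw [hz, h4, pow_mul]; exact Subgroup.pow_mem _ hsqH _
    have hcZ : (a ^ 2) ^ 2 ^ (n - 3) ∈ Z := Subgroup.npow_mem_zpowers _ _
    let c : H := ⟨(a ^ 2) ^ 2 ^ (n - 3), Subgroup.pow_mem _ hsqH _⟩
    have hcA : c ∈ A := Subgroup.zpowers_le.2 (Subgroup.pow_mem _ ha 2) hcZ
    have hcc : (c : G) * c = z := by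
      show (a ^ 2) ^ 2 ^ (n - 3) * (a ^ 2) ^ 2 ^ (n - 3) = z
      rw [← pow_add, ← pow_mul, hz]
      congr 1
      rw [← two_mul, ← pow_succ', ← pow_succ']
      congr 1; omega
    have hzA : (⟨z, hzH⟩ : H) = c * c := Subtype.ext hcc.symm
    have hz1 : z ≠ 1 := fun h => by
      have := Nat.le_of_dvd (Nat.two_pow_pos _) (orderOf_dvd_of_pow_eq_one h)
      rw [hao, h8] at this
      have := Nat.two_pow_pos (n - 1)
      omega
    have hzfix : y * ⟨z, hzH⟩ * y⁻¹ = ⟨z, hzH⟩ := by
      have h1 : y * (c * c) * y⁻¹ = (y * c * y⁻¹) * (y * c * y⁻¹) := by group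
      have h2 := hsq _ (hyA c hcA)
      have hzz : (z : G) * z = 1 := by rw [hz, ← pow_add, ← two_mul, ← h8, ← hao, pow_orderOf_eq_one]
      have h3 : ((y * ⟨z, hzH⟩ * y⁻¹ : H) : G) = (((y * c * y⁻¹ : H)) : G) * ((y * c * y⁻¹ : H) : G) := by
        rw [hzA, h1]; rfl
      rcases hinvZ _ (h3 ▸ h2) (by
        simp only [Subgroup.coe_mul, Subgroup.coe_inv]
        rw [show (y : G) * z * (y : G)⁻¹ * ((y : G) * z * (y : G)⁻¹) = (y : G) * (z * z) * (y : G)⁻¹ by group,
          hzz]; group) with h | h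
      · exfalso
        simp only [Subgroup.coe_mul, Subgroup.coe_inv] at h
        refine hz1 ?_
        calc z = (y : G)⁻¹ * ((y : G) * z * (y : G)⁻¹) * y := by group
          _ = 1 := by rw [h]; group
      · exact Subtype.ext h
    -- the other involutions
    have key : ∀ e' : H, e' ∈ A → e' * e' = 1 → (e' : G) ∈ Z → y * e' * y⁻¹ = e' := by
      intro e' _ h2 h3
      rcases hinvZ _ h3 (congrArg Subtype.val h2) with h | h
      · rw [show e' = 1 from Subtype.ext h]; group
      · rw [show e' = ⟨z, hzH⟩ from Subtype.ext h]; exact hzfix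
    by_cases heZ : (e : G) ∈ Z
    · exact key e he he2 heZ
    set f := y * e * y⁻¹ with hf
    have hfA : f ∈ A := hyA e he
    have hf2 : f * f = 1 := by rw [hf, show y * e * y⁻¹ * (y * e * y⁻¹) = y * (e * e) * y⁻¹ by group, he2]; group
    by_cases hfe : f = e
    · exact hfe
    exfalso
    have hfZ : (f : G) ∉ Z := by
      intro h
      have h' := key f hfA hf2 h
      refine hfe ?_
      calc f = y⁻¹ * (y * f * y⁻¹) * y := by group
        _ = y⁻¹ * f * y := by rw [h']
        _ = e := by rw [hf]; group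
    have hw : (((f * e : H)) : G) ∈ Z := hmul f hfA e he hfZ heZ
    have hw2 : (f * e) * (f * e) = 1 := by
      rw [show f * e * (f * e) = f * (e * f) * e by group, hab e he f hfA, ← mul_assoc, hf2, one_mul, he2]
    rcases hinvZ _ hw (congrArg Subtype.val hw2) with h | h
    · refine hfe ?_
      have h' : f * e = 1 := Subtype.ext h
      rw [eq_inv_of_mul_eq_one_left h', inv_eq_of_mul_eq_one_right he2]
    · have hw' : f = ⟨z, hzH⟩ * e := by
        rw [show (⟨z, hzH⟩ : H) = f * e from Subtype.ext h.symm, mul_assoc, he2, mul_one]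
      have hfy : y * f * y⁻¹ = e := by
        rw [hw', show y * (⟨z, hzH⟩ * e) * y⁻¹ = (y * ⟨z, hzH⟩ * y⁻¹) * (y * e * y⁻¹) by group, hzfix, ← hf,
          hw', ← mul_assoc]
        have : (⟨z, hzH⟩ : H) * ⟨z, hzH⟩ = 1 := by
          refine Subtype.ext ?_
          show z * z = 1
          rw [hz, ← pow_add, ← two_mul, ← h8, ← hao, pow_orderOf_eq_one]
        rw [this, one_mul]
      obtain ⟨m, hm⟩ := hy
      have hpow : ∀ m : ℕ, y ^ (2 * m) * e * (y ^ (2 * m))⁻¹ = e := by
        intro m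
        induction m with
        | zero => simp
        | succ m ih =>
          calc y ^ (2 * (m + 1)) * e * (y ^ (2 * (m + 1)))⁻¹
              = y ^ (2 * m) * (y * (y * e * y⁻¹) * y⁻¹) * (y ^ (2 * m))⁻¹ := by
                rw [mul_add, pow_add, mul_one, sq]; group
            _ = e := by rw [← hf, hfy, ih]
      have hy' : y ^ (2 * (m + 1)) = y := by
        rw [show 2 * (m + 1) = (2 * m + 1) + 1 by ring, pow_succ, ← hm, pow_orderOf_eq_one, one_mul]
      have := hpow (m + 1)
      rw [hy'] at this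
      exact hfe this)
  refine CfsgLib.ModularTwoGroup.hasNormalPComplement_of_index_two S hH (K := K.map H.subtype) ?_ ?_ ?_
  · rintro _ ⟨k, -, rfl⟩; exact k.2
  · intro g hg
    rw [show g = H.subtype ⟨g, hg⟩ from rfl, Subgroup.mem_map_iff_mem H.subtype_injective, hKmem,
      Subgroup.coe_subtype, Subgroup.orderOf_coe]
  · rw [← Nat.card_congr (K.equivMapOfInjective _ H.subtype_injective).toEquiv]
    rw [← hAidx]
    exact hKc.index_eq_card.symm

end Cfsg.Agent.S3178
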