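import Cfsg.Statements.S3554
import Mathlib.GroupTheory.SpecificGroups.Cyclic
import Mathlib.GroupTheory.Perm.Cycle.Type
import Mathlib.Tactic

set_option autoImplicit false
open Cfsg

namespace Cfsg.Agent.S3554

/-- Let G act faithfully and transitively on a finite set and suppose G has a non-trivial cyclic normal subgroup. Then some element of G of prime order fixes no point. -/
theorem result {G Ω : Type*} [Group G] [Finite G] [MulAction G Ω] [FaithfulSMul G Ω] [Finite Ω]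
    (htrans : MulAction.IsPretransitive G Ω) (C : Subgroup G) (hC : C.Normal) (hC1 : C ≠ ⊥) (hcyc : IsCyclic ↥C) :
    ∃ g : G, (orderOf g).Prime ∧ ∀ ω : Ω, g • ω ≠ ω := by
  obtain ⟨c, hc⟩ := IsCyclic.exists_generator (α := C)
  haveI : Nontrivial C := (Subgroup.nontrivial_iff_ne_bot C).2 hC1
  obtain ⟨p, hp, hpd⟩ := Nat.exists_prime_and_dvd (Finite.one_lt_card (α := C)).ne'
  haveI : Fact p.Prime := ⟨hp⟩
  obtain ⟨x, hx⟩ := exists_prime_orderOf_dvd_card' (G := C) p hpd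
  refine ⟨x, by rw [Subgroup.orderOf_coe, hx]; exact hp, fun ω hω => ?_⟩
  have hx1 : x ≠ 1 := fun h => by simp [h] at hx; exact hp.ne_one hx.symm
  refine hx1 (Subtype.ext (FaithfulSMul.eq_of_smul_eq_smul fun β : Ω => ?_))
  obtain ⟨h, rfl⟩ := htrans.exists_smul_eq ω β
  have hmem : h⁻¹ * (x : G) * h ∈ C := by simpa using hC.conj_mem _ x.2 h⁻¹
  have key : (⟨h⁻¹ * x * h, hmem⟩ : C) ∈ Subgroup.zpowers x := by
    obtain ⟨i, hi⟩ := mem_powers_iff_mem_zpowers.2 (hc x)
    obtain ⟨j, hj⟩ := mem_powers_iff_mem_zpowers.2 (hc ⟨h⁻¹ * x * h, hmem⟩)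
    simp only at hi hj
    have hxp : x ^ p = 1 := hx ▸ pow_orderOf_eq_one x
    have hjp : (⟨h⁻¹ * x * h, hmem⟩ : C) ^ p = 1 := by
      apply Subtype.ext
      have : (h⁻¹ * (x : G) * h⁻¹⁻¹) ^ p = 1 := by
        rw [conj_pow, ← SubgroupClass.coe_pow, hxp]; simp
      simpa using this
    rw [← hi, ← pow_mul] at hxp
    rw [← hj, ← pow_mul] at hjp
    have hcn : p ∣ orderOf c := by
      rw [orderOf_eq_card_of_forall_mem_zpowers hc]; exact hpd
    obtain ⟨w, hw⟩ := hcn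
    have hdi := orderOf_dvd_of_pow_eq_one hxp
    have hdj := orderOf_dvd_of_pow_eq_one hjp
    rw [hw, mul_comm p w] at hdi hdj
    obtain ⟨u, rfl⟩ := Nat.dvd_of_mul_dvd_mul_right hp.pos hdi
    obtain ⟨v, rfl⟩ := Nat.dvd_of_mul_dvd_mul_right hp.pos hdj
    rw [pow_mul] at hi hj
    have hsub : Subgroup.zpowers x = Subgroup.zpowers (c ^ w) := by
      refine Subgroup.eq_of_le_of_card_ge (Subgroup.zpowers_le.2 (hi ▸ Subgroup.npow_mem_zpowers _ _)) ?_
      rw [Nat.card_zpowers, Nat.card_zpowers, hx]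
      exact Nat.le_of_dvd hp.pos (orderOf_dvd_of_pow_eq_one
        (by rw [← pow_mul, mul_comm, ← hw, pow_orderOf_eq_one]))
    rw [hsub, ← hj]
    exact Subgroup.npow_mem_zpowers _ _
  obtain ⟨k, hk⟩ := Subgroup.mem_zpowers_iff.1 key
  have hk' : (x : G) ^ k = h⁻¹ * x * h := by
    rw [← SubgroupClass.coe_zpow, hk]
  have h1 : (h⁻¹ * (x : G) * h) • ω = ω := by
    rw [← hk']; exact Subgroup.zpow_mem (MulAction.stabilizer G ω) hω k
  rw [mul_smul, mul_smul, inv_smul_eq_iff] at h1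
  rw [OneMemClass.coe_one, one_smul]
  exact h1

end Cfsg.Agent.S3554
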