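import Cfsg.Statements.S3557
import Mathlib
import Cfsg.Agent.Lib.PStep

set_option autoImplicit false
open Cfsg

namespace Cfsg.Agent.S3557

/-- Let G act faithfully and transitively on a finite set with 2p² points, p a prime, and suppose G is 2-closed: every permutation of the set which, on each ordered pair of points, agrees with some element of G, is itself induced by an element of G. Then some element of G of prime order fixes no point. -/
theorem result {G Ω : Type*} [Group G] [Finite G] [MulAction G Ω] [FaithfulSMul G Ω] [Finite Ω]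
    (htrans : MulAction.IsPretransitive G Ω) (p : ℕ) (hp : p.Prime) (hcard : Nat.card Ω = 2 * p ^ 2)
    (hcl : ∀ σ : Equiv.Perm Ω, (∀ a b : Ω, ∃ g : G, σ a = g • a ∧ σ b = g • b) → ∃ g : G, ∀ a : Ω, σ a = g • a) :
    ∃ g : G, (orderOf g).Prime ∧ ∀ ω : Ω, g • ω ≠ ω := by
  classical
  haveI : Fact p.Prime := ⟨hp⟩
  haveI := Fintype.ofFinite Ω
  obtain ⟨P⟩ := (inferInstance : Nonempty (Sylow p G))
  have hPp : IsPGroup p (P : Subgroup G) := P.isPGroup'
  -- every orbit of the Sylow subgroup has size at least `p ^ 2`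
  have horb : ∀ c : Ω, p ^ 2 ≤ Nat.card (MulAction.orbit (P : Subgroup G) c) := by
    intro c
    have h1 : Nat.card (MulAction.stabilizer G c) * (2 * p ^ 2) = Nat.card G := by
      rw [← hcard, ← MulAction.index_stabilizer_of_transitive G c]
      exact Subgroup.card_mul_index _
    have h2 := (MulAction.stabilizer (P : Subgroup G) c).card_mul_index
    rw [Subgroup.index_eq_card, ← Nat.card_congr (MulAction.orbitEquivQuotientStabilizer (P : Subgroup G) c)] at h2
    obtain ⟨i, hi⟩ := IsPGroup.iff_card.mp (hPp.to_subgroup (MulAction.stabilizer (P : Subgroup G) c))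
    have h3 : p ^ i ∣ Nat.card (MulAction.stabilizer G c) := by
      rw [← hi, Nat.card_congr ((MulAction.stabilizer (P : Subgroup G) c).equivMapOfInjective _ (P : Subgroup G).subtype_injective).toEquiv]
      refine Subgroup.card_dvd_of_le ?_
      rintro _ ⟨g, hg, rfl⟩
      exact hg
    obtain ⟨n, hn⟩ := IsPGroup.iff_card.mp hPp
    have h4 : n = (Nat.card G).factorization p := Nat.pow_right_injective hp.two_le (hn.symm.trans P.card_eq_multiplicity)
    have h6 : p ^ (i + 2) ∣ Nat.card G := by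
      rw [← h1, pow_add]
      exact Nat.mul_dvd_mul h3 (Dvd.intro_left 2 rfl)
    have h5 : i + 2 ≤ n := h4 ▸ (hp.pow_dvd_iff_le_factorization (Nat.card_pos.ne')).mp h6
    rw [hn, hi, show n = i + (n - i) by omega, pow_add] at h2
    have h7 := Nat.eq_of_mul_eq_mul_left (pow_pos hp.pos i) h2
    rw [h7]
    exact Nat.pow_le_pow_right hp.pos (by omega)
  obtain ⟨c₀⟩ : Nonempty Ω := by
    rw [← not_isEmpty_iff]
    intro h
    rw [Nat.card_of_isEmpty] at hcard
    have := pow_pos hp.pos 2
    omega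
  -- a central element of order `p`
  have hPne : Nontrivial (P : Subgroup G) := by
    rw [← Finite.one_lt_card_iff_nontrivial]
    have h1 := horb c₀
    have h2 := Nat.le_of_dvd Nat.card_pos (Dvd.intro _ (by
      have h2 := (MulAction.stabilizer (P : Subgroup G) c₀).card_mul_index
      rw [Subgroup.index_eq_card, ← Nat.card_congr (MulAction.orbitEquivQuotientStabilizer (P : Subgroup G) c₀), mul_comm] at h2
      exact h2) : Nat.card (MulAction.orbit (P : Subgroup G) c₀) ∣ Nat.card (P : Subgroup G))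
    have := Nat.one_lt_pow two_ne_zero hp.one_lt
    omega
  haveI := hPp.center_nontrivial
  obtain ⟨⟨z, hzc⟩, hzo'⟩ : ∃ z : Subgroup.center (P : Subgroup G), orderOf z = p := by
    obtain ⟨n, hn0, hn⟩ := (hPp.to_subgroup (Subgroup.center (P : Subgroup G))).nontrivial_iff_card.mp inferInstance
    exact exists_prime_orderOf_dvd_card' p (hn ▸ dvd_pow_self p hn0.ne')
  have hzo : orderOf (z : G) = p := by rw [Subgroup.orderOf_coe]; rw [Subgroup.orderOf_mk] at hzo'; exact hzo'
  have hzcomm : ∀ g : (P : Subgroup G), g * z = z * g := Subgroup.mem_center_iff.mp hzc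
  by_cases hfix : ∀ ω : Ω, z • ω ≠ ω
  · exact ⟨(z : G), hzo.symm ▸ hp, hfix⟩
  push Not at hfix
  obtain ⟨c, hc⟩ := hfix
  have hzinv : ∀ (a : Ω) (g : (P : Subgroup G)), z • a = a → z • g • a = g • a := fun a g h => by
    rw [← mul_smul, ← hzcomm, mul_smul, h]
  obtain ⟨a, ha⟩ : ∃ a : Ω, z • a ≠ a := by
    by_contra h
    push Not at h
    have : (z : G) = 1 := eq_of_smul_eq_smul (α := Ω) fun ω => by rw [one_smul]; exact h ω
    rw [this, orderOf_one] at hzo
    exact hp.ne_one hzo.symm
  let B := MulAction.orbit (P : Subgroup G) c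
  let A := MulAction.orbit (P : Subgroup G) a
  have hzB : ∀ b ∈ B, z • b = b := by
    rintro _ ⟨g, rfl⟩; exact hzinv c g hc
  have hzA : ∀ b ∈ A, z • b ≠ b := by
    rintro _ ⟨g, rfl⟩ h
    have := hzinv _ g⁻¹ h
    simp only [inv_smul_smul] at this
    exact ha this
  have hdisj : ∀ b ∈ A, b ∉ B := fun b hbA hbB => hzA b hbA (hzB b hbB)
  have hsum : Nat.card A + Nat.card B ≤ 2 * p ^ 2 := by
    rw [← hcard, Nat.card_coe_set_eq, Nat.card_coe_set_eq, ← Set.ncard_univ,
      ← Set.ncard_union_eq (Set.disjoint_left.mpr hdisj) (Set.toFinite _) (Set.toFinite _)]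
    exact Set.ncard_le_ncard (Set.subset_univ _) (Set.toFinite _)
  have hA2 : Nat.card A = p ^ 2 := le_antisymm (by have : p ^ 2 ≤ Nat.card B := horb c; omega) (horb a)
  have hB2 : Nat.card B = p ^ 2 := le_antisymm (by omega) (horb c)
  have hcover : ∀ ω : Ω, ω ∈ A ∨ ω ∈ B := by
    intro ω
    have h1 : A ∪ B = Set.univ := Set.eq_of_subset_of_ncard_le (Set.subset_univ _) (by
      rw [Set.ncard_univ, Set.ncard_union_eq (Set.disjoint_left.mpr hdisj) (Set.toFinite _) (Set.toFinite _),
        ← Nat.card_coe_set_eq, ← Nat.card_coe_set_eq, hA2, hB2, hcard]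
      omega) (Set.toFinite _)
    have h2 : ω ∈ A ∪ B := by rw [h1]; trivial
    exact h2
  -- the subgroup `U = P_a ⟨z⟩`
  obtain ⟨U, hU⟩ : ∃ U : Subgroup (P : Subgroup G), U = MulAction.stabilizer (P : Subgroup G) a ⊔ Subgroup.zpowers z := ⟨_, rfl⟩
  have hUidx : U.index ∣ p := by
    have h1 : (MulAction.stabilizer (P : Subgroup G) a).index = p ^ 2 := by
      rw [Subgroup.index_eq_card, ← Nat.card_congr (MulAction.orbitEquivQuotientStabilizer (P : Subgroup G) a)]
      exact hA2
    have h2 := Subgroup.relIndex_mul_index (hU ▸ le_sup_left : MulAction.stabilizer (P : Subgroup G) a ≤ U)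
    rw [h1] at h2
    obtain ⟨j, hj, hji⟩ := (Nat.dvd_prime_pow hp).mp (Dvd.intro_left _ h2 : U.index ∣ p ^ 2)
    rw [hji]
    have : j ≠ 2 := fun e => by
      subst e
      rw [hji] at h2
      have h3 : (MulAction.stabilizer (P : Subgroup G) a).relIndex U = 1 := by
        have := pow_pos hp.pos 2
        nlinarith [h2]
      rw [Subgroup.relIndex_eq_one] at h3
      exact ha (h3 (hU ▸ Subgroup.mem_sup_right (Subgroup.mem_zpowers z)))
    exact (pow_dvd_pow p (show j ≤ 1 by omega)).trans (pow_one p).dvd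
  haveI hUn : U.Normal := by
    rcases (Nat.dvd_prime hp).mp hUidx with h | h
    · rw [Subgroup.index_eq_one.mp h]; infer_instance
    · obtain ⟨n, hn⟩ := IsPGroup.iff_card.mp hPp
      refine Subgroup.normal_of_index_eq_minFac_card ?_
      have hn0 : n ≠ 0 := fun e => by
        rw [e, pow_zero] at hn
        have := Finite.one_lt_card_iff_nontrivial.mpr hPne
        omega
      rw [h, hn, Nat.pow_minFac hn0, hp.minFac_eq]
  have hUdec : ∀ u ∈ U, ∀ b ∈ A, ∃ h : (P : Subgroup G), h • b = b ∧ ∃ i : ℤ, u = h * z ^ i := by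
    intro u hu b hb
    obtain ⟨g, rfl⟩ := hb
    have h1 : g⁻¹ * u * g ∈ U := by
      have := hUn.conj_mem u hu g⁻¹
      rwa [inv_inv] at this
    have hzn : Subgroup.zpowers z ≤ Subgroup.normalizer (MulAction.stabilizer (P : Subgroup G) a : Set (P : Subgroup G)) := by
      rw [Subgroup.zpowers_le, Subgroup.mem_normalizer_iff]
      intro h
      rw [← hzcomm, mul_inv_cancel_right]
    rw [hU, ← SetLike.mem_coe, Subgroup.coe_mul_of_right_le_normalizer_left _ _ hzn] at h1
    obtain ⟨h, hh, v, hv, e⟩ := h1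
    obtain ⟨i, rfl⟩ := Subgroup.mem_zpowers_iff.mp hv
    refine ⟨g * h * g⁻¹, ?_, i, ?_⟩
    · show (g * h * g⁻¹) • g • a = g • a
      rw [← mul_smul, inv_mul_cancel_right, mul_smul, show h • a = a from hh]
    · have e' : h * z ^ i = g⁻¹ * u * g := e
      rw [mul_assoc (g * h), ((show Commute g⁻¹ z from hzcomm g⁻¹).zpow_right i).eq, ← mul_assoc, mul_assoc g, e']
      group
  -- the induced group on `B` has a central element of order `p` inside the image of `U`
  let ψ := MulAction.toPermHom (P : Subgroup G) B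
  have hψ : ∀ (g : (P : Subgroup G)) (b : B), ((ψ g b : B) : Ω) = g • (b : Ω) := fun g b => rfl
  have hUimg : U.map ψ.rangeRestrict ≠ ⊥ := by
    intro h
    rw [Subgroup.map_eq_bot_iff, MonoidHom.ker_rangeRestrict] at h
    have h1 : U ≤ MulAction.stabilizer (P : Subgroup G) c := fun u hu => by
      have := Equiv.ext_iff.mp (MonoidHom.mem_ker.mp (h hu)) ⟨c, MulAction.mem_orbit_self c⟩
      exact congrArg Subtype.val this
    have h2 := Nat.le_of_dvd hp.pos ((Subgroup.index_dvd_of_le h1).trans hUidx)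
    rw [Subgroup.index_eq_card, ← Nat.card_congr (MulAction.orbitEquivQuotientStabilizer (P : Subgroup G) c),
      show Nat.card (MulAction.orbit (P : Subgroup G) c) = p ^ 2 from hB2, pow_two] at h2
    have := hp.two_le
    nlinarith
  have hQp : IsPGroup p ψ.range := hPp.of_surjective ψ.rangeRestrict ψ.rangeRestrict_surjective
  haveI : (U.map ψ.rangeRestrict).Normal := hUn.map _ ψ.rangeRestrict_surjective
  have hne2 := CfsgLib.PStep.normal_inf_center_ne_bot hQp inferInstance hUimg
  obtain ⟨n, hn0, hn⟩ := (hQp.to_subgroup (U.map ψ.rangeRestrict ⊓ Subgroup.center ψ.range)).nontrivial_iff_card.mp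
    ((Subgroup.nontrivial_iff_ne_bot _).mpr hne2)
  obtain ⟨⟨x, hx⟩, hxo⟩ := exists_prime_orderOf_dvd_card' (G := (U.map ψ.rangeRestrict ⊓ Subgroup.center ψ.range : Subgroup ψ.range)) p (hn ▸ dvd_pow_self p hn0.ne')
  obtain ⟨⟨u, huU, hux⟩, hxc⟩ := hx
  have hxo' : orderOf x = p := (Subgroup.orderOf_coe _).trans hxo
  have hxfree : ∀ b ∈ B, u • b ≠ b := by
    intro b hb hub
    have h1 : ψ u = 1 := by
      refine Equiv.ext fun d => Subtype.ext ?_
      obtain ⟨g, hg⟩ : ∃ g : (P : Subgroup G), g • b = (d : Ω) := by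
        have hd : (d : Ω) ∈ MulAction.orbit (P : Subgroup G) b := by
          rw [MulAction.orbit_eq_iff.mpr hb]; exact d.2
        exact hd
      rw [hψ, show ((1 : Equiv.Perm B) d : Ω) = (d : Ω) from rfl, ← hg]
      have h2 := Subgroup.mem_center_iff.mp hxc (ψ.rangeRestrict g)
      rw [← hux, ← map_mul, ← map_mul] at h2
      have h3 := congrArg Subtype.val (Equiv.ext_iff.mp (congrArg Subtype.val h2) ⟨b, hb⟩)
      have h4 : (g * u) • b = (u * g) • b := h3
      rw [mul_smul, mul_smul, hub] at h4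
      exact h4.symm
    have : x = 1 := by rw [← hux]; exact Subtype.ext h1
    rw [this, orderOf_one] at hxo'
    exact hp.ne_one hxo'.symm
  have hupow : ∀ b ∈ B, (u ^ p) • b = b := by
    intro b hb
    have h1 : ψ.rangeRestrict (u ^ p) = 1 := by rw [map_pow, hux, orderOf_dvd_iff_pow_eq_one.mp (dvd_of_eq hxo')]
    exact congrArg Subtype.val (Equiv.ext_iff.mp (congrArg Subtype.val h1) ⟨b, hb⟩)
  -- the permutation
  have hBinv : ∀ g : (P : Subgroup G), ∀ b, g • b ∈ B ↔ b ∈ B := fun g b => by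
    constructor
    · intro h
      have := MulAction.mem_orbit_of_mem_orbit g⁻¹ h
      rwa [inv_smul_smul] at this
    · exact fun h => MulAction.mem_orbit_of_mem_orbit g h
  let f : Ω → Ω := fun ω => if ω ∈ B then u • ω else z • ω
  have hf : Function.Injective f := by
    intro x y hxy
    simp only [f] at hxy
    by_cases hx : x ∈ B <;> by_cases hy : y ∈ B
    · rw [if_pos hx, if_pos hy] at hxy; exact MulAction.injective u hxy
    · rw [if_pos hx, if_neg hy] at hxy
      exact absurd ((hBinv z y).mp (hxy ▸ (hBinv u x).mpr hx)) hy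
    · rw [if_neg hx, if_pos hy] at hxy
      exact absurd ((hBinv z x).mp (hxy.symm ▸ (hBinv u y).mpr hy)) hx
    · rw [if_neg hx, if_neg hy] at hxy; exact MulAction.injective z hxy
  let σ : Equiv.Perm Ω := Equiv.ofBijective f (Finite.injective_iff_bijective.mp hf)
  have hσ : ∀ ω, σ ω = if ω ∈ B then u • ω else z • ω := fun ω => rfl
  have hmix : ∀ x ∈ A, ∀ y ∈ B, ∃ g : (P : Subgroup G), g • x = z • x ∧ g • y = u • y := by
    intro x hxA y hy
    obtain ⟨h, hh, i, hi⟩ := hUdec u huU x hxA
    refine ⟨z * h, by rw [mul_smul, hh], ?_⟩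
    rw [mul_smul, hzB _ ((hBinv h y).mpr hy), hi, mul_smul]
    have hzi : z ^ i • y = y := MulAction.mem_stabilizer_iff.mp (Subgroup.zpow_mem _ (MulAction.mem_stabilizer_iff.mpr (hzB y hy)) i)
    rw [hzi]
  obtain ⟨g, hg⟩ := hcl σ (fun x y => by
    by_cases hx : x ∈ B <;> by_cases hy : y ∈ B
    · exact ⟨(u : G), by rw [hσ, if_pos hx]; rfl, by rw [hσ, if_pos hy]; rfl⟩
    · obtain ⟨g, e1, e2⟩ := hmix y ((hcover y).resolve_right hy) x hx
      exact ⟨(g : G), by rw [hσ, if_pos hx, ← e2]; rfl, by rw [hσ, if_neg hy, ← e1]; rfl⟩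
    · obtain ⟨g, e1, e2⟩ := hmix x ((hcover x).resolve_right hx) y hy
      exact ⟨(g : G), by rw [hσ, if_neg hx, ← e1]; rfl, by rw [hσ, if_pos hy, ← e2]; rfl⟩
    · exact ⟨(z : G), by rw [hσ, if_neg hx]; rfl, by rw [hσ, if_neg hy]; rfl⟩)
  have hgfree : ∀ ω : Ω, g • ω ≠ ω := by
    intro ω h
    rw [← hg, hσ] at h
    by_cases hω : ω ∈ B
    · rw [if_pos hω] at h; exact hxfree ω hω h
    · rw [if_neg hω] at h; exact hzA ω ((hcover ω).resolve_right hω) h
  refine ⟨g, ?_, hgfree⟩
  have hpow : ∀ n : ℕ, ∀ ω, g ^ n • ω = if ω ∈ B then (u ^ n) • ω else (z ^ n) • ω := by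
    intro n
    induction n with
    | zero => intro ω; simp
    | succ n ih =>
      intro ω
      rw [pow_succ', mul_smul, ih, ← hg, hσ]
      by_cases hω : ω ∈ B
      · rw [if_pos hω, if_pos ((hBinv _ ω).mpr hω), if_pos hω, pow_succ', mul_smul]
      · rw [if_neg hω, if_neg (fun h => hω ((hBinv _ ω).mp h)), if_neg hω, pow_succ', mul_smul]
  have hgp : g ^ p = 1 := eq_of_smul_eq_smul (α := Ω) fun ω => by
    rw [hpow, one_smul]
    by_cases hω : ω ∈ B
    · rw [if_pos hω]; exact hupow ω hω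
    · rw [if_neg hω]
      have : z ^ p = 1 := orderOf_dvd_iff_pow_eq_one.mp (dvd_of_eq ((Subgroup.orderOf_coe z).symm.trans hzo))
      rw [this, one_smul]
  rw [orderOf_eq_prime hgp fun h => hgfree c₀ (by rw [h, one_smul])]
  exact hp

end Cfsg.Agent.S3557
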