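import Cfsg.Statements.S3680
import Mathlib
import Cfsg.Agent.S0721

set_option autoImplicit false
open Cfsg

namespace Cfsg.Agent.S3680

/-- The socle of a finite primitive permutation group. Let a finite group G act faithfully and primitively on a set Ω, and let N be the subgroup generated by the minimal normal subgroups of G. Then either N is an elementary abelian p-group for some prime p and acts regularly on Ω (transitively with trivial point stabilizers), or N is isomorphic to a direct product of m ≥ 1 copies of a non-abelian simple group. -/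
theorem result {G Ω : Type*} [Group G] [Finite G] [MulAction G Ω] [FaithfulSMul G Ω] [Finite Ω]
    (hprim : MulAction.IsPreprimitive G Ω) (N : Subgroup G)
    (hN : N = sSup {V : Subgroup G | V.Normal ∧ V ≠ ⊥ ∧ ∀ M : Subgroup G, M.Normal → M ≤ V → M = ⊥ ∨ M = V}) :
    (∃ p : ℕ, p.Prime ∧ IsMulCommutative N ∧ (∀ x : N, x ^ p = 1) ∧
      MulAction.IsPretransitive N Ω ∧ ∀ ω : Ω, MulAction.stabilizer N ω = ⊥) ∨
    (∃ (T : Type) (_ : Group T) (m : ℕ), 1 ≤ m ∧ IsSimpleGroup T ∧ ¬ IsMulCommutative T ∧ Nonempty (N ≃* (Fin m → T))) := by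
  classical
  let Min : Subgroup G → Prop := fun V => V.Normal ∧ V ≠ ⊥ ∧ ∀ M : Subgroup G, M.Normal → M ≤ V → M = ⊥ ∨ M = V
  replace hN : N = sSup {V | Min V} := hN
  have htr : ∀ V : Subgroup G, V.Normal → V ≠ ⊥ → MulAction.IsPretransitive V Ω := by
    intro V hV hV1
    have := hprim
    refine MulAction.IsQuasiPreprimitive.isPretransitive_of_normal fun h => hV1 ?_
    rw [Subgroup.eq_bot_iff_forall]
    intro g hg
    refine eq_of_smul_eq_smul fun ω : Ω => ?_
    rw [one_smul]
    have hω : ω ∈ MulAction.fixedPoints V Ω := h ▸ Set.mem_univ ω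
    exact hω ⟨g, hg⟩
  have hfree : ∀ V : Subgroup G, MulAction.IsPretransitive V Ω → ∀ c ∈ Subgroup.centralizer (V : Set G), ∀ ω : Ω,
      c • ω = ω → c = 1 := by
    intro V hV c hc ω hω
    refine eq_of_smul_eq_smul fun x : Ω => ?_
    obtain ⟨v, hv⟩ := hV.exists_smul_eq ω x
    have hv' : (v : G) • ω = x := hv
    rw [one_smul, ← hv', ← mul_smul, ← hc v v.2, mul_smul, hω]
  have hcard : ∀ V : Subgroup G, MulAction.IsPretransitive V Ω → ∀ W : Subgroup G,
      W ≤ Subgroup.centralizer (V : Set G) → MulAction.IsPretransitive W Ω → W = Subgroup.centralizer (V : Set G) := by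
    intro V hV W hWC hW
    refine le_antisymm hWC fun c hc => ?_
    rcases isEmpty_or_nonempty Ω with hE | ⟨⟨ω⟩⟩
    · have : c = 1 := eq_of_smul_eq_smul fun x : Ω => hE.elim x
      rw [this]; exact W.one_mem
    obtain ⟨w, hw⟩ := hW.exists_smul_eq ω (c • ω)
    have hw' : (w : G) • ω = c • ω := hw
    have : c⁻¹ * w = 1 := hfree V hV _ (mul_mem (inv_mem hc) (hWC w.2)) ω (by rw [mul_smul, hw', inv_smul_smul])
    rw [inv_mul_eq_one.mp this]; exact w.2
  have hcomm : ∀ V W, Min V → Min W → V ≠ W → W ≤ Subgroup.centralizer (V : Set G) := by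
    intro V W hV hW hne w hw v hv
    have := hV.1; have := hW.1
    refine Subgroup.commute_of_normal_of_disjoint V W hV.1 hW.1 ?_ v w hv hw
    rw [disjoint_iff]
    rcases hV.2.2 (V ⊓ W) inferInstance inf_le_left with h | h
    · exact h
    · rcases hW.2.2 (V ⊓ W) inferInstance inf_le_right with h' | h'
      · exact h'
      · exact absurd (h.symm.trans h') hne
  have two : ∀ V W, Min V → Min W → V ≠ W → W = Subgroup.centralizer (V : Set G) := fun V W hV hW hne =>
    hcard V (htr V hV.1 hV.2.1) W (hcomm V W hV hW hne) (htr W hW.1 hW.2.1)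
  by_cases hex : ∃ V, Min V
  swap
  · -- then the group is trivial
    have : Subsingleton G := by
      by_contra h
      rw [not_subsingleton_iff_nontrivial] at h
      obtain ⟨V, -, hV⟩ := Finite.exists_le_minimal (p := fun V : Subgroup G => V.Normal ∧ V ≠ ⊥) (a := ⊤) ⟨inferInstance, top_ne_bot⟩
      exact hex ⟨V, hV.1.1, hV.1.2, fun M hM hle => or_iff_not_imp_left.mpr fun hb => le_antisymm hle (hV.2 ⟨hM, hb⟩ hle)⟩
    refine Or.inl ⟨2, Nat.prime_two, ⟨⟨fun a b => Subsingleton.elim _ _⟩⟩, fun x => Subsingleton.elim _ _, ?_, fun ω => Subsingleton.elim _ _⟩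
    have := hprim.toIsPretransitive
    exact ⟨fun x y => (this.exists_smul_eq x y).elim fun g hg => ⟨1, by rw [← hg, Subsingleton.elim g 1]; rfl⟩⟩
  obtain ⟨V, hV⟩ := hex
  have hVn := hV.1
  obtain ⟨T, hT, m, hTs, hm, ⟨e⟩⟩ := Cfsg.Agent.S0721.result V hV.2.1 hV.2.2
  by_cases hab : IsMulCommutative V
  · -- abelian case
    have hVC : V ≤ Subgroup.centralizer (V : Set G) := fun v hv u hu =>
      congrArg Subtype.val (mul_comm' (⟨u, hu⟩ : V) ⟨v, hv⟩)
    have hC := hcard V (htr V hVn hV.2.1) V hVC (htr V hVn hV.2.1)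
    have huniq : ∀ W, Min W → W = V := fun W hW => by
      by_contra hne
      exact hne ((two V W hV hW (Ne.symm hne)).trans hC.symm)
    have hNV : N = V := by
      rw [hN]; exact le_antisymm (sSup_le fun W hW => (huniq W hW).le) (le_sSup hV)
    subst hNV
    have hTc : ∀ a b : T, a * b = b * a := by
      intro a b
      have := congrArg (fun x => e x ⟨0, hm⟩) (mul_comm' (e.symm fun _ => a) (e.symm fun _ => b))
      simpa using this
    let : CommGroup T := { hT with mul_comm := hTc }
    have : Finite T := Finite.of_injective (fun t : T => e.symm fun _ => t) fun a b h =>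
      congrFun (e.symm.injective h) ⟨0, hm⟩
    refine Or.inl ⟨Nat.card T, IsSimpleGroup.prime_card, hab, fun x => e.injective ?_, htr N hVn hV.2.1, fun ω => ?_⟩
    · rw [map_pow, map_one]; funext i; exact pow_card_eq_one'
    · rw [Subgroup.eq_bot_iff_forall]
      exact fun x hx => Subtype.ext (hfree N (htr N hVn hV.2.1) x (hVC x.2) ω hx)
  refine Or.inr ?_
  have hTn : ¬ IsMulCommutative T := fun h => hab ⟨⟨fun x y => e.injective (funext fun i => by
    rw [map_mul, map_mul, Pi.mul_apply, Pi.mul_apply]; exact mul_comm' _ _)⟩⟩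
  by_cases hW : ∃ W, Min W ∧ W ≠ V
  swap
  · push Not at hW
    have hNV : N = V := by
      rw [hN]; exact le_antisymm (sSup_le fun W hW' => (hW W hW').le) (le_sSup hV)
    subst hNV
    exact ⟨T, hT, m, hm, hTs, hTn, ⟨e⟩⟩
  obtain ⟨W, hW, hWV⟩ := hW
  have hWC := two V W hV hW (Ne.symm hWV)
  have hVC := two W V hW hV hWV
  have hc : ∀ v : V, ∀ w : W, Commute (v : G) (w : G) := fun v w => hcomm V W hV hW (Ne.symm hWV) w.2 v v.2
  have hNVW : N = V ⊔ W := by
    rw [hN]
    refine le_antisymm (sSup_le fun U hU => ?_) (sup_le (le_sSup hV) (le_sSup hW))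
    by_cases hUV : U = V
    · exact hUV ▸ le_sup_left
    · rw [two V U hV hU (Ne.symm hUV), ← hWC]; exact le_sup_right
  have hΩ : Nonempty Ω := by
    by_contra h
    rw [not_nonempty_iff] at h
    exact hV.2.1 ((Subgroup.eq_bot_iff_forall V).mpr fun v _ => eq_of_smul_eq_smul fun x : Ω => h.elim x)
  obtain ⟨ω⟩ := hΩ
  choose φ hφ using fun v : V => (htr W hW.1 hW.2.1).exists_smul_eq ω ((v : G)⁻¹ • ω)
  replace hφ : ∀ v, ((φ v : W) : G) • ω = (v : G)⁻¹ • ω := hφ
  have wuniq : ∀ w w' : W, (w : G) • ω = (w' : G) • ω → w = w' := fun w w' h => by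
    have : (w' : G)⁻¹ * w = 1 := hfree V (htr V hVn hV.2.1) _ (mul_mem (inv_mem (hWC ▸ w'.2)) (hWC ▸ w.2)) ω
      (by rw [mul_smul, h, inv_smul_smul])
    exact (Subtype.ext (inv_mul_eq_one.mp this)).symm
  have vuniq : ∀ v v' : V, (v : G) • ω = (v' : G) • ω → v = v' := fun v v' h => by
    have : (v' : G)⁻¹ * v = 1 := hfree W (htr W hW.1 hW.2.1) _ (mul_mem (inv_mem (hVC ▸ v'.2)) (hVC ▸ v.2)) ω
      (by rw [mul_smul, h, inv_smul_smul])
    exact (Subtype.ext (inv_mul_eq_one.mp this)).symm
  let Φ : V →* W := MonoidHom.mk' φ fun u v => wuniq _ _ (by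
    rw [hφ, Subgroup.coe_mul, Subgroup.coe_mul, mul_inv_rev, mul_smul, ← hφ u, ← mul_smul, mul_smul ((φ u : W) : G), hφ v,
      ← mul_smul, ((hc v (φ u)).inv_left).eq])
  have hΦ : Function.Bijective Φ := by
    constructor
    · intro u v h
      have h1 := (hφ u).symm.trans ((congrArg (fun w : W => (w : G) • ω) h).trans (hφ v))
      exact inv_injective (vuniq u⁻¹ v⁻¹ h1)
    · intro w
      obtain ⟨v, hv⟩ := (htr V hVn hV.2.1).exists_smul_eq ω ((w : G) • ω)
      refine ⟨v⁻¹, wuniq _ _ ?_⟩
      show ((φ v⁻¹ : W) : G) • ω = _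
      rw [hφ, Subgroup.coe_inv, inv_inv]; exact hv
  let mul : V × W →* G := MonoidHom.noncommCoprod V.subtype W.subtype (fun v w => show Commute (V.subtype v) (W.subtype w) from hc v w)
  have hinj : Function.Injective mul := by
    rw [injective_iff_map_eq_one]
    rintro ⟨v, w⟩ h
    have h' : (v : G) * w = 1 := h
    have hv : (v : G) ∈ Subgroup.centralizer (V : Set G) := by
      rw [eq_inv_of_mul_eq_one_left h']; exact inv_mem (hWC ▸ w.2)
    have hv1 : (v : G) = 1 := by
      have hd := hV.2.2 (V ⊓ W) (by have := hW.1; infer_instance) inf_le_left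
      rcases hd with hd | hd
      · exact (Subgroup.mem_bot).mp (hd ▸ ⟨v.2, hWC ▸ hv⟩)
      · exfalso
        rcases hW.2.2 (V ⊓ W) (by have := hW.1; infer_instance) inf_le_right with hd' | hd'
        · exact hV.2.1 (hd.symm.trans hd')
        · exact hWV (hd'.symm.trans hd)
    rw [hv1, one_mul] at h'
    exact Prod.ext (Subtype.ext hv1) (Subtype.ext h')
  have hrange : mul.range = N := by
    show (MonoidHom.noncommCoprod V.subtype W.subtype (fun v w => show Commute (V.subtype v) (W.subtype w) from hc v w)).range = N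
    rw [hNVW, MonoidHom.noncommCoprod_range, Subgroup.range_subtype, Subgroup.range_subtype]
  let e2 : V × W ≃* N := (MonoidHom.ofInjective hinj).trans (MulEquiv.subgroupCongr hrange)
  let eS : ((Fin m → T) × (Fin m → T)) ≃* (Fin (m + m) → T) :=
    { toEquiv := ((Equiv.sumArrowEquivProdArrow (Fin m) (Fin m) T).symm).trans (Equiv.arrowCongr finSumFinEquiv (Equiv.refl T))
      map_mul' := fun f g => funext fun i => by
        cases h : finSumFinEquiv.symm i <;> simp [Equiv.arrowCongr, Equiv.sumArrowEquivProdArrow, h] }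
  exact ⟨T, hT, m + m, by omega, hTs, hTn,
    ⟨e2.symm.trans ((MulEquiv.prodCongr e ((MulEquiv.ofBijective Φ hΦ).symm.trans e)).trans eS)⟩⟩

end Cfsg.Agent.S3680
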