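import Cfsg.Agent.Lib.PSeries
-- import your own Cfsg.Agent.* helpers here

set_option autoImplicit false
open Cfsg

namespace Cfsg.Agent.S3790

open CfsgLib.PSeries in
/-- `B` is reached from `A` in at most `k` steps of `p`-type of the upper series. -/
def Reach {G : Type*} [Group G] (p k : ℕ) (A B : Subgroup G) : Prop :=
  ∀ m : ℕ, A ≤ U p G (2 * m + 1) → B ≤ U p G (2 * (m + k) + 1)

open CfsgLib.PSeries

theorem relIndex_dvd_sup {G : Type*} [Group G] (N Y : Subgroup G) [N.Normal] :
    N.relIndex (N ⊔ Y) = N.relIndex Y := by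
  rw [sup_comm, Subgroup.relIndex_sup_right]

theorem relIndex_dvd_mono {G : Type*} [Group G] (N Y Z : Subgroup G) [N.Normal] (hN : N ≤ Z) (hY : Y ≤ Z) :
    N.relIndex Y ∣ N.relIndex Z := by
  rw [← relIndex_dvd_sup N Y, ← Subgroup.relIndex_mul_relIndex N (N ⊔ Y) Z le_sup_left (sup_le hN hY)]
  exact dvd_mul_right _ _

theorem reach_prime_to {G : Type*} [Group G] [Finite G] {p : ℕ} {A B : Subgroup G} [B.Normal] (hAB : A ≤ B)
    (h : (A.relIndex B).Coprime p) : Reach p 0 A B := by
  intro m hA
  have hev : Even (2 * m) := even_two_mul m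
  have hn : (U p G (2 * m + 1) ⊔ B).Normal := inferInstance
  refine le_trans le_sup_right (le_succ_even hev hn ((le_succ _).trans le_sup_left) ?_)
  rw [← Subgroup.relIndex_mul_relIndex _ _ _ (le_succ (2 * m)) le_sup_left]
  refine Nat.Coprime.mul_left (relIndex_succ_even hev) ?_
  rw [relIndex_dvd_sup]
  exact h.coprime_dvd_left (Subgroup.relIndex_dvd_of_le_left B hA)

theorem reach_p {G : Type*} [Group G] [Finite G] {p : ℕ} [Fact p.Prime] {A B : Subgroup G} [B.Normal] (hAB : A ≤ B)
    (h : ∃ k, A.relIndex B = p ^ k) : Reach p 1 A B := by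
  intro m hA
  obtain ⟨k, hk⟩ := h
  have hodd : ¬ Even (2 * m + 1) := by simp
  have hn : (U p G (2 * m + 1) ⊔ B).Normal := inferInstance
  have h1 : B ≤ U p G (2 * m + 1 + 1) := by
    refine le_trans le_sup_right (le_succ_odd hodd hn le_sup_left ?_)
    rw [relIndex_dvd_sup]
    obtain ⟨i, -, hi⟩ := (Nat.dvd_prime_pow Fact.out).mp (hk ▸ Subgroup.relIndex_dvd_of_le_left B hA)
    exact ⟨i, hi⟩
  exact h1.trans (le_succ _)

theorem reach_list {G : Type*} [Group G] [Finite G] {p : ℕ} [Fact p.Prime] :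
    ∀ L : List (ℕ × ℕ), (∀ x ∈ L, x.1.Prime ∧ x.1 ≠ p ∧ Cfsg.PLengthLE x.1 x.2 G) →
      ∀ A B : Subgroup G, A.Normal → B.Normal → A ≤ B →
        (∀ s : ℕ, s.Prime → s ∣ A.relIndex B → s = p ∨ s ∈ L.map Prod.fst) →
        Reach p (L.map fun x => 1 + x.2).prod A B := by
  intro L
  induction L with
  | nil =>
    intro _ A B _ hB hAB hs
    haveI := hB
    rw [List.map_nil, List.prod_nil]
    exact reach_p hAB ⟨_, Nat.eq_prime_pow_of_unique_prime_dvd
      (Subgroup.index_ne_zero_of_finite (H := A.subgroupOf B))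
      fun {d} hd hd' => (hs d hd hd').resolve_right (List.not_mem_nil)⟩
  | cons x L ih =>
    obtain ⟨q, l⟩ := x
    intro hL A B hA hB hAB hs
    haveI := hA
    haveI := hB
    obtain ⟨hq, hqp, hlen⟩ := hL (q, l) List.mem_cons_self
    haveI := Fact.mk hq
    set P := (L.map fun x => 1 + x.2).prod with hP
    let C : ℕ → Subgroup G := fun j => A ⊔ (B ⊓ U q G j)
    have hmono : ∀ j, C j ≤ C (j + 1) := fun j => sup_le_sup_left (inf_le_inf le_rfl (le_succ j)) A
    have hCB : ∀ j, C j ≤ B := fun j => sup_le hAB inf_le_left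
    have hd1 : ∀ j, (C j).relIndex (C (j + 1)) ∣ (U q G j).relIndex (U q G (j + 1)) := by
      intro j
      haveI : (C j).Normal := inferInstanceAs (A ⊔ (B ⊓ U q G j)).Normal
      have e : C (j + 1) = C j ⊔ (B ⊓ U q G (j + 1)) := by
        show A ⊔ (B ⊓ U q G (j + 1)) = A ⊔ (B ⊓ U q G j) ⊔ (B ⊓ U q G (j + 1))
        rw [sup_assoc, sup_eq_right.mpr (inf_le_inf le_rfl (le_succ j))]
      rw [e, relIndex_dvd_sup]
      refine (Subgroup.relIndex_dvd_of_le_left _ (le_sup_right : B ⊓ U q G j ≤ C j)).trans ?_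
      have e2 : (B ⊓ U q G j).relIndex (B ⊓ U q G (j + 1)) = (U q G j).relIndex (B ⊓ U q G (j + 1)) := by
        rw [← Subgroup.inf_relIndex_right (B ⊓ U q G j), ← Subgroup.inf_relIndex_right (U q G j)]
        congr 1
        rw [inf_inf_inf_comm, inf_idem, ← inf_assoc, inf_comm B, inf_assoc]
      rw [e2]
      exact relIndex_dvd_mono _ _ _ (le_succ j) inf_le_right
    have hd2 : ∀ j, (C j).relIndex (C (j + 1)) ∣ A.relIndex B := by
      intro j
      rw [← Subgroup.relIndex_mul_relIndex A (C j) B le_sup_left (hCB j),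
        ← Subgroup.relIndex_mul_relIndex (C j) (C (j + 1)) B (hmono j) (hCB (j + 1))]
      exact Dvd.dvd.mul_left (dvd_mul_right _ _) _
    have heven : ∀ i, Reach p P (C (2 * i)) (C (2 * i + 1)) := by
      intro i
      refine ih (fun x hx => hL x (List.mem_cons_of_mem _ hx)) _ _ (inferInstanceAs (A ⊔ (B ⊓ U q G (2 * i))).Normal)
        (inferInstanceAs (A ⊔ (B ⊓ U q G (2 * i + 1))).Normal) (hmono _) fun s hs1 hs2 => ?_
      rcases hs s hs1 (hs2.trans (hd2 _)) with h | h
      · exact Or.inl h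
      · rw [List.map_cons, List.mem_cons] at h
        rcases h with h | h
        · exact absurd (Nat.eq_one_of_dvd_coprimes (relIndex_succ_even (p := q) (even_two_mul i)) (hs2.trans (hd1 _)) (h ▸ dvd_rfl)) hs1.ne_one
        · exact Or.inr h
    have hodd : ∀ i, Reach p 0 (C (2 * i + 1)) (C (2 * i + 1 + 1)) := by
      intro i
      haveI : (C (2 * i + 1 + 1)).Normal := inferInstanceAs (A ⊔ (B ⊓ U q G (2 * i + 1 + 1))).Normal
      refine reach_prime_to (hmono _) ?_
      obtain ⟨k, hk⟩ := relIndex_succ_odd (p := q) (G := G) (n := 2 * i + 1) (by simp)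
      exact (Nat.Coprime.pow_left k ((Nat.coprime_primes hq Fact.out).mpr hqp)).coprime_dvd_left (hk ▸ hd1 _)
    have hmain : ∀ i, Reach p ((i + 1) * P) (C 0) (C (2 * i + 1)) := by
      intro i
      induction i with
      | zero => rw [zero_add, one_mul]; exact heven 0
      | succ i ih' =>
        intro m hm
        have h1 := hodd i _ (ih' m hm)
        rw [add_zero] at h1
        have h2 := heven (i + 1) (m + (i + 1) * P) (by rwa [show 2 * (i + 1) = 2 * i + 1 + 1 by ring])
        rwa [show m + (i + 1 + 1) * P = m + (i + 1) * P + P by ring]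
    have h0 : C 0 = A := by simp [C, CfsgLib.PSeries.zero]
    have hl : C (2 * l + 1) = B := by
      show A ⊔ (B ⊓ U q G (2 * l + 1)) = B
      rw [show U q G (2 * l + 1) = ⊤ from hlen, inf_top_eq, sup_eq_right.mpr hAB]
    have := hmain l
    rw [h0, hl] at this
    rw [List.map_cons, List.prod_cons, add_comm 1 l]
    exact this



/-- Let G be a finite solvable group and p a prime. Suppose p₁, …, p_r are distinct primes, all different from p, that include every prime dividing the order of G other than p, and that G has p_i-length at most l_i for each i. Then G has p-length at most the product of the numbers 1 + l_i. -/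
theorem result {G : Type*} [Group G] [Finite G] (hG : Group.IsSolvable G) (p : ℕ) [Fact p.Prime] (r : ℕ) (q : Fin r → ℕ) (hq : ∀ i, (q i).Prime ∧ q i ≠ p) (hinj : Function.Injective q) (hcover : ∀ s : ℕ, s.Prime → s ∣ Nat.card G → s ≠ p → ∃ i, q i = s) (l : Fin r → ℕ) (hl : ∀ i, Cfsg.PLengthLE (q i) (l i) G) : Cfsg.PLengthLE p (Finset.univ.prod fun i => 1 + l i) G := by
  classical
  have h := reach_list (G := G) (p := p) (List.ofFn fun i => (q i, l i)) (fun x hx => by
      obtain ⟨i, rfl⟩ := List.mem_ofFn.mp hx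
      exact ⟨(hq i).1, (hq i).2, hl i⟩) ⊥ ⊤ inferInstance inferInstance bot_le (fun s hs hd => by
      by_cases hsp : s = p
      · exact Or.inl hsp
      · rw [Subgroup.relIndex_bot_left, Subgroup.card_top] at hd
        obtain ⟨i, hi⟩ := hcover s hs hd hsp
        exact Or.inr (List.mem_map.mpr ⟨(q i, l i), List.mem_ofFn.mpr ⟨i, rfl⟩, hi⟩))
  have hprod : ((List.ofFn fun i => (q i, l i)).map fun x => 1 + x.2).prod = Finset.univ.prod fun i => 1 + l i := by
    rw [List.map_ofFn, List.prod_ofFn]; rfl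
  have h2 := h 0 bot_le
  rw [hprod, zero_add] at h2
  exact top_le_iff.mp h2

end Cfsg.Agent.S3790
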