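import Cfsg.Statements.S3807
import Cfsg.Agent.S0662

set_option autoImplicit false
open Cfsg

namespace Cfsg.Agent.S3807
open scoped commutatorElement

/-- Let S be a non-abelian finite p-group with an abelian subgroup A of index p. Then [S : Z(S)] = p·#[S,S], and either [S,S] has order p, S/Z(S) is elementary abelian of order p², and S has exactly p + 1 abelian subgroups of index p; or [S,S] has order at least p² and A is the only abelian subgroup of index p in S. -/
theorem result {S : Type*} [Group S] [Finite S] (p : ℕ) [Fact p.Prime] (hS : IsPGroup p S) (hna : ¬ IsMulCommutative S)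
    (A : Subgroup S) (hA : IsMulCommutative ↥A) (hAi : A.index = p) :
    (Subgroup.center S).index = p * Nat.card (commutator S) ∧
      ((Nat.card (commutator S) = p ∧ Cfsg.IsElementaryAbelian p (⊤ : Subgroup (S ⧸ Subgroup.center S)) ∧
          Nat.card (S ⧸ Subgroup.center S) = p ^ 2 ∧
          Nat.card {B : Subgroup S // IsMulCommutative ↥B ∧ B.index = p} = p + 1) ∨
        (p ^ 2 ≤ Nat.card (commutator S) ∧ ∀ B : Subgroup S, IsMulCommutative ↥B → B.index = p → B = A)) := by
  classical
  have hp := (Fact.out : p.Prime)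
  obtain ⟨n, hn⟩ := IsPGroup.iff_card.mp hS
  have hn0 : n ≠ 0 := by
    rintro rfl
    haveI : Subsingleton S := (Nat.card_eq_one_iff_unique.mp hn).1
    exact hna ⟨⟨fun a b => Subsingleton.elim _ _⟩⟩
  have hnorm : ∀ B : Subgroup S, B.index = p → B.Normal := fun B hB =>
    Subgroup.normal_of_index_eq_minFac_card (by rw [hB, hn, Nat.pow_minFac hn0, hp.minFac_eq])
  haveI := hnorm A hAi
  have hAc : ∀ a ∈ A, ∀ b ∈ A, a * b = b * a := fun a ha b hb => congrArg Subtype.val (hA.is_comm.comm (⟨a, ha⟩ : A) ⟨b, hb⟩)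
  have htop : ∀ (B : Subgroup S) (y : S), B.index = p → y ∉ B → B ⊔ Subgroup.zpowers y = ⊤ := by
    intro B y hB hy
    have hlt : B < B ⊔ Subgroup.zpowers y := lt_of_le_of_ne le_sup_left fun h => hy (h ▸ Subgroup.mem_sup_right (Subgroup.mem_zpowers y))
    rw [← Subgroup.index_eq_one]
    rcases hp.eq_one_or_self_of_dvd _ (hB ▸ Subgroup.index_dvd_of_le hlt.le) with h | h
    · exact h
    · exfalso
      refine hlt.ne (Subgroup.eq_of_le_of_card_ge hlt.le (le_of_eq ?_))
      have e1 := B.card_mul_index
      have e2 := (B ⊔ Subgroup.zpowers y).card_mul_index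
      rw [hB] at e1
      rw [h] at e2
      exact Nat.eq_of_mul_eq_mul_right hp.pos (e2.trans e1.symm)
  -- an abelian subgroup of index p contains the centre
  have hZle : ∀ B : Subgroup S, IsMulCommutative B → B.index = p → Subgroup.center S ≤ B := by
    intro B hB hBi z hz
    by_contra hzB
    apply hna
    have : (⊤ : Subgroup S) ≤ Subgroup.center S := by
      rw [← htop B z hBi hzB]
      refine sup_le (fun b hb => Subgroup.mem_center_iff.mpr fun g => ?_) (Subgroup.zpowers_le.mpr hz)
      have : B ⊔ Subgroup.zpowers z ≤ Subgroup.centralizer ({b} : Set S) :=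
        sup_le (fun c hc => Subgroup.mem_centralizer_singleton_iff.mpr (congrArg Subtype.val (hB.is_comm.comm (⟨c, hc⟩ : B) ⟨b, hb⟩)))
          (Subgroup.zpowers_le.mpr (Subgroup.mem_centralizer_singleton_iff.mpr (Subgroup.mem_center_iff.mp hz b).symm))
      exact Subgroup.mem_centralizer_singleton_iff.mp (this (htop B z hBi hzB ▸ Subgroup.mem_top g))
    exact ⟨⟨fun a b => Subgroup.mem_center_iff.mp (this (Subgroup.mem_top b)) a⟩⟩
  obtain ⟨x, hx⟩ : ∃ x, x ∉ A := by
    by_contra h
    push Not at h
    rw [show A = ⊤ from eq_top_iff.mpr fun g _ => h g, Subgroup.index_top] at hAi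
    exact hp.one_lt.ne hAi
  have hgen := htop A x hAi hx
  have hconjA : ∀ a ∈ A, ∀ g : S, g * a * g⁻¹ ∈ A := fun a ha g => Subgroup.Normal.conj_mem inferInstance a ha g
  let f : A →* S := MonoidHom.mk' (fun a => ⁅(a : S), x⁆) (fun a b => by
    show ⁅((a : S) * b), x⁆ = ⁅(a : S), x⁆ * ⁅(b : S), x⁆
    have hb : (b : S) * (x * (b : S)⁻¹ * x⁻¹) ∈ A := A.mul_mem b.2 (hconjA _ (A.inv_mem b.2) x)
    calc ⁅((a : S) * b), x⁆ = (a : S) * ((b : S) * (x * (b : S)⁻¹ * x⁻¹) * (x * (a : S)⁻¹ * x⁻¹)) := by
          rw [commutatorElement_def]; group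
      _ = (a : S) * ((x * (a : S)⁻¹ * x⁻¹) * ((b : S) * (x * (b : S)⁻¹ * x⁻¹))) := by rw [hAc _ hb _ (hconjA _ (A.inv_mem a.2) x)]
      _ = _ := by rw [commutatorElement_def, commutatorElement_def]; group)
  set K := f.range with hK
  have hKA : K ≤ A := by
    rintro _ ⟨a, rfl⟩
    show (a : S) * x * (a : S)⁻¹ * x⁻¹ ∈ A
    rw [show (a : S) * x * (a : S)⁻¹ * x⁻¹ = (a : S) * (x * (a : S)⁻¹ * x⁻¹) by group]
    exact A.mul_mem a.2 (hconjA _ (A.inv_mem a.2) x)
  haveI hKn : K.Normal := by
    rw [← Subgroup.normalizer_eq_top_iff, eq_top_iff, ← hgen]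
    refine sup_le (fun a ha => Subgroup.mem_normalizer_fintype fun k hk => ?_) (Subgroup.zpowers_le.mpr (Subgroup.mem_normalizer_fintype fun k hk => ?_))
    · rwa [hAc a ha k (hKA hk), mul_inv_cancel_right]
    · obtain ⟨a, rfl⟩ := hk
      refine ⟨⟨x * a * x⁻¹, hconjA _ a.2 x⟩, ?_⟩
      show ⁅x * (a : S) * x⁻¹, x⁆ = x * ⁅(a : S), x⁆ * x⁻¹
      rw [commutatorElement_def, commutatorElement_def]; group
  have hKc : commutator S = K := by
    refine le_antisymm ?_ ?_
    · have hcomm : ∀ g h : S ⧸ K, g * h = h * g := by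
        have hq : ∀ a ∈ A, Commute (QuotientGroup.mk' K a) (QuotientGroup.mk' K x) := fun a ha => by
          rw [← commutatorElement_eq_one_iff_commute, ← map_commutatorElement, ← MonoidHom.mem_ker, QuotientGroup.ker_mk']
          exact ⟨⟨a, ha⟩, rfl⟩
        have hc : (⊤ : Subgroup S) ≤ (Subgroup.center (S ⧸ K)).comap (QuotientGroup.mk' K) := by
          have key : ∀ g : S, (∀ a ∈ A, Commute (QuotientGroup.mk' K g) (QuotientGroup.mk' K a)) → Commute (QuotientGroup.mk' K g) (QuotientGroup.mk' K x) → g ∈ (Subgroup.center (S ⧸ K)).comap (QuotientGroup.mk' K) := by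
            intro g h1 h2
            rw [Subgroup.mem_comap, Subgroup.mem_center_iff]
            intro u
            obtain ⟨u, rfl⟩ := QuotientGroup.mk'_surjective K u
            have hle : A ⊔ Subgroup.zpowers x ≤ (Subgroup.centralizer ({QuotientGroup.mk' K g} : Set (S ⧸ K))).comap (QuotientGroup.mk' K) :=
              sup_le (fun a ha => Subgroup.mem_centralizer_singleton_iff.mpr (h1 a ha).symm.eq)
                (Subgroup.zpowers_le.mpr (Subgroup.mem_centralizer_singleton_iff.mpr h2.symm.eq))
            exact Subgroup.mem_centralizer_singleton_iff.mp (hle (hgen ▸ Subgroup.mem_top u))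
          rw [← hgen]
          exact sup_le (fun a ha => key a (fun b hb => (show Commute a b from hAc a ha b hb).map _) (hq a ha))
            (Subgroup.zpowers_le.mpr (key x (fun b hb => (hq b hb).symm) (Commute.refl _)))
        intro g h
        obtain ⟨g, rfl⟩ := QuotientGroup.mk'_surjective K g
        exact (Subgroup.mem_center_iff.mp (hc (Subgroup.mem_top g)) h).symm
      letI : CommGroup (S ⧸ K) := { (inferInstance : Group (S ⧸ K)) with mul_comm := hcomm }
      exact (Abelianization.commutator_subset_ker (QuotientGroup.mk' K)).trans (QuotientGroup.ker_mk' K).le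
    · rintro _ ⟨a, rfl⟩
      exact Subgroup.commutator_mem_commutator (Subgroup.mem_top _) (Subgroup.mem_top _)
  have hker : f.ker = (Subgroup.center S).subgroupOf A := by
    ext a
    rw [MonoidHom.mem_ker, Subgroup.mem_subgroupOf, Subgroup.mem_center_iff]
    show ⁅(a : S), x⁆ = 1 ↔ _
    rw [commutatorElement_eq_one_iff_mul_comm]
    refine ⟨fun h g => ?_, fun h => (h x).symm⟩
    have hle : A ⊔ Subgroup.zpowers x ≤ Subgroup.centralizer ({(a : S)} : Set S) :=
      sup_le (fun b hb => Subgroup.mem_centralizer_singleton_iff.mpr (hAc b hb a a.2))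
        (Subgroup.zpowers_le.mpr (Subgroup.mem_centralizer_singleton_iff.mpr h.symm))
    exact Subgroup.mem_centralizer_singleton_iff.mp (hle (hgen ▸ Subgroup.mem_top g))
  have hidx : (Subgroup.center S).index = p * Nat.card (commutator S) := by
    rw [← Subgroup.relIndex_mul_index (hZle A hA hAi), hAi, hKc, mul_comm]
    congr 1
    show ((Subgroup.center S).subgroupOf A).index = _
    rw [← hker]
    exact Subgroup.index_ker f
  refine ⟨hidx, ?_⟩
  obtain ⟨k, hk⟩ := IsPGroup.iff_card.mp (hS.to_subgroup (commutator S))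
  have hk0 : k ≠ 0 := by
    rintro rfl
    have h := Subgroup.card_eq_one.mp (hk.trans (pow_zero p))
    refine hna ⟨⟨fun a b => ?_⟩⟩
    have hm : ⁅a, b⁆ ∈ commutator S := Subgroup.commutator_mem_commutator (Subgroup.mem_top _) (Subgroup.mem_top _)
    rw [h, Subgroup.mem_bot, commutatorElement_eq_one_iff_mul_comm] at hm
    exact hm
  by_cases hk1 : k = 1
  · left
    subst hk1
    rw [pow_one] at hk
    have hZ2 : Nat.card (S ⧸ Subgroup.center S) = p ^ 2 := by rw [← Subgroup.index_eq_card, hidx, hk, pow_two]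
    have hnc : ¬ IsCyclic (S ⧸ Subgroup.center S) := fun hc => hna ⟨⟨fun a b =>
      commutative_of_cyclic_center_quotient (QuotientGroup.mk' (Subgroup.center S)) (QuotientGroup.ker_mk' _).le a b⟩⟩
    refine ⟨hk, ⟨⟨⟨fun a b => Subtype.ext (IsPGroup.commutative_of_card_eq_prime_sq hZ2 _ _)⟩⟩, fun g _ => ?_⟩, hZ2, ?_⟩
    · obtain ⟨i, hi, ho⟩ := (Nat.dvd_prime_pow hp).mp (hZ2 ▸ orderOf_dvd_natCard g)
      rcases i with _ | _ | i
      · rw [pow_zero, orderOf_eq_one_iff] at ho; rw [ho, one_pow]
      · rw [zero_add, pow_one] at ho; rw [← ho]; exact pow_orderOf_eq_one g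
      · exact absurd (isCyclic_of_orderOf_eq_card g (by rw [ho, hZ2, show i + 1 + 1 = 2 by omega])) hnc
    · rw [← Cfsg.Agent.S0662.count_subgroups_order_p hZ2 hnc]
      set π := QuotientGroup.mk' (Subgroup.center S) with hπ
      have hs := QuotientGroup.mk'_surjective (Subgroup.center S)
      have hkerπ : π.ker = Subgroup.center S := QuotientGroup.ker_mk' _
      have hmapc : ∀ B : Subgroup S, IsMulCommutative B ∧ B.index = p → Nat.card (B.map π) = p := by
        rintro B ⟨hB, hBi⟩
        have hi : (B.map π).index = p := by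
          rw [Subgroup.index_map, hkerπ, sup_eq_left.mpr (hZle B hB hBi), MonoidHom.range_eq_top_of_surjective π hs, Subgroup.index_top, mul_one, hBi]
        have := (B.map π).card_mul_index
        rw [hi, hZ2, pow_two] at this
        exact Nat.eq_of_mul_eq_mul_right hp.pos this
      have hcomap : ∀ T : Subgroup (S ⧸ Subgroup.center S), Nat.card T = p → IsMulCommutative (T.comap π) ∧ (T.comap π).index = p := by
        intro T hT
        have hTi : T.index = p := by
          have := T.card_mul_index
          rw [hT, hZ2, pow_two] at this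
          exact Nat.eq_of_mul_eq_mul_left hp.pos this
        refine ⟨⟨⟨fun a b => Subtype.ext ?_⟩⟩, by rw [Subgroup.index_comap_of_surjective _ hs, hTi]⟩
        haveI : IsCyclic T := isCyclic_of_prime_card hT
        have key := commutative_of_cyclic_center_quotient (π.subgroupComap T) (fun u hu => ?_) a b
        · exact congrArg Subtype.val key
        · rw [Subgroup.mem_center_iff]
          intro v
          have : (u : S) ∈ Subgroup.center S := hkerπ.le (congrArg Subtype.val hu : π u = 1)
          exact Subtype.ext (Subgroup.mem_center_iff.mp this v)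
      exact Nat.card_congr
        { toFun := fun B => ⟨B.1.map π, hmapc B.1 B.2⟩
          invFun := fun T => ⟨T.1.comap π, hcomap T.1 T.2⟩
          left_inv := fun B => Subtype.ext (by
            show (B.1.map π).comap π = B.1
            rw [Subgroup.comap_map_eq_self]
            rw [hkerπ]; exact hZle B.1 B.2.1 B.2.2)
          right_inv := fun T => Subtype.ext (Subgroup.map_comap_eq_self_of_surjective hs _) }
  · right
    refine ⟨by rw [hk]; exact Nat.pow_le_pow_right hp.pos (by omega), fun B hB hBi => ?_⟩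
    by_contra hne
    have hle : A ⊓ B ≤ Subgroup.center S := by
      intro z hz
      rw [Subgroup.mem_center_iff]
      intro g
      obtain ⟨y, hyB, hyA⟩ : ∃ y ∈ B, y ∉ A := by
        by_contra h
        push Not at h
        refine hne (Subgroup.eq_of_le_of_card_ge h (le_of_eq ?_))
        have e1 := A.card_mul_index
        have e2 := B.card_mul_index
        rw [hAi] at e1
        rw [hBi] at e2
        exact Nat.eq_of_mul_eq_mul_right hp.pos (e1.trans e2.symm)
      have hc : A ⊔ Subgroup.zpowers y ≤ Subgroup.centralizer ({z} : Set S) :=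
        sup_le (fun b hb => Subgroup.mem_centralizer_singleton_iff.mpr (hAc b hb z hz.1))
          (Subgroup.zpowers_le.mpr (Subgroup.mem_centralizer_singleton_iff.mpr (congrArg Subtype.val (hB.is_comm.comm (⟨y, hyB⟩ : B) ⟨z, hz.2⟩))))
      exact Subgroup.mem_centralizer_singleton_iff.mp (hc (htop A y hAi hyA ▸ Subgroup.mem_top g))
    have h1 : (Subgroup.center S).index ≤ p * p :=
      (Nat.le_of_dvd (Nat.pos_of_ne_zero Subgroup.index_ne_zero_of_finite) (Subgroup.index_dvd_of_le hle)).trans ((Subgroup.index_inf_le).trans (by rw [hAi, hBi]))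
    rw [hidx, hk] at h1
    have h2 := Nat.le_of_mul_le_mul_left h1 hp.pos
    have h3 : p ^ 2 ≤ p ^ k := Nat.pow_le_pow_right hp.pos (by omega)
    have := hp.two_le
    nlinarith

end Cfsg.Agent.S3807
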