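import Cfsg.Statements.S3808

set_option autoImplicit false
open Cfsg

namespace Cfsg.Agent.S3808

/-- Let S be a finite p-group with an extraspecial subgroup Q of index p. Then either Z(S) = Z(Q), or S = Q·Z(S) and Z(S) has order p². -/
theorem result {S : Type*} [Group S] [Finite S] (p : ℕ) [Fact p.Prime] (hS : IsPGroup p S) (Q : Subgroup S) (hQ : Cfsg.IsExtraspecial p ↥Q) (hQi : Q.index = p) :
    Subgroup.center S = (Subgroup.center ↥Q).map Q.subtype ∨
      (Q ⊔ Subgroup.center S = ⊤ ∧ Nat.card (Subgroup.center S) = p ^ 2) := by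
  have hp := (Fact.out : p.Prime)
  haveI := hS.isNilpotent
  haveI hQn : Q.Normal := by
    have hco : IsCoatom Q := by
      refine ⟨fun h => ?_, fun B hB => ?_⟩
      · rw [h, Subgroup.index_top] at hQi; exact hp.ne_one hQi.symm
      · have h := Subgroup.index_dvd_of_le hB.le
        rw [hQi] at h
        rcases (Nat.dvd_prime hp).mp h with h1 | h1
        · exact Subgroup.index_eq_one.mp h1
        · exfalso
          have h3 := Subgroup.relIndex_mul_index hB.le
          rw [h1, hQi] at h3
          exact not_le_of_gt hB (Subgroup.relIndex_eq_one.mp ((mul_eq_right₀ hp.ne_zero).mp h3))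
    exact Subgroup.normalizer_eq_top_iff.mp (hco.2 _ ((normalizerCondition_of_isNilpotent (G := S)) Q (lt_top_iff_ne_top.mpr hco.1)))
  set C := (Subgroup.center ↥Q).map Q.subtype with hC
  have hCc : Nat.card C = p := by rw [hC, Subgroup.card_map_of_injective Q.subtype_injective, hQ.2]
  have hle : Q ⊓ Subgroup.center S ≤ C := by
    rintro z ⟨hzQ, hz⟩
    exact ⟨⟨z, hzQ⟩, Subgroup.mem_center_iff.mpr fun g => Subtype.ext (Subgroup.mem_center_iff.mp hz g), rfl⟩
  have hge : C ≤ Subgroup.center S := by
    haveI : C.Normal := by rw [hC]; infer_instance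
    intro c hc
    rw [Subgroup.mem_center_iff]
    intro g
    letI : MulAction S C := MulAction.compHom C (MulAut.conjNormal (H := C))
    have h1 := hS.card_modEq_card_fixedPoints C
    have hone : (1 : C) ∈ MulAction.fixedPoints S C := fun g => map_one (MulAut.conjNormal g)
    have h2 : p ∣ Nat.card (MulAction.fixedPoints S C) := by
      rw [hCc] at h1; exact Nat.modEq_zero_iff_dvd.mp (h1.symm.trans (Nat.modEq_zero_iff_dvd.mpr dvd_rfl))
    have h3 : MulAction.fixedPoints S C = Set.univ := by
      refine Set.eq_of_subset_of_ncard_le (Set.subset_univ _) ?_ (Set.toFinite _)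
      rw [Set.ncard_univ, hCc, ← Nat.card_coe_set_eq]
      exact Nat.le_of_dvd (Nat.card_pos_iff.mpr ⟨⟨⟨1, hone⟩⟩, inferInstance⟩) h2
    have h4 : ((MulAut.conjNormal g ⟨c, hc⟩ : C) : S) = c :=
      congrArg Subtype.val ((h3.symm ▸ Set.mem_univ (⟨c, hc⟩ : C) : (⟨c, hc⟩ : C) ∈ MulAction.fixedPoints S C) g)
    rw [MulAut.conjNormal_apply] at h4
    exact mul_inv_eq_iff_eq_mul.mp h4
  have hZQ : Q ⊓ Subgroup.center S = C := le_antisymm hle (le_inf (Subgroup.map_subtype_le _) hge)
  by_cases hZ : Subgroup.center S ≤ Q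
  · left; rw [← hZQ, inf_eq_right.mpr hZ]
  · right
    have htop : Q ⊔ Subgroup.center S = ⊤ := by
      have h := Subgroup.index_dvd_of_le (le_sup_left : Q ≤ Q ⊔ Subgroup.center S)
      rw [hQi] at h
      rcases (Nat.dvd_prime hp).mp h with h1 | h1
      · exact Subgroup.index_eq_one.mp h1
      · exfalso
        have h3 := Subgroup.relIndex_mul_index (le_sup_left : Q ≤ Q ⊔ Subgroup.center S)
        rw [h1, hQi] at h3
        exact hZ fun z hz => Subgroup.relIndex_eq_one.mp ((mul_eq_right₀ hp.ne_zero).mp h3) (Subgroup.mem_sup_right hz)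
    refine ⟨htop, ?_⟩
    have h1 : Q.relIndex (Subgroup.center S) = p := by
      rw [← Subgroup.relIndex_sup_left (H := Subgroup.center S) (K := Q), htop, Subgroup.relIndex_top_right, hQi]
    have h2 := Subgroup.relIndex_mul_index (bot_le : (⊥ : Subgroup S) ≤ Q ⊓ Subgroup.center S)
    have h3 := Subgroup.card_mul_index ((Q.subgroupOf (Subgroup.center S)))
    rw [← Subgroup.relIndex, h1] at h3
    have h4 : Nat.card (Q.subgroupOf (Subgroup.center S)) = p := by
      rw [← hCc, ← hZQ, ← Subgroup.inf_subgroupOf_right]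
      exact Nat.card_congr (Subgroup.subgroupOfEquivOfLe inf_le_right).toEquiv
    rw [h4] at h3
    rw [← h3, pow_two]


end Cfsg.Agent.S3808
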