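import Cfsg.Statements.S3809
import Cfsg.Agent.Lib.ExtraIso
import Cfsg.Agent.S0095

set_option autoImplicit false
open Cfsg

namespace Cfsg.Agent.S3809

/-- Let S be a finite p-group with an extraspecial subgroup of index p. Then S has order p^(2+2n) for some n ≥ 1, derived length at most 3, and exponent dividing p³. -/
theorem result {S : Type*} [Group S] [Finite S] (p : ℕ) [Fact p.Prime] (hS : IsPGroup p S) (Q : Subgroup S) (hQ : Cfsg.IsExtraspecial p ↥Q) (hQi : Q.index = p) :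
    (∃ n : ℕ, 1 ≤ n ∧ Nat.card S = p ^ (2 + 2 * n)) ∧ derivedSeries S 3 = ⊥ ∧ ∀ x : S, x ^ (p ^ 3) = 1 := by
  have hp := (Fact.out : p.Prime)
  obtain ⟨n, hn, hc⟩ := Cfsg.Agent.S0095.result hQ
  have hS' : Nat.card S = p ^ (2 + 2 * n) := by
    rw [← Q.card_mul_index, hc, hQi, ← pow_succ]; congr 1; omega
  haveI hQn : Q.Normal := Subgroup.normal_of_index_eq_minFac_card (by
    rw [hQi, hS', Nat.pow_minFac (by omega), hp.minFac_eq])
  haveI : IsCyclic (S ⧸ Q) := isCyclic_of_prime_card (p := p) (by rw [← Subgroup.index_eq_card, hQi])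
  have h1 : derivedSeries S 1 ≤ Q := by
    rw [derivedSeries_one]
    letI : CommGroup (S ⧸ Q) := IsCyclic.commGroup
    exact (Abelianization.commutator_subset_ker (QuotientGroup.mk' Q)).trans (QuotientGroup.ker_mk' Q).le
  have h2 : derivedSeries S 2 ≤ (Subgroup.center Q).map Q.subtype := by
    rw [derivedSeries_succ, ← hQ.1.2.2, commutator_def, Subgroup.map_commutator, ← MonoidHom.range_eq_map, Subgroup.range_subtype]
    exact Subgroup.commutator_mono h1 h1
  refine ⟨⟨n, hn, hS'⟩, ?_, fun x => ?_⟩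
  · rw [derivedSeries_succ, eq_bot_iff]
    refine (Subgroup.commutator_mono h2 h2).trans ?_
    rw [Subgroup.commutator_le]
    rintro _ ⟨a, ha, rfl⟩ _ ⟨b, hb, rfl⟩
    rw [Subgroup.mem_bot, commutatorElement_eq_one_iff_mul_comm, ← map_mul, ← map_mul, Subgroup.mem_center_iff.mp ha b]
  · obtain ⟨z, hz⟩ := CfsgLib.ExtraIso.ext_top hQ
    have hxp : x ^ p ∈ Q := hQi ▸ Subgroup.pow_index_mem Q x
    obtain ⟨k, hk⟩ := hz.pow ⟨x ^ p, hxp⟩ trivial
    have h3 : (⟨x ^ p, hxp⟩ : Q) ^ (p * p) = 1 := by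
      rw [pow_mul, hk, ← zpow_natCast, ← zpow_mul, mul_comm, zpow_mul, zpow_natCast, show z ^ p = 1 from hz.ord ▸ pow_orderOf_eq_one z, one_zpow]
    have h4 := congrArg Subtype.val h3
    simp only [SubgroupClass.coe_pow, OneMemClass.coe_one] at h4
    rw [pow_succ' p 2, pow_two, pow_mul]
    exact h4

end Cfsg.Agent.S3809
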