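import Cfsg.Statements.S3810
import Cfsg.Agent.S3807

set_option autoImplicit false
open Cfsg

namespace Cfsg.Agent.S3810
open scoped commutatorElement

/-- Let S be a finite p-group with an extraspecial subgroup of index p. Then S has an abelian subgroup of index p if and only if S has order p⁴. -/
theorem result {S : Type*} [Group S] [Finite S] (p : ℕ) [Fact p.Prime] (hS : IsPGroup p S) (Q : Subgroup S) (hQ : Cfsg.IsExtraspecial p ↥Q) (hQi : Q.index = p) :
    (∃ A : Subgroup S, IsMulCommutative ↥A ∧ A.index = p) ↔ Nat.card S = p ^ 4 := by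
  classical
  have hp := (Fact.out : p.Prime)
  have hQna : ¬ IsMulCommutative Q := fun h => by
    have hZ : Subgroup.center Q = ⊤ := eq_top_iff.mpr fun a _ => Subgroup.mem_center_iff.mpr fun b => h.is_comm.comm b a
    have hbot : commutator Q = ⊥ := by
      rw [eq_bot_iff, commutator_def, Subgroup.commutator_le]
      intro a _ b _
      exact Subgroup.mem_bot.mpr (commutatorElement_eq_one_iff_mul_comm.mpr (h.is_comm.comm a b))
    have hQc' := hQ.2
    rw [show Subgroup.center Q = ⊥ from hQ.1.2.2 ▸ hbot] at hQc'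
    rw [Subgroup.card_bot] at hQc'
    exact hp.one_lt.ne hQc'
  have hQp : IsPGroup p Q := hS.to_subgroup Q
  constructor
  · rintro ⟨A, hA, hAi⟩
    haveI := hA
    haveI hBc : IsMulCommutative (A.subgroupOf Q) := ⟨⟨fun a b => Subtype.ext (Subtype.ext
      (congrArg Subtype.val (hA.is_comm.comm (⟨_, a.2⟩ : A) ⟨_, b.2⟩) :))⟩⟩
    have hBi : (A.subgroupOf Q).index = p := by
      obtain ⟨k, hk⟩ := hQp.index (A.subgroupOf Q)
      have hle : (A.subgroupOf Q).index ≤ p := hAi ▸ (Subgroup.relIndex_top_right A ▸ Subgroup.relIndex_le_of_le_right (H := A) (le_top : Q ≤ ⊤) Subgroup.index_ne_zero_of_finite)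
      rcases k with _ | k
      · exfalso
        rw [pow_zero, Subgroup.index_eq_one, Subgroup.subgroupOf_eq_top] at hk
        exact hQna ⟨⟨fun a b => Subtype.ext (congrArg Subtype.val (hA.is_comm.comm (⟨_, hk a.2⟩ : A) ⟨_, hk b.2⟩) :)⟩⟩
      · rw [hk]
        rcases k with _ | k
        · rw [zero_add, pow_one]
        · exfalso
          have : p ^ 2 ≤ p ^ (k + 1 + 1) := Nat.pow_le_pow_right hp.pos (by omega)
          rw [hk] at hle
          have := hp.two_le
          nlinarith
    have h := (Cfsg.Agent.S3807.result p hQp hQna (A.subgroupOf Q) hBc hBi).1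
    have hQc := (Subgroup.center Q).card_mul_index
    rw [h, hQ.1.2.2, hQ.2] at hQc
    rw [← Q.card_mul_index, hQi, ← hQc]
    ring
  · intro hcard
    -- some abelian subgroup of order at least p³
    suffices ∃ B : Subgroup S, IsMulCommutative B ∧ p ^ 3 ≤ Nat.card B by
      obtain ⟨B, hB, hBc⟩ := this
      obtain ⟨k, hk4, hk⟩ := (Nat.dvd_prime_pow hp).mp (hcard ▸ Subgroup.card_subgroup_dvd_card B)
      rw [hk, Nat.pow_le_pow_iff_right hp.one_lt] at hBc
      obtain ⟨C, hC⟩ := Sylow.exists_subgroup_card_pow_prime p (G := B) (n := 3) (hk ▸ pow_dvd_pow p hBc)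
      refine ⟨C.map B.subtype, ⟨⟨fun a b => Subtype.ext ?_⟩⟩, ?_⟩
      · exact (congrArg Subtype.val (hB.is_comm.comm (⟨_, Subgroup.map_subtype_le C a.2⟩ : B) ⟨_, Subgroup.map_subtype_le C b.2⟩) :)
      · have h := (C.map B.subtype).card_mul_index
        rw [Subgroup.card_map_of_injective B.subtype_injective, hC, hcard, show p ^ 4 = p ^ 3 * p by ring] at h
        exact Nat.eq_of_mul_eq_mul_left (pow_pos hp.pos 3) h
    haveI : Nontrivial S := Finite.one_lt_card_iff_nontrivial.mp (hcard ▸ Nat.one_lt_pow (by omega) hp.one_lt)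
    haveI := hS.center_nontrivial
    obtain ⟨c, hc0, hc⟩ := (IsPGroup.nontrivial_iff_card (hS.to_subgroup (Subgroup.center S))).mp inferInstance
    by_cases hc3 : 3 ≤ c
    · exact ⟨Subgroup.center S, inferInstance, hc ▸ Nat.pow_le_pow_right hp.pos hc3⟩
    -- an element outside the centre whose centraliser has order at least p³
    obtain ⟨x, hxZ, hx⟩ : ∃ x : S, x ∉ Subgroup.center S ∧ ∀ g : S, ⁅g, x⁆ ∈ Subgroup.center S := by
      haveI : Nontrivial (S ⧸ Subgroup.center S) := by
        rw [← Finite.one_lt_card_iff_nontrivial, ← Subgroup.index_eq_card]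
        by_contra hle
        have h := (Subgroup.center S).card_mul_index
        have hi0 := Subgroup.index_ne_zero_of_finite (H := Subgroup.center S)
        rw [show (Subgroup.center S).index = 1 by omega, mul_one, hc, hcard] at h
        have := Nat.pow_right_injective hp.two_le h
        omega
      haveI := (hS.to_quotient (Subgroup.center S)).center_nontrivial
      obtain ⟨⟨xb, hxb⟩, hxb1⟩ := exists_ne (1 : Subgroup.center (S ⧸ Subgroup.center S))
      obtain ⟨x, rfl⟩ := QuotientGroup.mk'_surjective _ xb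
      refine ⟨x, fun h => hxb1 (Subtype.ext ((QuotientGroup.eq_one_iff x).mpr h)), fun g => ?_⟩
      rw [← QuotientGroup.ker_mk' (Subgroup.center S), MonoidHom.mem_ker, map_commutatorElement, commutatorElement_eq_one_iff_mul_comm]
      exact (Subgroup.mem_center_iff.mp hxb _)
    set Z := Subgroup.center S
    set B := Subgroup.centralizer ({x} : Set S) with hB
    let f : S →* S := MonoidHom.mk' (fun g => ⁅g, x⁆) (fun g g' => by
      have h1 := Subgroup.mem_center_iff.mp (hx g') g
      calc ⁅g * g', x⁆ = g * ⁅g', x⁆ * (x * g⁻¹ * x⁻¹) := by rw [commutatorElement_def, commutatorElement_def]; group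
        _ = ⁅g', x⁆ * g * (x * g⁻¹ * x⁻¹) := by rw [h1]
        _ = ⁅g', x⁆ * ⁅g, x⁆ := by rw [commutatorElement_def g x]; group
        _ = _ := (Subgroup.mem_center_iff.mp (hx g') _).symm)
    have hker : f.ker = B := by
      ext g
      rw [MonoidHom.mem_ker, hB, Subgroup.mem_centralizer_singleton_iff]
      exact commutatorElement_eq_one_iff_mul_comm
    have hrange : f.range ≤ Z := by rintro _ ⟨g, rfl⟩; exact hx g
    set D := Z ⊔ Subgroup.zpowers x with hD
    have hDB : D ≤ B := sup_le (fun z hz => Subgroup.mem_centralizer_singleton_iff.mpr (Subgroup.mem_center_iff.mp hz x).symm)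
      (Subgroup.zpowers_le.mpr (Subgroup.mem_centralizer_singleton_iff.mpr rfl))
    have hDc : ∀ a ∈ D, ∀ b ∈ D, a * b = b * a := by
      intro a ha b hb
      have h1 : D ≤ Subgroup.centralizer (D : Set S) := by
        refine sup_le (fun z hz => Subgroup.mem_centralizer_iff.mpr fun w _ => Subgroup.mem_center_iff.mp hz w) ?_
        rw [Subgroup.zpowers_le, Subgroup.mem_centralizer_iff]
        exact fun w hw => Subgroup.mem_centralizer_singleton_iff.mp (hDB hw)
      exact (Subgroup.mem_centralizer_iff.mp (h1 ha) b hb).symm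
    obtain ⟨d, hd4, hd⟩ := (Nat.dvd_prime_pow hp).mp (hcard ▸ Subgroup.card_subgroup_dvd_card D)
    have hZD : c < d := by
      have hlt : Z < D := lt_of_le_of_ne le_sup_left fun h => hxZ (by rw [h]; exact Subgroup.mem_sup_right (Subgroup.mem_zpowers x))
      by_contra hle
      exact hlt.ne (Subgroup.eq_of_le_of_card_ge hlt.le (by rw [hd, hc]; exact Nat.pow_le_pow_right hp.pos (by omega)))
    by_cases hd3 : 3 ≤ d
    · exact ⟨D, ⟨⟨fun a b => Subtype.ext (hDc a a.2 b b.2)⟩⟩, hd ▸ Nat.pow_le_pow_right hp.pos hd3⟩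
    -- now the centre has order p and D order p²
    have hc1 : c = 1 := by omega
    subst hc1
    have hBi : B.index ≤ p := by
      rw [← hker, Subgroup.index_ker]
      exact (Subgroup.card_le_of_le hrange).trans_eq (hc.trans (pow_one p))
    obtain ⟨b, hb4, hb⟩ := (Nat.dvd_prime_pow hp).mp (hcard ▸ Subgroup.card_subgroup_dvd_card B)
    have hb3 : 3 ≤ b := by
      have h := B.card_mul_index
      rw [hb, hcard] at h
      by_contra hlt
      have h1 : p ^ b * B.index ≤ p ^ 2 * p := Nat.mul_le_mul (Nat.pow_le_pow_right hp.pos (by omega)) hBi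
      rw [h, ← pow_succ] at h1
      have := (Nat.pow_le_pow_iff_right hp.one_lt).mp h1
      omega
    by_cases hb4' : b = 4
    · exfalso
      refine hxZ (Subgroup.mem_center_iff.mpr fun g => Subgroup.mem_centralizer_singleton_iff.mp ?_)
      rw [← hB, show B = ⊤ from Subgroup.eq_top_of_card_eq B (by rw [hb, hcard, hb4'])]
      trivial
    -- B has order p³ and D, of index p in B, is central in B
    refine ⟨B, ⟨⟨fun a a' => ?_⟩⟩, hb ▸ Nat.pow_le_pow_right hp.pos hb3⟩
    have hDcen : D.subgroupOf B ≤ Subgroup.center B := by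
      intro w hw
      rw [Subgroup.mem_center_iff]
      intro g
      apply Subtype.ext
      have h1 : D ≤ Subgroup.centralizer ({(g : S)} : Set S) := sup_le
        (fun z hz => Subgroup.mem_centralizer_singleton_iff.mpr (Subgroup.mem_center_iff.mp hz _).symm)
        (Subgroup.zpowers_le.mpr (Subgroup.mem_centralizer_singleton_iff.mpr (Subgroup.mem_centralizer_singleton_iff.mp g.2).symm))
      exact (Subgroup.mem_centralizer_singleton_iff.mp (h1 hw)).symm
    haveI : (D.subgroupOf B).Normal := ⟨fun w hw g => by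
      rw [Subgroup.mem_center_iff.mp (hDcen hw) g, mul_inv_cancel_right]; exact hw⟩
    haveI : IsCyclic (B ⧸ D.subgroupOf B) := by
      refine isCyclic_of_prime_card (p := p) ?_
      rw [← Subgroup.index_eq_card]
      have h := (D.subgroupOf B).card_mul_index
      rw [Nat.card_congr (Subgroup.subgroupOfEquivOfLe hDB).toEquiv, hd, hb, show b = 3 by omega, show d = 2 by omega,
        show p ^ 3 = p ^ 2 * p by ring] at h
      exact Nat.eq_of_mul_eq_mul_left (pow_pos hp.pos 2) h
    exact commutative_of_cyclic_center_quotient (QuotientGroup.mk' (D.subgroupOf B))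
      ((QuotientGroup.ker_mk' _).le.trans hDcen) a a' 

end Cfsg.Agent.S3810
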