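import Cfsg.Statements.S3824
import Cfsg.Agent.S0144
import Cfsg.Agent.Lib.GroupB.Coprime

set_option autoImplicit false
open Cfsg

namespace Cfsg.Agent.S3824

universe u

open Subgroup in
theorem relIndex_left_sup {G : Type u} [Group G] [Finite G] {A M : Subgroup G} (h : A ≤ Subgroup.normalizer (M : Set G)) :
    A.relIndex (A ⊔ M) = A.relIndex M := by
  have h1 := CfsgLib.GroupB.Coprime.relIndex_sup_of_le_normalizer h
  have e1 := relIndex_mul_relIndex ⊥ A (A ⊔ M) bot_le le_sup_left
  have e2 := relIndex_mul_relIndex ⊥ M (A ⊔ M) bot_le le_sup_right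
  rw [relIndex_bot_left, relIndex_bot_left] at e1 e2
  rw [sup_comm] at h1
  rw [h1] at e2
  have e3 := relIndex_mul_relIndex ⊥ (A ⊓ M) A bot_le inf_le_left
  have e4 := relIndex_mul_relIndex ⊥ (A ⊓ M) M bot_le inf_le_right
  rw [relIndex_bot_left, relIndex_bot_left, inf_relIndex_left] at e3
  rw [relIndex_bot_left, relIndex_bot_left, inf_relIndex_right] at e4
  refine Nat.eq_of_mul_eq_mul_left (Nat.card_pos (α := A)) (e1.trans ?_)
  rw [← e2, ← e4, ← e3]; ring

theorem aux (n : ℕ) : ∀ (G : Type u) [Group G] [Finite G], Nat.card G = n →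
    ∀ A : Subgroup G, IsMulCommutative A → ∀ k : ℕ, A.index = 2 ^ k → Group.IsSolvable G := by
  induction n using Nat.strong_induction_on with
  | _ n ih =>
    intro G _ _ hn A hA k hk
    subst hn
    by_cases hex : ∃ N : Subgroup G, N.Normal ∧ N ≠ ⊥ ∧ N ≠ ⊤
    · obtain ⟨N, hN, hN0, hN1⟩ := hex
      haveI := hN
      have hlt1 : Nat.card N < Nat.card G := by
        refine lt_of_le_of_ne (Subgroup.card_le_card_group N) fun h => hN1 (Subgroup.eq_top_of_card_eq N h)
      have hlt2 : Nat.card (G ⧸ N) < Nat.card G := by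
        rw [Subgroup.card_eq_card_quotient_mul_card_subgroup N]
        exact lt_mul_of_one_lt_right Nat.card_pos ((Subgroup.one_lt_card_iff_ne_bot N).mpr hN0)
      have h1 : (A.subgroupOf N).index ∣ A.index := by
        show A.relIndex N ∣ _
        rw [← relIndex_left_sup (show A ≤ Subgroup.normalizer (N : Set G) by rw [Subgroup.normalizer_eq_top]; exact le_top)]
        exact Dvd.intro _ (Subgroup.relIndex_mul_index (le_sup_left : A ≤ A ⊔ N))
      obtain ⟨j, -, hj⟩ := (Nat.dvd_prime_pow Nat.prime_two).mp (hk ▸ h1)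
      obtain ⟨i, -, hi⟩ := (Nat.dvd_prime_pow Nat.prime_two).mp
        (hk ▸ Subgroup.index_map_dvd (H := A) (QuotientGroup.mk'_surjective N))
      haveI := hA
      haveI : Group.IsSolvable N := ih _ hlt1 N rfl (A.subgroupOf N) inferInstance j hj
      haveI : Group.IsSolvable (G ⧸ N) := ih _ hlt2 (G ⧸ N) rfl _
        (Subgroup.map_isMulCommutative A (QuotientGroup.mk' N)) i hi
      exact Group.isSolvable_of_ker_le_range N.subtype (QuotientGroup.mk' N) (by
        rw [QuotientGroup.ker_mk', Subgroup.range_subtype])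
    · push Not at hex
      rcases subsingleton_or_nontrivial G with hs | hs
      · infer_instance
      haveI : IsSimpleGroup G := ⟨fun N hN => or_iff_not_imp_left.mpr (hex N hN)⟩
      by_cases hcomm : ∀ a b : G, a * b = b * a
      · exact Group.isSolvable_of_comm hcomm
      have hc : Subgroup.center G = ⊥ := by
        refine ((inferInstance : (Subgroup.center G).Normal).eq_bot_or_eq_top).resolve_right fun h => hcomm ?_
        intro a b
        exact (Subgroup.mem_center_iff.mp (h ▸ Subgroup.mem_top b : b ∈ Subgroup.center G) a)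
      by_cases hA0 : A = ⊥
      · haveI : Fact (Nat.Prime 2) := ⟨Nat.prime_two⟩
        haveI := (IsPGroup.of_card (p := 2) (n := k) (by rw [← hk, hA0, Subgroup.index_bot])).isNilpotent
        infer_instance
      obtain ⟨z, hzA, hz1⟩ := A.bot_or_exists_ne_one.resolve_left hA0
      have hle : A ≤ Subgroup.centralizer ({z} : Set G) := fun a ha =>
        Subgroup.mem_centralizer_singleton_iff.mpr (congrArg Subtype.val (hA.is_comm.comm ⟨a, ha⟩ ⟨z, hzA⟩))
      obtain ⟨j, -, hj⟩ := (Nat.dvd_prime_pow Nat.prime_two).mp (hk ▸ Subgroup.index_dvd_of_le hle)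
      exact (Cfsg.Agent.S0144.no_prime_power_class G Nat.prime_two z
        (fun h => hz1 (Subgroup.mem_bot.mp (hc ▸ h))) hj).elim

/-- Every finite group having an abelian subgroup whose index is a power of 2 is solvable. -/
theorem result {G : Type*} [Group G] [Finite G]
    (A : Subgroup G) (hA : IsMulCommutative A) (hidx : ∃ k : ℕ, A.index = 2 ^ k) : Group.IsSolvable G := by
  obtain ⟨k, hk⟩ := hidx
  exact aux _ G rfl A hA k hk

end Cfsg.Agent.S3824
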