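import Cfsg.Statements.S3835
import Mathlib
import Cfsg.Agent.S2231
import Cfsg.Agent.Lib.Qd

set_option autoImplicit false
open Cfsg

namespace Cfsg.Agent.S3835

open Matrix
open CfsgLib.Qd (aff blk trl lift trl_coe ext_iff' eq_trl_mul_lift vec_mul)

/-- Below `p ^ 2` points the `p`-subgroups of the symmetric group are commutative. -/
theorem abelian_perm (p n : ℕ) [Fact p.Prime] (hn : n < p ^ 2) :
    Cfsg.Agent.S2231.AbelianPSubgroups p (Equiv.Perm (Fin n)) := by
  classical
  set m := n / p with hm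
  let α := (Fin m × ZMod p) ⊕ Fin (n % p)
  have hcard : Fintype.card α = n := by
    simp only [α, Fintype.card_sum, Fintype.card_prod, Fintype.card_fin, ZMod.card]
    rw [hm, mul_comm]
    exact Nat.div_add_mod n p
  let e : α ≃ Fin n := Fintype.equivFinOfCardEq hcard
  let f : Multiplicative (Fin m → ZMod p) →* Equiv.Perm α :=
    { toFun := fun v => Equiv.Perm.sumCongr
        { toFun := fun x => (x.1, Multiplicative.toAdd v x.1 + x.2)
          invFun := fun x => (x.1, -Multiplicative.toAdd v x.1 + x.2)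
          left_inv := fun x => by simp
          right_inv := fun x => by simp } 1
      map_one' := by ext x; rcases x with x | x <;> simp
      map_mul' := fun v w => by ext x; rcases x with x | x <;> simp [add_assoc] }
  have hf : Function.Injective f := by
    intro v w h
    apply Multiplicative.toAdd.injective
    funext i
    have := congrArg (fun σ : Equiv.Perm α => σ (Sum.inl (i, 0))) h
    simp [f, Equiv.Perm.sumCongr, Equiv.sumCongr] at this
    exact (Prod.ext_iff.1 (Sum.inl.inj this)).2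
  let g : Multiplicative (Fin m → ZMod p) →* Equiv.Perm (Fin n) := e.permCongrHom.toMonoidHom.comp f
  have hg : Function.Injective g := e.permCongrHom.injective.comp hf
  have hp := (Fact.out : p.Prime)
  have hv : (Nat.card (Equiv.Perm (Fin n))).factorization p = m := by
    rw [Nat.card_eq_fintype_card, Fintype.card_perm, Fintype.card_fin, Nat.factorization_def _ hp,
      padicValNat_factorial (b := 2) (Nat.log_lt_of_lt_pow' (by norm_num) hn)]
    simp [hm]
  have hgc : Nat.card g.range = p ^ (Nat.card (Equiv.Perm (Fin n))).factorization p := by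
    rw [hv, Nat.card_congr (MonoidHom.ofInjective hg).toEquiv.symm]
    simp [Nat.card_fun]
  let P₀ : Sylow p (Equiv.Perm (Fin n)) := Sylow.ofCard g.range hgc
  intro Q hQ a ha b hb
  obtain ⟨P, hP⟩ := hQ.exists_le_sylow
  obtain ⟨c, rfl⟩ := MulAction.exists_smul_eq (Equiv.Perm (Fin n)) P₀ P
  have hmem : ∀ x ∈ Q, ∃ v, x = c * g v * c⁻¹ := by
    intro x hx
    have h1 := hP hx
    rw [Sylow.coe_subgroup_smul, Subgroup.mem_pointwise_smul_iff_inv_smul_mem] at h1
    obtain ⟨v, hv⟩ := h1
    refine ⟨v, ?_⟩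
    rw [hv]
    simp [mul_assoc]
  obtain ⟨v, rfl⟩ := hmem a ha
  obtain ⟨w, rfl⟩ := hmem b hb
  have : g v * g w = g w * g v := by rw [← map_mul, ← map_mul, mul_comm]
  calc c * g v * c⁻¹ * (c * g w * c⁻¹) = c * (g v * g w) * c⁻¹ := by group
    _ = c * g w * c⁻¹ * (c * g v * c⁻¹) := by rw [this]; group

variable {p : ℕ} [Fact p.Prime]

theorem vec_one : CfsgLib.Qd.vec (1 : ↥(aff (ZMod p))) = 0 := by
  funext i; fin_cases i <;> simp [CfsgLib.Qd.vec]

/-- The affine action on the plane. -/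
def toPerm : ↥(aff (ZMod p)) →* Equiv.Perm (Fin 2 → ZMod p) where
  toFun M :=
    { toFun := fun x => (blk M).1 *ᵥ x + CfsgLib.Qd.vec M
      invFun := fun x => (blk M⁻¹).1 *ᵥ x + CfsgLib.Qd.vec M⁻¹
      left_inv := fun x => by
        show (blk M⁻¹).1 *ᵥ ((blk M).1 *ᵥ x + CfsgLib.Qd.vec M) + CfsgLib.Qd.vec M⁻¹ = x
        rw [mulVec_add, mulVec_mulVec, ← Matrix.SpecialLinearGroup.coe_mul, ← map_mul, inv_mul_cancel, map_one, add_assoc, ← vec_mul,
          inv_mul_cancel, vec_one, Matrix.SpecialLinearGroup.coe_one, one_mulVec, add_zero]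
      right_inv := fun x => by
        show (blk M).1 *ᵥ ((blk M⁻¹).1 *ᵥ x + CfsgLib.Qd.vec M⁻¹) + CfsgLib.Qd.vec M = x
        rw [mulVec_add, mulVec_mulVec, ← Matrix.SpecialLinearGroup.coe_mul, ← map_mul, mul_inv_cancel, map_one, add_assoc, ← vec_mul,
          mul_inv_cancel, vec_one, Matrix.SpecialLinearGroup.coe_one, one_mulVec, add_zero] }
  map_one' := by
    refine Equiv.ext fun x => ?_
    show (blk (1 : ↥(aff (ZMod p)))).1 *ᵥ x + CfsgLib.Qd.vec (1 : ↥(aff (ZMod p))) = x
    rw [map_one, vec_one, Matrix.SpecialLinearGroup.coe_one, one_mulVec, add_zero]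
  map_mul' A B := by
    refine Equiv.ext fun x => ?_
    show (blk (A * B)).1 *ᵥ x + CfsgLib.Qd.vec (A * B) = (blk A).1 *ᵥ ((blk B).1 *ᵥ x + CfsgLib.Qd.vec B) + CfsgLib.Qd.vec A
    rw [map_mul, vec_mul, mulVec_add, mulVec_mulVec, Matrix.SpecialLinearGroup.coe_mul, add_assoc]

theorem toPerm_injective : Function.Injective (toPerm (p := p)) := by
  intro A B h
  have h' : ∀ x, (blk A).1 *ᵥ x + CfsgLib.Qd.vec A = (blk B).1 *ᵥ x + CfsgLib.Qd.vec B := fun x => congrArg (fun σ : Equiv.Perm (Fin 2 → ZMod p) => σ x) h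
  have hv : CfsgLib.Qd.vec A = CfsgLib.Qd.vec B := by simpa using h' 0
  refine (ext_iff' A B).2 ⟨Subtype.ext ?_, hv⟩
  apply Matrix.toLin'.injective
  refine LinearMap.ext fun x => ?_
  have := h' x
  rw [hv] at this
  simpa using add_right_cancel this

theorem sign_toPerm (hp : p ≠ 2) (M : ↥(aff (ZMod p))) : Equiv.Perm.sign (toPerm M) = 1 := by
  classical
  let χ : ↥(aff (ZMod p)) →* ℤˣ := Equiv.Perm.sign.comp toPerm
  show χ M = 1
  have hodd : ∀ x : ↥(aff (ZMod p)), x ^ p = 1 → χ x = 1 := by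
    intro x hx
    have h1 : χ x ^ p = 1 := by rw [← map_pow, hx, map_one]
    rcases Int.units_eq_one_or (χ x) with h | h
    · exact h
    · rw [h, ((Fact.out : p.Prime).odd_of_ne_two hp).neg_one_pow] at h1
      exact absurd h1 (by decide)
  have hU : ∀ x : ZMod p, ∀ A : Matrix.SpecialLinearGroup (Fin 2) (ZMod p),
      (A : Matrix (Fin 2) (Fin 2) (ZMod p)) = !![1, x; 0, 1] ∨ (A : Matrix (Fin 2) (Fin 2) (ZMod p)) = !![1, 0; x, 1] → χ (lift A) = 1 := by
    intro x A hA
    apply hodd
    have key : A ^ p = 1 := by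
      apply Subtype.ext
      rw [Matrix.SpecialLinearGroup.coe_pow, Matrix.SpecialLinearGroup.coe_one, ← sub_eq_zero,
        ← one_pow (M := Matrix (Fin 2) (Fin 2) (ZMod p)) p, ← sub_pow_char_of_commute p (Commute.one_right _)]
      refine pow_eq_zero_of_le (Fact.out : p.Prime).two_le ?_
      rcases hA with hA | hA <;> rw [hA] <;> ext i j <;> fin_cases i <;> fin_cases j <;> simp [sq, Matrix.mul_apply, Fin.sum_univ_two]
    rw [← map_pow, key, map_one]
  let up : ZMod p → Matrix.SpecialLinearGroup (Fin 2) (ZMod p) := fun x => ⟨!![1, x; 0, 1], by simp [Matrix.det_fin_two]⟩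
  let lo : ZMod p → Matrix.SpecialLinearGroup (Fin 2) (ZMod p) := fun x => ⟨!![1, 0; x, 1], by simp [Matrix.det_fin_two]⟩
  have hup : ∀ x, ((up x : Matrix.SpecialLinearGroup (Fin 2) (ZMod p)) : Matrix (Fin 2) (Fin 2) (ZMod p)) = !![1, x; 0, 1] := fun x => rfl
  have hlo : ∀ x, ((lo x : Matrix.SpecialLinearGroup (Fin 2) (ZMod p)) : Matrix (Fin 2) (Fin 2) (ZMod p)) = !![1, 0; x, 1] := fun x => rfl
  have hgen : ∀ A : Matrix.SpecialLinearGroup (Fin 2) (ZMod p), (A : Matrix (Fin 2) (Fin 2) (ZMod p)) 1 0 ≠ 0 → χ (lift A) = 1 := by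
    intro A hc
    have hd : (A : Matrix (Fin 2) (Fin 2) (ZMod p)).det = 1 := A.2
    rw [Matrix.det_fin_two] at hd
    have e : A = up ((A.1 0 0 - 1) / A.1 1 0) * lo (A.1 1 0) * up ((A.1 1 1 - 1) / A.1 1 0) := by
      apply Subtype.ext
      rw [Matrix.SpecialLinearGroup.coe_mul, Matrix.SpecialLinearGroup.coe_mul, hup, hlo, hup]
      ext i j
      fin_cases i <;> fin_cases j <;> simp [Matrix.mul_apply, Fin.sum_univ_two] <;> field_simp <;>
        first | linear_combination hd | linear_combination -hd | ring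
    rw [e, map_mul, map_mul, map_mul, map_mul, hU _ _ (Or.inl rfl), hU _ _ (Or.inr rfl), hU _ _ (Or.inl rfl), one_mul, one_mul]
  have hlin : ∀ A : Matrix.SpecialLinearGroup (Fin 2) (ZMod p), χ (lift A) = 1 := by
    intro A
    by_cases hc : (A : Matrix (Fin 2) (Fin 2) (ZMod p)) 1 0 = 0
    · have hd : (A : Matrix (Fin 2) (Fin 2) (ZMod p)).det = 1 := A.2
      rw [Matrix.det_fin_two, hc, mul_zero, sub_zero] at hd
      have ha := left_ne_zero_of_mul_eq_one hd
      have h1 := hgen (lo 1 * A) (by rw [Matrix.SpecialLinearGroup.coe_mul, hlo]; simpa [Matrix.mul_apply, Fin.sum_univ_two, hc] using ha)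
      rwa [map_mul, map_mul, hU _ _ (Or.inr rfl), one_mul] at h1
    · exact hgen A hc
  rw [eq_trl_mul_lift M, map_mul, hlin, mul_one]
  apply hodd
  have h2 : ∀ (k : ℕ) (v : Fin 2 → ZMod p), (trl v) ^ k = trl (k • v) := by
    intro k v
    induction k with
    | zero =>
      rw [pow_zero, zero_smul]
      refine Subtype.ext (Subtype.ext ?_)
      rw [trl_coe]
      ext i j; fin_cases i <;> fin_cases j <;> simp
    | succ k ih =>
      rw [pow_succ, ih]
      refine Subtype.ext (Subtype.ext ?_)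
      rw [Subgroup.coe_mul, Matrix.SpecialLinearGroup.coe_mul, trl_coe, trl_coe, trl_coe]
      ext i j; fin_cases i <;> fin_cases j <;> simp [Matrix.mul_apply, Fin.sum_univ_three, add_mul, add_comm]
  rw [h2, show p • CfsgLib.Qd.vec M = 0 by funext i; simp]
  refine Subtype.ext (Subtype.ext ?_)
  rw [trl_coe]
  ext i j; fin_cases i <;> fin_cases j <;> simp


/-- Let p be an odd prime and n a natural number. The alternating group of degree n has a subgroup isomorphic to Qd(p) (the natural semidirect product of an elementary abelian group of order p² by SL₂(p)) if and only if n ≥ p²; and if n < p² then Qd(p) is not even involved in it. -/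
theorem result {p : ℕ} [Fact p.Prime] (hp : p ≠ 2) (n : ℕ) : ((∃ H : Subgroup (alternatingGroup (Fin n)), Nonempty (↥H ≃* ↥(Cfsg.qd p))) ↔ p ^ 2 ≤ n) ∧ (n < p ^ 2 → ¬ Cfsg.Involves ↥(Cfsg.qd p) ↥(alternatingGroup (Fin n))) := by
  classical
  have hno : n < p ^ 2 → ¬ Cfsg.Involves ↥(Cfsg.qd p) ↥(alternatingGroup (Fin n)) := by
    rintro hn ⟨L, R, hnor, ⟨e⟩⟩
    exact Cfsg.Agent.S2231.not_abelian_qd p (Cfsg.Agent.S2231.abelianPSubgroups_of_surjective
      (e.toMonoidHom.comp (QuotientGroup.mk' (R.subgroupOf L)))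
      (e.surjective.comp (QuotientGroup.mk'_surjective _))
      (Cfsg.Agent.S2231.abelianPSubgroups_subgroup (Cfsg.Agent.S2231.abelianPSubgroups_subgroup (abelian_perm p n hn) _) L))
  refine ⟨⟨?_, fun hn => ?_⟩, hno⟩
  · rintro ⟨H, ⟨e⟩⟩
    by_contra hlt
    refine hno (not_le.1 hlt) ⟨H, ⊥, ?_, ?_⟩
    · rw [Subgroup.bot_subgroupOf]; infer_instance
    · exact ⟨((QuotientGroup.quotientMulEquivOfEq (Subgroup.bot_subgroupOf H)).trans QuotientGroup.quotientBot).trans e⟩
  · let e0 : (Fin 2 → ZMod p) ≃ Fin (p ^ 2) := Fintype.equivFinOfCardEq (by simp)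
    let ι : (Fin 2 → ZMod p) ↪ Fin n := e0.toEmbedding.trans (Fin.castLEEmb hn)
    let g : ↥(CfsgLib.Qd.aff (ZMod p)) →* Equiv.Perm (Fin n) := (Equiv.Perm.viaEmbeddingHom ι).comp toPerm
    have hg : Function.Injective g := (Equiv.Perm.viaEmbeddingHom_injective ι).comp toPerm_injective
    have hsgn : ∀ M, g M ∈ alternatingGroup (Fin n) := by
      intro M
      rw [Equiv.Perm.mem_alternatingGroup]
      show Equiv.Perm.sign ((toPerm M).viaEmbedding ι) = 1
      rw [Equiv.Perm.viaEmbedding, Equiv.Perm.sign_extendDomain]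
      exact sign_toPerm hp M
    let g' := g.codRestrict (alternatingGroup (Fin n)) hsgn
    have hg' : Function.Injective g' := fun a b h => hg (congrArg Subtype.val h)
    refine ⟨g'.range, ⟨(MonoidHom.ofInjective hg').symm.trans (MulEquiv.subgroupCongr (CfsgLib.Qd.qd_eq p).symm)⟩⟩

end Cfsg.Agent.S3835
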