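import Cfsg.Statements.S3868
import Cfsg.Agent.Lib.GroupB.IrrPrime
import Cfsg.Agent.Lib.GroupB.Coprime

set_option autoImplicit false
open Cfsg

namespace Cfsg.Agent.S3868

/-- Structure of the non-simple minimal non-p-closed groups. Call a finite group p-closed when its Sylow p-subgroups are normal, and minimal non-p-closed when it is not p-closed but every proper subgroup and every proper quotient is. If such a group G is not simple, then there is a prime q ≠ p such that G has order p · q^e, where e is the multiplicative order of q modulo p, and G has a normal subgroup A of order q^e that is elementary abelian and is a minimal normal subgroup of G (so G is the semidirect product of A by a group of order p acting irreducibly). -/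
theorem result {G : Type*} [Group G] [Finite G] {p : ℕ} [Fact p.Prime]
    (hnc : ¬ Cfsg.IsPClosed p G) (hsub : ∀ H : Subgroup G, H ≠ ⊤ → Cfsg.IsPClosed p ↥H)
    (hquo : ∀ (N : Subgroup G) [N.Normal], N ≠ ⊥ → Cfsg.IsPClosed p (G ⧸ N)) (hns : ¬ IsSimpleGroup G) :
    ∃ q : ℕ, q.Prime ∧ q ≠ p ∧ Nat.card G = p * q ^ orderOf (q : ZMod p) ∧
      ∃ A : Subgroup G, A.Normal ∧ Nat.card ↥A = q ^ orderOf (q : ZMod p) ∧ Cfsg.IsElementaryAbelian q A ∧
        ∀ B : Subgroup G, B.Normal → B ≤ A → B = ⊥ ∨ B = A := by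
  classical
  have hp := (Fact.out : p.Prime)
  obtain ⟨P⟩ : Nonempty (Sylow p G) := inferInstance
  have hPn : ¬ (P : Subgroup G).Normal := fun h => hnc fun Q => by
    obtain rfl : Q = P := by
      obtain ⟨g, rfl⟩ := MulAction.exists_smul_eq G P Q
      exact Sylow.smul_eq_iff_mem_normalizer.mpr ((Subgroup.normalizer_eq_top_iff.mpr h).symm ▸ Subgroup.mem_top g : g ∈ Subgroup.normalizer ((P : Subgroup G) : Set G))
    exact h
  haveI : Nontrivial G := by
    by_contra hnt
    rw [not_nontrivial_iff_subsingleton] at hnt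
    exact hPn (by rw [Subsingleton.elim (P : Subgroup G) ⊤]; infer_instance)
  obtain ⟨N0, hN0, hN0b, hN0t⟩ : ∃ N : Subgroup G, N.Normal ∧ N ≠ ⊥ ∧ N ≠ ⊤ := by
    by_contra hc
    push Not at hc
    exact hns ⟨fun H hH => (em (H = ⊥)).imp id fun h => hc H hH h⟩
  obtain ⟨N, hNmem, hNmin⟩ := ({N : Subgroup G | N.Normal ∧ N ≠ ⊥ ∧ N ≤ N0} : Set (Subgroup G)).toFinite.exists_minimal
    ⟨N0, hN0, hN0b, le_rfl⟩
  obtain ⟨hNn, hNb, hNle⟩ := hNmem
  have hNt : N ≠ ⊤ := fun h => hN0t (top_le_iff.mp (h ▸ hNle))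
  have hmin : ∀ B : Subgroup G, B.Normal → B ≤ N → B = ⊥ ∨ B = N := fun B hB hBN =>
    (em (B = ⊥)).imp id fun h => le_antisymm hBN (hNmin ⟨hB, h, hBN.trans hNle⟩ hBN)
  -- a `p`-closed overgroup of `P` inside a proper subgroup
  have hclosed : ∀ H : Subgroup G, H ≠ ⊤ → ∀ R : Subgroup G, R ≤ H → IsPGroup p R →
      Nat.card R = p ^ (Nat.card H).factorization p → ∀ h ∈ H, ∀ r ∈ R, h * r * h⁻¹ ∈ R := by
    intro H hH R hRH hR hRc h hh r hr
    let S : Sylow p H := Sylow.ofCard (R.subgroupOf H) (by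
      rw [Nat.card_congr (Subgroup.subgroupOfEquivOfLe hRH).toEquiv]; exact hRc)
    have := (hsub H hH S).conj_mem ⟨r, hRH hr⟩ (Subgroup.mem_subgroupOf.mpr hr) ⟨h, hh⟩
    exact Subgroup.mem_subgroupOf.mp this
  have himg : ∀ (M : Subgroup G) [M.Normal], M ≠ ⊥ → ((P : Subgroup G) ⊔ M).Normal := by
    intro M _ hM
    have h := hquo M hM (P.mapSurjective (QuotientGroup.mk'_surjective M))
    rw [Sylow.coe_mapSurjective] at h
    have h2 := h.comap (QuotientGroup.mk' M)
    rwa [Subgroup.comap_map_eq, QuotientGroup.ker_mk'] at h2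
  have hpN : ¬ p ∣ Nat.card N := by
    intro hd
    obtain ⟨S⟩ : Nonempty (Sylow p N) := inferInstance
    haveI := hsub N hNt S
    haveI hch : (S : Subgroup N).Characteristic := S.characteristic_of_normal inferInstance
    have hSn : ((S : Subgroup N).map N.subtype).Normal := inferInstance
    have hS0 : (S : Subgroup N).map N.subtype ≠ ⊥ := by
      rw [Ne, ← Subgroup.card_eq_one, Subgroup.card_map_of_injective N.subtype_injective, S.card_eq_multiplicity]
      exact (Nat.one_lt_pow (hp.factorization_pos_of_dvd Nat.card_pos.ne' hd).ne' hp.one_lt).ne'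
    have hNp : IsPGroup p N := (S.2.map N.subtype).to_le ((hmin _ hSn (Subgroup.map_subtype_le _)).resolve_left hS0).ge
    have h1 := himg N hNb
    rw [sup_eq_left.mpr (hNp.le_sylow_of_normal P)] at h1
    exact hPn h1
  have hPN : Disjoint N (P : Subgroup G) := by
    rw [disjoint_iff, ← Subgroup.card_eq_one]
    refine Nat.eq_one_of_dvd_coprimes ?_ (Subgroup.card_dvd_of_le (inf_le_left : N ⊓ (P : Subgroup G) ≤ N))
      (Subgroup.card_dvd_of_le (inf_le_right : N ⊓ (P : Subgroup G) ≤ P))
    rw [P.card_eq_multiplicity]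
    exact ((hp.coprime_iff_not_dvd.mpr hpN).symm).pow_right _
  have hM : (P : Subgroup G) ⊔ N = ⊤ := by
    by_contra hne
    have h1 := himg N hNb
    refine hPn ?_
    have hle : (P : Subgroup G) ≤ (P : Subgroup G) ⊔ N := le_sup_left
    haveI : ((P : Subgroup G).subgroupOf ((P : Subgroup G) ⊔ N)).Characteristic :=
      (P.subtype hle).characteristic_of_normal (hsub _ hne (P.subtype hle))
    have : (((P : Subgroup G).subgroupOf ((P : Subgroup G) ⊔ N)).map ((P : Subgroup G) ⊔ N).subtype).Normal := inferInstance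
    rwa [Subgroup.map_subgroupOf_eq_of_le hle] at this
  have hnorm : ∀ R : Subgroup G, (∀ u ∈ (P : Subgroup G), ∀ r ∈ R, u * r * u⁻¹ ∈ R) → (∀ u ∈ N, ∀ r ∈ R, u * r = r * u) → R.Normal := by
    intro R h1 h2
    refine ⟨fun r hr g => ?_⟩
    obtain ⟨u, hu, v, hv, rfl⟩ := Subgroup.mem_sup_of_normal_right.mp (hM ▸ Subgroup.mem_top g)
    rw [show u * v * r * (u * v)⁻¹ = u * (v * r * v⁻¹) * u⁻¹ by group, h2 v hv r hr, mul_inv_cancel_right]
    exact h1 u hu r hr
  have hcardG : Nat.card G = Nat.card (P : Subgroup G) * Nat.card N := by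
    have hc : Subgroup.IsComplement' (P : Subgroup G) N := by
      refine Subgroup.isComplement'_of_disjoint_and_mul_eq_univ hPN.symm ?_
      rw [← Subgroup.mul_normal, hM, Subgroup.coe_top]
    exact hc.card_mul.symm
  -- `N` is a `q`-group
  obtain ⟨q, hq, hqN⟩ : ∃ q : ℕ, q.Prime ∧ IsPGroup q N := by
    by_contra hc
    push Not at hc
    apply hPn
    refine hnorm _ (fun u hu r hr => (P : Subgroup G).mul_mem ((P : Subgroup G).mul_mem hu hr) ((P : Subgroup G).inv_mem hu)) ?_
    suffices N ≤ Subgroup.centralizer ((P : Subgroup G) : Set G) from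
      fun u hu r hr => ((Subgroup.mem_centralizer_iff.mp (this hu)) r hr).symm
    rw [← inf_eq_left]
    refine Subgroup.eq_of_le_of_card_ge inf_le_left (Nat.le_of_dvd Nat.card_pos ?_)
    refine (Nat.factorization_prime_le_iff_dvd Nat.card_pos.ne' Nat.card_pos.ne').mp fun q hq => ?_
    haveI := Fact.mk hq
    have hcop : (Nat.card (P : Subgroup G)).Coprime (Nat.card N) := by
      rw [P.card_eq_multiplicity]; exact (hp.coprime_iff_not_dvd.mpr hpN).pow_left _
    have hsolv : Group.IsSolvable (P : Subgroup G) := by haveI := P.2.isNilpotent; infer_instance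
    obtain ⟨Q, hQ, hQP⟩ := (CfsgLib.GroupB.Coprime.invariant_sylow (G := N) (A := (P : Subgroup G))
      (by rw [Subgroup.normalizer_eq_top_iff.mpr hNn]; exact le_top) hcop (Or.inr hsolv) q).1
    have hQN : Q ≠ N := fun e => hc q hq (e ▸ hQ.isPGroup)
    have hQlt : Nat.card Q < Nat.card N := lt_of_not_ge fun hge => hQN (Subgroup.eq_of_le_of_card_ge hQ.1 hge)
    have hQc : Nat.card Q ∣ Nat.card (N ⊓ Subgroup.centralizer ((P : Subgroup G) : Set G) : Subgroup G) := by
      refine Subgroup.card_dvd_of_le (le_inf hQ.1 ?_)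
      set H := (P : Subgroup G) ⊔ Q
      have hcH : Nat.card H ≤ Nat.card (P : Subgroup G) * Nat.card Q := by
        have h := CfsgLib.GroupB.Coprime.card_sup_eq (N := Q) (K := (P : Subgroup G)) hQP
          (CfsgLib.GroupB.Coprime.inf_eq_bot_of_coprime ((hcop.symm).coprime_dvd_left (Subgroup.card_dvd_of_le hQ.1)))
        show Nat.card ((P : Subgroup G) ⊔ Q : Subgroup G) ≤ _
        rw [sup_comm, mul_comm]
        exact h.le
      have hH : H ≠ ⊤ := by
        intro e
        rw [e, Subgroup.card_top, hcardG] at hcH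
        exact absurd (Nat.le_of_mul_le_mul_left hcH Nat.card_pos) (not_le.mpr hQlt)
      have hfac : (Nat.card H).factorization p = (Nat.card G).factorization p := by
        refine le_antisymm ((Nat.factorization_le_iff_dvd Nat.card_pos.ne' Nat.card_pos.ne').mpr (Subgroup.card_subgroup_dvd_card H) p) ?_
        rw [← hp.pow_dvd_iff_le_factorization Nat.card_pos.ne', ← P.card_eq_multiplicity]
        exact Subgroup.card_dvd_of_le le_sup_left
      have hcl := hclosed H hH (P : Subgroup G) le_sup_left P.2 (by rw [hfac, P.card_eq_multiplicity])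
      intro u hu
      rw [Subgroup.mem_centralizer_iff]
      intro r hr
      have h1 : u * r * u⁻¹ * r⁻¹ ∈ N ⊓ (P : Subgroup G) := by
        refine ⟨?_, (P : Subgroup G).mul_mem (hcl u (Subgroup.mem_sup_right hu) r hr) ((P : Subgroup G).inv_mem hr)⟩
        rw [show u * r * u⁻¹ * r⁻¹ = u * (r * u⁻¹ * r⁻¹) by group]
        exact N.mul_mem (hQ.1 hu) (hNn.conj_mem _ (N.inv_mem (hQ.1 hu)) r)
      rw [disjoint_iff.mp hPN, Subgroup.mem_bot] at h1
      exact (commutatorElement_eq_one_iff_mul_comm.mp h1).symm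
    rw [← hq.pow_dvd_iff_le_factorization Nat.card_pos.ne', ← hQ.2]
    exact hQc
  haveI := Fact.mk hq
  haveI : Nontrivial N := (Subgroup.nontrivial_iff_ne_bot N).mpr hNb
  have hqp : q ≠ p := by
    rintro rfl
    obtain ⟨k, hk⟩ := hqN.exists_card_eq
    rcases Nat.eq_zero_or_pos k with rfl | h
    · rw [pow_zero] at hk; exact Finite.one_lt_card.ne' hk
    · exact hpN (hk ▸ dvd_pow_self q h.ne')
  -- elementary abelian
  have hab : ∀ a b : N, a * b = b * a := by
    have hc : (Subgroup.center N).map N.subtype ≠ ⊥ := by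
      haveI := hqN.center_nontrivial
      rw [Ne, Subgroup.map_eq_bot_iff_of_injective _ N.subtype_injective]
      exact (Subgroup.nontrivial_iff_ne_bot _).mp inferInstance
    intro a b
    obtain ⟨c, hc1, hc2⟩ : (b : G) ∈ (Subgroup.center N).map N.subtype :=
      ((hmin _ inferInstance (Subgroup.map_subtype_le _)).resolve_left hc).ge b.2
    obtain rfl : c = b := Subtype.ext hc2
    exact Subgroup.mem_center_iff.mp hc1 a
  have hA : Cfsg.IsElementaryAbelian q N := by
    refine ⟨⟨⟨hab⟩⟩, fun a ha => ?_⟩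
    let E : Subgroup G :=
      { carrier := {a | a ∈ N ∧ a ^ q = 1}
        one_mem' := ⟨N.one_mem, one_pow q⟩
        mul_mem' := fun {a b} ha hb => ⟨N.mul_mem ha.1 hb.1, by
          have hcm : Commute a b := congrArg Subtype.val (hab ⟨a, ha.1⟩ ⟨b, hb.1⟩)
          rw [hcm.mul_pow, ha.2, hb.2, one_mul]⟩
        inv_mem' := fun {a} ha => ⟨N.inv_mem ha.1, by rw [inv_pow, ha.2, inv_one]⟩ }
    have hEn : E.Normal := ⟨fun a ha g => ⟨hNn.conj_mem a ha.1 g, by
      rw [← MulAut.conj_apply, ← map_pow, ha.2, map_one]⟩⟩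
    have hE : E ≠ ⊥ := by
      obtain ⟨k, hk⟩ := hqN.exists_card_eq
      obtain ⟨z, hz⟩ := exists_prime_orderOf_dvd_card' (G := N) q (by
        rcases Nat.eq_zero_or_pos k with rfl | h
        · rw [pow_zero] at hk; exact absurd hk Finite.one_lt_card.ne'
        · exact hk ▸ dvd_pow_self q h.ne')
      intro e
      have : (z : G) ∈ E := ⟨z.2, by rw [← SubgroupClass.coe_pow, ← hz, pow_orderOf_eq_one]; rfl⟩
      rw [e, Subgroup.mem_bot] at this
      rw [← Subgroup.orderOf_coe, this, orderOf_one] at hz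
      exact hq.ne_one hz.symm
    exact (((hmin E hEn fun a ha => ha.1).resolve_left hE).ge ha).2
  -- `P` has order `p`
  have hPp : Nat.card (P : Subgroup G) = p := by
    haveI := P.2.isNilpotent
    haveI : Nontrivial (P : Subgroup G) := by
      rw [Subgroup.nontrivial_iff_ne_bot]
      intro e
      exact hPn (e ▸ inferInstance)
    obtain ⟨C, hC, -⟩ := (eq_top_or_exists_le_coatom (⊥ : Subgroup (P : Subgroup G))).resolve_left bot_ne_top
    haveI hCn : C.Normal := Subgroup.normalizer_eq_top_iff.mp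
      (hC.2 _ ((normalizerCondition_of_isNilpotent (G := (P : Subgroup G))) C (lt_top_iff_ne_top.mpr hC.1)))
    set R := C.map (P : Subgroup G).subtype with hRdef
    by_cases hRb : R = ⊥
    · rw [hRdef, Subgroup.map_eq_bot_iff_of_injective _ (P : Subgroup G).subtype_injective] at hRb
      subst hRb
      obtain ⟨k, hk⟩ := P.2.exists_card_eq
      obtain ⟨z, hz⟩ := exists_prime_orderOf_dvd_card' (G := (P : Subgroup G)) p (by
        rcases Nat.eq_zero_or_pos k with rfl | h
        · rw [pow_zero] at hk; exact absurd hk Finite.one_lt_card.ne'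
        · exact hk ▸ dvd_pow_self p h.ne')
      have htop := hC.2 (Subgroup.zpowers z) (bot_lt_iff_ne_bot.mpr (Subgroup.zpowers_ne_bot.mpr fun e => by
        rw [e, orderOf_one] at hz; exact hp.ne_one hz.symm))
      rw [← Subgroup.card_top (G := (P : Subgroup G)), ← htop, Nat.card_zpowers]; exact hz
    · exfalso
      have hR_le : R ≤ (P : Subgroup G) := Subgroup.map_subtype_le _
      have hRP : ∀ u ∈ (P : Subgroup G), ∀ r ∈ R, u * r * u⁻¹ ∈ R := by
        rintro u hu _ ⟨r, hr, rfl⟩
        exact ⟨⟨u, hu⟩ * r * ⟨u, hu⟩⁻¹, hCn.conj_mem r hr _, rfl⟩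
      have hRlt : Nat.card R < Nat.card (P : Subgroup G) := by
        rw [hRdef, Subgroup.card_map_of_injective (P : Subgroup G).subtype_injective]
        refine lt_of_not_ge fun hge => hC.1 ((Subgroup.card_eq_iff_eq_top C).mp ?_)
        exact le_antisymm (Subgroup.card_le_card_group C) hge
      have hcop : (Nat.card N).Coprime (Nat.card R) := by
        have h := (hp.coprime_iff_not_dvd.mpr hpN).symm.pow_right ((Nat.card G).factorization p)
        rw [← P.card_eq_multiplicity] at h
        exact h.coprime_dvd_right (Subgroup.card_dvd_of_le hR_le)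
      have hcs : Nat.card (N ⊔ R : Subgroup G) = Nat.card N * Nat.card R :=
        CfsgLib.GroupB.Coprime.card_sup_eq (by rw [Subgroup.normalizer_eq_top_iff.mpr hNn]; exact le_top)
          (CfsgLib.GroupB.Coprime.inf_eq_bot_of_coprime hcop)
      have hNR : N ⊔ R ≠ ⊤ := by
        intro e
        rw [e, Subgroup.card_top, hcardG, mul_comm] at hcs
        exact hRlt.ne' (Nat.eq_of_mul_eq_mul_left Nat.card_pos hcs)
      have hfac : Nat.card R = p ^ (Nat.card (N ⊔ R : Subgroup G)).factorization p := by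
        obtain ⟨j, hj⟩ := (P.2.to_le hR_le).exists_card_eq
        rw [hcs, Nat.factorization_mul Nat.card_pos.ne' Nat.card_pos.ne', Finsupp.add_apply,
          Nat.factorization_eq_zero_of_not_dvd hpN, zero_add, hj, hp.factorization_pow, Finsupp.single_eq_same]
      have hcl := hclosed (N ⊔ R) hNR R le_sup_right (P.2.to_le hR_le) hfac
      have hRn : R.Normal := hnorm R hRP fun u hu r hr => by
        have h1 : u * r * u⁻¹ * r⁻¹ ∈ N ⊓ (P : Subgroup G) := by
          refine ⟨?_, hR_le (R.mul_mem (hcl u (Subgroup.mem_sup_left hu) r hr) (R.inv_mem hr))⟩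
          rw [show u * r * u⁻¹ * r⁻¹ = u * (r * u⁻¹ * r⁻¹) by group]
          exact N.mul_mem hu (hNn.conj_mem _ (N.inv_mem hu) r)
        rw [disjoint_iff.mp hPN, Subgroup.mem_bot] at h1
        exact commutatorElement_eq_one_iff_mul_comm.mp h1
      have h1 := himg R hRb
      rw [sup_eq_left.mpr hR_le] at h1
      exact hPn h1
  have hidx : N.index = p := by
    have h := Subgroup.index_mul_card N
    rw [hcardG, hPp] at h
    exact Nat.eq_of_mul_eq_mul_right Nat.card_pos h
  have hna : ¬ IsMulCommutative G := fun h => hPn ⟨fun x hx g => by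
    rw [h.is_comm.comm g x, mul_inv_cancel_right]; exact hx⟩
  obtain ⟨hc, -⟩ := CfsgLib.GroupB.IrrPrime.structure_irr hq hqp hna N hA hidx hmin
  exact ⟨q, hq, hqp, by rw [hcardG, hPp, hc], N, hNn, hc, hA, hmin⟩


end Cfsg.Agent.S3868
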