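import Cfsg.Statements.S3869
import Cfsg.Agent.Lib.GroupB.IrrPrime

set_option autoImplicit false
open Cfsg

namespace Cfsg.Agent.S3869

/-- Let p and q be distinct primes and G a finite non-abelian group with a normal elementary abelian q-subgroup A that is a minimal normal subgroup of G and has index p. Then A has order q^e with e the multiplicative order of q modulo p, and G is minimal non-p-closed: its Sylow p-subgroups are not normal, while in every proper subgroup and in every proper quotient of G the Sylow p-subgroups are normal. -/
theorem result {G : Type*} [Group G] [Finite G] {p q : ℕ} [Fact p.Prime] (hq : q.Prime) (hpq : q ≠ p)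
    (hna : ¬ IsMulCommutative G) (A : Subgroup G) [A.Normal] (hA : Cfsg.IsElementaryAbelian q A) (hidx : A.index = p)
    (hmin : ∀ B : Subgroup G, B.Normal → B ≤ A → B = ⊥ ∨ B = A) :
    Nat.card ↥A = q ^ orderOf (q : ZMod p) ∧ ¬ Cfsg.IsPClosed p G ∧ (∀ H : Subgroup G, H ≠ ⊤ → Cfsg.IsPClosed p ↥H) ∧
      ∀ (N : Subgroup G) [N.Normal], N ≠ ⊥ → Cfsg.IsPClosed p (G ⧸ N) := by
  obtain ⟨hcard, hfix⟩ := CfsgLib.GroupB.IrrPrime.structure_irr hq hpq hna A hA hidx hmin
  have hp := (Fact.out : p.Prime)
  have hpA : ¬ p ∣ Nat.card A := fun h => by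
    rw [hcard] at h
    exact hpq ((Nat.prime_dvd_prime_iff_eq hp hq).mp (hp.dvd_of_dvd_pow h)).symm
  refine ⟨hcard, ?_, ?_, ?_⟩
  · intro hc
    obtain ⟨P⟩ : Nonempty (Sylow p G) := inferInstance
    haveI := hc P
    obtain ⟨y, hy⟩ := exists_prime_orderOf_dvd_card' (G := (P : Subgroup G)) p
      (P.dvd_card_of_dvd_card (hidx ▸ Subgroup.index_dvd_card A))
    have hyA : (y : G) ∉ A := fun h => hpA (by
      have := Subgroup.orderOf_dvd_natCard A h
      rwa [Subgroup.orderOf_coe, hy] at this)
    have hd : Disjoint A (P : Subgroup G) := by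
      rw [disjoint_iff, ← Subgroup.card_eq_one]
      refine Nat.eq_one_of_dvd_coprimes ?_ (Subgroup.card_dvd_of_le (inf_le_left : A ⊓ (P : Subgroup G) ≤ A))
        (Subgroup.card_dvd_of_le (inf_le_right : A ⊓ (P : Subgroup G) ≤ P))
      rw [P.card_eq_multiplicity]
      exact ((hp.coprime_iff_not_dvd.mpr hpA).symm).pow_right _
    have hA1 : A = ⊥ := by
      rw [Subgroup.eq_bot_iff_forall]
      intro a ha
      refine hfix y hyA a ha ?_
      rw [← (Subgroup.commute_of_normal_of_disjoint A (P : Subgroup G) inferInstance inferInstance hd a y ha y.2).eq]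
      exact mul_inv_cancel_right a (y : G)
    apply hna
    haveI : IsCyclic G := by
      refine isCyclic_of_prime_card (p := p) ?_
      rw [← Subgroup.index_mul_card A, hidx, hA1, Subgroup.card_bot, mul_one]
    exact IsCyclic.isMulCommutative
  · intro H hH R
    by_cases hpH : p ∣ Nat.card H
    · obtain ⟨y, hy⟩ := exists_prime_orderOf_dvd_card' (G := H) p hpH
      have hyA : (y : G) ∉ A := fun h => hpA (by
        have := Subgroup.orderOf_dvd_natCard A h
        rwa [Subgroup.orderOf_coe, hy] at this)
      have hHA : H ⊓ A = ⊥ := by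
        have hn : (H ⊓ A).Normal := by
          have htop : A ⊔ Subgroup.zpowers (y : G) = ⊤ := by
            have h := Subgroup.index_dvd_of_le (le_sup_left : A ≤ A ⊔ Subgroup.zpowers (y : G))
            rw [hidx] at h
            rcases (Nat.dvd_prime hp).mp h with h1 | h1
            · exact Subgroup.index_eq_one.mp h1
            · exfalso
              apply hyA
              have h3 := Subgroup.relIndex_mul_index (le_sup_left : A ≤ A ⊔ Subgroup.zpowers (y : G))
              rw [h1, hidx] at h3
              exact Subgroup.relIndex_eq_one.mp ((mul_eq_right₀ hp.ne_zero).mp h3) (Subgroup.mem_sup_right (Subgroup.mem_zpowers _))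
          rw [← Subgroup.normalizer_eq_top_iff, eq_top_iff, ← htop, sup_le_iff]
          constructor
          · intro a ha
            refine Subgroup.centralizer_le_normalizer ((H ⊓ A : Subgroup G) : Set G) ?_
            exact Subgroup.mem_centralizer_iff.mpr fun b hb =>
              congrArg Subtype.val (hA.1.is_comm.comm (⟨b, hb.2⟩ : A) ⟨a, ha⟩)
          · rw [Subgroup.zpowers_le, Subgroup.mem_normalizer_iff]
            intro b
            constructor
            · intro hb
              exact ⟨H.mul_mem (H.mul_mem y.2 hb.1) (H.inv_mem y.2), Subgroup.Normal.conj_mem inferInstance _ hb.2 _⟩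
            · intro hb
              constructor
              · have := H.mul_mem (H.mul_mem (H.inv_mem y.2) hb.1) y.2
                simpa [mul_assoc] using this
              · have := Subgroup.Normal.conj_mem (inferInstance : A.Normal) _ hb.2 (y : G)⁻¹
                simpa [mul_assoc] using this
        rcases hmin _ hn inf_le_right with h | h
        · exact h
        · exfalso
          apply hH
          have h2 : A < H := lt_of_le_of_ne (inf_eq_right.mp h) fun e => hyA (e ▸ y.2)
          have h3 := Subgroup.index_dvd_of_le h2.le
          rw [hidx] at h3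
          rcases (Nat.dvd_prime hp).mp h3 with h4 | h4
          · exact Subgroup.index_eq_one.mp h4
          · exfalso
            have h5 := Subgroup.relIndex_mul_index h2.le
            rw [h4, hidx] at h5
            exact not_le_of_gt h2 (Subgroup.relIndex_eq_one.mp ((mul_eq_right₀ hp.ne_zero).mp h5))
      have hH' : IsPGroup p H := by
        have h1 : Nat.card H ∣ p := by
          have h2 : A.relIndex H = Nat.card H := by
            rw [← Subgroup.inf_relIndex_right, inf_comm, hHA, Subgroup.relIndex_bot_left]
          rw [← h2, ← hidx]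
          exact Subgroup.relIndex_dvd_index_of_normal A H
        obtain ⟨i, -, hi⟩ := (Nat.dvd_prime_pow hp).mp (show Nat.card H ∣ p ^ 1 by rwa [pow_one])
        exact IsPGroup.of_card hi
      have : (R : Subgroup H) = ⊤ := (R.3 (IsPGroup.to_subgroup hH' ⊤) le_top).symm
      rw [this]; infer_instance
    · have : (R : Subgroup H) = ⊥ := by
        rw [← Subgroup.card_eq_one, R.card_eq_multiplicity, Nat.factorization_eq_zero_of_not_dvd hpH, pow_zero]
      rw [this]; infer_instance
  · intro N _ hN R
    have hAN : A ≤ N := by
      rcases hmin (N ⊓ A) inferInstance inf_le_right with h | h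
      · exfalso
        obtain ⟨x, hx, hx1⟩ := N.bot_or_exists_ne_one.resolve_left hN
        have hxA : x ∉ A := fun hxA => hx1 (Subgroup.mem_bot.mp (h ▸ ⟨hx, hxA⟩ : x ∈ (⊥ : Subgroup G)))
        have hA1 : A = ⊥ := by
          rw [Subgroup.eq_bot_iff_forall]
          intro a ha
          refine hfix x hxA a ha ?_
          rw [(Subgroup.commute_of_normal_of_disjoint N A inferInstance inferInstance (disjoint_iff.mpr h) x a hx ha).eq]
          exact mul_inv_cancel_right a x
        apply hna
        haveI : IsCyclic G := by
          refine isCyclic_of_prime_card (p := p) ?_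
          rw [← Subgroup.index_mul_card A, hidx, hA1, Subgroup.card_bot, mul_one]
        exact IsCyclic.isMulCommutative
      · exact inf_eq_right.mp h
    have hQ : IsPGroup p (G ⧸ N) := by
      have h := hidx ▸ Subgroup.index_dvd_of_le hAN
      obtain ⟨i, -, hi⟩ := (Nat.dvd_prime_pow hp).mp (show N.index ∣ p ^ 1 by rwa [pow_one])
      exact IsPGroup.of_card hi
    have : (R : Subgroup (G ⧸ N)) = ⊤ := (R.3 (IsPGroup.to_subgroup hQ ⊤) le_top).symm
    rw [this]; infer_instance


end Cfsg.Agent.S3869
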