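import Cfsg.Statements.S3870

set_option autoImplicit false
open Cfsg

namespace Cfsg.Agent.S3870

/-- Let G be a finite simple group whose Sylow p-subgroups are not normal but such that every proper subgroup of G has a normal Sylow p-subgroup. Then any two distinct Sylow p-subgroups of G intersect trivially, and for every Sylow p-subgroup P the normalizer of every non-identity subgroup of P lies in the normalizer of P. -/
theorem result {G : Type*} [Group G] [Finite G] [IsSimpleGroup G] {p : ℕ} [Fact p.Prime]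
    (hnc : ¬ Cfsg.IsPClosed p G) (hsub : ∀ H : Subgroup G, H ≠ ⊤ → Cfsg.IsPClosed p ↥H) :
    (∀ P Q : Sylow p G, P ≠ Q → (P : Subgroup G) ⊓ (Q : Subgroup G) = ⊥) ∧
      ∀ (P : Sylow p G) (R : Subgroup G), R ≤ P → R ≠ ⊥ →
        Subgroup.normalizer (R : Set G) ≤ Subgroup.normalizer ((P : Subgroup G) : Set G) := by
  classical
  have hp := (Fact.out : p.Prime)
  have hPne : ∀ P : Sylow p G, ¬ (P : Subgroup G).Normal := fun P hn => hnc fun Q => by
    haveI := Sylow.unique_of_normal P hn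
    rwa [Subsingleton.elim Q P]
  -- the key fact: a maximal intersection
  have key : ∀ P Q : Sylow p G, P ≠ Q → (P : Subgroup G) ⊓ (Q : Subgroup G) = ⊥ := by
    by_contra hne
    push Not at hne
    obtain ⟨P₀, Q₀, hne₀, hD₀⟩ := hne
    obtain ⟨⟨P, Q⟩, ⟨hPQ, hD⟩, hmax⟩ := Set.Finite.exists_maximalFor
      (fun z : Sylow p G × Sylow p G => (z.1 : Subgroup G) ⊓ (z.2 : Subgroup G))
      {z | z.1 ≠ z.2 ∧ (z.1 : Subgroup G) ⊓ (z.2 : Subgroup G) ≠ ⊥} (Set.toFinite _) ⟨(P₀, Q₀), hne₀, hD₀⟩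
    set D := (P : Subgroup G) ⊓ (Q : Subgroup G) with hDdef
    have hN : Subgroup.normalizer (D : Set G) ≠ ⊤ := fun h => by
      haveI := Subgroup.normalizer_eq_top_iff.mp h
      rcases IsSimpleGroup.eq_bot_or_eq_top_of_normal D inferInstance with h' | h'
      · exact hD h'
      · refine hPQ (Sylow.ext ?_)
        rw [show (P : Subgroup G) = ⊤ from eq_top_iff.mpr (h' ▸ inf_le_left),
          show (Q : Subgroup G) = ⊤ from eq_top_iff.mpr (h' ▸ inf_le_right)]
    set N := Subgroup.normalizer (D : Set G) with hNdef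
    obtain ⟨S₀⟩ : Nonempty (Sylow p N) := inferInstance
    haveI := hsub N hN S₀
    have hall : ∀ U : Subgroup N, IsPGroup p U → U ≤ (S₀ : Subgroup N) := fun U hU => by
      obtain ⟨S', hS'⟩ := hU.exists_le_sylow
      haveI := Sylow.unique_of_normal S₀ (hsub N hN S₀)
      rwa [Subsingleton.elim S' S₀] at hS'
    obtain ⟨R, hR⟩ := (S₀.2.map N.subtype).exists_le_sylow
    have hgrow : ∀ P' : Sylow p G, D < (P' : Subgroup G) → P' = R := by
      intro P' hlt
      by_contra hne'
      haveI : Group.IsNilpotent (P' : Subgroup G) := P'.2.isNilpotent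
      have hn := normalizerCondition_of_isNilpotent (D.subgroupOf P')
        (lt_top_iff_ne_top.mpr fun h => not_le_of_gt hlt (Subgroup.subgroupOf_eq_top.mp h))
      rw [← Subgroup.subgroupOf_normalizer_eq hlt.le] at hn
      obtain ⟨⟨x, hxP⟩, hxN, hxD⟩ := SetLike.exists_of_lt hn
      rw [Subgroup.mem_subgroupOf] at hxN hxD
      have hxR : x ∈ (R : Subgroup G) := by
        have hle : ((P' : Subgroup G) ⊓ N).subgroupOf N ≤ (S₀ : Subgroup N) :=
          hall _ ((P'.2.to_le inf_le_left).comap_subtype)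
        exact hR ⟨⟨x, hxN⟩, hle ⟨hxP, hxN⟩, rfl⟩
      have hle' : D ≤ (P' : Subgroup G) ⊓ (R : Subgroup G) := by
        intro y hy
        have hle : (D.subgroupOf N) ≤ (S₀ : Subgroup N) :=
          hall _ ((P'.2.to_le hlt.le).comap_subtype)
        exact ⟨hlt.le hy, hR ⟨⟨y, Subgroup.le_normalizer hy⟩, hle hy, rfl⟩⟩
      have hb : (P' : Subgroup G) ⊓ (R : Subgroup G) ≠ ⊥ := fun h => hD (le_bot_iff.mp (h ▸ hle'))
      exact hxD (hmax (j := (P', R)) ⟨hne', hb⟩ hle' ⟨hxP, hxR⟩)
    have hne1 : D ≠ (P : Subgroup G) := fun h => hPQ (Sylow.ext (P.3 Q.2 (inf_eq_left.mp h)).symm)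
    have hne2 : D ≠ (Q : Subgroup G) := fun h => hPQ (Sylow.ext (Q.3 P.2 (inf_eq_right.mp h)))
    exact hPQ ((hgrow P (lt_of_le_of_ne inf_le_left hne1)).trans (hgrow Q (lt_of_le_of_ne inf_le_right hne2)).symm)
  refine ⟨key, fun P R hRP hR g hg => ?_⟩
  refine Sylow.smul_eq_iff_mem_normalizer.mp ?_
  by_contra hne
  have h := key (g • P) P hne
  refine hR (le_bot_iff.mp (h ▸ le_inf (fun r hr => ?_) hRP))
  exact ⟨g⁻¹ * r * g, hRP ((Subgroup.mem_normalizer_iff''.mp hg r).mp hr), by simp [mul_assoc]⟩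

end Cfsg.Agent.S3870
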