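import Cfsg.Statements.S3872
import Cfsg.Agent.Lib.Regular.ClassLt
import Cfsg.Agent.Lib.MaximalClassTwo

set_option autoImplicit false
open Cfsg

namespace Cfsg.Agent.S3872

/-- Say that a finite group is p-exponent closed when its elements of order dividing p form a subgroup. Let G be a finite p-group that is not p-exponent closed, but all of whose proper subgroups and proper quotients are. Then G is generated by two elements, has nilpotency class at least p, has exponent p², has cyclic center, and has order at least p^(p+1). -/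
theorem result {G : Type*} [Group G] [Finite G] {p : ℕ} [Fact p.Prime] (hG : IsPGroup p G)
    (hnc : ¬ (∃ H : Subgroup G, (H : Set G) = {g : G | g ^ p = 1})) (hsub : ∀ K : Subgroup G, K ≠ ⊤ → (∃ H : Subgroup ↥K, (H : Set ↥K) = {g : ↥K | g ^ p = 1}))
    (hquo : ∀ (N : Subgroup G) [N.Normal], N ≠ ⊥ → (∃ H : Subgroup (G ⧸ N), (H : Set (G ⧸ N)) = {g : (G ⧸ N) | g ^ p = 1})) :
    (∃ x y : G, Subgroup.closure ({x, y} : Set G) = ⊤) ∧ (⊤ : Subgroup G).lowerCentralSeries (p - 1) ≠ ⊥ ∧
      Monoid.exponent G = p ^ 2 ∧ IsCyclic ↥(Subgroup.center G) ∧ p ^ (p + 1) ≤ Nat.card G := by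
  classical
  have hp : p.Prime := Fact.out
  haveI := hG.isNilpotent
  -- two elements of order p with a product not killed by p
  obtain ⟨x, y, hx, hy, hxy⟩ : ∃ x y : G, x ^ p = 1 ∧ y ^ p = 1 ∧ (x * y) ^ p ≠ 1 := by
    by_contra! h
    apply hnc
    exact ⟨{ carrier := {g | g ^ p = 1}
             one_mem' := one_pow _
             mul_mem' := fun {u v} hu hv => h u v hu hv
             inv_mem' := fun {u} hu => by
               show u⁻¹ ^ p = 1
               rw [inv_pow, hu, inv_one] }, rfl⟩
  have htop : Subgroup.closure ({x, y} : Set G) = ⊤ := by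
    by_contra hne
    obtain ⟨H, hH⟩ := hsub _ hne
    have hxm : (⟨x, Subgroup.subset_closure (Set.mem_insert _ _)⟩ : Subgroup.closure ({x, y} : Set G)) ∈ H := by
      rw [← SetLike.mem_coe, hH]; exact Subtype.ext hx
    have hym : (⟨y, Subgroup.subset_closure (Set.mem_insert_of_mem _ rfl)⟩ : Subgroup.closure ({x, y} : Set G)) ∈ H := by
      rw [← SetLike.mem_coe, hH]; exact Subtype.ext hy
    have := H.mul_mem hxm hym
    rw [← SetLike.mem_coe, hH] at this
    exact hxy (congrArg Subtype.val this)
  -- quotients by central subgroups of order p have exponent p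
  have hquot : ∀ (N : Subgroup G), N ≤ Subgroup.center G → N ≠ ⊥ → ∀ g : G, g ^ p ∈ N := by
    intro N hN hN1 g
    haveI : N.Normal := ⟨fun m hm c => by rwa [Subgroup.mem_center_iff.mp (hN hm) c, mul_inv_cancel_right]⟩
    obtain ⟨H, hH⟩ := hquo N hN1
    have hle : (⊤ : Subgroup G) ≤ H.comap (QuotientGroup.mk' N) := by
      rw [← htop, Subgroup.closure_le]
      have hgen : ∀ z : G, z ^ p = 1 → z ∈ H.comap (QuotientGroup.mk' N) := fun z hz => by
        rw [Subgroup.mem_comap, ← SetLike.mem_coe, hH, Set.mem_setOf_eq, ← map_pow, hz, map_one]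
      rintro z (rfl | rfl)
      exacts [hgen _ hx, hgen _ hy]
    have h1 := hle (Subgroup.mem_top g)
    rw [Subgroup.mem_comap, ← SetLike.mem_coe, hH, Set.mem_setOf_eq, ← map_pow, QuotientGroup.mk'_apply,
      QuotientGroup.eq_one_iff] at h1
    exact h1
  haveI : Nontrivial G := ⟨⟨(x * y) ^ p, 1, hxy⟩⟩
  haveI := hG.center_nontrivial
  obtain ⟨k, hk, hcardZ⟩ := (hG.to_subgroup (Subgroup.center G)).nontrivial_iff_card.mp inferInstance
  obtain ⟨⟨z, hzc⟩, hz⟩ := exists_prime_orderOf_dvd_card' (G := Subgroup.center G) p (hcardZ ▸ dvd_pow_self p (by omega))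
  rw [Subgroup.orderOf_mk] at hz
  have hzle : Subgroup.zpowers z ≤ Subgroup.center G := Subgroup.zpowers_le.mpr hzc
  have hz1 : Subgroup.zpowers z ≠ ⊥ := by
    rw [Subgroup.zpowers_ne_bot]; intro h; rw [h, orderOf_one] at hz; exact hp.one_lt.ne hz
  have hp2 : ∀ g : G, g ^ p ^ 2 = 1 := by
    intro g
    obtain ⟨i, hi⟩ := hquot _ hzle hz1 g
    simp only at hi
    rw [sq, pow_mul, ← hi, ← zpow_natCast, zpow_comm, zpow_natCast, ← hz, pow_orderOf_eq_one, one_zpow]
  have hreg : (⊤ : Subgroup G).lowerCentralSeries (p - 1) ≠ ⊥ := by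
    intro h
    have hR := CfsgLib.Regular.regular_of_class _ G rfl hG h
    have h2 := CfsgLib.Regular.torsion_mul hR 1 (a := x) (b := y) (by rwa [pow_one]) (by rwa [pow_one])
    rw [pow_one] at h2
    exact hxy h2
  have hexp : Monoid.exponent G = p ^ 2 := by
    obtain ⟨i, hi, hie⟩ := (Nat.dvd_prime_pow hp).mp (Monoid.exponent_dvd_of_forall_pow_eq_one hp2)
    interval_cases i
    · exfalso
      have := Monoid.pow_exponent_eq_one (x * y)
      rw [hie, pow_zero, pow_one] at this
      exact hxy (by rw [this, one_pow])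
    · exfalso
      have := Monoid.pow_exponent_eq_one (x * y)
      rw [hie, pow_one] at this
      exact hxy this
    · exact hie
  refine ⟨⟨x, y, htop⟩, hreg, hexp, ?_, ?_⟩
  · -- the center has a unique subgroup of order p
    letI : CommGroup (Subgroup.center G) := { (inferInstance : Group (Subgroup.center G)) with
      mul_comm := fun u v => Subtype.ext (Subgroup.mem_center_iff.mp v.2 u) }
    letI : Fintype (Subgroup.center G) := Fintype.ofFinite _
    refine isCyclic_of_card_pow_eq_one_le fun n hn => ?_
    by_cases hall : ∀ w : Subgroup.center G, w ^ p = 1 → (w : G) ∈ Subgroup.zpowers z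
    · by_cases hsub' : ∀ w : Subgroup.center G, (w : G) ∈ Subgroup.zpowers z
      · have hcZ : IsCyclic (Subgroup.center G) := by
          refine ⟨⟨⟨z, hzc⟩, fun w => ?_⟩⟩
          obtain ⟨i, hi⟩ := hsub' w
          exact ⟨i, Subtype.ext (by simpa using hi)⟩
        exact IsCyclic.card_pow_eq_one_le hn
      · push Not at hsub'
        obtain ⟨w, hw⟩ := hsub'
        -- `w` generates: its order is p^2
        have hcZ : IsCyclic (Subgroup.center G) := by
          obtain ⟨i, hi⟩ := hquot _ hzle hz1 (w : G)
          have hwp : (w : G) ^ p ≠ 1 := fun h => hw (hall w (Subtype.ext (by simpa using h)))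
          refine ⟨⟨w, fun v => ?_⟩⟩
          obtain ⟨j, hj⟩ := hquot _ hzle hz1 (v : G)
          -- z is a power of w^p
          obtain ⟨l, hl⟩ : ∃ l : ℤ, ((w : G) ^ p) ^ l = z := by
            have hmem : (w : G) ^ p ∈ Subgroup.zpowers z := ⟨i, hi⟩
            haveI : Fact (Nat.card (Subgroup.zpowers z)).Prime := ⟨by rw [Nat.card_zpowers, hz]; exact hp⟩
            have := zpowers_eq_top_of_prime_card (rfl : Nat.card (Subgroup.zpowers z) = _) (g := ⟨_, hmem⟩) (fun h => hwp (congrArg Subtype.val h))
            obtain ⟨l, hl⟩ := Subgroup.mem_zpowers_iff.mp (this.ge (Subgroup.mem_top ⟨z, Subgroup.mem_zpowers z⟩))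
            exact ⟨l, by simpa using congrArg Subtype.val hl⟩
          simp only at hj
          have hv : v ^ p = (w ^ p) ^ (l * j) := Subtype.ext (by
            push_cast
            rw [zpow_mul, hl, hj])
          have h3 : (v * (w ^ (l * j))⁻¹) ^ p = 1 := by
            rw [mul_pow, inv_pow, hv, ← zpow_natCast w p, ← zpow_natCast (w ^ (l * j)) p, zpow_comm, mul_inv_cancel]
          obtain ⟨m, hm⟩ := hall _ h3
          simp only at hm
          refine ⟨(p : ℤ) * (l * m) + l * j, ?_⟩
          show w ^ ((p : ℤ) * (l * m) + l * j) = v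
          have hm2 : v * (w ^ (l * j))⁻¹ = w ^ ((p : ℤ) * (l * m)) := Subtype.ext (by
            rw [← hm]
            push_cast
            rw [zpow_mul, zpow_natCast, zpow_mul, hl])
          rw [zpow_add, ← hm2, inv_mul_cancel_right]
        exact IsCyclic.card_pow_eq_one_le hn
    · exfalso
      push Not at hall
      obtain ⟨w, hw, hwz⟩ := hall
      have hw' : (w : G) ^ p = 1 := by simpa using congrArg Subtype.val hw
      have hw1 : Subgroup.zpowers (w : G) ≠ ⊥ := Subgroup.zpowers_ne_bot.mpr fun h => hwz (h ▸ Subgroup.one_mem _)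
      have h1 := hquot _ hzle hz1 (x * y)
      obtain ⟨i, hi⟩ := hquot _ (Subgroup.zpowers_le.mpr w.2) hw1 (x * y)
      simp only at hi
      -- a common nontrivial element of two subgroups of order p
      haveI : Fact (Nat.card (Subgroup.zpowers (w : G))).Prime := ⟨by
        rw [Nat.card_zpowers, orderOf_eq_prime hw' (fun h => hwz (h ▸ Subgroup.one_mem _))]; exact hp⟩
      have htopw := zpowers_eq_top_of_prime_card (rfl : Nat.card (Subgroup.zpowers (w : G)) = _) (g := ⟨(x * y) ^ p, ⟨i, hi⟩⟩) (fun h => hxy (congrArg Subtype.val h))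
      obtain ⟨l, hl⟩ := Subgroup.mem_zpowers_iff.mp (htopw.ge (Subgroup.mem_top ⟨(w : G), Subgroup.mem_zpowers _⟩))
      apply hwz
      rw [← show ((x * y) ^ p) ^ l = (w : G) by simpa using congrArg Subtype.val hl]
      exact Subgroup.zpow_mem _ h1 l
  · obtain ⟨n, hn⟩ := hG.exists_card_eq
    rw [hn]
    apply Nat.pow_le_pow_right hp.pos
    have hn2 : 2 ≤ n := by
      by_contra hlt
      apply hreg
      have hab : commutator G = ⊥ := by
        haveI : IsCyclic G := by
          rcases Nat.le_one_iff_eq_zero_or_eq_one.mp (by omega : n ≤ 1) with rfl | rfl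
          · haveI : Subsingleton G := (Nat.card_eq_one_iff_unique.mp (by rw [hn, pow_zero])).1
            exact isCyclic_of_subsingleton
          · exact isCyclic_of_prime_card (by rw [hn, pow_one])
        rw [commutator_def, Subgroup.commutator_eq_bot_iff_le_centralizer]
        intro g _
        rw [Subgroup.mem_centralizer_iff]
        exact fun h _ => IsCyclic.commGroup.mul_comm h g
      have := Subgroup.lowerCentralSeries_antitone (⊤ : Subgroup G) (show 1 ≤ p - 1 by have := hp.two_le; omega)
      rw [Subgroup.top_lowerCentralSeries_one, hab] at this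
      exact le_bot_iff.mp this
    have h1 := CfsgLib.MaximalClassTwo.class_le n G hn hn2
    by_contra hlt
    apply hreg
    have h2 := Subgroup.lowerCentralSeries_antitone (⊤ : Subgroup G) (show Group.nilpotencyClass G ≤ p - 1 by omega)
    rw [Subgroup.lowerCentralSeries_nilpotencyClass] at h2
    exact le_bot_iff.mp h2

end Cfsg.Agent.S3872
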