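import Cfsg.Statements.S3889

set_option autoImplicit false
open Cfsg

namespace Cfsg.Agent.S3889

/-- A finite abelian group that is the union of a family of proper subgroups any two of which intersect trivially is elementary abelian: its exponent is a prime. -/
theorem result {G : Type*} [CommGroup G] [Finite G] (𝓑 : Set (Subgroup G)) (hprop : ∀ B ∈ 𝓑, B ≠ ⊤)
    (hcov : ∀ g : G, ∃ B ∈ 𝓑, g ∈ B) (hdisj : ∀ B ∈ 𝓑, ∀ C ∈ 𝓑, B ≠ C → B ⊓ C = ⊥) :
    (Monoid.exponent G).Prime := by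
  classical
  have hnt : Nontrivial G := by
    by_contra hn
    rw [not_nontrivial_iff_subsingleton] at hn
    obtain ⟨B, hB, -⟩ := hcov 1
    exact hprop B hB (Subsingleton.elim _ _)
  -- elements in different members have the same order
  have hle : ∀ B ∈ 𝓑, ∀ C ∈ 𝓑, B ≠ C → ∀ x ∈ B, x ≠ 1 → ∀ y ∈ C, y ≠ 1 → y ^ orderOf x = 1 := by
    intro B hB C hC hBC x hx hx1 y hy hy1
    by_contra hne
    obtain ⟨D, hD, hxy⟩ := hcov (x * y)
    have hz : y ^ orderOf x ∈ C ⊓ D := by
      refine ⟨C.pow_mem hy _, ?_⟩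
      have := D.pow_mem hxy (orderOf x)
      rwa [mul_pow, pow_orderOf_eq_one, one_mul] at this
    have hDC : D = C := by
      by_contra h
      rw [hdisj C hC D hD (Ne.symm h)] at hz
      exact hne hz
    subst hDC
    have hxD : x ∈ B ⊓ D := ⟨hx, by simpa using D.mul_mem hxy (D.inv_mem hy)⟩
    rw [hdisj B hB D hD hBC] at hxD
    exact hx1 hxD
  have hall : ∀ x y : G, x ≠ 1 → y ≠ 1 → orderOf y ∣ orderOf x := by
    intro x y hx1 hy1
    obtain ⟨B, hB, hx⟩ := hcov x
    obtain ⟨C, hC, hy⟩ := hcov y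
    by_cases hBC : B = C
    · subst hBC
      obtain ⟨z, hz⟩ : ∃ z, z ∉ B := by
        by_contra hc; push Not at hc; exact hprop B hB ((Subgroup.eq_top_iff' B).mpr hc)
      obtain ⟨D, hD, hzD⟩ := hcov z
      have hBD : B ≠ D := fun h => hz (h ▸ hzD)
      have hz1 : z ≠ 1 := fun h => hz (h ▸ B.one_mem)
      exact (orderOf_dvd_of_pow_eq_one (hle D hD B hB hBD.symm z hzD hz1 y hy hy1)).trans
        (orderOf_dvd_of_pow_eq_one (hle B hB D hD hBD x hx hx1 z hzD hz1))
    · exact orderOf_dvd_of_pow_eq_one (hle B hB C hC hBC x hx hx1 y hy hy1)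
  obtain ⟨p, hp, hpd⟩ := Nat.exists_prime_and_dvd (Finite.one_lt_card (α := G)).ne'
  haveI := Fact.mk hp
  obtain ⟨x, hx⟩ := exists_prime_orderOf_dvd_card' p hpd
  have hx1 : x ≠ 1 := fun h => by rw [h, orderOf_one] at hx; exact hp.ne_one hx.symm
  have hexp : Monoid.exponent G ∣ p := Monoid.exponent_dvd_of_forall_pow_eq_one fun y => by
    rcases eq_or_ne y 1 with rfl | hy1
    · exact one_pow p
    · exact orderOf_dvd_iff_pow_eq_one.mp (hx ▸ hall x y hx1 hy1)
  rcases (Nat.dvd_prime hp).mp hexp with h | h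
  · exfalso
    have := hx ▸ Monoid.order_dvd_exponent x
    rw [h] at this
    exact hp.ne_one (Nat.dvd_one.mp this)
  · exact h.symm ▸ hp


end Cfsg.Agent.S3889
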