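import Cfsg.Statements.S3890
import Cfsg.Agent.Lib.FG3.NilCover

set_option autoImplicit false
open Cfsg

namespace Cfsg.Agent.S3890

/-- A cover of a group is a finite set of proper subgroups whose union is the whole group; it is minimal when no cover has fewer members, and nilpotent when all its members are nilpotent. Let G be a finite group with trivial center admitting a nilpotent minimal cover 𝓐, and let P be an abelian Sylow p-subgroup of G that is not normal. Then either P is elementary abelian of order greater than p, or P is a Sylow p-subgroup of some member A of 𝓐, the normalizer N of P is a maximal subgroup of G, N meets each of its conjugates by elements outside N in a subgroup of order prime to p, and the centralizer of P equals A. -/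
theorem result {G : Type*} [Group G] [Finite G] (hZ : Subgroup.center G = ⊥) (𝓐 : Finset (Subgroup G))
    (h𝓐 : ((∀ A ∈ 𝓐, A ≠ ⊤) ∧ (∀ g : G, ∃ A ∈ 𝓐, g ∈ A)) ∧ (∀ 𝓑 : Finset (Subgroup G), (∀ A ∈ 𝓑, A ≠ ⊤) ∧ (∀ g : G, ∃ A ∈ 𝓑, g ∈ A) → 𝓐.card ≤ 𝓑.card) ∧ (∀ A ∈ 𝓐, Group.IsNilpotent ↥A)) {p : ℕ} [Fact p.Prime] (P : Sylow p G) (hab : IsMulCommutative ↥(P : Subgroup G))
    (hnn : ¬ (P : Subgroup G).Normal) :
    (Cfsg.IsElementaryAbelian p (P : Subgroup G) ∧ p < Nat.card ↥(P : Subgroup G)) ∨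
    (∃ A ∈ 𝓐, (P : Subgroup G) ≤ A ∧ ¬ p ∣ ((P : Subgroup G).subgroupOf A).index ∧
      IsCoatom (Subgroup.normalizer ((P : Subgroup G) : Set G)) ∧
      (∀ g : G, g ∉ Subgroup.normalizer ((P : Subgroup G) : Set G) →
        ¬ p ∣ Nat.card ↥(Subgroup.normalizer ((P : Subgroup G) : Set G) ⊓
          (Subgroup.normalizer ((P : Subgroup G) : Set G)).map (MulAut.conj g).toMonoidHom)) ∧
      Subgroup.centralizer ((P : Subgroup G) : Set G) = A) := by
  
  classical
  have hcomm : ∀ a ∈ (P : Subgroup G), ∀ b ∈ (P : Subgroup G), a * b = b * a :=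
    fun a ha b hb => congrArg Subtype.val (hab.is_comm.comm ⟨a, ha⟩ ⟨b, hb⟩)
  by_cases he : Cfsg.IsElementaryAbelian p (P : Subgroup G) ∧ p < Nat.card ↥(P : Subgroup G)
  · exact Or.inl he
  right
  have hcase : (∃ g, g ^ p = 1 ∧ (P : Subgroup G) = Subgroup.zpowers g) ∨ ∃ x ∈ (P : Subgroup G), x ^ p ≠ 1 := by
    by_cases h : ∃ x ∈ (P : Subgroup G), x ^ p ≠ 1
    · exact Or.inr h
    push Not at h
    left
    have hle : Nat.card ↥(P : Subgroup G) ≤ p := not_lt.1 fun hl => he ⟨⟨hab, h⟩, hl⟩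
    have hne : (P : Subgroup G) ≠ ⊥ := fun e => hnn (by rw [e]; infer_instance)
    obtain ⟨⟨g, hg⟩, hg1⟩ := Subgroup.ne_bot_iff_exists_ne_one.1 hne
    have ho : orderOf g = p := orderOf_eq_prime (h g hg) (fun e => hg1 (Subtype.ext e))
    exact ⟨g, h g hg, (Subgroup.eq_of_le_of_card_ge (Subgroup.zpowers_le.2 hg) (by rw [Nat.card_zpowers, ho]; exact hle)).symm⟩
  obtain ⟨A, hA, hPA, hCA, hM, hI⟩ := CfsgLib.FG3NilCover.main hZ 𝓐 h𝓐 P hcomm hnn hcase
  refine ⟨A, hA, hPA, fun hd => P.not_dvd_index (hd.trans (Subgroup.relIndex_dvd_index_of_le hPA)), ⟨?_, ?_⟩, hI, hCA⟩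
  · exact fun h => hnn (Subgroup.normalizer_eq_top_iff.1 h)
  · intro M hlt
    by_contra hne
    exact absurd (hM M hne ((hCA ▸ Subgroup.centralizer_le_normalizer _).trans hlt.le)) hlt.not_ge


end Cfsg.Agent.S3890
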