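import Cfsg.Statements.S3891
import Cfsg.Agent.Lib.FG3.NilCover

set_option autoImplicit false
open Cfsg

namespace Cfsg.Agent.S3891

/-- A cover of a group is a finite set of proper subgroups whose union is the whole group; it is minimal when no cover has fewer members, and nilpotent when all its members are nilpotent. Let G be a finite group with trivial center admitting a nilpotent minimal cover, and let P be a non-normal Sylow p-subgroup of G that is cyclic, or abelian but not elementary abelian. Then the centralizer of P is nilpotent and the normalizer of P is the unique maximal subgroup of G containing the centralizer of P. -/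
theorem result {G : Type*} [Group G] [Finite G] (hZ : Subgroup.center G = ⊥) (𝓐 : Finset (Subgroup G))
    (h𝓐 : ((∀ A ∈ 𝓐, A ≠ ⊤) ∧ (∀ g : G, ∃ A ∈ 𝓐, g ∈ A)) ∧ (∀ 𝓑 : Finset (Subgroup G), (∀ A ∈ 𝓑, A ≠ ⊤) ∧ (∀ g : G, ∃ A ∈ 𝓑, g ∈ A) → 𝓐.card ≤ 𝓑.card) ∧ (∀ A ∈ 𝓐, Group.IsNilpotent ↥A)) {p : ℕ} [Fact p.Prime] (P : Sylow p G)
    (hP : IsCyclic ↥(P : Subgroup G) ∨ (IsMulCommutative ↥(P : Subgroup G) ∧ ¬ Cfsg.IsElementaryAbelian p (P : Subgroup G)))
    (hnn : ¬ (P : Subgroup G).Normal) :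
    Group.IsNilpotent ↥(Subgroup.centralizer ((P : Subgroup G) : Set G)) ∧
      IsCoatom (Subgroup.normalizer ((P : Subgroup G) : Set G)) ∧
      ∀ M : Subgroup G, IsCoatom M → Subgroup.centralizer ((P : Subgroup G) : Set G) ≤ M →
        M = Subgroup.normalizer ((P : Subgroup G) : Set G) := by
  
  classical
  have hab : IsMulCommutative ↥(P : Subgroup G) := by
    rcases hP with h | h
    · exact IsCyclic.isMulCommutative
    · exact h.1
  have hcomm : ∀ a ∈ (P : Subgroup G), ∀ b ∈ (P : Subgroup G), a * b = b * a :=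
    fun a ha b hb => congrArg Subtype.val (hab.is_comm.comm ⟨a, ha⟩ ⟨b, hb⟩)
  have hcase : (∃ g, g ^ p = 1 ∧ (P : Subgroup G) = Subgroup.zpowers g) ∨ ∃ x ∈ (P : Subgroup G), x ^ p ≠ 1 := by
    by_cases h : ∃ x ∈ (P : Subgroup G), x ^ p ≠ 1
    · exact Or.inr h
    push Not at h
    rcases hP with hc | hne
    · obtain ⟨g, hg⟩ := (Subgroup.isCyclic_iff_exists_zpowers_eq_top _).1 hc
      exact Or.inl ⟨g, h g (hg ▸ Subgroup.mem_zpowers g), hg.symm⟩
    · exact absurd ⟨hne.1, h⟩ hne.2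
  obtain ⟨A, hA, hPA, hCA, hM, hI⟩ := CfsgLib.FG3NilCover.main hZ 𝓐 h𝓐 P hcomm hnn hcase
  have hN : Subgroup.normalizer ((P : Subgroup G) : Set G) ≠ ⊤ := fun h => hnn (Subgroup.normalizer_eq_top_iff.1 h)
  have hco : IsCoatom (Subgroup.normalizer ((P : Subgroup G) : Set G)) := by
    refine ⟨hN, fun M hlt => ?_⟩
    by_contra hne
    exact absurd (hM M hne ((hCA ▸ Subgroup.centralizer_le_normalizer _).trans hlt.le)) hlt.not_ge
  refine ⟨hCA ▸ h𝓐.2.2 A hA, hco, fun M hMc hle => ?_⟩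
  exact ((hMc.le_iff.1 (hM M hMc.1 (hCA ▸ hle))).resolve_left hN).symm


end Cfsg.Agent.S3891
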