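import Cfsg.Statements.S3892
import Cfsg.Agent.Lib.FG3.NilCover
import Mathlib

set_option autoImplicit false
open Cfsg

namespace Cfsg.Agent.S3892
open Equiv Equiv.Perm

theorem not_sq_dvd {q : ℕ} (hq : q.Prime) : ∀ m, m < 2 * q → ¬ q ^ 2 ∣ m.factorial := by
  intro m
  induction m with
  | zero => intro _ h; rw [Nat.factorial_zero, Nat.dvd_one] at h; exact absurd h (Nat.one_lt_pow two_ne_zero hq.one_lt).ne'
  | succ m ih =>
    intro hm h
    rw [Nat.factorial_succ] at h
    by_cases hd : q ∣ m + 1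
    · obtain ⟨c, hc⟩ := hd
      have hc1 : c = 1 := by
        rcases c with _ | _ | c
        · simp at hc
        · rfl
        · exfalso
          have : q * 2 ≤ q * (c + 1 + 1) := Nat.mul_le_mul_left q (by omega)
          omega
      subst hc1
      rw [mul_one] at hc
      rw [hc, sq] at h
      have h2 := (hq.dvd_factorial).1 (Nat.dvd_of_mul_dvd_mul_left hq.pos h)
      omega
    · exact ih (by omega) ((((hq.coprime_iff_not_dvd).2 hd).pow_left 2).dvd_of_dvd_mul_left h)

theorem main {G : Type*} [Group G] [Finite G] {n : ℕ} (hn : 4 ≤ n) (ι : G →* Perm (Fin n)) (hι : Function.Injective ι)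
    (hA : ∀ c : Perm (Fin n), c.IsThreeCycle → ∃ g, ι g = c) (q : ℕ) [hq : Fact q.Prime] (hqn : n < 2 * q)
    (σ m : G) (hσ : orderOf σ = q) (M : Subgroup G) (hM : M ≠ ⊤) (hCM : ∀ h, h * σ = σ * h → h ∈ M) (hm : m ∈ M)
    (hmσ : m * σ * m⁻¹ ∉ Subgroup.zpowers σ) :
    ¬ ∃ 𝓐 : Finset (Subgroup G), ((∀ A ∈ 𝓐, A ≠ ⊤) ∧ (∀ g : G, ∃ A ∈ 𝓐, g ∈ A)) ∧
      (∀ 𝓑 : Finset (Subgroup G), (∀ A ∈ 𝓑, A ≠ ⊤) ∧ (∀ g : G, ∃ A ∈ 𝓑, g ∈ A) → 𝓐.card ≤ 𝓑.card) ∧
      (∀ A ∈ 𝓐, Group.IsNilpotent ↥A) := by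
  rintro ⟨𝓐, h𝓐⟩
  have hZ : Subgroup.center G = ⊥ := by
    rw [eq_bot_iff]
    intro z hz
    rw [Subgroup.mem_bot]
    by_contra hz1
    obtain ⟨x, hx⟩ : ∃ x, ι z x ≠ x := by
      by_contra h
      push Not at h
      exact hz1 (hι (by rw [map_one]; exact Equiv.ext h))
    obtain ⟨u, hu⟩ : ∃ u, u ∉ ({x, ι z x} : Finset (Fin n)) := by
      by_contra h
      push Not at h
      have := Finset.card_le_card (fun a (_ : a ∈ (Finset.univ : Finset (Fin n))) => h a)
      have h2 : ({x, ι z x} : Finset (Fin n)).card ≤ 2 := Finset.card_le_two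
      simp only [Finset.card_univ, Fintype.card_fin] at this
      omega
    obtain ⟨v, hv⟩ : ∃ v, v ∉ ({x, ι z x, u} : Finset (Fin n)) := by
      by_contra h
      push Not at h
      have := Finset.card_le_card (fun a (_ : a ∈ (Finset.univ : Finset (Fin n))) => h a)
      have h2 : ({x, ι z x, u} : Finset (Fin n)).card ≤ 3 := Finset.card_le_three
      simp only [Finset.card_univ, Fintype.card_fin] at this
      omega
    simp only [Finset.mem_insert, Finset.mem_singleton, not_or] at hu hv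
    obtain ⟨c, hc⟩ : ∃ c, c = swap (ι z x) v * swap (ι z x) u := ⟨_, rfl⟩
    obtain ⟨g, hg⟩ := hA c (hc ▸ isThreeCycle_swap_mul_swap_same (Ne.symm hv.2.1) (Ne.symm hu.2) hv.2.2)
    have h := congrArg (fun k => ι k x) (Subgroup.mem_center_iff.1 hz g)
    simp only [map_mul, Perm.mul_apply, hg] at h
    have e1 : c x = x := by
      rw [hc, Perm.mul_apply, swap_apply_of_ne_of_ne hx.symm (Ne.symm hu.1), swap_apply_of_ne_of_ne hx.symm (Ne.symm hv.1)]
    have e2 : c (ι z x) = u := by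
      rw [hc, Perm.mul_apply, swap_apply_left, swap_apply_of_ne_of_ne hu.2 (Ne.symm hv.2.2)]
    rw [e1, e2] at h
    exact hu.2 h
  obtain ⟨Q, hQ⟩ := (IsPGroup.of_card (n := 1) (by rw [Nat.card_zpowers, hσ, pow_one]) : IsPGroup q (Subgroup.zpowers σ)).exists_le_sylow
  have hQeq : (Q : Subgroup G) = Subgroup.zpowers σ := by
    obtain ⟨k, hk⟩ := IsPGroup.iff_card.1 Q.2
    refine (Subgroup.eq_of_le_of_card_ge hQ ?_).symm
    rw [Nat.card_zpowers, hσ, hk]
    by_contra hlt
    push Not at hlt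
    have hk2 : 2 ≤ k := by
      by_contra h
      have := Nat.pow_le_pow_right hq.out.pos (show k ≤ 1 by omega)
      rw [pow_one] at this
      omega
    apply not_sq_dvd hq.out n hqn
    refine (pow_dvd_pow q hk2).trans ?_
    rw [← hk]
    refine (Subgroup.card_subgroup_dvd_card _).trans ?_
    have := Subgroup.card_dvd_of_injective ι hι
    rwa [Nat.card_perm, Nat.card_fin] at this
  have hnn : ¬ (Q : Subgroup G).Normal := fun h => hmσ (hQeq ▸ h.conj_mem σ (hQ (Subgroup.mem_zpowers σ)) m)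
  have hab : ∀ a ∈ (Q : Subgroup G), ∀ b ∈ (Q : Subgroup G), a * b = b * a := by
    rw [hQeq]
    intro a ha b hb
    obtain ⟨i, rfl⟩ := Subgroup.mem_zpowers_iff.1 ha
    obtain ⟨j, rfl⟩ := Subgroup.mem_zpowers_iff.1 hb
    rw [← zpow_add, ← zpow_add, add_comm]
  obtain ⟨A, -, -, hCA, hmax, -⟩ := CfsgLib.FG3NilCover.main hZ 𝓐 h𝓐 Q hab hnn
    (Or.inl ⟨σ, by rw [← hσ, pow_orderOf_eq_one], hQeq⟩)
  have hle : A ≤ M := by
    intro h hh
    rw [← hCA] at hh
    exact hCM h (hh σ (hQ (Subgroup.mem_zpowers σ))).symm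
  have := hmax M hM hle hm
  rw [hQeq, Subgroup.mem_normalizer_iff] at this
  exact hmσ ((this σ).1 (Subgroup.mem_zpowers σ))

theorem big {G : Type*} [Group G] [Finite G] {n : ℕ} (hn : 6 ≤ n) (ι : G →* Perm (Fin n)) (hι : Function.Injective ι)
    (hA : ∀ c : Perm (Fin n), c.IsThreeCycle → ∃ g, ι g = c) (hAd : n.factorial ∣ 2 * Nat.card G) :
    ¬ ∃ 𝓐 : Finset (Subgroup G), ((∀ A ∈ 𝓐, A ≠ ⊤) ∧ (∀ g : G, ∃ A ∈ 𝓐, g ∈ A)) ∧
      (∀ 𝓑 : Finset (Subgroup G), (∀ A ∈ 𝓑, A ≠ ⊤) ∧ (∀ g : G, ∃ A ∈ 𝓑, g ∈ A) → 𝓐.card ≤ 𝓑.card) ∧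
      (∀ A ∈ 𝓐, Group.IsNilpotent ↥A) := by
  classical
  obtain ⟨q, hq, hq1, hq2⟩ := Nat.exists_prime_lt_and_le_two_mul (n / 2) (by omega)
  haveI := Fact.mk hq
  have hq5 : 5 ≤ q := by
    by_contra h
    interval_cases q <;> first | omega | (revert hq; decide)
  have hqn : q < n := by
    rcases Nat.even_or_odd n with he | ho
    · refine lt_of_le_of_ne (by omega) fun e => ?_
      have := (hq.eq_two_or_odd).resolve_left (by omega)
      rw [Nat.even_iff] at he
      omega
    · rw [Nat.odd_iff] at ho; omega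
  have hdvd : q ∣ Nat.card G := by
    have h : q ∣ 2 * Nat.card G := (Nat.dvd_factorial hq.pos hqn.le).trans hAd
    exact (hq.dvd_mul.1 h).resolve_left fun h2 => by have := Nat.le_of_dvd (by norm_num) h2; omega
  obtain ⟨σ, hσ⟩ := exists_prime_orderOf_dvd_card' q hdvd
  have hσι : orderOf (ι σ) = q := by rw [orderOf_injective ι hι, hσ]
  obtain ⟨Δ, hΔ⟩ : ∃ Δ, Δ = (ι σ).support := ⟨_, rfl⟩
  have hΔq : Δ.card = q := by
    obtain ⟨k, hk⟩ := cycleType_prime_order (by rw [hσι]; exact hq)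
    have h := sum_cycleType (ι σ)
    rw [hk, hσι, Multiset.sum_replicate, smul_eq_mul, ← hΔ] at h
    have h2 := Finset.card_le_univ Δ
    rw [Fintype.card_fin] at h2
    rcases k with _ | k
    · rw [← h, zero_add, one_mul]
    · exfalso
      have : 2 * q ≤ (k + 1 + 1) * q := Nat.mul_le_mul_right q (by omega)
      omega
  let M : Subgroup G :=
    { carrier := {h | ∀ x, x ∈ Δ ↔ ι h x ∈ Δ}
      one_mem' := fun x => by simp
      mul_mem' := fun {a b} ha hb x => by rw [map_mul, Perm.mul_apply]; exact (hb x).trans (ha _)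
      inv_mem' := fun {a} ha x => by
        have h := ha ((ι a)⁻¹ x)
        rw [map_inv]
        simpa using h.symm }
  obtain ⟨a, ha⟩ : ∃ a, a ∈ Δ := Finset.card_pos.1 (by omega)
  obtain ⟨b, hb⟩ : ∃ b, b ∉ Δ := by
    by_contra h
    push Not at h
    have := Finset.card_le_card (fun x (_ : x ∈ (Finset.univ : Finset (Fin n))) => h x)
    simp only [Finset.card_univ, Fintype.card_fin] at this
    omega
  obtain ⟨d, hd⟩ : ∃ d, d ∈ Δ := ⟨a, ha⟩
  obtain ⟨d', hd'⟩ : ∃ d', d' = ι σ d := ⟨_, rfl⟩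
  have hd'Δ : d' ∈ Δ := by rw [hd', hΔ]; exact Perm.apply_mem_support.2 (hΔ ▸ hd)
  obtain ⟨T, hT, hT3⟩ := Finset.exists_subset_card_eq (s := Δ \ {d, d'}) (n := 3) (by
    have := Finset.le_card_sdiff {d, d'} Δ
    have h2 : ({d, d'} : Finset (Fin n)).card ≤ 2 := Finset.card_le_two
    omega)
  obtain ⟨u, v, w, huv, huw, hvw, hTe⟩ := Finset.card_eq_three.1 hT3
  have hu : u ∈ Δ \ {d, d'} := hT (by simp [hTe])
  have hv : v ∈ Δ \ {d, d'} := hT (by simp [hTe])
  have hw : w ∈ Δ \ {d, d'} := hT (by simp [hTe])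
  simp only [Finset.mem_sdiff, Finset.mem_insert, Finset.mem_singleton, not_or] at hu hv hw
  have hfix : ∀ x, x ≠ u → x ≠ v → x ≠ w → (swap u v * swap u w) x = x := fun x h1 h2 h3 => by
    rw [Perm.mul_apply, swap_apply_of_ne_of_ne h1 h3, swap_apply_of_ne_of_ne h1 h2]
  obtain ⟨m, hm⟩ := hA _ (isThreeCycle_swap_mul_swap_same huv huw hvw)
  refine main (by omega) ι hι hA q (by omega) σ m hσ M ?_ ?_ ?_ ?_
  · intro htop
    obtain ⟨b', hb'⟩ : ∃ b', b' ∈ Δ ∧ b' ≠ a := by
      by_contra h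
      push Not at h
      have := Finset.card_le_card (show Δ ⊆ {a} from fun x hx => Finset.mem_singleton.2 (h x hx))
      rw [Finset.card_singleton] at this
      omega
    have hab : a ≠ b := fun e => hb (e ▸ ha)
    have hbb : b' ≠ b := fun e => hb (e ▸ hb'.1)
    obtain ⟨g, hg⟩ := hA _ (isThreeCycle_swap_mul_swap_same hab (Ne.symm hb'.2) hbb.symm)
    have hgM : g ∈ M := htop ▸ Subgroup.mem_top g
    have h := (hgM b').1 hb'.1
    rw [hg, Perm.mul_apply, swap_apply_right, swap_apply_left] at h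
    exact hb h
  · intro h hh x
    have he : ∀ y, ι h (ι σ y) = ι σ (ι h y) := fun y => by
      have := congrArg (fun k => ι k y) hh
      simpa using this
    rw [hΔ, Perm.mem_support, Perm.mem_support, ← he, ne_eq, ne_eq, (ι h).injective.eq_iff]
  · intro x
    rw [hm]
    by_cases hxu : x = u
    · subst hxu; rw [Perm.mul_apply, swap_apply_left, swap_apply_of_ne_of_ne (Ne.symm huw) (Ne.symm hvw)]
      exact iff_of_true hu.1 hw.1
    by_cases hxv : x = v
    · subst hxv; rw [Perm.mul_apply, swap_apply_of_ne_of_ne (Ne.symm huv) hvw, swap_apply_right]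
      exact iff_of_true hv.1 hu.1
    by_cases hxw : x = w
    · subst hxw; rw [Perm.mul_apply, swap_apply_right, swap_apply_left]
      exact iff_of_true hw.1 hv.1
    rw [hfix x hxu hxv hxw]
  · intro hmem
    obtain ⟨i, hi⟩ := (Submonoid.mem_powers_iff _ _).1 ((isOfFinOrder_of_finite σ).mem_powers_iff_mem_zpowers.2 hmem)
    have hi' : (ι σ) ^ i = (swap u v * swap u w) * ι σ * (swap u v * swap u w)⁻¹ := by
      rw [← hm, ← map_pow, hi, map_mul, map_mul, map_inv]
    have hdfix := hfix d (Ne.symm hu.2.1) (Ne.symm hv.2.1) (Ne.symm hw.2.1)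
    have hd'fix := hfix d' (Ne.symm hu.2.2) (Ne.symm hv.2.2) (Ne.symm hw.2.2)
    have hinv : (swap u v * swap u w)⁻¹ d = d := by
      conv_lhs => rw [← hdfix]
      exact (swap u v * swap u w).symm_apply_apply d
    have h1 : ((ι σ) ^ i) d = d' := by
      rw [hi', Perm.mul_apply, Perm.mul_apply, hinv, ← hd', hd'fix]
    have hcyc : (ι σ).IsCycle := Perm.isCycle_of_prime_order' (by rw [hσι]; exact hq) (by rw [Fintype.card_fin, hσι]; omega)
    have hdσ : ι σ d ≠ d := Perm.mem_support.1 (hΔ ▸ hd)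
    have hpow : (ι σ) ^ i = ι σ := by
      have : (ι σ) ^ i = (ι σ) ^ 1 := (hcyc.pow_eq_pow_iff).2 ⟨d, hdσ, by rw [h1, pow_one, hd']⟩
      rwa [pow_one] at this
    rw [hpow] at hi'
    -- then the three cycle commutes with the long cycle and fixes d, so all of its support
    have hcomm : ∀ y, (swap u v * swap u w) (ι σ y) = ι σ ((swap u v * swap u w) y) := by
      intro y
      conv_rhs => rw [hi']
      simp [Perm.mul_apply]
    obtain ⟨j, hj⟩ := hcyc.exists_pow_eq hdσ (Perm.mem_support.1 (hΔ ▸ hu.1))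
    have hall : ∀ j : ℕ, (swap u v * swap u w) (((ι σ) ^ j) d) = ((ι σ) ^ j) d := by
      intro j
      induction j with
      | zero => exact hdfix
      | succ j ih => rw [pow_succ' (ι σ), Perm.mul_apply (ι σ), hcomm, ih]
    have h2 := hall j
    rw [hj, Perm.mul_apply, swap_apply_left, swap_apply_of_ne_of_ne (Ne.symm huw) (Ne.symm hvw)] at h2
    exact huw h2.symm

/-- A cover of a group is a finite set of proper subgroups whose union is the whole group; it is minimal when no cover has fewer members, and nilpotent when all its members are nilpotent. The alternating groups of degree at least 5 and the symmetric groups of degree at least 4 have no nilpotent minimal cover. -/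
theorem result (n : ℕ) :
    (5 ≤ n → ¬ ∃ 𝓐 : Finset (Subgroup ↥(alternatingGroup (Fin n))), ((∀ A ∈ 𝓐, A ≠ ⊤) ∧ (∀ g : ↥(alternatingGroup (Fin n)), ∃ A ∈ 𝓐, g ∈ A)) ∧ (∀ 𝓑 : Finset (Subgroup ↥(alternatingGroup (Fin n))), (∀ A ∈ 𝓑, A ≠ ⊤) ∧ (∀ g : ↥(alternatingGroup (Fin n)), ∃ A ∈ 𝓑, g ∈ A) → 𝓐.card ≤ 𝓑.card) ∧ (∀ A ∈ 𝓐, Group.IsNilpotent ↥A)) ∧
    (4 ≤ n → ¬ ∃ 𝓐 : Finset (Subgroup (Equiv.Perm (Fin n))), ((∀ A ∈ 𝓐, A ≠ ⊤) ∧ (∀ g : (Equiv.Perm (Fin n)), ∃ A ∈ 𝓐, g ∈ A)) ∧ (∀ 𝓑 : Finset (Subgroup (Equiv.Perm (Fin n))), (∀ A ∈ 𝓑, A ≠ ⊤) ∧ (∀ g : (Equiv.Perm (Fin n)), ∃ A ∈ 𝓑, g ∈ A) → 𝓐.card ≤ 𝓑.card) ∧ (∀ A ∈ 𝓐, Group.IsNilpotent ↥A)) := by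
  
  refine ⟨fun h5 => ?_, fun h4 => ?_⟩
  · have hA : ∀ c : Perm (Fin n), c.IsThreeCycle → ∃ g, (alternatingGroup (Fin n)).subtype g = c :=
      fun c hc => ⟨⟨c, hc.mem_alternatingGroup⟩, rfl⟩
    rcases Nat.lt_or_ge n 6 with h | h
    · obtain rfl : n = 5 := by omega
      haveI : Fact (Nat.Prime 3) := ⟨by norm_num⟩
      refine main (by norm_num) (alternatingGroup (Fin 5)).subtype (Subgroup.subtype_injective _) hA 3 (by norm_num)
        ⟨c[0, 1, 2], Perm.mem_alternatingGroup.2 (by decide +kernel)⟩ ⟨c[0, 1, 3], Perm.mem_alternatingGroup.2 (by decide +kernel)⟩ ?_ ((MulAction.stabilizer (Perm (Fin 5)) (4 : Fin 5)).subgroupOf _) ?_ ?_ ?_ ?_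
      · exact orderOf_eq_prime (by decide +kernel) (by decide +kernel)
      · intro h
        have : (⟨c[0, 1, 4], Perm.mem_alternatingGroup.2 (by decide +kernel)⟩ : ↥(alternatingGroup (Fin 5))) ∈ (MulAction.stabilizer (Perm (Fin 5)) (4 : Fin 5)).subgroupOf (alternatingGroup (Fin 5)) := h ▸ Subgroup.mem_top _
        rw [Subgroup.mem_subgroupOf, MulAction.mem_stabilizer_iff] at this
        exact absurd this (by decide +kernel)
      · intro g hg
        rw [Subgroup.mem_subgroupOf, MulAction.mem_stabilizer_iff]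
        have key : ∀ x : Perm (Fin 5), Perm.sign x = 1 → x * c[0, 1, 2] = c[0, 1, 2] * x → x 4 = 4 := by decide +kernel
        exact key g.1 g.2 (congrArg Subtype.val hg)
      · rw [Subgroup.mem_subgroupOf, MulAction.mem_stabilizer_iff]; decide +kernel
      · intro h
        obtain ⟨i, hi⟩ := (Submonoid.mem_powers_iff _ _).1 ((isOfFinOrder_of_finite _).mem_powers_iff_mem_zpowers.2 h)
        have h3 : (c[0, 1, 2] : Perm (Fin 5)) ^ i = (c[0, 1, 2] : Perm (Fin 5)) ^ (i % 3) := pow_eq_pow_mod i (by decide +kernel)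
        have hi' := congrArg Subtype.val hi
        simp only [SubgroupClass.coe_pow, Subgroup.coe_mul, InvMemClass.coe_inv] at hi'
        rw [h3] at hi'
        have := Nat.mod_lt i (show 3 > 0 by norm_num)
        interval_cases hh : i % 3 <;> exact absurd hi' (by decide +kernel)
    · refine big h (alternatingGroup (Fin n)).subtype (Subgroup.subtype_injective _) hA ?_
      haveI : Nontrivial (Fin n) := Fin.nontrivial_iff_two_le.2 (by omega)
      rw [Nat.card_eq_fintype_card, two_mul_card_alternatingGroup, Fintype.card_perm, Fintype.card_fin]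
  · have hA : ∀ c : Perm (Fin n), c.IsThreeCycle → ∃ g, (MonoidHom.id (Perm (Fin n))) g = c := fun c _ => ⟨c, rfl⟩
    rcases Nat.lt_or_ge n 6 with h | h
    · interval_cases n
      · haveI : Fact (Nat.Prime 3) := ⟨by norm_num⟩
        refine main (by norm_num) (MonoidHom.id _) Function.injective_id hA 3 (by norm_num) c[0, 1, 2] c[0, 1, 3] ?_ (alternatingGroup (Fin 4)) ?_ ?_ ?_ ?_
        · exact orderOf_eq_prime (by decide +kernel) (by decide +kernel)
        · intro h
          have : (c[0, 1] : Perm (Fin 4)) ∈ alternatingGroup (Fin 4) := h ▸ Subgroup.mem_top _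
          exact absurd (Perm.mem_alternatingGroup.1 this) (by decide +kernel)
        · intro g hg
          have key : ∀ x : Perm (Fin 4), x * c[0, 1, 2] = c[0, 1, 2] * x → Perm.sign x = 1 := by decide +kernel
          exact Perm.mem_alternatingGroup.2 (key g hg)
        · exact Perm.mem_alternatingGroup.2 (by decide +kernel)
        · intro h
          obtain ⟨i, hi⟩ := (Submonoid.mem_powers_iff _ _).1 ((isOfFinOrder_of_finite _).mem_powers_iff_mem_zpowers.2 h)
          rw [pow_eq_pow_mod i (show (c[0, 1, 2] : Perm (Fin 4)) ^ 3 = 1 by decide +kernel)] at hi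
          have := Nat.mod_lt i (show 3 > 0 by norm_num)
          interval_cases hh : i % 3 <;> exact absurd hi (by decide +kernel)
      · haveI : Fact (Nat.Prime 5) := ⟨by norm_num⟩
        refine main (by norm_num) (MonoidHom.id _) Function.injective_id hA 5 (by norm_num) c[0, 1, 2, 3, 4] c[0, 1, 2] ?_ (alternatingGroup (Fin 5)) ?_ ?_ ?_ ?_
        · exact orderOf_eq_prime (by decide +kernel) (by decide +kernel)
        · intro h
          have : (c[0, 1] : Perm (Fin 5)) ∈ alternatingGroup (Fin 5) := h ▸ Subgroup.mem_top _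
          exact absurd (Perm.mem_alternatingGroup.1 this) (by decide +kernel)
        · intro g hg
          have key : ∀ x : Perm (Fin 5), x * c[0, 1, 2, 3, 4] = c[0, 1, 2, 3, 4] * x → Perm.sign x = 1 := by decide +kernel
          exact Perm.mem_alternatingGroup.2 (key g hg)
        · exact Perm.mem_alternatingGroup.2 (by decide +kernel)
        · intro h
          obtain ⟨i, hi⟩ := (Submonoid.mem_powers_iff _ _).1 ((isOfFinOrder_of_finite _).mem_powers_iff_mem_zpowers.2 h)
          rw [pow_eq_pow_mod i (show (c[0, 1, 2, 3, 4] : Perm (Fin 5)) ^ 5 = 1 by decide +kernel)] at hi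
          have := Nat.mod_lt i (show 5 > 0 by norm_num)
          interval_cases hh : i % 5 <;> exact absurd hi (by decide +kernel)
    · exact big h (MonoidHom.id _) Function.injective_id hA (by rw [Nat.card_perm, Nat.card_eq_fintype_card, Fintype.card_fin]; exact Dvd.intro_left 2 rfl)


end Cfsg.Agent.S3892
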