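import Cfsg.Statements.S4113

set_option autoImplicit false
open Cfsg

namespace Cfsg.Agent.S4113

/-- Let G be a finite group, M ≤ N non-trivial proper normal subgroups, and H a subgroup with HM = G and H ∩ M = 1. Then every element of G outside N acts fixed-point-freely on M (C_G(x) ≤ N for every x ∈ M, x ≠ 1) if and only if H ∩ gHg⁻¹ ≤ H ∩ N for every g outside H, with H proper and non-trivial and H ∩ N proper in H. -/
theorem result {G : Type*} [Group G] [Finite G] (N M : Subgroup G) [N.Normal] [M.Normal] (hMN : M ≤ N) (hM1 : M ≠ ⊥) (hN2 : N ≠ ⊤)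
    (H : Subgroup G) (hHM : H ⊔ M = ⊤) (hHM' : H ⊓ M = ⊥) :
    (∀ x ∈ M, x ≠ 1 → Subgroup.centralizer ({x} : Set G) ≤ N) ↔
      (H ≠ ⊥ ∧ H ≠ ⊤ ∧ H ⊓ N < H ∧ ∀ g : G, g ∉ H → H ⊓ H.map (MulAut.conj g).toMonoidHom ≤ N) := by
  have hdec : ∀ g : G, ∃ m ∈ M, ∃ h ∈ H, m * h = g := by
    intro g
    have hg : g ∈ (↑(M ⊔ H) : Set G) := by rw [sup_comm, hHM]; trivial
    rw [Subgroup.normal_mul] at hg
    obtain ⟨m, hm, h, hh, he⟩ := hg
    exact ⟨m, hm, h, hh, he⟩
  have htriv : ∀ z ∈ H, z ∈ M → z = 1 := fun z h1 h2 => Subgroup.mem_bot.mp (hHM' ▸ ⟨h1, h2⟩)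
  constructor
  · intro hfpf
    refine ⟨fun h => ?_, fun h => ?_, lt_of_le_of_ne inf_le_left fun h => ?_, fun g hg => ?_⟩
    · rw [h, bot_sup_eq] at hHM
      exact hN2 (eq_top_iff.mpr (hHM ▸ hMN))
    · rw [h, top_inf_eq] at hHM'
      exact hM1 hHM'
    · exact hN2 (eq_top_iff.mpr (hHM ▸ sup_le (inf_eq_left.mp h) hMN))
    · obtain ⟨m, hm, k, hk, rfl⟩ := hdec g
      rintro u ⟨hu, v, hv, hvu⟩
      have hm1 : m ≠ 1 := by rintro rfl; exact hg (by rwa [one_mul])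
      refine hfpf m hm hm1 (Subgroup.mem_centralizer_singleton_iff.mpr ?_)
      have e : m * k * v * (m * k)⁻¹ = u := hvu
      have hw : k * v * k⁻¹ = m⁻¹ * u * m := by rw [← e]; group
      have hwH : m⁻¹ * u * m ∈ H := hw ▸ H.mul_mem (H.mul_mem hk hv) (H.inv_mem hk)
      have hM' : u⁻¹ * (m⁻¹ * u * m) ∈ M := by
        have := Subgroup.Normal.conj_mem (inferInstance : M.Normal) m⁻¹ (M.inv_mem hm) u⁻¹
        rw [inv_inv] at this
        rw [show u⁻¹ * (m⁻¹ * u * m) = (u⁻¹ * m⁻¹ * u) * m by group]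
        exact M.mul_mem this hm
      have h1 := inv_mul_eq_one.mp (htriv _ (H.mul_mem (H.inv_mem hu) hwH) hM')
      calc u * m = m * (m⁻¹ * u * m) := by group
        _ = m * u := by rw [← h1]
  · rintro ⟨-, -, -, hcond⟩ x hx hx1 g hg
    by_contra hgN
    obtain ⟨m', hm', h, hh, rfl⟩ := hdec g
    have hhN : h ∉ N := fun hN => hgN (N.mul_mem (hMN hm') hN)
    have key : ∀ m ∈ M, h * m = m * h → m = 1 := by
      intro m hm hc
      by_contra hm1
      refine hhN (hcond m (fun hmH => hm1 (htriv m hmH hm)) ⟨hh, h, hh, ?_⟩)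
      show m * h * m⁻¹ = h
      rw [← hc, mul_inv_cancel_right]
    let c : M → M := fun m => ⟨(m : G) * h * (m : G)⁻¹ * h⁻¹, by
      rw [show (m : G) * h * (m : G)⁻¹ * h⁻¹ = (m : G) * (h * (m : G)⁻¹ * h⁻¹) by group]
      exact M.mul_mem m.2 (Subgroup.Normal.conj_mem inferInstance _ (M.inv_mem m.2) h)⟩
    have hc : Function.Injective c := fun a b hab => by
      have e : (a : G) * h * (a : G)⁻¹ = (b : G) * h * (b : G)⁻¹ := mul_right_cancel (congrArg Subtype.val hab)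
      have h2 : h * ((b : G)⁻¹ * a) = ((b : G)⁻¹ * a) * h := by
        calc h * ((b : G)⁻¹ * a) = (b : G)⁻¹ * ((b : G) * h * (b : G)⁻¹) * a := by group
          _ = _ := by rw [← e]; group
      exact (Subtype.ext (inv_mul_eq_one.mp (key _ (M.mul_mem (M.inv_mem b.2) a.2) h2))).symm
    obtain ⟨m, hm⟩ := (Finite.injective_iff_surjective.mp hc) ⟨m', hm'⟩
    have hg' : (m : G) * h * (m : G)⁻¹ = m' * h := by rw [show m' = (m : G) * h * (m : G)⁻¹ * h⁻¹ from (congrArg Subtype.val hm).symm]; group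
    rw [Subgroup.mem_centralizer_singleton_iff, ← hg'] at hg
    have h3 := key ((m : G)⁻¹ * x * m) (M.mul_mem (M.mul_mem (M.inv_mem m.2) hx) m.2) (by
      calc h * ((m : G)⁻¹ * x * m) = (m : G)⁻¹ * (((m : G) * h * (m : G)⁻¹) * x) * m := by group
        _ = _ := by rw [hg]; group)
    exact hx1 (by
      have h4 : (m : G) * ((m : G)⁻¹ * x * m) * (m : G)⁻¹ = x := by group
      rw [← h4, h3, mul_one, mul_inv_cancel])

end Cfsg.Agent.S4113
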