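import Cfsg.Statements.S4134
import Mathlib.GroupTheory.Sylow
import Mathlib.GroupTheory.SchurZassenhaus
import Mathlib.GroupTheory.Nilpotent

set_option autoImplicit false
open Cfsg

namespace Cfsg.Agent.S4134
universe u

section Norm
variable {V : Type u} [CommGroup V]

/-- Two commuting automorphisms of order `r` all of whose lines have trivial norm: exponent `r`. -/
theorem pow_eq_one_of_norms {r : ℕ} (hr : r.Prime) (A B : MulAut V) (hAB : Commute A B) (hB : B ^ r = 1)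
    (h1 : ∀ u, ∏ i ∈ Finset.range r, (B ^ i) u = 1)
    (h2 : ∀ j u, ∏ i ∈ Finset.range r, ((A * B ^ j) ^ i) u = 1) (u : V) : u ^ r = 1 := by
  have h0 : ∏ i ∈ Finset.range r, ∏ j ∈ Finset.range r, ((A * B ^ j) ^ i) u = 1 := by
    rw [Finset.prod_comm]; exact Finset.prod_eq_one fun j _ => h2 j u
  rw [← Finset.mul_prod_erase _ _ (Finset.mem_range.mpr hr.pos)] at h0
  have h3 : ∀ i ∈ (Finset.range r).erase 0, ∏ j ∈ Finset.range r, ((A * B ^ j) ^ i) u = 1 := by
    intro i hi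
    obtain ⟨hi0, hir⟩ := Finset.mem_erase.mp hi
    rw [Finset.mem_range] at hir
    have e : ∀ j, ((A * B ^ j) ^ i) u = (A ^ i) ((B ^ ((i * j) % r)) u) := fun j => by
      rw [(hAB.pow_right j).mul_pow, MulAut.mul_apply, ← pow_mul, mul_comm j i, ← pow_eq_pow_mod _ hB]
    rw [Finset.prod_congr rfl fun j _ => e j, ← map_prod]
    have hinj : Set.InjOn (fun j => (i * j) % r) (Finset.range r : Set ℕ) := by
      intro a ha b hb hab
      have hcop : r.gcd i = 1 := (Nat.Prime.coprime_iff_not_dvd hr).mpr fun h => absurd (Nat.le_of_dvd (by omega) h) (by omega)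
      have h := Nat.ModEq.cancel_left_of_coprime hcop (show i * a ≡ i * b [MOD r] from hab)
      simp only [Finset.coe_range, Set.mem_Iio] at ha hb
      exact h.eq_of_lt_of_lt ha hb
    have himg : (Finset.range r).image (fun j => (i * j) % r) = Finset.range r := by
      refine Finset.eq_of_subset_of_card_le (fun x hx => ?_) (Finset.card_image_of_injOn hinj).ge
      obtain ⟨j, -, rfl⟩ := Finset.mem_image.mp hx
      exact Finset.mem_range.mpr (Nat.mod_lt _ hr.pos)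
    rw [← Finset.prod_image (f := fun k => (B ^ k) u) hinj, himg, h1, map_one]
  rw [Finset.prod_eq_one h3, mul_one] at h0
  simpa using h0

end Norm

section Centralizers
variable {G : Type u} [Group G] [Finite G]

local notation "Z" => Subgroup.center G
local notation "π" => QuotientGroup.mk' (Subgroup.center G)

abbrev Cn (g : G) : Subgroup G := Subgroup.centralizer ({g} : Set G)

def Ci (g : G) : Subgroup (G ⧸ Subgroup.center G) := (Cn g).map π

theorem mem_Cn {g y : G} : y ∈ Cn g ↔ g * y = y * g := by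
  rw [Subgroup.mem_centralizer_iff]; simp

theorem center_le_Cn (g : G) : Z ≤ Cn g := fun z hz => mem_Cn.mpr (Subgroup.mem_center_iff.mp hz g)

theorem pi_ne {g : G} : π g ≠ 1 ↔ g ∉ Z := (QuotientGroup.eq_one_iff g).not

theorem mem_Ci {g y : G} : π y ∈ Ci g ↔ y ∈ Cn g := by
  refine ⟨fun h => ?_, fun h => Subgroup.mem_map_of_mem _ h⟩
  have h1 : y ∈ (Ci g).comap π := h
  rwa [Ci, Subgroup.comap_map_eq, QuotientGroup.ker_mk', sup_eq_left.mpr (center_le_Cn g)] at h1

theorem commute_of_mem_Ci {g : G} {k : G ⧸ Z} (h : k ∈ Ci g) : π g * k = k * π g := by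
  obtain ⟨y, hy, rfl⟩ := h
  rw [← map_mul, ← map_mul, mem_Cn.mp hy]

variable {n : ℕ}

/-- All noncentral centralizers have index `n`. -/
abbrev Iso (G : Type u) [Group G] (n : ℕ) : Prop := ∀ g : G, g ∉ Subgroup.center G → (Subgroup.centralizer ({g} : Set G)).index = n

variable (hn : Iso G n)
include hn

theorem index_Ci {g : G} (hg : π g ≠ 1) : (Ci g).index = n := by
  rw [← hn g (pi_ne.mp hg), ← Subgroup.index_comap_of_surjective (Ci g) (QuotientGroup.mk'_surjective _), Ci,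
    Subgroup.comap_map_eq, QuotientGroup.ker_mk', sup_eq_left.mpr (center_le_Cn g)]

theorem card_Ci {g g' : G} (hg : π g ≠ 1) (hg' : π g' ≠ 1) : Nat.card (Ci g) = Nat.card (Ci g') := by
  refine Nat.eq_of_mul_eq_mul_left (Nat.pos_of_ne_zero (Ci g).index_ne_zero_of_finite) ?_
  rw [Subgroup.index_mul_card, index_Ci hn hg, ← index_Ci hn hg', Subgroup.index_mul_card]

theorem Cn_eq_of_le {g h : G} (hg : π g ≠ 1) (hh : π h ≠ 1) (hle : Cn g ≤ Cn h) : Cn g = Cn h := by
  refine Subgroup.eq_of_le_of_card_ge hle ?_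
  have h1 := (Cn g).index_mul_card
  rw [← (Cn h).index_mul_card, hn g (pi_ne.mp hg), hn h (pi_ne.mp hh)] at h1
  refine (Nat.eq_of_mul_eq_mul_left (Nat.pos_of_ne_zero ?_) h1).ge
  exact hn g (pi_ne.mp hg) ▸ (Cn g).index_ne_zero_of_finite

omit hn in
theorem Cn_congr {g h : G} (hgh : π g = π h) : Cn g = Cn h := by
  have hz : h⁻¹ * g ∈ Z := QuotientGroup.eq.mp hgh.symm
  ext y
  have e := Subgroup.mem_center_iff.mp hz y
  rw [mem_Cn, mem_Cn]
  constructor <;> intro hy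
  · calc h * y = g * ((h⁻¹ * g)⁻¹ * y) := by group
      _ = g * (y * (h⁻¹ * g)⁻¹) := by rw [Subgroup.mem_center_iff.mp (Subgroup.inv_mem _ hz) y]
      _ = y * g * (h⁻¹ * g)⁻¹ := by rw [← mul_assoc, hy]
      _ = y * h := by group
  · calc g * y = h * ((h⁻¹ * g) * y) := by group
      _ = h * (y * (h⁻¹ * g)) := by rw [e]
      _ = y * h * (h⁻¹ * g) := by rw [← mul_assoc, hy]
      _ = y * g := by group

theorem Cn_pow {g : G} {k : ℕ} (hk : π g ^ k ≠ 1) : Cn g = Cn (g ^ k) := by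
  refine Cn_eq_of_le hn (fun e => hk (by rw [e, one_pow])) (by rwa [map_pow]) fun y hy => mem_Cn.mpr ?_
  exact ((show Commute g y from mem_Cn.mp hy).pow_left k).eq

theorem dvd_of_commute {a b : G} (ha : π a ≠ 1) (hb : π b ≠ 1) (hc : Commute (π a) (π b)) (hne : Cn a ≠ Cn b) :
    orderOf (π b) ∣ orderOf (π a) := by
  refine orderOf_dvd_of_pow_eq_one (by_contra fun hk => hne ?_)
  have h1 : π (a * b) ^ orderOf (π a) = π b ^ orderOf (π a) := by
    rw [map_mul, hc.mul_pow, pow_orderOf_eq_one, one_mul]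
  have h2 : Cn (a * b) = Cn b := by
    rw [Cn_pow hn (g := a * b) (k := orderOf (π a)) (by rw [h1]; exact hk), Cn_pow hn (g := b) hk]
    exact Cn_congr (by rw [map_pow, map_pow, h1])
  refine (Cn_eq_of_le hn hb ha fun y hy => mem_Cn.mpr ?_).symm
  have e1 := mem_Cn.mp (h2 ▸ hy : y ∈ Cn (a * b))
  have e2 := mem_Cn.mp hy
  calc a * y = (a * b) * (b⁻¹ * y) := by group
    _ = (a * b) * (y * b⁻¹) := by rw [show b⁻¹ * y = y * b⁻¹ from ((show Commute b y from e2).inv_left).eq]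
    _ = y * (a * b) * b⁻¹ := by rw [← mul_assoc, e1]
    _ = y * a := by group

theorem prime_of_commute {a b : G} (ha : π a ≠ 1) (hb : π b ≠ 1) (hc : Commute (π a) (π b)) (hne : Cn a ≠ Cn b) :
    (orderOf (π a)).Prime := by
  have hk1 : orderOf (π a) ≠ 1 := fun e => ha (orderOf_eq_one_iff.mp e)
  obtain ⟨q, hq, hqd⟩ := Nat.exists_prime_and_dvd hk1
  by_contra hnp
  have hlt : q < orderOf (π a) := lt_of_le_of_ne (Nat.le_of_dvd (orderOf_pos _) hqd) fun e => hnp (e ▸ hq)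
  have haq : π a ^ q ≠ 1 := pow_ne_one_of_lt_orderOf hq.pos.ne' hlt
  have hd1 := dvd_of_commute hn (a := a ^ q) (b := b) (by rwa [map_pow]) hb (by rw [map_pow]; exact hc.pow_left q)
    (by rw [← Cn_pow hn haq]; exact hne)
  have hd2 := dvd_of_commute hn hb ha hc.symm hne.symm
  rw [map_pow, orderOf_pow_of_dvd hq.pos.ne' hqd] at hd1
  have h := Nat.le_of_dvd (Nat.div_pos hlt.le hq.pos) (hd2.trans hd1)
  exact absurd (Nat.div_lt_self (orderOf_pos (π a)) hq.one_lt) (not_lt.mpr h)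

omit hn in
/-- `x` has composite image. -/
abbrev Comp (x : G) : Prop := π x ≠ 1 ∧ ¬ (orderOf (π x)).Prime

variable {x : G} (hx : Comp x)
include hx

theorem Cn_eq_of_commute {y : G} (hy : π y ≠ 1) (hc : Commute (π x) (π y)) : Cn y = Cn x := by
  by_contra hne
  exact hx.2 (prime_of_commute hn hx.1 hy hc fun e => hne e.symm)

theorem Cn_eq_of_mem {y : G} (hy : π y ≠ 1) (hm : π y ∈ Ci x) : Cn y = Cn x :=
  Cn_eq_of_commute hn hx hy (commute_of_mem_Ci hm)

theorem mem_of_commute {k : G ⧸ Z} (hc : Commute (π x) k) : k ∈ Ci x := by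
  obtain ⟨y, rfl⟩ := QuotientGroup.mk'_surjective _ k
  by_cases hy : π y = 1
  · rw [hy]; exact one_mem _
  · refine mem_Ci.mpr ?_
    rw [← Cn_eq_of_commute hn hx hy hc]
    exact mem_Cn.mpr rfl

theorem comm_Ci {u v : G ⧸ Z} (hu : u ∈ Ci x) (hv : v ∈ Ci x) : u * v = v * u := by
  by_cases hu1 : u = 1
  · rw [hu1, one_mul, mul_one]
  obtain ⟨y, hy, rfl⟩ := hu
  have hv' := hv
  obtain ⟨y', hy', rfl⟩ := hv
  rw [← map_mul, ← map_mul]
  refine congrArg _ (mem_Cn.mp ?_)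
  rw [Cn_eq_of_mem hn hx hu1 (Subgroup.mem_map_of_mem _ hy)]
  exact hy'

theorem mem_normalizer_of_meet {u k : G ⧸ Z} (hu : u ∈ Ci x) (hu1 : u ≠ 1) (hk : k * u * k⁻¹ ∈ Ci x) :
    k ∈ Subgroup.normalizer (Ci x : Set (G ⧸ Z)) := by
  obtain ⟨g, rfl⟩ := QuotientGroup.mk'_surjective _ k
  obtain ⟨y, hy, rfl⟩ := hu
  have hle : (Ci x).map (MulAut.conj (π g)).toMonoidHom ≤ Ci x := by
    rintro _ ⟨_, ⟨y', hy', rfl⟩, rfl⟩
    simp only [MulEquiv.coe_toMonoidHom, MulAut.conj_apply, ← map_inv, ← map_mul]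
    refine mem_Ci.mpr ?_
    have h1 : Cn y = Cn x := Cn_eq_of_mem hn hx hu1 (Subgroup.mem_map_of_mem _ hy)
    have h2 : Cn (g * y * g⁻¹) = Cn x := by
      refine Cn_eq_of_mem hn hx ?_ (by rw [map_mul, map_mul, map_inv]; exact hk)
      rw [map_mul, map_mul, map_inv]
      exact fun e => hu1 (conj_eq_one_iff.mp e)
    have e := mem_Cn.mp (h1 ▸ hy' : y' ∈ Cn y)
    rw [← h2, mem_Cn]
    calc g * y * g⁻¹ * (g * y' * g⁻¹) = g * (y * y') * g⁻¹ := by group
      _ = g * (y' * y) * g⁻¹ := by rw [e]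
      _ = g * y' * g⁻¹ * (g * y * g⁻¹) := by group
  have heq := Subgroup.eq_of_le_of_card_ge hle (Subgroup.card_map_of_injective (MulAut.conj (π g)).injective).ge
  rw [Subgroup.mem_normalizer_iff]
  intro v
  constructor
  · intro hv; exact hle ⟨v, hv, rfl⟩
  · intro hv
    rw [← heq] at hv
    obtain ⟨w, hw, hwv⟩ := hv
    exact (MulAut.conj (π g)).injective hwv ▸ hw

theorem pow_eq_one_of_outside {k : G ⧸ Z} {e : ℕ} (hk : k ∉ Ci x) (he : k ^ e ∈ Ci x) : k ^ e = 1 := by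
  by_contra h1
  obtain ⟨g, rfl⟩ := QuotientGroup.mk'_surjective _ k
  refine hk (mem_Ci.mpr ?_)
  rw [← Cn_eq_of_mem hn hx (y := g ^ e) (by rwa [map_pow]) (by rwa [map_pow]), ← Cn_pow hn h1]
  exact mem_Cn.mpr rfl

theorem dvd_card {r : ℕ} [Fact r.Prime] (hr : r ∣ Nat.card (G ⧸ Z)) : r ∣ Nat.card (Ci x) := by
  obtain ⟨k, hk⟩ := exists_prime_orderOf_dvd_card' r hr
  obtain ⟨g, rfl⟩ := QuotientGroup.mk'_surjective _ k
  have hg : π g ≠ 1 := fun e => (Fact.out : r.Prime).one_lt.ne' (by rw [← hk, e, orderOf_one])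
  rw [card_Ci hn hx.1 hg, ← hk]
  exact Subgroup.orderOf_dvd_natCard _ (mem_Ci.mpr (mem_Cn.mpr rfl))

theorem order_outside {r : ℕ} [hr : Fact r.Prime] {k : G ⧸ Z} (hk : k ∉ Ci x)
    (hN : k ∈ Subgroup.normalizer (Ci x : Set (G ⧸ Z))) (hp : ∃ e, orderOf k = r ^ e) : k ^ r = 1 := by
  obtain ⟨e, he⟩ := hp
  by_contra hkr
  have hk1 : k ≠ 1 := fun h => hkr (by rw [h, one_pow])
  have he2 : ¬ (orderOf k).Prime := fun h => by
    rw [he] at h
    have h1 := h.eq_one_of_pow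
    rw [h1, pow_one] at he
    exact hkr (by rw [← he, pow_orderOf_eq_one])
  let φ := (Subgroup.normalizerMonoidHom (Ci x))
  let P : Subgroup (Subgroup.normalizer (Ci x : Set (G ⧸ Z))) := Subgroup.zpowers ⟨k, hN⟩
  have hP : IsPGroup r P := IsPGroup.of_card (n := e) (by rw [Nat.card_zpowers, ← Subgroup.orderOf_coe, he])
  letI : MulAction P (Ci x) := MulAction.compHom _ (φ.comp P.subtype)
  haveI := hr
  obtain ⟨z, hz, hz1⟩ := hP.exists_fixed_point_of_prime_dvd_card_of_fixed_point (Ci x)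
    (dvd_card hn hx (dvd_trans (by
      rw [he]; exact dvd_pow_self r fun e0 => hk1 (orderOf_eq_one_iff.mp (by rw [he, e0, pow_zero])))
      (orderOf_dvd_natCard k)))
    (a := (1 : Ci x)) (fun q => map_one (φ (q : Subgroup.normalizer (Ci x : Set (G ⧸ Z)))))
  have hfix : k * (z : G ⧸ Z) * k⁻¹ = z := congrArg Subtype.val (hz ⟨⟨k, hN⟩, Subgroup.mem_zpowers _⟩)
  obtain ⟨g, rfl⟩ := QuotientGroup.mk'_surjective _ k
  obtain ⟨y, hy⟩ := QuotientGroup.mk'_surjective _ (z : G ⧸ Z)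
  have hz1' : π y ≠ 1 := fun h => hz1 (Subtype.ext (by rw [← hy, h]; rfl))
  have hcomm : Commute (π g) (π y) := by
    rw [hy]
    calc π g * (z : G ⧸ Z) = (π g * z * (π g)⁻¹) * π g := by group
      _ = z * π g := by rw [hfix]
  refine hk (mem_Ci.mpr ?_)
  rw [← Cn_eq_of_mem hn hx hz1' (by rw [hy]; exact z.2), Cn_eq_of_commute hn ⟨hk1, he2⟩ hz1' hcomm]
  exact mem_Cn.mpr rfl

theorem relIndex_dvd {r : ℕ} [hr : Fact r.Prime] (Q : Subgroup (G ⧸ Z)) (hQ : IsPGroup r Q)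
    (hN : Q ≤ Subgroup.normalizer (Ci x : Set (G ⧸ Z))) : (Ci x).relIndex Q ∣ r := by
  classical
  haveI hHn : ((Ci x).subgroupOf Q).Normal := ⟨fun u hu q => (Subgroup.mem_normalizer_iff.mp (hN q.2) _).mp hu⟩
  letI : CommGroup (Ci x) := { (inferInstance : Group (Ci x)) with mul_comm := fun u v => Subtype.ext (comm_Ci hn hx u.2 v.2) }
  let T := Q ⧸ (Ci x).subgroupOf Q
  show Nat.card T ∣ r
  obtain ⟨e, he⟩ := IsPGroup.iff_card.mp (hQ.to_quotient ((Ci x).subgroupOf Q))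
  rcases Nat.lt_or_ge e 2 with he2 | he2
  · rw [show Nat.card T = r ^ e from he]
    exact (pow_dvd_pow r (Nat.lt_succ_iff.mp he2)).trans (pow_one r).dvd
  exfalso
  haveI hTn : Nontrivial T := by
    rw [← Finite.one_lt_card_iff_nontrivial, show Nat.card T = r ^ e from he]
    exact Nat.one_lt_pow (by omega) hr.out.one_lt
  have hexp : ∀ t : T, t ^ r = 1 := by
    intro t
    obtain ⟨q, rfl⟩ := QuotientGroup.mk_surjective t
    rw [← QuotientGroup.mk_pow, QuotientGroup.eq_one_iff, Subgroup.mem_subgroupOf, Subgroup.coe_pow]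
    by_cases hq : (q : G ⧸ Z) ∈ Ci x
    · exact Subgroup.pow_mem _ hq r
    · obtain ⟨i, hi⟩ := IsPGroup.iff_orderOf.mp hQ q
      rw [order_outside hn hx hq (hN q.2) ⟨i, by rw [Subgroup.orderOf_coe]; exact hi⟩]
      exact one_mem _
  haveI := (hQ.to_quotient ((Ci x).subgroupOf Q)).center_nontrivial (G := T)
  obtain ⟨a, ha⟩ := exists_ne (1 : Subgroup.center T)
  have ha1 : (a : T) ≠ 1 := fun h => ha (Subtype.ext h)
  obtain ⟨b, hb⟩ : ∃ b : T, b ∉ Subgroup.zpowers (a : T) := by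
    by_contra hc
    push Not at hc
    have h1 := Nat.card_zpowers (a : T)
    rw [show Subgroup.zpowers (a : T) = ⊤ from eq_top_iff.mpr fun t _ => hc t, Subgroup.card_top,
      show Nat.card T = r ^ e from he, orderOf_eq_prime (hexp _) ha1] at h1
    have := Nat.pow_le_pow_right hr.out.pos he2
    rw [h1, sq] at this
    nlinarith [hr.out.two_le]
  have hb1 : b ≠ 1 := fun h => hb (h ▸ one_mem _)
  have hab : ∀ j : ℕ, (a : T) * b ^ j ≠ 1 := by
    intro j hj
    have h1 : (a : T) ∈ Subgroup.zpowers b := by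
      rw [eq_inv_of_mul_eq_one_left hj]; exact inv_mem (Subgroup.npow_mem_zpowers b j)
    refine hb (Subgroup.eq_of_le_of_card_ge (Subgroup.zpowers_le.mpr h1) ?_ ▸ Subgroup.mem_zpowers b)
    rw [Nat.card_zpowers, Nat.card_zpowers, orderOf_eq_prime (hexp _) ha1, orderOf_eq_prime (hexp _) hb1]
  obtain ⟨qa, hqa⟩ := QuotientGroup.mk_surjective (a : T)
  obtain ⟨qb, hqb⟩ := QuotientGroup.mk_surjective b
  let φ := (Subgroup.normalizerMonoidHom (Ci x)).comp (Subgroup.inclusion hN)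
  have hφ : ∀ (q : Q) (u : Ci x), ((φ q u : Ci x) : G ⧸ Z) = q * u * (q : G ⧸ Z)⁻¹ := fun _ _ => rfl
  have hnorm : ∀ q : Q, (q : T) ≠ 1 → ∀ u : Ci x, ∏ i ∈ Finset.range r, ((φ q) ^ i) u = 1 := by
    intro q hq u
    have hqU : (q : G ⧸ Z) ∉ Ci x := fun h => hq ((QuotientGroup.eq_one_iff q).mpr h)
    have hid : ∀ j : ℕ, ((u : G ⧸ Z) * q) ^ j = ((∏ i ∈ Finset.range j, ((φ q) ^ i) u : Ci x) : G ⧸ Z) * (q : G ⧸ Z) ^ j := by
      intro j
      induction j with
      | zero => simp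
      | succ j ih =>
        rw [pow_succ, ih, Finset.prod_range_succ, Subgroup.coe_mul, pow_succ, ← map_pow φ, hφ, Subgroup.coe_pow]
        group
    obtain ⟨i, hi⟩ := IsPGroup.iff_orderOf.mp hQ q
    have hr' := hid r
    rw [order_outside hn hx hqU (hN q.2) ⟨i, by rw [Subgroup.orderOf_coe]; exact hi⟩, mul_one] at hr'
    rw [pow_eq_one_of_outside hn hx (fun h => hqU (by
      have := mul_mem (inv_mem u.2) h
      rwa [inv_mul_cancel_left] at this)) (by rw [hr']; exact SetLike.coe_mem _)] at hr'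
    exact Subtype.ext hr'.symm
  have hcomm : Commute (φ qa) (φ qb) := by
    have hw : φ (qa * qb * (qb * qa)⁻¹) = 1 := by
      refine MulEquiv.ext fun u => Subtype.ext ?_
      have hm : ((qa * qb * (qb * qa)⁻¹ : Q) : G ⧸ Z) ∈ Ci x := by
        refine Subgroup.mem_subgroupOf.mp ((QuotientGroup.eq_one_iff (N := (Ci x).subgroupOf Q) _).mp ?_)
        rw [QuotientGroup.mk_mul, QuotientGroup.mk_inv, QuotientGroup.mk_mul, QuotientGroup.mk_mul, hqa, hqb,
          Subgroup.mem_center_iff.mp a.2 b, mul_inv_cancel]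
      rw [hφ, comm_Ci hn hx hm u.2, mul_inv_cancel_right]; rfl
    rw [map_mul, map_inv, mul_inv_eq_one, map_mul, map_mul] at hw
    exact hw
  have hBr : φ qb ^ r = 1 := by
    obtain ⟨i, hi⟩ := IsPGroup.iff_orderOf.mp hQ qb
    have hqU : (qb : G ⧸ Z) ∉ Ci x := fun h => hb1 (by rw [← hqb]; exact (QuotientGroup.eq_one_iff qb).mpr h)
    rw [← map_pow, show qb ^ r = 1 from Subtype.ext (by
      rw [Subgroup.coe_pow]; exact order_outside hn hx hqU (hN qb.2) ⟨i, by rw [Subgroup.orderOf_coe]; exact hi⟩), map_one]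
  have hfin := pow_eq_one_of_norms hr.out (φ qa) (φ qb) hcomm hBr (hnorm qb (by rw [hqb]; exact hb1))
    (fun j => by
      have := hnorm (qa * qb ^ j) (by rw [QuotientGroup.mk_mul, QuotientGroup.mk_pow, hqa, hqb]; exact hab j)
      rwa [map_mul, map_pow] at this) ⟨π x, mem_of_commute hn hx (Commute.refl _)⟩
  exact hx.2 (by rw [orderOf_eq_prime (congrArg Subtype.val hfin) hx.1]; exact hr.out)

omit hx in
theorem meet_trivial {x y : G} (hx : Comp x) (hy : π y ∉ Ci x) : Ci x ⊓ Ci y = ⊥ := by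
  rw [Subgroup.eq_bot_iff_forall]
  intro k hk
  obtain ⟨hk1, hk2⟩ := Subgroup.mem_inf.mp hk
  obtain ⟨z, rfl⟩ := QuotientGroup.mk'_surjective _ k
  by_contra hz
  refine hy (mem_Ci.mpr ?_)
  rw [← Cn_eq_of_mem hn hx hz hk1]
  exact mem_Cn.mpr (mem_Cn.mp (mem_Ci.mp hk2)).symm

omit hx in
/-- `G/Z` is a group of prime exponent. -/
theorem key (hne : ∃ g : G, π g ≠ 1) (hn1 : 1 < n) : ∃ p : ℕ, p.Prime ∧ ∀ k : G ⧸ Z, k ^ p = 1 := by
  classical
  obtain ⟨g₀, hg₀⟩ := hne
  have hor : ∀ g : G, π g ≠ 1 → ∀ (t : ℕ), t.Prime → t ∣ Nat.card (Ci g) → (orderOf (π g)).Prime → t ≠ orderOf (π g) →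
      ∃ e : G, Comp e ∧ Cn e = Cn g := by
    intro g hg t ht hd hp hne
    haveI := Fact.mk ht
    obtain ⟨e, he⟩ := exists_prime_orderOf_dvd_card' t hd
    have hc : Commute (π g) (e : G ⧸ Z) := commute_of_mem_Ci e.2
    obtain ⟨y, hy⟩ := QuotientGroup.mk'_surjective _ (e : G ⧸ Z)
    have hord : orderOf (π (g * y)) = orderOf (π g) * t := by
      rw [map_mul, hy, hc.orderOf_mul_eq_mul_orderOf_of_coprime, Subgroup.orderOf_coe, he]
      rw [Subgroup.orderOf_coe, he]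
      exact (Nat.coprime_primes hp ht).mpr (Ne.symm hne)
    have hcomp : Comp (g * y) := by
      refine ⟨fun h => ?_, ?_⟩
      · rw [h, orderOf_one] at hord
        exact hp.one_lt.ne' (Nat.eq_one_of_mul_eq_one_right hord.symm)
      · rw [hord]; exact Nat.not_prime_mul hp.one_lt.ne' ht.one_lt.ne'
    have h1 : π g ^ t ≠ 1 := fun h => hne (((Nat.prime_dvd_prime_iff_eq hp ht).mp (orderOf_dvd_of_pow_eq_one h)).symm)
    have h2 : π (g * y) ^ t = π g ^ t := by
      rw [map_mul, hy, hc.mul_pow, show (e : G ⧸ Z) ^ t = 1 by rw [← he, ← Subgroup.coe_pow, pow_orderOf_eq_one]; rfl, mul_one]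
    refine ⟨g * y, hcomp, ?_⟩
    rw [Cn_pow hn (k := t) (by rw [h2]; exact h1), Cn_pow hn (k := t) h1]
    exact Cn_congr (by rw [map_pow, map_pow, h2])
  by_cases hall : ∀ g : G, π g ≠ 1 → (orderOf (π g)).Prime
  · refine ⟨orderOf (π g₀), hall g₀ hg₀, fun k => ?_⟩
    obtain ⟨g, rfl⟩ := QuotientGroup.mk'_surjective _ k
    by_cases hg : π g = 1
    · rw [hg, one_pow]
    have hd : orderOf (π g) ∣ Nat.card (Ci g₀) := by
      rw [card_Ci hn hg₀ hg]; exact Subgroup.orderOf_dvd_natCard _ (mem_Ci.mpr (mem_Cn.mpr rfl))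
    have he : orderOf (π g) = orderOf (π g₀) := by
      by_contra hne
      obtain ⟨e, ⟨he1, he2⟩, -⟩ := hor g₀ hg₀ _ (hall g hg) hd (hall g₀ hg₀) hne
      exact he2 (hall e he1)
    rw [← he, pow_orderOf_eq_one]
  push Not at hall
  obtain ⟨x, hx1, hx2⟩ := hall
  have hx : Comp x := ⟨hx1, hx2⟩
  exfalso
  have hUtop : ∀ g : G, π g ≠ 1 → Ci g ≠ ⊤ := fun g hg e => hn1.ne' (by rw [← index_Ci hn hg, e, Subgroup.index_top])
  obtain ⟨p, hp, hpd⟩ := Nat.exists_prime_and_dvd (n := Nat.card (G ⧸ Z)) (fun h => hx1 (by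
    haveI := (Nat.card_eq_one_iff_unique.mp h).1
    exact Subsingleton.elim _ _))
  haveI := Fact.mk hp
  by_cases hPG : IsPGroup p (G ⧸ Z)
  · haveI : Nontrivial (G ⧸ Z) := ⟨π x, 1, hx1⟩
    haveI := hPG.center_nontrivial
    obtain ⟨w, hw⟩ := exists_ne (1 : Subgroup.center (G ⧸ Z))
    have hw1 : (w : G ⧸ Z) ≠ 1 := fun h => hw (Subtype.ext h)
    have hwU : (w : G ⧸ Z) ∈ Ci x := mem_of_commute hn hx (Subgroup.mem_center_iff.mp w.2 (π x))
    have hNtop : Subgroup.normalizer (Ci x : Set (G ⧸ Z)) = ⊤ := eq_top_iff.mpr fun k _ =>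
      mem_normalizer_of_meet hn hx hwU hw1 (by rw [Subgroup.mem_center_iff.mp w.2 k, mul_inv_cancel_right]; exact hwU)
    haveI : (Ci x).Normal := Subgroup.normalizer_eq_top_iff.mp hNtop
    have hnp : n ∣ p := by
      rw [← index_Ci hn hx1, ← Subgroup.relIndex_top_right]
      exact relIndex_dvd hn hx ⊤ (hPG.of_equiv Subgroup.topEquiv.symm) (by rw [hNtop])
    obtain ⟨k, hk⟩ : ∃ k, k ∉ Ci x := by
      by_contra hc
      push Not at hc
      exact hUtop x hx1 (eq_top_iff.mpr fun k _ => hc k)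
    obtain ⟨y, rfl⟩ := QuotientGroup.mk'_surjective _ k
    have hy1 : π y ≠ 1 := fun h => hk (h ▸ one_mem _)
    have h1 : Nat.card (Ci y) ∣ p := by
      rw [← Subgroup.relIndex_bot_left, ← meet_trivial hn hx hk, Subgroup.inf_relIndex_right]
      exact ((Ci x).relIndex_dvd_index_of_normal _).trans ((index_Ci hn hx1).symm ▸ hnp)
    rw [← card_Ci hn hx1 hy1] at h1
    rcases (Nat.dvd_prime hp).mp ((Subgroup.orderOf_dvd_natCard _ (mem_Ci.mpr (mem_Cn.mpr rfl) : π x ∈ Ci x)).trans h1) with e | e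
    · exact hx1 (orderOf_eq_one_iff.mp e)
    · exact hx2 (e ▸ hp)
  obtain ⟨q, hq, hqp, hqd⟩ : ∃ q, q.Prime ∧ q ≠ p ∧ q ∣ Nat.card (G ⧸ Z) := by
    by_contra hc
    push Not at hc
    exact hPG (IsPGroup.of_card (Nat.eq_prime_pow_of_unique_prime_dvd Nat.card_pos.ne' (fun {t} ht htd => by_contra fun hne => hc t ht hne htd)))
  have hcomp : ∀ g : G, π g ≠ 1 → ∃ w : G, Comp w ∧ Cn w = Cn g := by
    intro g hg
    by_cases hgp : (orderOf (π g)).Prime
    · obtain ⟨t, ht, hne, hd⟩ : ∃ t, t.Prime ∧ t ≠ orderOf (π g) ∧ t ∣ Nat.card (G ⧸ Z) := by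
        by_cases e : p = orderOf (π g)
        · exact ⟨q, hq, e ▸ hqp, hqd⟩
        · exact ⟨p, hp, e, hpd⟩
      haveI := Fact.mk ht
      exact hor g hg t ht (by rw [card_Ci hn hg hx1]; exact dvd_card hn hx hd) hgp hne
    · exact ⟨g, ⟨hg, hgp⟩, rfl⟩
  have hnormal : ∀ w : G, Comp w → (Ci w).Normal := by
    intro w hw
    refine Subgroup.normalizer_eq_top_iff.mp (Subgroup.index_eq_one.mp (by_contra fun hne => ?_))
    obtain ⟨s, hs, hsd⟩ := Nat.exists_prime_and_dvd hne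
    haveI := Fact.mk hs
    have hsK : s ∣ Nat.card (G ⧸ Z) := hsd.trans (Subgroup.index_dvd_card _)
    obtain ⟨A⟩ : Nonempty (Sylow s (Ci w)) := inferInstance
    set A' := (A : Subgroup (Ci w)).map (Ci w).subtype with hA'
    have hA'c : Nat.card A' = s ^ (Nat.card (Ci w)).factorization s := by
      rw [hA', Subgroup.card_map_of_injective (Ci w).subtype_injective, A.card_eq_multiplicity]
    obtain ⟨Q, hAQ⟩ := (A.isPGroup'.map (Ci w).subtype).exists_le_sylow
    haveI : Nontrivial (Q : Subgroup (G ⧸ Z)) := (Q : Subgroup (G ⧸ Z)).nontrivial_iff_ne_bot.mpr (Q.ne_bot_of_dvd_card hsK)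
    haveI := Q.isPGroup'.center_nontrivial
    obtain ⟨c, hc⟩ := exists_ne (1 : Subgroup.center (Q : Subgroup (G ⧸ Z)))
    obtain ⟨y, hy⟩ := QuotientGroup.mk'_surjective _ ((c : (Q : Subgroup (G ⧸ Z))) : G ⧸ Z)
    have hy1 : π y ≠ 1 := fun h => hc (Subtype.ext (Subtype.ext (by rw [← hy, h]; rfl)))
    obtain ⟨w', hw', hwy⟩ := hcomp y hy1
    have hyU : π y ∈ Ci w' := mem_Ci.mpr (hwy ▸ mem_Cn.mpr rfl)
    have hQN : (Q : Subgroup (G ⧸ Z)) ≤ Subgroup.normalizer (Ci w' : Set (G ⧸ Z)) := fun k hk => by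
      refine mem_normalizer_of_meet hn hw' hyU hy1 ?_
      have hck : k * π y = π y * k := by rw [hy]; exact congrArg Subtype.val (Subgroup.mem_center_iff.mp c.2 ⟨k, hk⟩)
      rw [hck, mul_inv_cancel_right]; exact hyU
    have hrel := relIndex_dvd hn hw' (Q : Subgroup (G ⧸ Z)) Q.isPGroup' hQN
    have hI : Nat.card (Ci w' ⊓ (Q : Subgroup (G ⧸ Z)) : Subgroup (G ⧸ Z)) ∣ Nat.card A' := by
      obtain ⟨i, hi⟩ := IsPGroup.iff_card.mp (Q.isPGroup'.to_le (inf_le_right : Ci w' ⊓ (Q : Subgroup (G ⧸ Z)) ≤ _))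
      have h1 := Subgroup.card_dvd_of_le (inf_le_left : Ci w' ⊓ (Q : Subgroup (G ⧸ Z)) ≤ Ci w')
      rw [card_Ci hn hw'.1 hw.1, hi] at h1
      rw [hA'c, hi]
      exact pow_dvd_pow s ((hs.pow_dvd_iff_le_factorization Nat.card_pos.ne').mp h1)
    have hQc : Nat.card (Q : Subgroup (G ⧸ Z)) ∣ Nat.card A' * s := by
      have h1 := Subgroup.relIndex_mul_relIndex ⊥ (Ci w' ⊓ (Q : Subgroup (G ⧸ Z))) Q bot_le inf_le_right
      rw [Subgroup.relIndex_bot_left, Subgroup.relIndex_bot_left, Subgroup.inf_relIndex_right] at h1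
      rw [← h1]; exact Nat.mul_dvd_mul hI hrel
    have hidx : A'.relIndex (Q : Subgroup (G ⧸ Z)) ∣ s := by
      have h1 := Subgroup.relIndex_mul_relIndex ⊥ A' Q bot_le hAQ
      rw [Subgroup.relIndex_bot_left, Subgroup.relIndex_bot_left] at h1
      rw [← h1] at hQc
      exact Nat.dvd_of_mul_dvd_mul_left Nat.card_pos hQc
    haveI : (A'.subgroupOf (Q : Subgroup (G ⧸ Z))).Normal := by
      rcases (Nat.dvd_prime hs).mp hidx with h | h
      · rw [Subgroup.index_eq_one.mp h]; infer_instance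
      · refine Subgroup.normal_of_index_eq_minFac_card ?_
        obtain ⟨i, hi⟩ := IsPGroup.iff_card.mp Q.isPGroup'
        have hi0 : i ≠ 0 := by rintro rfl; exact Q.ne_bot_of_dvd_card hsK (Subgroup.eq_bot_of_card_eq _ (by simpa using hi))
        rw [hi, Nat.pow_minFac hi0, hs.minFac_eq]; exact h
    have hA1 : A' ≠ ⊥ := by
      rw [hA', Ne, Subgroup.map_eq_bot_iff_of_injective _ (Ci w).subtype_injective]
      exact A.ne_bot_of_dvd_card (dvd_card hn hw hsK)
    obtain ⟨u, hu⟩ := (Subgroup.ne_bot_iff_exists_ne_one.mp hA1)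
    have hle : (Q : Subgroup (G ⧸ Z)) ≤ Subgroup.normalizer (Ci w : Set (G ⧸ Z)) := fun k hk =>
      mem_normalizer_of_meet hn hw (Subgroup.map_subtype_le _ u.2) (fun h => hu (Subtype.ext h))
        (Subgroup.map_subtype_le _ (‹(A'.subgroupOf (Q : Subgroup (G ⧸ Z))).Normal›.conj_mem ⟨u, hAQ u.2⟩ u.2 ⟨k, hk⟩))
    exact Q.not_dvd_index (hsd.trans (Subgroup.index_dvd_of_le hle))
  obtain ⟨k, hk⟩ : ∃ k, k ∉ Ci x := by
    by_contra hc
    push Not at hc
    exact hUtop x hx1 (eq_top_iff.mpr fun k _ => hc k)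
  obtain ⟨y, rfl⟩ := QuotientGroup.mk'_surjective _ k
  have hy1 : π y ≠ 1 := fun h => hk (h ▸ one_mem _)
  obtain ⟨w, hw, hwy⟩ := hcomp y hy1
  have hd : Disjoint (Ci x) (Ci w) := by
    rw [disjoint_iff, show Ci w = Ci y from congrArg (Subgroup.map (QuotientGroup.mk' (Subgroup.center G))) hwy]; exact meet_trivial hn hx hk
  haveI := hnormal x hx
  haveI := hnormal w hw
  exact hk (mem_of_commute hn hx (Subgroup.commute_of_normal_of_disjoint _ _ inferInstance inferInstance hd (π x) (π y)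
    (mem_Ci.mpr (mem_Cn.mpr rfl)) (mem_Ci.mpr (hwy ▸ mem_Cn.mpr rfl))))

end Centralizers


/-- Let G be a finite group whose conjugacy classes have exactly two sizes, 1 and n > 1. Then n is a power of a prime p and G is the direct product of a p-group and an abelian group of order prime to p: its Sylow p-subgroup P is normal with an abelian normal complement centralizing it; moreover P has an abelian normal subgroup A with P/A of exponent dividing p. -/
theorem result {G : Type*} [Group G] [Finite G] (n : ℕ) (hn : 1 < n)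
    (h : ∀ x : G, (Subgroup.centralizer ({x} : Set G)).index = 1 ∨ (Subgroup.centralizer ({x} : Set G)).index = n) (hex : ∃ x : G, (Subgroup.centralizer ({x} : Set G)).index = n) :
    ∃ (p : ℕ) (_ : Fact p.Prime) (a : ℕ), n = p ^ a ∧ ∀ P : Sylow p G, (P : Subgroup G).Normal ∧
      (∃ N : Subgroup G, N.Normal ∧ N.IsComplement' (P : Subgroup G) ∧ IsMulCommutative N ∧
        ∀ x ∈ N, ∀ y ∈ (P : Subgroup G), x * y = y * x) ∧
      ∃ A : Subgroup (P : Subgroup G), A.Normal ∧ IsMulCommutative A ∧ ∀ y : (P : Subgroup G), y ^ p ∈ A := by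
  classical
  obtain ⟨g, hg⟩ := hex
  have hIso : Iso G n := fun x hx => (h x).resolve_left fun e => hx (Subgroup.mem_center_iff.mpr fun y => by
    have hy : y ∈ Subgroup.centralizer ({x} : Set G) := by rw [Subgroup.index_eq_one.mp e]; trivial
    exact ((Subgroup.mem_centralizer_iff.mp hy) x rfl).symm)
  have hg1 : QuotientGroup.mk' (Subgroup.center G) g ≠ 1 := pi_ne.mpr fun hgc => by
    rw [Subgroup.centralizer_eq_top_iff_subset.mpr (by simpa using hgc), Subgroup.index_top] at hg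
    omega
  obtain ⟨p, hp, hexp⟩ := key hIso ⟨g, hg1⟩ hn
  haveI := Fact.mk hp
  have hK : IsPGroup p (G ⧸ Subgroup.center G) := fun k => ⟨1, by rw [pow_one]; exact hexp k⟩
  obtain ⟨e, he⟩ := IsPGroup.iff_card.mp hK
  obtain ⟨a, -, ha⟩ := (Nat.dvd_prime_pow hp).mp (show n ∣ p ^ e by
    rw [← index_Ci hIso hg1, ← he]; exact Subgroup.index_dvd_card _)
  refine ⟨p, ‹_›, a, ha, fun P => ?_⟩
  haveI := hK.isNilpotent
  haveI : Group.IsNilpotent G := Group.of_quotient_center_nilpotent inferInstance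
  have hPn : (P : Subgroup G).Normal := Sylow.normal_of_normalizerCondition Group.normalizerCondition_of_isNilpotent P
  refine ⟨hPn, ?_, ?_⟩
  · haveI := hPn
    obtain ⟨C, hC⟩ := Subgroup.exists_left_complement'_of_coprime P.card_coprime_index
    have hCc : Nat.card C = (P : Subgroup G).index := hC.index_eq_card.symm
    have hCZ : ∀ c ∈ C, c ∈ Subgroup.center G := fun c hc => by
      refine (QuotientGroup.eq_one_iff c).mp (orderOf_eq_one_iff.mp ?_)
      have h1 := orderOf_map_dvd (QuotientGroup.mk' (Subgroup.center G)) c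
      rcases (Nat.dvd_prime hp).mp (orderOf_dvd_of_pow_eq_one (hexp (QuotientGroup.mk' (Subgroup.center G) c))) with h2 | h2
      · exact h2
      · exact absurd (hCc ▸ (h2 ▸ h1).trans (Subgroup.orderOf_dvd_natCard C hc)) P.not_dvd_index
    refine ⟨C, ⟨fun c hc y => ?_⟩, hC, ⟨⟨fun c d => Subtype.ext ((Subgroup.mem_center_iff.mp (hCZ d d.2)) c)⟩⟩,
      fun c hc y _ => ((Subgroup.mem_center_iff.mp (hCZ c hc)) y).symm⟩
    rwa [Subgroup.mem_center_iff.mp (hCZ c hc) y, mul_inv_cancel_right]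
  · refine ⟨(Subgroup.center G).subgroupOf (P : Subgroup G), inferInstance,
      ⟨⟨fun c d => Subtype.ext (Subtype.ext (Subgroup.mem_center_iff.mp d.2 c.1))⟩⟩, fun y => ?_⟩
    rw [Subgroup.mem_subgroupOf, Subgroup.coe_pow, ← QuotientGroup.eq_one_iff, QuotientGroup.mk_pow]
    exact hexp _

end Cfsg.Agent.S4134
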