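import Cfsg.Statements.S4139
import Cfsg.Agent.Lib.GroupB.FrobBasic
import Mathlib.GroupTheory.Sylow
import Mathlib.GroupTheory.GroupAction.ConjAct
import Mathlib.GroupTheory.SchurZassenhaus
import Mathlib.GroupTheory.Nilpotent

set_option autoImplicit false
open Cfsg

namespace Cfsg.Agent.S4139
universe u v

noncomputable abbrev idx {G : Type u} [Group G] (x : G) : ℕ := (Subgroup.centralizer ({x} : Set G)).index

section General
variable {G : Type u} [Group G] [Finite G]

theorem card_carrier (x : G) : Nat.card (ConjClasses.mk x).carrier = idx x := by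
  have h : MulAction.stabilizer (ConjAct G) x = (Subgroup.centralizer ({x} : Set G)).map (ConjAct.toConjAct (G := G)).toMonoidHom := by
    ext g
    simp only [MulAction.mem_stabilizer_iff, Subgroup.mem_map, Subgroup.mem_centralizer_iff, Set.mem_singleton_iff, forall_eq,
      MulEquiv.coe_toMonoidHom, ConjAct.smul_def]
    constructor
    · intro hg
      exact ⟨ConjAct.ofConjAct g, (mul_inv_eq_iff_eq_mul.mp hg).symm, rfl⟩
    · rintro ⟨y, hy, rfl⟩
      rw [ConjAct.ofConjAct_toConjAct, ← hy, mul_inv_cancel_right]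
  rw [← ConjAct.orbit_eq_carrier_conjClasses, Nat.card_coe_set_eq, ← MulAction.index_stabilizer, h]
  exact Subgroup.index_map_of_bijective (MulEquiv.bijective (ConjAct.toConjAct (G := G))) _

theorem mul_mem_S {x z : G} (hz : z ∈ Subgroup.center G) : idx (x * z) = idx x := by
  refine congrArg Subgroup.index ?_
  ext y
  have e := Subgroup.mem_center_iff.mp hz y
  simp only [Subgroup.mem_centralizer_iff, Set.mem_singleton_iff, forall_eq]
  constructor <;> intro h
  · refine mul_right_cancel (b := z) ?_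
    calc x * y * z = x * z * y := by rw [mul_assoc, e, ← mul_assoc]
      _ = y * x * z := by rw [h, ← mul_assoc]
  · calc x * z * y = x * y * z := by rw [mul_assoc, ← e, ← mul_assoc]
      _ = y * (x * z) := by rw [h, mul_assoc]

theorem card_of_invariant (N : Subgroup G) (S : Set G) (hS : ∀ x ∈ S, ∀ z ∈ N, x * z ∈ S) :
    Nat.card S = Nat.card N * Nat.card ((QuotientGroup.mk : G → G ⧸ N) '' S) := by
  rw [← Nat.card_prod, ← Nat.card_congr (QuotientGroup.preimageMkEquivSubgroupProdSet N _)]
  refine Nat.card_congr (Equiv.setCongr (Set.ext fun x => ⟨fun h => ⟨x, h, rfl⟩, fun ⟨y, hy, hyx⟩ => ?_⟩))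
  have := hS y hy _ (QuotientGroup.eq.mp hyx)
  rwa [mul_inv_cancel_left] at this

end General

/-- Equal class-size multisets: equal element counts for every condition on the class size. -/
theorem card_eq_of_sizes {G : Type u} {H : Type v} [Group G] [Finite G] [Group H] [Finite H]
    (h : ∀ k : ℕ, Nat.card {C : ConjClasses G // Nat.card C.carrier = k} = Nat.card {C : ConjClasses H // Nat.card C.carrier = k})
    (φ : ℕ → Prop) : Nat.card {x : G // φ (idx x)} = Nat.card {y : H // φ (idx y)} := by
  classical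
  haveI := Fintype.ofFinite (ConjClasses G)
  haveI := Fintype.ofFinite (ConjClasses H)
  let e : ConjClasses G ≃ ConjClasses H := Equiv.ofFiberEquiv (f := fun C : ConjClasses G => Nat.card C.carrier)
    (g := fun C : ConjClasses H => Nat.card C.carrier) fun k => Classical.choice (Finite.card_eq.mp (h k)) 
  have he : ∀ C, Nat.card (e C).carrier = Nat.card C.carrier := fun C => Equiv.ofFiberEquiv_map (f := fun C : ConjClasses G => Nat.card C.carrier) (g := fun C : ConjClasses H => Nat.card C.carrier) _ C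
  have hG : Nat.card {x : G // φ (idx x)} = ∑ C : ConjClasses G, if φ (Nat.card C.carrier) then Nat.card C.carrier else 0 := by
    rw [← Finset.sum_filter, ← Finset.sum_coe_sort, ← Nat.card_sigma]
    refine Nat.card_congr ⟨fun x => ⟨⟨ConjClasses.mk x.1, Finset.mem_filter.mpr ⟨Finset.mem_univ _, by rw [card_carrier]; exact x.2⟩⟩, ⟨x.1, ConjClasses.mem_carrier_mk⟩⟩,
      fun s => ⟨s.2.1, ?_⟩, fun x => rfl, fun s => ?_⟩
    · have h2 := (Finset.mem_filter.mp s.1.2).2
      rwa [← ConjClasses.mem_carrier_iff_mk_eq.mp s.2.2, card_carrier] at h2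
    · obtain ⟨⟨C, hC⟩, ⟨x, hx⟩⟩ := s
      obtain rfl := ConjClasses.mem_carrier_iff_mk_eq.mp hx
      rfl
  have hH : Nat.card {x : H // φ (idx x)} = ∑ C : ConjClasses H, if φ (Nat.card C.carrier) then Nat.card C.carrier else 0 := by
    rw [← Finset.sum_filter, ← Finset.sum_coe_sort, ← Nat.card_sigma]
    refine Nat.card_congr ⟨fun x => ⟨⟨ConjClasses.mk x.1, Finset.mem_filter.mpr ⟨Finset.mem_univ _, by rw [card_carrier]; exact x.2⟩⟩, ⟨x.1, ConjClasses.mem_carrier_mk⟩⟩,
      fun s => ⟨s.2.1, ?_⟩, fun x => rfl, fun s => ?_⟩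
    · have h2 := (Finset.mem_filter.mp s.1.2).2
      rwa [← ConjClasses.mem_carrier_iff_mk_eq.mp s.2.2, card_carrier] at h2
    · obtain ⟨⟨C, hC⟩, ⟨x, hx⟩⟩ := s
      obtain rfl := ConjClasses.mem_carrier_iff_mk_eq.mp hx
      rfl
  rw [hG, hH]
  exact Fintype.sum_equiv e _ _ fun C => by rw [he]

section Nilpotent
variable {H : Type v} [Group H] [Finite H] [Group.IsNilpotent H] (p : ℕ) [hp : Fact p.Prime]

theorem ordProj_unique {a b n : ℕ} (ha : ∃ i, a = p ^ i) (hb : ¬ p ∣ b) (hn : a * b = n) :
    a = p ^ n.factorization p ∧ b = n / p ^ n.factorization p := by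
  obtain ⟨i, rfl⟩ := ha
  subst hn
  have hb0 : b ≠ 0 := fun e => hb (e ▸ dvd_zero p)
  have h : (p ^ i * b).factorization p = i := by
    rw [Nat.factorization_mul (pow_ne_zero _ hp.out.ne_zero) hb0, Finsupp.add_apply, hp.out.factorization_pow,
      Finsupp.single_eq_same, Nat.factorization_eq_zero_of_not_dvd hb, add_zero]
  rw [h]
  exact ⟨rfl, (Nat.mul_div_cancel_left _ (pow_pos hp.out.pos _)).symm⟩

theorem split : ∃ (P : Sylow p H) (K : Subgroup H),
    (∀ L : Subgroup H, Nat.card (L ⊓ (P : Subgroup H) : Subgroup H) = p ^ (Nat.card L).factorization p ∧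
      Nat.card (L ⊓ K : Subgroup H) = Nat.card L / p ^ (Nat.card L).factorization p) ∧
    (∀ x ∈ (P : Subgroup H), ∀ y ∈ K, x * y = y * x) ∧ (P : Subgroup H) ⊔ K = ⊤ ∧
    Nat.card K = Nat.card H / p ^ (Nat.card H).factorization p := by
  obtain ⟨P⟩ : Nonempty (Sylow p H) := inferInstance
  haveI hPn : (P : Subgroup H).Normal := Sylow.normal_of_normalizerCondition Group.normalizerCondition_of_isNilpotent P
  have hall : ∀ (q : ℕ) [Fact q.Prime] (Q : Sylow q H), (Q : Subgroup H).Normal := fun q _ Q =>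
    Sylow.normal_of_normalizerCondition Group.normalizerCondition_of_isNilpotent Q
  obtain ⟨K, hK⟩ := Subgroup.exists_left_complement'_of_coprime P.card_coprime_index
  have hKc : Nat.card K = (P : Subgroup H).index := hK.index_eq_card.symm
  haveI hKn : K.Normal := by
    -- a complement of a normal Sylow subgroup contains every other Sylow subgroup
    refine ⟨fun y hy g => ?_⟩
    have hcard : ∀ k ∈ K, ¬ p ∣ orderOf k := fun k hk hd => P.not_dvd_index (hKc ▸ hd.trans (Subgroup.orderOf_dvd_natCard K hk))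
    have h2 : ¬ p ∣ orderOf (g * y * g⁻¹) := by
      rw [show g * y * g⁻¹ = MulAut.conj g y from rfl, MulEquiv.orderOf_eq]; exact hcard y hy
    obtain ⟨⟨k, u⟩, hku⟩ := hK.2 (g * y * g⁻¹)
    have hc : Commute (k : H) (u : H) := by
      have hcop : (orderOf (k : H)).Coprime (orderOf (u : H)) := by
        obtain ⟨i, hi⟩ := IsPGroup.iff_orderOf.mp P.isPGroup' u
        rw [← Subgroup.orderOf_coe] at hi
        rw [hi]
        exact (Nat.Coprime.pow_right _ ((Nat.coprime_comm.mp ((Nat.Prime.coprime_iff_not_dvd hp.out).mpr (hcard k k.2)))))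
      exact CfsgLib.GroupB.FrobBasic.commute_of_coprime hcop
    have hu : (u : H) = 1 := by
      obtain ⟨i, hi⟩ := IsPGroup.iff_orderOf.mp P.isPGroup' u
      rw [← Subgroup.orderOf_coe] at hi
      rcases Nat.eq_zero_or_pos i with h | h
      · rw [← orderOf_eq_one_iff, hi, h, pow_zero]
      · exfalso
        apply h2
        rw [← hku]
        show p ∣ orderOf ((k : H) * u)
        rw [hc.orderOf_mul_eq_mul_orderOf_of_coprime (by
          rw [hi]
          exact (Nat.Coprime.pow_right _ ((Nat.coprime_comm.mp ((Nat.Prime.coprime_iff_not_dvd hp.out).mpr (hcard k k.2)))))), hi]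
        exact dvd_mul_of_dvd_right (dvd_pow_self p h.ne') _
    rw [← hku]
    show (k : H) * u ∈ K
    rw [hu, mul_one]; exact k.2
  refine ⟨P, K, fun L => ?_, fun x hx y hy => (Subgroup.commute_of_normal_of_disjoint _ _ inferInstance inferInstance hK.disjoint.symm x y hx hy),
    by rw [sup_comm]; exact hK.sup_eq_top, by rw [hKc, P.card_eq_multiplicity.symm, ← (P : Subgroup H).index_mul_card, Nat.mul_div_cancel _ Nat.card_pos]⟩
  obtain ⟨i, hi⟩ := IsPGroup.iff_card.mp (P.isPGroup'.to_le (inf_le_right : L ⊓ (P : Subgroup H) ≤ _))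
  have h1 := Subgroup.relIndex_mul_relIndex ⊥ (L ⊓ (P : Subgroup H)) L bot_le inf_le_left
  rw [Subgroup.relIndex_bot_left, Subgroup.relIndex_bot_left, Subgroup.inf_relIndex_left] at h1
  have hr : ¬ p ∣ (P : Subgroup H).relIndex L := fun h => P.not_dvd_index (h.trans (Subgroup.relIndex_dvd_index_of_normal _ _))
  obtain ⟨e1, e2⟩ := ordProj_unique p ⟨i, hi⟩ hr h1
  have h2 := Subgroup.relIndex_mul_relIndex ⊥ (L ⊓ K) L bot_le inf_le_left
  rw [Subgroup.relIndex_bot_left, Subgroup.relIndex_bot_left, Subgroup.inf_relIndex_left] at h2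
  have hKidx : K.index = Nat.card P := hK.symm.index_eq_card
  obtain ⟨j, hj⟩ := IsPGroup.iff_card.mp P.isPGroup'
  obtain ⟨m, -, hm⟩ := (Nat.dvd_prime_pow hp.out).mp (show K.relIndex L ∣ p ^ j by
    rw [← hj, ← hKidx]; exact Subgroup.relIndex_dvd_index_of_normal _ _)
  have hb : ¬ p ∣ Nat.card (L ⊓ K : Subgroup H) := fun h => P.not_dvd_index (hKc ▸ h.trans (Subgroup.card_dvd_of_le inf_le_right))
  exact ⟨e1, (ordProj_unique p ⟨m, hm⟩ hb (by rw [mul_comm]; exact h2)).2⟩

theorem counts :
    Nat.card {y : H // ¬ p ∣ idx y} = p ^ (Nat.card (Subgroup.center H)).factorization p * (Nat.card H / p ^ (Nat.card H).factorization p) ∧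
    Nat.card {y : H // ∃ a, idx y = p ^ a} = p ^ (Nat.card H).factorization p * (Nat.card (Subgroup.center H) / p ^ (Nat.card (Subgroup.center H)).factorization p) := by
  obtain ⟨P, K, hL, hcomm, htop, hKc⟩ := split (H := H) p
  have hZ : ∀ x, (∀ u ∈ (P : Subgroup H), u * x = x * u) → (∀ u ∈ K, u * x = x * u) → x ∈ Subgroup.center H := fun x h1 h2 =>
    Subgroup.mem_center_iff.mpr fun g => by
      have h : (P : Subgroup H) ⊔ K ≤ Subgroup.centralizer ({x} : Set H) :=
        sup_le (fun u hu => Subgroup.mem_centralizer_iff.mpr fun y hy => by rw [Set.mem_singleton_iff.mp hy, h1 u hu])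
          (fun u hu => Subgroup.mem_centralizer_iff.mpr fun y hy => by rw [Set.mem_singleton_iff.mp hy, h2 u hu])
      exact ((Subgroup.mem_centralizer_iff.mp (h (htop ▸ Subgroup.mem_top g))) x rfl).symm
  have hsplit : ∀ L : Subgroup H, Nat.card L = p ^ (Nat.card L).factorization p * (Nat.card L / p ^ (Nat.card L).factorization p) :=
    fun L => (Nat.mul_div_cancel' (Nat.ordProj_dvd _ p)).symm
  have hn0 : Nat.card H ≠ 0 := Nat.card_pos.ne'
  constructor
  · have hset : ∀ y : H, ¬ p ∣ idx y ↔ y ∈ Subgroup.centralizer ((P : Subgroup H) : Set H) := fun y => by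
      set C := Subgroup.centralizer ({y} : Set H)
      have hiff : y ∈ Subgroup.centralizer ((P : Subgroup H) : Set H) ↔ (P : Subgroup H) ≤ C := by
        simp only [C, SetLike.le_def, Subgroup.mem_centralizer_iff, Set.mem_singleton_iff, forall_eq, SetLike.mem_coe]
        exact ⟨fun h u hu => (h u hu).symm, fun h u hu => (h hu).symm⟩
      rw [hiff]
      constructor
      · intro h
        have hf : (Nat.card C).factorization p = (Nat.card H).factorization p := by
          rw [← C.index_mul_card, Nat.factorization_mul C.index_ne_zero_of_finite Nat.card_pos.ne', Finsupp.add_apply,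
            Nat.factorization_eq_zero_of_not_dvd h, zero_add]
        have h2 := (hL C).1
        rw [hf, ← P.card_eq_multiplicity] at h2
        exact inf_eq_right.mp (Subgroup.eq_of_le_of_card_ge inf_le_right h2.ge)
      · exact fun h hd => P.not_dvd_index (hd.trans (Subgroup.index_dvd_of_le h))
    rw [Nat.card_congr (Equiv.subtypeEquivRight hset)]
    set L := Subgroup.centralizer ((P : Subgroup H) : Set H)
    have hKL : K ≤ L := fun k hk => Subgroup.mem_centralizer_iff.mpr fun u hu => hcomm u hu k hk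
    have h1 : L ⊓ (P : Subgroup H) = Subgroup.center H ⊓ (P : Subgroup H) := by
      refine le_antisymm (fun x hx => ⟨hZ x (Subgroup.mem_centralizer_iff.mp hx.1) fun u hu => (hcomm x hx.2 u hu).symm, hx.2⟩)
        (inf_le_inf_right _ (Subgroup.center_le_centralizer _))
    refine Eq.trans (hsplit L) ?_
    rw [← (hL L).2, ← (hL L).1, h1, (hL _).1, inf_eq_right.mpr hKL, hKc]
  · have hset : ∀ y : H, (∃ a, idx y = p ^ a) ↔ y ∈ Subgroup.centralizer (K : Set H) := fun y => by
      set C := Subgroup.centralizer ({y} : Set H)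
      have hiff : y ∈ Subgroup.centralizer (K : Set H) ↔ K ≤ C := by
        simp only [C, SetLike.le_def, Subgroup.mem_centralizer_iff, Set.mem_singleton_iff, forall_eq, SetLike.mem_coe]
        exact ⟨fun h u hu => (h u hu).symm, fun h u hu => (h hu).symm⟩
      rw [hiff]
      constructor
      · rintro ⟨a, ha⟩
        have h2 := (hL C).2
        have hc : Nat.card C / p ^ (Nat.card C).factorization p = Nat.card H / p ^ (Nat.card H).factorization p := by
          rw [← C.index_mul_card, show C.index = p ^ a from ha, Nat.ordCompl_mul, hp.out.factorization_pow, Finsupp.single_eq_same, Nat.div_self (pow_pos hp.out.pos _), one_mul]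
        rw [hc, ← hKc] at h2
        exact inf_eq_right.mp (Subgroup.eq_of_le_of_card_ge inf_le_right h2.ge)
      · intro h
        obtain ⟨j, hj⟩ := IsPGroup.iff_card.mp P.isPGroup'
        have hKidx : K.index = p ^ j := by
          have h3 := K.index_mul_card
          rw [hKc] at h3
          rw [Nat.eq_of_mul_eq_mul_right (Nat.ordCompl_pos p hn0) (h3.trans (Nat.mul_div_cancel' (Nat.ordProj_dvd (Nat.card H) p)).symm),
            ← P.card_eq_multiplicity, hj]
        obtain ⟨a, -, ha⟩ := (Nat.dvd_prime_pow hp.out).mp (hKidx ▸ Subgroup.index_dvd_of_le h)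
        exact ⟨a, ha⟩
    rw [Nat.card_congr (Equiv.subtypeEquivRight hset)]
    set L := Subgroup.centralizer (K : Set H)
    have hPL : (P : Subgroup H) ≤ L := fun u hu => Subgroup.mem_centralizer_iff.mpr fun k hk => (hcomm u hu k hk).symm
    have h1 : L ⊓ K = Subgroup.center H ⊓ K := by
      refine le_antisymm (fun x hx => ⟨hZ x (fun u hu => hcomm u hu x hx.2) (Subgroup.mem_centralizer_iff.mp hx.1), hx.2⟩)
        (inf_le_inf_right _ (Subgroup.center_le_centralizer _))
    refine Eq.trans (hsplit L) ?_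
    rw [← (hL L).2, ← (hL L).1, inf_eq_right.mpr hPL, P.card_eq_multiplicity, h1, (hL _).2]

end Nilpotent

section Main
variable {G : Type u} [Group G] [Finite G]

theorem center_sylow {q : ℕ} [Fact q.Prime]
    (hS : Nat.card {x : G // ¬ q ∣ idx x} = q ^ (Nat.card (Subgroup.center G)).factorization q * (Nat.card G / q ^ (Nat.card G).factorization q))
    (Q : Sylow q G) : (Q : Subgroup G) ⊓ Subgroup.centralizer ((Q : Subgroup G) : Set G) ≤ Subgroup.center G := by
  classical
  have hq : q.Prime := Fact.out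
  set Zq := (Q : Subgroup G) ⊓ Subgroup.center G with hZq
  have hZqc : Zq ≤ Subgroup.center G := inf_le_right
  haveI : Zq.Normal := ⟨fun z hz g => by rw [Subgroup.mem_center_iff.mp hz.2 g, mul_inv_cancel_right]; exact hz⟩
  set C := Subgroup.centralizer ((Q : Subgroup G) : Set G) with hC
  have hZqcard : Nat.card Zq = q ^ (Nat.card (Subgroup.center G)).factorization q := by
    obtain ⟨A⟩ : Nonempty (Sylow q (Subgroup.center G)) := inferInstance
    have hAp := A.isPGroup'.map (Subgroup.center G).subtype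
    have hle : (A : Subgroup (Subgroup.center G)).map (Subgroup.center G).subtype ≤ (Q : Subgroup G) := by
      haveI : ((A : Subgroup (Subgroup.center G)).map (Subgroup.center G).subtype).Normal := ⟨fun z hz g => by
        rw [Subgroup.mem_center_iff.mp (Subgroup.map_subtype_le _ hz) g, mul_inv_cancel_right]; exact hz⟩
      have := Q.3 (IsPGroup.to_sup_of_normal_right Q.isPGroup' hAp) le_sup_left
      exact le_sup_right.trans this.le
    obtain ⟨i, hi⟩ := IsPGroup.iff_card.mp (Q.isPGroup'.to_le (inf_le_left : Zq ≤ _))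
    refine le_antisymm ?_ ?_
    · rw [hi]
      exact Nat.pow_le_pow_right hq.pos ((hq.pow_dvd_iff_le_factorization Nat.card_pos.ne').mp (hi ▸ Subgroup.card_dvd_of_le hZqc))
    · rw [← A.card_eq_multiplicity, ← Subgroup.card_map_of_injective (Subgroup.center G).subtype_injective]
      exact Nat.le_of_dvd Nat.card_pos <| Subgroup.card_dvd_of_le (le_inf hle (Subgroup.map_subtype_le _))
  let S : Set G := {x | ¬ q ∣ idx x}
  have hinv : ∀ x ∈ S, ∀ z ∈ Zq, x * z ∈ S := fun x hx z hz => by
    show ¬ q ∣ idx (x * z)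
    rw [mul_mem_S (hZqc hz)]; exact hx
  have hSc := card_of_invariant Zq S hinv
  rw [show Nat.card S = _ from hS, hZqcard] at hSc
  have himg := Nat.eq_of_mul_eq_mul_left (pow_pos hq.pos _) hSc
  -- the action of `Q` on the image
  let T : Set (G ⧸ Zq) := (QuotientGroup.mk : G → G ⧸ Zq) '' S
  have hconj : ∀ (y : G) (t : G ⧸ Zq), t ∈ T → (y : G ⧸ Zq) * t * (y : G ⧸ Zq)⁻¹ ∈ T := by
    rintro y _ ⟨x, hx, rfl⟩
    refine ⟨y * x * y⁻¹, ?_, by rw [QuotientGroup.mk_mul, QuotientGroup.mk_mul, QuotientGroup.mk_inv]⟩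
    show ¬ q ∣ idx (y * x * y⁻¹)
    rwa [← card_carrier, show ConjClasses.mk (y * x * y⁻¹) = ConjClasses.mk x from
      ConjClasses.mk_eq_mk_iff_isConj.mpr (isConj_iff.mpr ⟨y⁻¹, by group⟩), card_carrier]
  letI : MulAction (Q : Subgroup G) T :=
    { smul := fun y t => ⟨((y : G) : G ⧸ Zq) * t * ((y : G) : G ⧸ Zq)⁻¹, hconj _ _ t.2⟩
      one_smul := fun t => Subtype.ext (by
        show ((1 : G) : G ⧸ Zq) * t * ((1 : G) : G ⧸ Zq)⁻¹ = t
        simp)
      mul_smul := fun a b t => Subtype.ext (by
        show ((a * b : G) : G ⧸ Zq) * t * ((a * b : G) : G ⧸ Zq)⁻¹ = (a : G) * ((b : G) * (t : G ⧸ Zq) * ((b : G) : G ⧸ Zq)⁻¹) * ((a : G) : G ⧸ Zq)⁻¹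
        rw [QuotientGroup.mk_mul, mul_inv_rev]; group) }
  have hmod := Q.isPGroup'.card_modEq_card_fixedPoints T
  have hCS : ∀ c ∈ C, c ∈ S := fun c hc hd => by
    refine Q.not_dvd_index (hd.trans (Subgroup.index_dvd_of_le fun y hy => ?_))
    exact Subgroup.mem_centralizer_iff.mpr fun z hz => by rw [Set.mem_singleton_iff.mp hz]; exact (Subgroup.mem_centralizer_iff.mp hc y hy).symm
  have hfix : Nat.card (MulAction.fixedPoints (Q : Subgroup G) T) = Nat.card ((QuotientGroup.mk : G → G ⧸ Zq) '' (C : Set G)) := by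
    refine Nat.card_congr ⟨fun t => ⟨t.1.1, ?_⟩, fun t => ⟨⟨t.1, ?_⟩, ?_⟩, fun _ => rfl, fun _ => rfl⟩
    · obtain ⟨⟨_, x, hx, rfl⟩, ht⟩ := t
      refine ⟨x, Subgroup.mem_centralizer_iff.mpr fun y hy => by_contra fun hne => ?_, rfl⟩
      have h1 := congrArg Subtype.val (ht ⟨y, hy⟩)
      change (y : G ⧸ Zq) * (x : G ⧸ Zq) * (y : G ⧸ Zq)⁻¹ = (x : G ⧸ Zq) at h1
      rw [← QuotientGroup.mk_inv, ← QuotientGroup.mk_mul, ← QuotientGroup.mk_mul, QuotientGroup.eq] at h1
      set z := (y * x * y⁻¹)⁻¹ * x with hz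
      have hz1 : z ≠ 1 := fun e => hne (by
        calc y * x = (y * x * y⁻¹) * y := by group
          _ = x * y := by rw [inv_mul_eq_one.mp e])
      have hzc := Subgroup.mem_center_iff.mp (hZqc h1)
      -- the class of `x` is invariant under multiplication by `z`
      have hcl : ∀ c ∈ (ConjClasses.mk x).carrier, ∀ w ∈ Subgroup.zpowers z, c * w ∈ (ConjClasses.mk x).carrier := by
        have h1z : ∀ c ∈ (ConjClasses.mk x).carrier, c * z ∈ (ConjClasses.mk x).carrier := by
          intro c hc
          rw [ConjClasses.mem_carrier_iff_mk_eq, ConjClasses.mk_eq_mk_iff_isConj, isConj_iff] at hc ⊢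
          obtain ⟨g, hg⟩ := hc
          have hcy : c = g⁻¹ * x * g := by rw [← hg]; group
          refine ⟨y * g, ?_⟩
          calc y * g * (c * z) * (y * g)⁻¹ = y * x * (g * z) * g⁻¹ * y⁻¹ := by rw [hcy]; group
            _ = y * x * (z * g) * g⁻¹ * y⁻¹ := by rw [hzc g]
            _ = y * x * (z * y⁻¹) := by group
            _ = y * x * (y⁻¹ * z) := by rw [hzc y⁻¹]
            _ = x := by rw [hz]; group
        intro c hc w hw
        obtain ⟨k, rfl⟩ := Submonoid.mem_powers_iff _ _ |>.mp ((isOfFinOrder_of_finite z).mem_powers_iff_mem_zpowers.mpr hw)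
        induction k with
        | zero => simpa using hc
        | succ k ih => rw [pow_succ, ← mul_assoc]; exact h1z _ (ih (Subgroup.npow_mem_zpowers z k))
      apply hx
      rw [← card_carrier, card_of_invariant (Subgroup.zpowers z) _ hcl, Nat.card_zpowers]
      obtain ⟨i, hi⟩ := IsPGroup.iff_orderOf.mp Q.isPGroup' ⟨z, h1.1⟩
      rw [Subgroup.orderOf_mk] at hi
      rw [hi]
      exact dvd_mul_of_dvd_left (dvd_pow_self q fun e => hz1 (orderOf_eq_one_iff.mp (by rw [hi, e, pow_zero]))) _
    · obtain ⟨_, x, hx, rfl⟩ := t; exact ⟨x, hCS x hx, rfl⟩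
    · obtain ⟨_, x, hx, rfl⟩ := t
      intro y
      refine Subtype.ext ?_
      show ((y : G) : G ⧸ Zq) * (x : G ⧸ Zq) * ((y : G) : G ⧸ Zq)⁻¹ = (x : G ⧸ Zq)
      rw [← QuotientGroup.mk_inv, ← QuotientGroup.mk_mul, ← QuotientGroup.mk_mul, (Subgroup.mem_centralizer_iff.mp hx) y y.2, mul_inv_cancel_right]
  rw [hfix, show Nat.card T = _ from himg.symm] at hmod
  have hZqC : Zq ≤ C := hZqc.trans (Subgroup.center_le_centralizer _)
  have hCc := card_of_invariant Zq (C : Set G) fun x hx z hz => C.mul_mem hx (hZqC hz)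
  set m := Nat.card ((QuotientGroup.mk : G → G ⧸ Zq) '' (C : Set G))
  have hm : ¬ q ∣ m := fun hd => Nat.not_dvd_ordCompl hq Nat.card_pos.ne' ((Nat.modEq_zero_iff_dvd).mp (hmod.trans (Nat.modEq_zero_iff_dvd.mpr hd)))
  set ZQ := (Q : Subgroup G) ⊓ C
  obtain ⟨i, hi⟩ := IsPGroup.iff_card.mp (Q.isPGroup'.to_le (inf_le_left : ZQ ≤ _))
  have hd : Nat.card ZQ ∣ Nat.card Zq * m := hCc ▸ Subgroup.card_dvd_of_le (inf_le_right : ZQ ≤ C)
  rw [hi] at hd
  have hd2 := Nat.Coprime.dvd_of_dvd_mul_right (Nat.Coprime.pow_left _ ((Nat.Prime.coprime_iff_not_dvd hq).mpr hm)) hd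
  have heq : Zq = ZQ := Subgroup.eq_of_le_of_card_ge (le_inf inf_le_left hZqC) (Nat.le_of_dvd Nat.card_pos (hi ▸ hd2))
  exact heq ▸ hZqc

end Main


/-- Let G and H be finite groups such that for every natural number k, G and H have the same number of conjugacy classes of size k. If H is nilpotent then G is nilpotent. -/
theorem result {G H : Type*} [Group G] [Finite G] [Group H] [Finite H]
    (hH : Group.IsNilpotent H)
    (h : ∀ k : ℕ, Nat.card {C : ConjClasses G // Nat.card C.carrier = k} = Nat.card {C : ConjClasses H // Nat.card C.carrier = k}) :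
    Group.IsNilpotent G := by
  classical
  haveI := hH
  have hn : Nat.card G = Nat.card H := by
    have := card_eq_of_sizes h (fun _ => True)
    rwa [Nat.card_congr (Equiv.subtypeUnivEquiv fun _ => trivial), Nat.card_congr (Equiv.subtypeUnivEquiv fun _ => trivial)] at this
  have hz : Nat.card (Subgroup.center G) = Nat.card (Subgroup.center H) := by
    have hc : ∀ (X : Type _) [Group X] (x : X), idx x = 1 ↔ x ∈ Subgroup.center X := fun X _ x => by
      rw [idx, Subgroup.index_eq_one, Subgroup.centralizer_eq_top_iff_subset, Set.singleton_subset_iff, SetLike.mem_coe]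
    have := card_eq_of_sizes h (fun k => k = 1)
    rwa [Nat.card_congr (Equiv.subtypeEquivRight (hc G)), Nat.card_congr (Equiv.subtypeEquivRight fun y : H => by
      rw [idx, Subgroup.index_eq_one, Subgroup.centralizer_eq_top_iff_subset, Set.singleton_subset_iff, SetLike.mem_coe])] at this
  have hcenter : ∀ (q : ℕ) [Fact q.Prime] (Q : Sylow q G),
      (Q : Subgroup G) ⊓ Subgroup.centralizer ((Q : Subgroup G) : Set G) ≤ Subgroup.center G := fun q _ Q =>
    center_sylow (by rw [card_eq_of_sizes h (fun k => ¬ q ∣ k), (counts (H := H) q).1, hn, hz]) Q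
  set K := G ⧸ Subgroup.center G with hKdef
  refine Group.of_quotient_center_nilpotent (((Group.isNilpotent_of_finite_tfae (G := G ⧸ Subgroup.center G)).out 0 3).mpr ?_)
  intro p hpf P
  have hp : p.Prime := hpf.out
  set π := QuotientGroup.mk' (Subgroup.center G)
  set O := (P : Subgroup (G ⧸ Subgroup.center G)).normalCore with hO
  have hY : ∀ x : G, (∃ a, idx x = p ^ a) → π x ∈ O := by
    rintro x ⟨a, ha⟩
    -- the image is a p-element
    have hpel : ∃ i, orderOf (π x) = p ^ i := by
      refine ⟨(orderOf (π x)).primeFactorsList.length, Nat.eq_prime_pow_of_unique_prime_dvd (orderOf_pos _).ne' fun {q} hq hqd => by_contra fun hne => ?_⟩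
      haveI := Fact.mk hq
      have hqx : q ∣ orderOf x := hqd.trans (orderOf_map_dvd π x)
      obtain ⟨k, hk⟩ := hqx
      set t := orderOf x / q ^ (orderOf x).factorization q
      have hv : orderOf (x ^ t) = q ^ (orderOf x).factorization q := by
        rw [orderOf_pow, Nat.gcd_eq_right (Nat.div_dvd_of_dvd (Nat.ordProj_dvd _ q)), Nat.div_div_self (Nat.ordProj_dvd _ q) (orderOf_pos x).ne']
      have hle : Subgroup.centralizer ({x} : Set G) ≤ Subgroup.centralizer ({x ^ t} : Set G) := fun y hy => by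
        rw [Subgroup.mem_centralizer_iff] at hy ⊢
        intro z hz
        rw [Set.mem_singleton_iff.mp hz]
        exact ((show Commute x y from hy x rfl).pow_left t).eq
      have hidx : ¬ q ∣ (Subgroup.centralizer ({x ^ t} : Set G)).index := fun h => hne
        ((Nat.prime_dvd_prime_iff_eq hq hp).mp (hq.dvd_of_dvd_pow ((h.trans (Subgroup.index_dvd_of_le hle)).trans ha.dvd)))
      set C := Subgroup.centralizer ({x ^ t} : Set G)
      obtain ⟨A⟩ : Nonempty (Sylow q C) := inferInstance
      have hcard : Nat.card ((A : Subgroup C).map C.subtype) = q ^ (Nat.card G).factorization q := by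
        rw [Subgroup.card_map_of_injective C.subtype_injective, A.card_eq_multiplicity, ← C.index_mul_card,
          Nat.factorization_mul C.index_ne_zero_of_finite Nat.card_pos.ne', Finsupp.add_apply, Nat.factorization_eq_zero_of_not_dvd hidx, zero_add]
      let Q := Sylow.ofCard ((A : Subgroup C).map C.subtype) hcard
      have hQC : (Q : Subgroup G) ≤ C := Subgroup.map_subtype_le _
      have hxQ : x ^ t ∈ Subgroup.centralizer ((Q : Subgroup G) : Set G) :=
        Subgroup.mem_centralizer_iff.mpr fun y hy => (Subgroup.mem_centralizer_iff.mp (hQC hy) _ rfl).symm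
      have hxQ' : x ^ t ∈ (Q : Subgroup G) := by
        have hpg : IsPGroup q (Subgroup.zpowers (x ^ t)) := IsPGroup.of_card (by rw [Nat.card_zpowers]; exact hv)
        have := Q.3 (Q.isPGroup'.to_sup_of_normal_left' hpg (Subgroup.zpowers_le.mpr (Subgroup.centralizer_le_normalizer _ hxQ))) le_sup_left
        exact (le_sup_right.trans this.le) (Subgroup.mem_zpowers _)
      have hxz := hcenter q Q ⟨hxQ', hxQ⟩
      have h1 : orderOf (π x) ∣ t := orderOf_dvd_of_pow_eq_one (by
        rw [← map_pow]; exact (QuotientGroup.eq_one_iff _).mpr hxz)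
      exact Nat.not_dvd_ordCompl hq (orderOf_pos x).ne' (hqd.trans h1)
    set C := Subgroup.centralizer ({π x} : Set (G ⧸ Subgroup.center G))
    obtain ⟨b, -, hb⟩ := (Nat.dvd_prime_pow hp).mp (show C.index ∣ p ^ a by
      rw [← ha, ← C.index_comap_of_surjective (QuotientGroup.mk'_surjective _)]
      refine Subgroup.index_dvd_of_le fun y hy => ?_
      show π y ∈ C
      rw [Subgroup.mem_centralizer_iff] at hy ⊢
      intro z hz
      rw [Set.mem_singleton_iff.mp hz, ← map_mul, ← map_mul, hy x rfl])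
    have hxC : π x ∈ C := by rw [Subgroup.mem_centralizer_iff]; intro z hz; rw [Set.mem_singleton_iff.mp hz]
    obtain ⟨i, hi⟩ := hpel
    obtain ⟨A, hA⟩ := (IsPGroup.of_card (n := i) (by rw [Nat.card_zpowers, Subgroup.orderOf_mk, hi]) :
      IsPGroup p (Subgroup.zpowers (⟨π x, hxC⟩ : C))).exists_le_sylow
    obtain ⟨P0, hP0⟩ := (A.isPGroup'.map C.subtype).exists_le_sylow
    have hxP0 : π x ∈ (P0 : Subgroup (G ⧸ Subgroup.center G)) := hP0 ⟨⟨π x, hxC⟩, hA (Subgroup.mem_zpowers _), rfl⟩
    -- `P0` is transitive on the cosets of `C`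
    have hinter : Nat.card (C ⊓ (P0 : Subgroup (G ⧸ Subgroup.center G)) : Subgroup (G ⧸ Subgroup.center G)) = p ^ (Nat.card C).factorization p := by
      obtain ⟨j, hj⟩ := IsPGroup.iff_card.mp (P0.isPGroup'.to_le (inf_le_right : C ⊓ (P0 : Subgroup (G ⧸ Subgroup.center G)) ≤ _))
      refine le_antisymm ?_ ?_
      · rw [hj]; exact Nat.pow_le_pow_right hp.pos ((hp.pow_dvd_iff_le_factorization Nat.card_pos.ne').mp (hj ▸ Subgroup.card_dvd_of_le inf_le_left))
      · rw [← A.card_eq_multiplicity, ← Subgroup.card_map_of_injective C.subtype_injective]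
        exact Nat.le_of_dvd Nat.card_pos <| Subgroup.card_dvd_of_le (le_inf (Subgroup.map_subtype_le _) hP0)
    have hrel : C.relIndex (P0 : Subgroup (G ⧸ Subgroup.center G)) = C.index := by
      have h1 := Subgroup.relIndex_mul_relIndex ⊥ (C ⊓ (P0 : Subgroup (G ⧸ Subgroup.center G))) P0 bot_le inf_le_right
      rw [Subgroup.relIndex_bot_left, Subgroup.relIndex_bot_left, Subgroup.inf_relIndex_right, hinter, P0.card_eq_multiplicity,
        ← C.index_mul_card, Nat.factorization_mul C.index_ne_zero_of_finite Nat.card_pos.ne', Finsupp.add_apply, hb,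
        hp.factorization_pow, Finsupp.single_eq_same, pow_add, mul_comm] at h1
      rw [hb]; exact Nat.eq_of_mul_eq_mul_right (pow_pos hp.pos _) h1
    have htrans : ∀ g : G ⧸ Subgroup.center G, ∃ u ∈ (P0 : Subgroup (G ⧸ Subgroup.center G)), u⁻¹ * g ∈ C := by
      intro g
      let f : (P0 : Subgroup (G ⧸ Subgroup.center G)) ⧸ C.subgroupOf P0 → (G ⧸ Subgroup.center G) ⧸ C :=
        Quotient.map' Subtype.val fun a b hab => by
          rw [QuotientGroup.leftRel_apply] at hab ⊢
          exact hab
      have hf : Function.Injective f := fun a b => Quotient.inductionOn₂' a b fun a b hab => by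
        refine QuotientGroup.eq.mpr ?_
        simp only [f, Quotient.map'_mk''] at hab
        exact Subgroup.mem_subgroupOf.mpr (QuotientGroup.leftRel_apply.mp (Quotient.exact' hab))
      have hbij := hf.bijective_of_nat_card_le hrel.ge
      obtain ⟨q, hq⟩ := hbij.2 (g : (G ⧸ Subgroup.center G) ⧸ C)
      induction q using QuotientGroup.induction_on with
      | H u => exact ⟨u, u.2, QuotientGroup.eq.mp hq⟩
    have hncl : Subgroup.normalClosure {π x} ≤ (P0 : Subgroup (G ⧸ Subgroup.center G)) := by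
      refine (Subgroup.closure_le _).mpr fun y hy => ?_
      obtain ⟨w, hw, hconj⟩ := Group.mem_conjugatesOfSet_iff.mp hy
      rw [Set.mem_singleton_iff.mp hw] at hconj
      obtain ⟨g, rfl⟩ := isConj_iff.mp hconj
      obtain ⟨u, hu, huc⟩ := htrans g
      have e : π x * (u⁻¹ * g) = (u⁻¹ * g) * π x := (Subgroup.mem_centralizer_iff.mp huc) _ rfl
      rw [show g * π x * g⁻¹ = u * π x * u⁻¹ by
        calc g * π x * g⁻¹ = u * ((u⁻¹ * g) * π x) * g⁻¹ := by group
          _ = u * (π x * (u⁻¹ * g)) * g⁻¹ := by rw [e]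
          _ = u * π x * u⁻¹ := by group]
      exact mul_mem (mul_mem hu hxP0) (inv_mem hu)
    have hle : Subgroup.normalClosure {π x} ≤ (P : Subgroup (G ⧸ Subgroup.center G)) := by
      have := P.3 (IsPGroup.to_sup_of_normal_right P.isPGroup' (P0.isPGroup'.to_le hncl)) le_sup_left
      exact le_sup_right.trans this.le
    exact Subgroup.normal_le_normalCore.mpr hle (Subgroup.subset_normalClosure rfl)
  have hcardY := card_eq_of_sizes h (fun k => ∃ a, k = p ^ a)
  rw [(counts (H := H) p).2, ← hn, ← hz] at hcardY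
  have hYle : Nat.card {x : G // ∃ a, idx x = p ^ a} ≤ Nat.card (O.comap π) :=
    Nat.card_le_card_of_injective (fun x => ⟨x.1, hY x.1 x.2⟩) fun a b hab => Subtype.ext (congrArg (fun t : O.comap π => (t : G)) hab)
  have hcom : Nat.card (O.comap π) = Nat.card O * Nat.card (Subgroup.center G) := by
    refine Nat.eq_of_mul_eq_mul_left (Nat.pos_of_ne_zero O.index_ne_zero_of_finite) ?_
    rw [← mul_assoc, O.index_mul_card, ← (Subgroup.center G).card_eq_card_quotient_mul_card_subgroup, ← (O.comap π).index_mul_card,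
      O.index_comap_of_surjective (QuotientGroup.mk'_surjective _)]
  have hK : (Nat.card G).factorization p = (Nat.card (G ⧸ Subgroup.center G)).factorization p + (Nat.card (Subgroup.center G)).factorization p := by
    rw [(Subgroup.center G).card_eq_card_quotient_mul_card_subgroup, Nat.factorization_mul Nat.card_pos.ne' Nat.card_pos.ne', Finsupp.add_apply]
  rw [hcardY, hcom, hK, pow_add, mul_assoc, Nat.mul_div_cancel' (Nat.ordProj_dvd _ p)] at hYle
  have e : (P : Subgroup (G ⧸ Subgroup.center G)).normalCore = (P : Subgroup (G ⧸ Subgroup.center G)) :=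
    Subgroup.eq_of_le_of_card_ge (Subgroup.normalCore_le _) (by rw [P.card_eq_multiplicity]; exact Nat.le_of_mul_le_mul_right hYle Nat.card_pos)
  rw [← e]
  exact Subgroup.normalCore_normal _

end Cfsg.Agent.S4139
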