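import Cfsg.Statements.S4140
import Cfsg.Agent.S4134
import Cfsg.Agent.S4139
import Cfsg.Agent.S0081
import Cfsg.Agent.S0033
import Cfsg.Agent.Lib.UniqueOrderP
import Cfsg.Agent.Lib.Solvable.Basics
import Cfsg.Agent.Lib.Solvable.Frattini

set_option autoImplicit false
open Cfsg

namespace Cfsg.Agent.S4140
open CfsgLib CfsgLib.UniqueOrderP
open scoped commutatorElement

universe u

abbrev Cam {G : Type u} [Group G] (N : Subgroup G) : Prop := ∀ g : G, g ∉ N → ∀ n ∈ N, ∃ x : G, x * g * x⁻¹ = g * n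

/-- A group acting fixed-point-freely and coprimely on an abelian group has one subgroup of order `q`. -/
theorem uniq_of_fpf {S : Type u} [Group S] [Finite S] {V : Type u} [CommGroup V] [Finite V] [Nontrivial V] {q : ℕ} [hq : Fact q.Prime]
    (hS : IsPGroup q S) (φ : S →* MulAut V) (hV : ¬ q ∣ Nat.card V) (hfpf : ∀ s : S, s ≠ 1 → ∀ v, φ s v = v → v = 1) :
    Uniq q S := by
  classical
  have hnorm : ∀ e : S, e ≠ 1 → e ^ q = 1 → ∀ v, ∏ i ∈ Finset.range q, ((φ e) ^ i) v = 1 := by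
    intro e he heq v
    refine hfpf e he _ ?_
    rw [map_prod, Finset.prod_congr rfl fun i _ => show φ e (((φ e) ^ i) v) = ((φ e) ^ (i + 1)) v by rw [pow_succ']; rfl]
    have h1 := Finset.prod_range_succ' (fun i => ((φ e) ^ i) v) q
    rw [Finset.prod_range_succ, show (φ e) ^ q = 1 by rw [← map_pow, heq, map_one], pow_zero] at h1
    exact mul_right_cancel h1.symm
  intro x y hx hy
  haveI : Nontrivial S := ⟨x, 1, fun e => hq.out.ne_one (by rw [← hx, e, orderOf_one])⟩
  haveI := hS.center_nontrivial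
  obtain ⟨z, hz⟩ : ∃ z : Subgroup.center S, orderOf z = q := by
    obtain ⟨n, hn0, hn⟩ := (hS.to_subgroup (Subgroup.center S)).nontrivial_iff_card.mp inferInstance
    exact exists_prime_orderOf_dvd_card' q (hn ▸ dvd_pow_self q hn0.ne')
  rw [← Subgroup.orderOf_coe] at hz
  have key : ∀ y : S, orderOf y = q → y ∈ Subgroup.zpowers (z : S) := by
    intro y hy
    by_contra hmem
    have hy1 : y ≠ 1 := fun e => hq.out.ne_one (by rw [← hy, e, orderOf_one])
    have hzy : Commute (z : S) y := (Subgroup.mem_center_iff.mp z.2 y).symm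
    have hne : ∀ j : ℕ, (z : S) * y ^ j ≠ 1 := by
      intro j hj
      have h1 : (z : S) ∈ Subgroup.zpowers y := by
        rw [eq_inv_of_mul_eq_one_left hj]; exact inv_mem (Subgroup.npow_mem_zpowers y j)
      exact hmem (Subgroup.eq_of_le_of_card_ge (Subgroup.zpowers_le.mpr h1) (by rw [Nat.card_zpowers, Nat.card_zpowers, hy, hz]) ▸ Subgroup.mem_zpowers y)
    obtain ⟨v, hv⟩ := exists_ne (1 : V)
    have h := Cfsg.Agent.S4134.pow_eq_one_of_norms hq.out (φ z) (φ y) (hzy.map φ) (by rw [← map_pow, ← hy, pow_orderOf_eq_one, map_one])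
      (hnorm y hy1 (by rw [← hy, pow_orderOf_eq_one])) (fun j => by
        have := hnorm ((z : S) * y ^ j) (hne j) (by
          rw [(hzy.pow_right j).mul_pow, ← hz, pow_orderOf_eq_one, hz, one_mul, ← pow_mul, mul_comm, pow_mul, ← hy, pow_orderOf_eq_one, one_pow])
        rwa [map_mul, map_pow] at this) v
    exact hV ((orderOf_eq_prime h hv) ▸ orderOf_dvd_natCard v)
  have h1 := key x hx
  have h2 : Subgroup.zpowers x = Subgroup.zpowers (z : S) :=
    Subgroup.eq_of_le_of_card_ge (Subgroup.zpowers_le.mpr h1) (by rw [Nat.card_zpowers, Nat.card_zpowers, hx, hz])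
  rw [h2]; exact key y hy

section Camina
variable {G : Type u} [Group G] [Finite G] {N : Subgroup G} [N.Normal] (hcam : Cam N)
include hcam

omit [Finite G] [N.Normal] in
theorem order_eq {g n : G} (hg : g ∉ N) (hn : n ∈ N) : orderOf (g * n) = orderOf g := by
  obtain ⟨x, hx⟩ := hcam g hg n hn
  rw [← hx]; exact (MulAut.conj x).orderOf_eq g

omit [N.Normal] in
theorem eq_one_of_commute {q : ℕ} (hq : q.Prime) {g n : G} (hg : g ∉ N) (hgq : ∃ i, orderOf g = q ^ i) (hn : n ∈ N)
    (hc : g * n = n * g) (hnq : ¬ q ∣ orderOf n) : n = 1 := by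
  obtain ⟨i, hi⟩ := hgq
  have h := order_eq hcam hg hn
  rw [(show Commute g n from hc).orderOf_mul_eq_mul_orderOf_of_coprime (by
    rw [hi]; exact Nat.Coprime.pow_left _ ((Nat.Prime.coprime_iff_not_dvd hq).mpr hnq))] at h
  exact orderOf_eq_one_iff.mp ((mul_eq_left₀ (orderOf_pos g).ne').mp h)

theorem card_centralizer {g : G} (hg : g ∉ N) :
    Nat.card (Subgroup.centralizer ({g} : Set G)) = Nat.card (Subgroup.centralizer ({QuotientGroup.mk' N g} : Set (G ⧸ N))) := by
  set π := QuotientGroup.mk' N with hπ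
  set Cb := Subgroup.centralizer ({π g} : Set (G ⧸ N)) with hCb
  set C := Subgroup.centralizer ({g} : Set G) with hC
  set D := Cb.comap π with hD
  have hCD : C ≤ D := fun y hy => by
    show π y ∈ Cb
    rw [hCb, Subgroup.mem_centralizer_iff]
    intro z hz
    rw [Set.mem_singleton_iff.mp hz, ← map_mul, ← map_mul, Subgroup.mem_centralizer_iff.mp hy g rfl]
  have hval : ∀ y : D, g⁻¹ * ((y : G) * g * (y : G)⁻¹) ∈ N := by
    intro y
    have h := Subgroup.mem_centralizer_iff.mp (show π y ∈ Cb from y.2) (π g) rfl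
    rw [← QuotientGroup.eq_one_iff]
    show π (g⁻¹ * ((y : G) * g * (y : G)⁻¹)) = 1
    simp only [map_mul, map_inv]
    rw [← h]; group
  have hcongr : ∀ a b : D, (a : G)⁻¹ * b ∈ C ↔ (a : G) * g * (a : G)⁻¹ = (b : G) * g * (b : G)⁻¹ := by
    intro a b
    rw [hC, Subgroup.mem_centralizer_iff]
    simp only [Set.mem_singleton_iff, forall_eq]
    constructor
    · intro h
      calc (a : G) * g * (a : G)⁻¹ = (a : G) * (g * ((a : G)⁻¹ * b)) * (b : G)⁻¹ := by group
        _ = (a : G) * ((a : G)⁻¹ * b * g) * (b : G)⁻¹ := by rw [h]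
        _ = _ := by group
    · intro h
      calc g * ((a : G)⁻¹ * b) = (a : G)⁻¹ * ((a : G) * g * (a : G)⁻¹) * b := by group
        _ = (a : G)⁻¹ * ((b : G) * g * (b : G)⁻¹) * b := by rw [h]
        _ = _ := by group
  have hrel : C.relIndex D = Nat.card N := by
    refine Nat.card_congr (Equiv.ofBijective (fun c : D ⧸ C.subgroupOf D => Quotient.liftOn' c (fun y => (⟨_, hval y⟩ : N))
      (fun a b h => Subtype.ext (congrArg (g⁻¹ * ·) ((hcongr a b).mp (Subgroup.mem_subgroupOf.mp (QuotientGroup.leftRel_apply.mp h)))))) ⟨?_, ?_⟩)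
    · intro a b
      induction a using Quotient.inductionOn' with
      | h a => induction b using Quotient.inductionOn' with
        | h b => exact fun h => Quotient.sound' (QuotientGroup.leftRel_apply.mpr (Subgroup.mem_subgroupOf.mpr ((hcongr a b).mpr (mul_left_cancel (congrArg Subtype.val h)))))
    · rintro ⟨n, hn⟩
      obtain ⟨x, hx⟩ := hcam g hg n hn
      refine ⟨Quotient.mk'' ⟨x, ?_⟩, Subtype.ext ?_⟩
      · show π x ∈ Cb
        rw [hCb, Subgroup.mem_centralizer_iff]
        intro z hz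
        rw [Set.mem_singleton_iff.mp hz]
        have h := congrArg π hx
        rw [map_mul, map_mul, map_inv, map_mul, show π n = 1 from (QuotientGroup.eq_one_iff n).mpr hn, mul_one] at h
        exact (mul_inv_eq_iff_eq_mul.mp h).symm
      · show g⁻¹ * (x * g * x⁻¹) = n
        rw [hx, inv_mul_cancel_left]
  have h1 := Subgroup.relIndex_mul_relIndex ⊥ C D bot_le hCD
  rw [Subgroup.relIndex_bot_left, Subgroup.relIndex_bot_left, hrel] at h1
  have h2 : Nat.card D = Nat.card N * Nat.card Cb := by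
    refine Nat.eq_of_mul_eq_mul_left (Nat.pos_of_ne_zero Cb.index_ne_zero_of_finite) ?_
    rw [mul_comm (Nat.card N), ← mul_assoc, Cb.index_mul_card, ← N.card_eq_card_quotient_mul_card_subgroup, ← D.index_mul_card,
      hD, Cb.index_comap_of_surjective (QuotientGroup.mk'_surjective N)]
  rw [h2, mul_comm (Nat.card N)] at h1
  exact Nat.eq_of_mul_eq_mul_right Nat.card_pos h1

omit hcam in
theorem exists_rep {q : ℕ} [hq : Fact q.Prime] {u : G ⧸ N} (hu : ∃ i, orderOf u = q ^ i) :
    ∃ g : G, (∃ i, orderOf g = q ^ i) ∧ Subgroup.zpowers (QuotientGroup.mk' N g) = Subgroup.zpowers u := by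
  obtain ⟨g, rfl⟩ := QuotientGroup.mk'_surjective N u
  obtain ⟨i, hi⟩ := hu
  set t := orderOf g / q ^ (orderOf g).factorization q
  refine ⟨g ^ t, ⟨(orderOf g).factorization q, ?_⟩, ?_⟩
  · rw [orderOf_pow, Nat.gcd_eq_right (Nat.div_dvd_of_dvd (Nat.ordProj_dvd _ q)), Nat.div_div_self (Nat.ordProj_dvd _ q) (orderOf_pos g).ne']
  · refine Subgroup.eq_of_le_of_card_ge (Subgroup.zpowers_le.mpr (by rw [map_pow]; exact Subgroup.npow_mem_zpowers _ _)) ?_
    rw [Nat.card_zpowers, Nat.card_zpowers, map_pow, orderOf_pow, hi,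
      Nat.Coprime.gcd_eq_one (Nat.Coprime.pow_left _ ((Nat.Prime.coprime_iff_not_dvd hq.out).mpr (Nat.not_dvd_ordCompl hq.out (orderOf_pos g).ne'))), Nat.div_one]

theorem uniq_sylow {s q : ℕ} [hs : Fact s.Prime] [hq : Fact q.Prime] (hsq : s ≠ q) (hsd : s ∣ Nat.card (Abelianization N))
    (S : Sylow q (G ⧸ N)) : Uniq q (S : Subgroup (G ⧸ N)) := by
  set L := (commutator N).map N.subtype with hL
  haveI : L.Normal := inferInstance
  set η := QuotientGroup.mk' L with hη
  have hLN : L ≤ N := Subgroup.map_subtype_le _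
  have hab : ∀ a b : G, a ∈ N → b ∈ N → η a * η b = η b * η a := by
    intro a b ha hb
    rw [← map_mul, ← map_mul]
    refine QuotientGroup.eq.mpr ?_
    refine ⟨(⟨a, ha⟩ * ⟨b, hb⟩ : N)⁻¹ * (⟨b, hb⟩ * ⟨a, ha⟩), ?_, rfl⟩
    have e : ∀ c d : N, (c * d)⁻¹ * (d * c) = ⁅d⁻¹, c⁻¹⁆ := fun c d => by rw [commutatorElement_def]; group
    rw [e]; exact Subgroup.commutator_mem_commutator (Subgroup.mem_top _) (Subgroup.mem_top _)
  set Nb := N.map η with hNb
  let W : Subgroup (G ⧸ L) :=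
    { carrier := {v | v ∈ Nb ∧ v ^ s = 1}
      one_mem' := ⟨one_mem _, one_pow s⟩
      mul_mem' := fun {x y} hx hy => ⟨mul_mem hx.1 hy.1, by
        obtain ⟨⟨a, ha, rfl⟩, hx2⟩ := hx
        obtain ⟨⟨b, hb, rfl⟩, hy2⟩ := hy
        rw [(show Commute (η a) (η b) from hab a b ha hb).mul_pow, hx2, hy2, one_mul]⟩
      inv_mem' := fun {x} hx => ⟨inv_mem hx.1, by rw [inv_pow, hx.2, inv_one]⟩ }
  haveI : Nb.Normal := (inferInstance : N.Normal).map η (QuotientGroup.mk'_surjective L)
  haveI : W.Normal := ⟨fun x hx g => ⟨Subgroup.Normal.conj_mem inferInstance x hx.1 g, by rw [conj_pow, hx.2, mul_one, mul_inv_cancel]⟩⟩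
  have hWc : ∀ u v : W, u * v = v * u := by
    intro u v
    obtain ⟨_, ⟨a, ha, rfl⟩, _⟩ := u
    obtain ⟨_, ⟨b, hb, rfl⟩, _⟩ := v
    exact Subtype.ext (hab a b ha hb)
  letI : CommGroup W := { (inferInstance : Group W) with mul_comm := hWc }
  let ψ : G →* MulAut W := MulAut.conjNormal.comp η
  have hψ : ∀ n ∈ N, ψ n = 1 := fun n hn => MulEquiv.ext fun v => Subtype.ext (by
    obtain ⟨_, ⟨a, ha, rfl⟩, _⟩ := v
    show η n * η a * (η n)⁻¹ = η a
    rw [hab n a hn ha, mul_inv_cancel_right])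
  let φ : (S : Subgroup (G ⧸ N)) →* MulAut W := (QuotientGroup.lift N ψ hψ).comp (S : Subgroup (G ⧸ N)).subtype
  haveI : Nontrivial W := by
    have hdiv : s ∣ Nat.card Nb := by
      refine hsd.trans ?_
      let f : N →* Nb := (η.comp N.subtype).codRestrict Nb fun n => Subgroup.mem_map_of_mem η n.2
      have hfs : Function.Surjective f := by rintro ⟨_, a, ha, rfl⟩; exact ⟨⟨a, ha⟩, rfl⟩
      have hk : f.ker = commutator N := by
        ext n
        rw [MonoidHom.mem_ker, Subtype.ext_iff]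
        show η (n : G) = 1 ↔ _
        rw [hη, QuotientGroup.mk'_apply, QuotientGroup.eq_one_iff, hL, Subgroup.mem_map]
        exact ⟨fun ⟨m, hm, e⟩ => Subtype.ext e ▸ hm, fun h => ⟨n, h, rfl⟩⟩
      rw [← Nat.card_congr (QuotientGroup.quotientKerEquivOfSurjective f hfs).toEquiv, hk]
      exact dvd_rfl
    obtain ⟨v, hv⟩ := exists_prime_orderOf_dvd_card' s hdiv
    refine ⟨⟨⟨(v : G ⧸ L), v.2, ?_⟩, 1, fun e => hs.out.ne_one ?_⟩⟩
    · rw [← Subgroup.coe_pow, ← hv, pow_orderOf_eq_one]; rfl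
    · rw [← hv, ← Subgroup.orderOf_coe, congrArg Subtype.val e]; exact orderOf_one
  refine uniq_of_fpf S.isPGroup' φ (fun hd => ?_) fun u hu v hv => ?_
  · obtain ⟨w, hw⟩ := exists_prime_orderOf_dvd_card' q hd
    have : q ∣ s := hw ▸ orderOf_dvd_of_pow_eq_one (Subtype.ext w.2.2)
    exact hsq ((Nat.prime_dvd_prime_iff_eq hq.out hs.out).mp this).symm
  obtain ⟨i, hi⟩ := IsPGroup.iff_orderOf.mp S.isPGroup' u
  obtain ⟨g, ⟨j, hj⟩, hgz⟩ := exists_rep (N := N) (u := (u : G ⧸ N)) (q := q) ⟨i, by rw [Subgroup.orderOf_coe, hi]⟩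
  have hg : g ∉ N := fun h => hu (Subtype.ext (Subgroup.zpowers_eq_bot.mp (by
    rw [← hgz, show QuotientGroup.mk' N g = 1 from (QuotientGroup.eq_one_iff g).mpr h, Subgroup.zpowers_one_eq_bot])))
  -- fixed points of `u` are fixed points of `g`
  have hfix : ψ g v = v := by
    have h1 : QuotientGroup.mk' N g ∈ Subgroup.zpowers (u : G ⧸ N) := hgz ▸ Subgroup.mem_zpowers _
    let St : Subgroup (G ⧸ N) := (MulAction.stabilizer (MulAut W) v).comap (QuotientGroup.lift N ψ hψ)
    exact (Subgroup.zpowers_le.mpr (show (u : G ⧸ N) ∈ St from hv) h1 : QuotientGroup.mk' N g ∈ St)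
  have hcamq : Cam Nb := by
    intro x hx n hn
    obtain ⟨x, rfl⟩ := QuotientGroup.mk'_surjective L x
    obtain ⟨n, hn', rfl⟩ := hn
    obtain ⟨y, hy⟩ := hcam x (fun h => hx (Subgroup.mem_map_of_mem η h)) n hn'
    exact ⟨η y, by rw [← map_inv, ← map_mul, ← map_mul, hy, map_mul]⟩
  have hgb : η g ∉ Nb := fun h => hg (by
    have h1 : g ∈ Nb.comap η := h
    rwa [hNb, Subgroup.comap_map_eq, hη, QuotientGroup.ker_mk', sup_eq_left.mpr hLN] at h1)
  obtain ⟨j', -, hj'⟩ := (Nat.dvd_prime_pow hq.out).mp (hj ▸ orderOf_map_dvd η g)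
  refine Subtype.ext (eq_one_of_commute hcamq hq.out hgb ⟨j', hj'⟩ v.2.1 ?_ fun hd => ?_)
  · exact mul_inv_eq_iff_eq_mul.mp (congrArg Subtype.val hfix)
  · exact hsq ((Nat.prime_dvd_prime_iff_eq hq.out hs.out).mp (hd.trans (orderOf_dvd_of_pow_eq_one v.2.2))).symm

theorem shared_false {q : ℕ} [hq : Fact q.Prime] (hN : q ∣ Nat.card N) (hidx : q ∣ N.index)
    (hu : ∀ S : Sylow q (G ⧸ N), Uniq q (S : Subgroup (G ⧸ N))) : False := by
  obtain ⟨S⟩ : Nonempty (Sylow q (G ⧸ N)) := inferInstance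
  rw [N.index_eq_card] at hidx
  haveI : Nontrivial (S : Subgroup (G ⧸ N)) := (S : Subgroup (G ⧸ N)).nontrivial_iff_ne_bot.mpr (S.ne_bot_of_dvd_card hidx)
  obtain ⟨a, ha1, ha⟩ : ∃ a : (S : Subgroup (G ⧸ N)), a ≠ 1 ∧ ∀ T : Subgroup (G ⧸ N), IsPGroup q T → (a : G ⧸ N) ∈ T →
      (∀ t ∈ T, (a : G ⧸ N) * t = t * a) → Nat.card T ≤ orderOf a := by
    have hle : ∀ T : Subgroup (G ⧸ N), IsPGroup q T → Nat.card T ∣ Nat.card (S : Subgroup (G ⧸ N)) := by
      intro T hT
      obtain ⟨i, hi⟩ := IsPGroup.iff_card.mp hT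
      rw [hi]; exact S.pow_dvd_card_of_pow_dvd_card (hi ▸ Subgroup.card_subgroup_dvd_card T)
    by_cases hc : IsCyclic (S : Subgroup (G ⧸ N))
    · obtain ⟨a, ha⟩ := IsCyclic.exists_ofOrder_eq_natCard (α := (S : Subgroup (G ⧸ N)))
      exact ⟨a, fun e => by rw [e, orderOf_one] at ha; exact Finite.one_lt_card.ne' ha.symm,
        fun T hT _ _ => ha ▸ Nat.le_of_dvd Nat.card_pos (hle T hT)⟩
    obtain ⟨rfl, n, ⟨e⟩⟩ := (cyclic_or_quaternion S.isPGroup' (hu S)).resolve_left hc
    have hn : n ≠ 0 := fun h => hc (by subst h; exact e.isCyclic.mpr (by simpa using QuaternionGroup.quaternionGroup_one_isCyclic))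
    have hoa : orderOf (e.symm (QuaternionGroup.a 1)) = 2 * 2 ^ n := by rw [MulEquiv.orderOf_eq, QuaternionGroup.orderOf_a_one]
    refine ⟨e.symm (QuaternionGroup.a 1), fun h => ?_, fun T hT haT hcomm => ?_⟩
    · rw [h, orderOf_one] at hoa
      have := Nat.two_pow_pos n
      omega
    rw [hoa]
    have hScard : Nat.card (S : Subgroup (G ⧸ N)) = 2 * (2 * 2 ^ n) := by
      rw [Nat.card_congr e.toEquiv, Nat.card_eq_fintype_card, QuaternionGroup.card]; ring
    obtain ⟨i, hi⟩ := IsPGroup.iff_card.mp hT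
    rcases lt_or_eq_of_le (Nat.le_of_dvd Nat.card_pos (hle T hT)) with h | h
    · rw [hScard, show 2 * (2 * 2 ^ n) = 2 ^ (n + 2) by ring, hi] at h
      rw [hi, show 2 * 2 ^ n = 2 ^ (n + 1) by ring]
      exact Nat.pow_le_pow_right (by norm_num) (Nat.lt_succ_iff.mp ((Nat.pow_lt_pow_iff_right (by norm_num)).mp h))
    · exfalso
      -- `T` would be a Sylow subgroup with a central element of large order
      let T' : Sylow 2 (G ⧸ N) := Sylow.ofCard T (by rw [h, S.card_eq_multiplicity])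
      let eT : T ≃* QuaternionGroup (2 ^ n) := (Sylow.equiv T' S).trans e
      have hb : ∀ b : QuaternionGroup (2 ^ n), (∀ c, b * c = c * b) → b ^ 2 = 1 := by
        intro b hb
        have h2 : (2 : ZMod (2 * 2 ^ n)) ≠ 0 := by
          intro h2
          have := (ZMod.natCast_eq_zero_iff 2 (2 * 2 ^ n)).mp (by simpa using h2) |> Nat.le_of_dvd (by norm_num)
          have : 2 ^ 1 ≤ 2 ^ n := Nat.pow_le_pow_right (by norm_num) (Nat.one_le_iff_ne_zero.mpr hn)
          omega
        cases b with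
        | a i =>
          have h3 := hb (QuaternionGroup.xa 0)
          rw [QuaternionGroup.a_mul_xa, QuaternionGroup.xa_mul_a, zero_sub, zero_add, QuaternionGroup.xa.injEq] at h3
          rw [pow_two, QuaternionGroup.a_mul_a, QuaternionGroup.one_def, QuaternionGroup.a.injEq]
          nth_rewrite 1 [← h3]; exact neg_add_cancel i
        | xa i =>
          have h3 := hb (QuaternionGroup.a 1)
          rw [QuaternionGroup.xa_mul_a, QuaternionGroup.a_mul_xa, QuaternionGroup.xa.injEq] at h3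
          exact absurd (by linear_combination h3 : (2 : ZMod (2 * 2 ^ n)) = 0) h2
      have hcen : ∀ c : QuaternionGroup (2 ^ n), eT ⟨_, haT⟩ * c = c * eT ⟨_, haT⟩ := fun c => by
        obtain ⟨t, rfl⟩ := eT.surjective c
        rw [← map_mul, ← map_mul]
        exact congrArg eT (Subtype.ext (hcomm t t.2))
      have h4 := hb _ hcen
      rw [← map_pow, MulEquiv.map_eq_one_iff] at h4
      have h5 : orderOf (e.symm (QuaternionGroup.a 1)) ∣ 2 := by
        rw [← Subgroup.orderOf_coe]; exact orderOf_dvd_of_pow_eq_one (congrArg Subtype.val h4)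
      rw [hoa] at h5
      have := Nat.le_of_dvd (by norm_num) h5
      have : 2 ^ 1 ≤ 2 ^ n := Nat.pow_le_pow_right (by norm_num) (Nat.one_le_iff_ne_zero.mpr hn)
      omega
  obtain ⟨i, hi⟩ := IsPGroup.iff_orderOf.mp S.isPGroup' a
  obtain ⟨g, ⟨j, hj⟩, hgz⟩ := exists_rep (N := N) (u := (a : G ⧸ N)) (q := q) ⟨i, by rw [Subgroup.orderOf_coe, hi]⟩
  set π := QuotientGroup.mk' N
  have hg : g ∉ N := fun h => ha1 (Subtype.ext (Subgroup.zpowers_eq_bot.mp (by
    rw [← hgz, show π g = 1 from (QuotientGroup.eq_one_iff g).mpr h, Subgroup.zpowers_one_eq_bot])))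
  obtain ⟨Q, hQ⟩ := (IsPGroup.of_card (n := j) (by rw [Nat.card_zpowers, hj]) : IsPGroup q (Subgroup.zpowers g)).exists_le_sylow
  -- a central element of `Q` in `N`
  have hQN : (N.subgroupOf (Q : Subgroup G)) ≠ ⊥ := by
    rw [Ne, Subgroup.subgroupOf_eq_bot, disjoint_iff]
    intro h
    apply Q.not_dvd_index
    have h1 := N.card_eq_card_quotient_mul_card_subgroup
    obtain ⟨R⟩ : Nonempty (Sylow q N) := inferInstance
    obtain ⟨Q', hQ'⟩ := (R.isPGroup'.map N.subtype).exists_le_sylow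
    obtain ⟨c, hc⟩ := MulAction.exists_smul_eq G Q Q'
    exfalso
    obtain ⟨r, hr⟩ := Subgroup.ne_bot_iff_exists_ne_one.mp (R.ne_bot_of_dvd_card hN)
    have h2 : ((r : N) : G) ∈ (Q' : Subgroup G) := hQ' ⟨r, r.2, rfl⟩
    rw [← hc, Sylow.coe_subgroup_smul] at h2
    obtain ⟨y, hy, e⟩ := h2
    have hyN : y ∈ N ⊓ (Q : Subgroup G) := by
      refine ⟨?_, hy⟩
      have e' : c * y * c⁻¹ = ((r : N) : G) := e
      have : y = c⁻¹ * ((r : N) : G) * c⁻¹⁻¹ := by rw [← e']; group
      rw [this]; exact Subgroup.Normal.conj_mem inferInstance _ (r : N).2 _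
    rw [h, Subgroup.mem_bot] at hyN
    subst hyN
    exact hr (Subtype.ext (Subtype.ext (by simpa using e.symm)))
  haveI : Nontrivial (Q : Subgroup G) := by
    by_contra h
    rw [not_nontrivial_iff_subsingleton] at h
    exact hQN (Subgroup.eq_bot_of_subsingleton _)
  haveI := Q.isPGroup'.isNilpotent
  obtain ⟨z, ⟨hzN, hzc⟩, hz1⟩ := SetLike.exists_of_lt (bot_lt_iff_ne_bot.mpr
    (CfsgLib.Solvable.Basics.inf_center_ne_bot (N.subgroupOf (Q : Subgroup G)) hQN))
  set C := Subgroup.centralizer ({g} : Set G)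
  set M := (Q : Subgroup G) ⊓ C
  have hgM : g ∈ M := ⟨hQ (Subgroup.mem_zpowers g), Subgroup.mem_centralizer_iff.mpr fun y hy => by rw [Set.mem_singleton_iff.mp hy]⟩
  have hzM : (z : G) ∈ M := ⟨z.2, Subgroup.mem_centralizer_iff.mpr fun y hy => by
    rw [Set.mem_singleton_iff.mp hy]; exact congrArg Subtype.val (Subgroup.mem_center_iff.mp hzc ⟨g, hQ (Subgroup.mem_zpowers g)⟩)⟩
  -- sizes
  have hcomm : ∀ t : G ⧸ N, (a : G ⧸ N) * t = t * a ↔ π g * t = t * π g := by
    intro t
    have h1 : ∀ u v : G ⧸ N, v ∈ Subgroup.zpowers u → u * t = t * u → v * t = t * v := by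
      intro u v hv h
      obtain ⟨k, rfl⟩ := Subgroup.mem_zpowers_iff.mp hv
      exact ((show Commute u t from h).zpow_left k).eq
    exact ⟨h1 _ _ (hgz ▸ Subgroup.mem_zpowers (π g)), h1 _ _ (hgz.symm ▸ Subgroup.mem_zpowers (a : G ⧸ N))⟩
  have hTle : Nat.card (M.map π) ≤ orderOf a := by
    refine ha _ ((Q.isPGroup'.to_le (inf_le_left : M ≤ _)).map π) ?_ ?_
    · exact (Subgroup.zpowers_le.mpr (Subgroup.mem_map_of_mem π hgM)) (hgz.symm ▸ Subgroup.mem_zpowers (a : G ⧸ N))
    · rintro _ ⟨m, hm, rfl⟩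
      rw [hcomm, ← map_mul, ← map_mul, Subgroup.mem_centralizer_iff.mp hm.2 g rfl]
  obtain ⟨U⟩ : Nonempty (Sylow q (Subgroup.centralizer ({π g} : Set (G ⧸ N)))) := inferInstance
  have haC : (a : G ⧸ N) ∈ Subgroup.centralizer ({π g} : Set (G ⧸ N)) := Subgroup.mem_centralizer_iff.mpr fun y hy => by
    rw [Set.mem_singleton_iff.mp hy]; exact ((hcomm a).mp rfl)
  obtain ⟨U, hU⟩ := (IsPGroup.of_card (n := i) (by rw [Nat.card_zpowers, Subgroup.orderOf_mk, Subgroup.orderOf_coe, hi]) :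
    IsPGroup q (Subgroup.zpowers (⟨(a : G ⧸ N), haC⟩ : Subgroup.centralizer ({π g} : Set (G ⧸ N))))).exists_le_sylow
  have hUle : Nat.card (U : Subgroup (Subgroup.centralizer ({π g} : Set (G ⧸ N)))) ≤ orderOf a := by
    rw [← Subgroup.card_map_of_injective (Subgroup.subtype_injective _)]
    refine ha _ (U.isPGroup'.map _) ⟨⟨_, haC⟩, hU (Subgroup.mem_zpowers _), rfl⟩ ?_
    rintro _ ⟨t, -, rfl⟩
    exact (hcomm _).mpr (Subgroup.mem_centralizer_iff.mp t.2 (π g) rfl)
  obtain ⟨m, hm⟩ := IsPGroup.iff_card.mp (Q.isPGroup'.to_le (inf_le_left : M ≤ _))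
  have hMU : Nat.card M ≤ Nat.card (U : Subgroup (Subgroup.centralizer ({π g} : Set (G ⧸ N)))) := by
    refine Nat.le_of_dvd Nat.card_pos ?_
    rw [hm]
    refine U.pow_dvd_card_of_pow_dvd_card ?_
    rw [← card_centralizer hcam hg, ← hm]
    exact Subgroup.card_dvd_of_le inf_le_right
  -- the map to the quotient has a nontrivial kernel on `M`
  let f : M → M.map π := fun x => ⟨π x, Subgroup.mem_map_of_mem π x.2⟩
  have hinj : ¬ Function.Injective f := fun h => hz1 (by
    have := h (a₁ := ⟨(z : G), hzM⟩) (a₂ := 1) (Subtype.ext (show π (z : G) = π ((1 : M) : G) by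
      rw [show π (z : G) = 1 from (QuotientGroup.eq_one_iff _).mpr hzN, Subgroup.coe_one, map_one]))
    exact Subgroup.mem_bot.mpr (Subtype.ext (congrArg (fun x : M => (x : G)) this)))
  have hsurj : Function.Surjective f := by rintro ⟨_, x, hx, rfl⟩; exact ⟨⟨x, hx⟩, rfl⟩
  have hlt : Nat.card (M.map π) < Nat.card M := lt_of_le_of_ne (Nat.card_le_card_of_surjective f hsurj) fun h =>
    hinj (hsurj.injective_of_finite (Finite.equivFinOfCardEq h |>.trans (Finite.equivFinOfCardEq rfl).symm).symm)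
  have hge : orderOf a ≤ Nat.card (M.map π) := by
    rw [← Subgroup.orderOf_coe, ← Nat.card_zpowers, ← hgz, Nat.card_zpowers]
    exact Nat.le_of_dvd Nat.card_pos (Subgroup.orderOf_dvd_natCard _ (Subgroup.mem_map_of_mem π hgM))
  omega

/-- For a shared prime the Sylow intersection lies in the derived group of the Sylow subgroup. -/
theorem sylow_inf_le {q : ℕ} [hq : Fact q.Prime] (hidx : q ∣ N.index) (Q : Sylow q G) :
    N ⊓ (Q : Subgroup G) ≤ (frattini (Q : Subgroup G)).map (Q : Subgroup G).subtype := by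
  set π := QuotientGroup.mk' N with hπ
  let S : Sylow q (G ⧸ N) := Q.mapSurjective (QuotientGroup.mk'_surjective N)
  rw [N.index_eq_card] at hidx
  haveI : Nontrivial (S : Subgroup (G ⧸ N)) := (S : Subgroup (G ⧸ N)).nontrivial_iff_ne_bot.mpr (S.ne_bot_of_dvd_card hidx)
  haveI := S.isPGroup'.center_nontrivial
  obtain ⟨u, hu⟩ := exists_ne (1 : Subgroup.center (S : Subgroup (G ⧸ N)))
  obtain ⟨g, hgQ, hgu⟩ : ∃ g ∈ (Q : Subgroup G), π g = ((u : (S : Subgroup (G ⧸ N))) : G ⧸ N) := (u : (S : Subgroup (G ⧸ N))).2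
  have hg : g ∉ N := fun h => hu (Subtype.ext (Subtype.ext (by rw [← hgu]; exact (QuotientGroup.eq_one_iff g).mpr h)))
  set C := Subgroup.centralizer ({g} : Set G) with hC
  set Cb := Subgroup.centralizer ({π g} : Set (G ⧸ N)) with hCb
  have hSC : (S : Subgroup (G ⧸ N)) ≤ Cb := fun t ht => Subgroup.mem_centralizer_iff.mpr fun y hy => by
    rw [Set.mem_singleton_iff.mp hy, hgu]; exact (congrArg Subtype.val (Subgroup.mem_center_iff.mp u.2 ⟨t, ht⟩)).symm
  obtain ⟨m, hm⟩ := IsPGroup.iff_card.mp (Q.isPGroup'.to_le (inf_le_left : (Q : Subgroup G) ⊓ C ≤ _))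
  have h1 : Nat.card ((Q : Subgroup G) ⊓ C : Subgroup G) ≤ Nat.card (S : Subgroup (G ⧸ N)) := by
    refine Nat.le_of_dvd Nat.card_pos ?_
    rw [hm]
    refine S.pow_dvd_card_of_pow_dvd_card ?_
    refine (hm ▸ ?_ : _ ∣ Nat.card Cb).trans (Subgroup.card_subgroup_dvd_card _)
    rw [hCb, ← card_centralizer hcam hg]
    exact Subgroup.card_dvd_of_le inf_le_right
  set Q₀ := N ⊓ (Q : Subgroup G) with hQ₀
  have h2 : Nat.card (Q : Subgroup G) = Nat.card (S : Subgroup (G ⧸ N)) * Nat.card Q₀ := by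
    let f : (Q : Subgroup G) →* (S : Subgroup (G ⧸ N)) := (π.comp (Q : Subgroup G).subtype).codRestrict _ fun x => Subgroup.mem_map_of_mem π x.2
    have hfs : Function.Surjective f := by rintro ⟨_, x, hx, rfl⟩; exact ⟨⟨x, hx⟩, rfl⟩
    rw [f.ker.card_eq_card_quotient_mul_card_subgroup, Nat.card_congr (QuotientGroup.quotientKerEquivOfSurjective f hfs).toEquiv]
    congr 1
    refine Nat.card_congr ⟨fun x => ⟨((x : (Q : Subgroup G)) : G), (QuotientGroup.eq_one_iff _).mp (congrArg Subtype.val x.2), (x : (Q : Subgroup G)).2⟩,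
      fun x => ⟨⟨x, x.2.2⟩, Subtype.ext ((QuotientGroup.eq_one_iff _).mpr x.2.1)⟩, fun _ => rfl, fun _ => rfl⟩
  have hval : ∀ y : (Q : Subgroup G), g⁻¹ * ((y : G) * g * (y : G)⁻¹) ∈ Q₀ := fun y => by
    refine ⟨(QuotientGroup.eq_one_iff _).mp ?_, (Q : Subgroup G).mul_mem ((Q : Subgroup G).inv_mem hgQ) ((Q : Subgroup G).mul_mem ((Q : Subgroup G).mul_mem y.2 hgQ) ((Q : Subgroup G).inv_mem y.2))⟩
    have h := Subgroup.mem_centralizer_iff.mp (hSC (Subgroup.mem_map_of_mem π y.2)) (π g) rfl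
    show π (g⁻¹ * ((y : G) * g * (y : G)⁻¹)) = 1
    simp only [map_mul, map_inv]
    rw [← h]; group
  let f : (Q : Subgroup G) ⧸ C.subgroupOf (Q : Subgroup G) → Q₀ := fun c => Quotient.liftOn' c (fun y => ⟨_, hval y⟩) (fun a b h => Subtype.ext (by
    have h' := Subgroup.mem_centralizer_iff.mp (Subgroup.mem_subgroupOf.mp (QuotientGroup.leftRel_apply.mp h)) g rfl
    simp only [Subgroup.coe_mul, Subgroup.coe_inv] at h'
    show g⁻¹ * ((a : G) * g * (a : G)⁻¹) = g⁻¹ * ((b : G) * g * (b : G)⁻¹)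
    rw [show (a : G) * g * (a : G)⁻¹ = (a : G) * (g * ((a : G)⁻¹ * b)) * (b : G)⁻¹ by group, h']; group))
  have hf : Function.Injective f := by
    intro a b
    induction a using Quotient.inductionOn' with
    | h a => induction b using Quotient.inductionOn' with
      | h b =>
        intro h
        refine Quotient.sound' (QuotientGroup.leftRel_apply.mpr (Subgroup.mem_subgroupOf.mpr (Subgroup.mem_centralizer_iff.mpr fun y hy => ?_)))
        rw [Set.mem_singleton_iff.mp hy]
        have e : (a : G) * g * (a : G)⁻¹ = (b : G) * g * (b : G)⁻¹ := mul_left_cancel (congrArg Subtype.val h)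
        simp only [Subgroup.coe_mul, Subgroup.coe_inv]
        calc g * ((a : G)⁻¹ * b) = (a : G)⁻¹ * ((a : G) * g * (a : G)⁻¹) * b := by group
          _ = (a : G)⁻¹ * ((b : G) * g * (b : G)⁻¹) * b := by rw [e]
          _ = _ := by group
  have hidxQ : Nat.card Q₀ ≤ C.relIndex (Q : Subgroup G) := by
    have h3 := Subgroup.relIndex_mul_relIndex ⊥ ((Q : Subgroup G) ⊓ C) Q bot_le inf_le_left
    rw [Subgroup.relIndex_bot_left, Subgroup.relIndex_bot_left, Subgroup.inf_relIndex_left, h2] at h3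
    refine Nat.le_of_mul_le_mul_left ?_ (Nat.card_pos (α := (S : Subgroup (G ⧸ N))))
    rw [← h3]; exact Nat.mul_le_mul_right _ h1
  have hbij := hf.bijective_of_nat_card_le hidxQ
  intro n hn
  obtain ⟨c, hc⟩ := hbij.2 ⟨n, hn⟩
  induction c using Quotient.inductionOn' with
  | h y =>
    haveI := Q.isPGroup'.isNilpotent
    refine ⟨⟨n, hn.2⟩, CfsgLib.Solvable.commutator_le_frattini (F := ⊤) inferInstance ?_, rfl⟩
    · have e : (⟨n, hn.2⟩ : (Q : Subgroup G)) = ⁅(⟨g, hgQ⟩ : (Q : Subgroup G))⁻¹, y⁆ := Subtype.ext (by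
        refine Eq.trans (show n = g⁻¹ * ((y : G) * g * (y : G)⁻¹) from (congrArg Subtype.val hc).symm) ?_
        simp [commutatorElement_def, mul_assoc])
      rw [e]; exact Subgroup.commutator_mem_commutator (Subgroup.mem_top _) (Subgroup.mem_top _)

end Camina

theorem dvd_abelianization {H : Type u} [Group H] [Finite H] {p : ℕ} [hp : Fact p.Prime] (K : Subgroup H) [K.Normal]
    (hK : IsPGroup p (H ⧸ K)) (hne : K ≠ ⊤) : p ∣ Nat.card (Abelianization H) := by
  haveI := hK.isNilpotent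
  haveI : Nontrivial (H ⧸ K) := QuotientGroup.nontrivial_iff.mpr hne
  let f := (Abelianization.of (G := H ⧸ K)).comp (QuotientGroup.mk' K)
  have hs : Function.Surjective (Abelianization.lift f) := fun y => by
    obtain ⟨z, rfl⟩ := QuotientGroup.mk'_surjective _ y
    obtain ⟨x, rfl⟩ := QuotientGroup.mk'_surjective K z
    exact ⟨Abelianization.of x, rfl⟩
  refine dvd_trans ?_ (Subgroup.card_dvd_of_surjective _ hs)
  obtain ⟨k, hk⟩ := IsPGroup.iff_card.mp (hK.to_quotient (commutator (H ⧸ K)))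
  rcases Nat.eq_zero_or_pos k with h | h
  · exfalso
    rw [h, pow_zero] at hk
    exact (Group.IsSolvable.commutator_lt_top_of_nontrivial (H ⧸ K)).ne (Subgroup.index_eq_one.mp hk)
  · exact hk ▸ dvd_pow_self p h.ne'


/-- Let G be a finite group and N a proper non-trivial normal subgroup such that for every g outside N the conjugacy class of g is a union of cosets of N (equivalently gn is conjugate to g for every n ∈ N). Then either every element of G outside N acts fixed-point-freely on N (C_G(x) ≤ N for all x ∈ N, x ≠ 1, so G is a Frobenius group with kernel N), or N has prime-power order, or G/N has prime-power order. -/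
theorem result {G : Type*} [Group G] [Finite G] (N : Subgroup G) [N.Normal] (hN1 : N ≠ ⊥) (hN2 : N ≠ ⊤)
    (hcam : ∀ g : G, g ∉ N → ∀ n ∈ N, ∃ x : G, x * g * x⁻¹ = g * n) :
    (∀ x ∈ N, x ≠ 1 → Subgroup.centralizer ({x} : Set G) ≤ N) ∨ IsPrimePow (Nat.card N) ∨ IsPrimePow N.index := by
  classical
  by_cases hfrob : ∀ x ∈ N, x ≠ 1 → Subgroup.centralizer ({x} : Set G) ≤ N
  · exact Or.inl hfrob
  push Not at hfrob
  obtain ⟨x, hxN, hx1, hxC⟩ := hfrob
  obtain ⟨g, hgC, hgN⟩ := SetLike.not_le_iff_exists.mp hxC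
  have hgx : g * x = x * g := ((Subgroup.mem_centralizer_iff.mp hgC) x rfl).symm
  set π := QuotientGroup.mk' N with hπ
  have hpg : π g ≠ 1 := fun h => hgN ((QuotientGroup.eq_one_iff g).mp h)
  obtain ⟨q, hq, hqd⟩ := Nat.exists_prime_and_dvd (n := orderOf (π g)) fun h => hpg (orderOf_eq_one_iff.mp h)
  haveI := Fact.mk hq
  have hqidx : q ∣ N.index := by rw [N.index_eq_card]; exact hqd.trans (orderOf_dvd_natCard _)
  set t := orderOf g / q ^ (orderOf g).factorization q with ht
  have hgt : g ^ t ∉ N := fun h => by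
    have h1 : orderOf (π g) ∣ t := orderOf_dvd_of_pow_eq_one (by rw [← map_pow]; exact (QuotientGroup.eq_one_iff _).mpr h)
    exact Nat.not_dvd_ordCompl hq (orderOf_pos g).ne' (hqd.trans h1)
  have hqN : q ∣ Nat.card N := by
    by_contra h
    refine hx1 (eq_one_of_commute hcam hq hgt ⟨(orderOf g).factorization q, ?_⟩ hxN ((show Commute g x from hgx).pow_left t).eq ?_)
    · rw [orderOf_pow, Nat.gcd_eq_right (Nat.div_dvd_of_dvd (Nat.ordProj_dvd _ q)), Nat.div_div_self (Nat.ordProj_dvd _ q) (orderOf_pos g).ne']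
    · exact fun hd => h (hd.trans (Subgroup.orderOf_dvd_natCard N hxN))
  right
  by_cases hpi : IsPrimePow N.index
  · exact Or.inr hpi
  left
  obtain ⟨r, hr, hrq, hrd⟩ : ∃ r, r.Prime ∧ r ≠ q ∧ r ∣ N.index := by
    by_contra hc
    push Not at hc
    refine hpi (isPrimePow_nat_iff _ |>.mpr ⟨q, N.index.factorization q, hq, hq.factorization_pos_of_dvd N.index_ne_zero_of_finite hqidx, ?_⟩)
    have h := Nat.eq_prime_pow_of_unique_prime_dvd (p := q) N.index_ne_zero_of_finite fun {d} hd hdd => by_contra fun hne => hc d hd hne hdd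
    have h2 := congrArg (fun m => m.factorization q) h
    simp only [hq.factorization_pow, Finsupp.single_eq_same] at h2
    rw [h2]; exact h.symm
  haveI := Fact.mk hr
  obtain ⟨Q⟩ : Nonempty (Sylow q G) := inferInstance
  obtain ⟨P, K, hKn, hK⟩ := Cfsg.Agent.S0081.result Q N (sylow_inf_le hcam hqidx Q)
  haveI := hKn
  have hqab : q ∣ Nat.card (Abelianization N) := by
    refine dvd_abelianization K ?_ fun h => ?_
    · obtain ⟨k, hk⟩ := IsPGroup.iff_card.mp P.isPGroup'
      exact IsPGroup.of_card (n := k) (by rw [← K.index_eq_card, hK.symm.index_eq_card, hk])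
    · have := hK.symm.index_eq_card
      rw [h, Subgroup.index_top] at this
      exact P.ne_bot_of_dvd_card hqN (Subgroup.eq_bot_of_card_eq _ this.symm)
  have hrU := fun S => uniq_sylow hcam (s := q) (q := r) (Ne.symm hrq) hqab S
  have hrN : ¬ r ∣ Nat.card N := fun h => shared_false hcam h hrd hrU
  -- an element of order `r` acts fixed-point-freely
  obtain ⟨w, hw⟩ := exists_prime_orderOf_dvd_card' r (hrd.trans (Subgroup.index_dvd_card N))
  have hwN : w ∉ N := fun h => hrN (hw ▸ Subgroup.orderOf_dvd_natCard N h)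
  have hfix : MonoidHom.FixedPointFree ((MulAut.conjNormal w : MulAut N) : N →* N) := by
    intro v hv
    have hv' : w * (v : G) * w⁻¹ = v := congrArg Subtype.val hv
    refine Subtype.ext (eq_one_of_commute hcam hr hwN ⟨1, by rw [hw, pow_one]⟩ v.2 (mul_inv_eq_iff_eq_mul.mp hv') ?_)
    exact fun hd => hrN (hd.trans (Subgroup.orderOf_dvd_natCard N v.2))
  haveI : Nontrivial N := ⟨⟨x, hxN⟩, 1, fun e => hx1 (congrArg Subtype.val e)⟩
  have hord : orderOf (MulAut.conjNormal w : MulAut N) = r := by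
    refine ((Nat.dvd_prime hr).mp (hw ▸ orderOf_map_dvd _ w)).resolve_left fun h => ?_
    obtain ⟨v, hv⟩ := exists_ne (1 : N)
    exact hv (hfix v (by rw [orderOf_eq_one_iff.mp h]; rfl))
  haveI := Cfsg.Agent.S0033.result (MulAut.conjNormal w : MulAut N) hfix r hr hord
  by_contra hN
  obtain ⟨p, hp, hpq, hpd⟩ : ∃ p, p.Prime ∧ p ≠ q ∧ p ∣ Nat.card N := by
    by_contra hc
    push Not at hc
    refine hN (isPrimePow_nat_iff _ |>.mpr ⟨q, (Nat.card N).factorization q, hq, hq.factorization_pos_of_dvd Nat.card_pos.ne' hqN, ?_⟩)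
    have h := Nat.eq_prime_pow_of_unique_prime_dvd (p := q) (Nat.card_pos (α := N)).ne' fun {d} hd hdd => by_contra fun hne => hc d hd hne hdd
    have h2 := congrArg (fun m => m.factorization q) h
    simp only [hq.factorization_pow, Finsupp.single_eq_same] at h2
    rw [h2]; exact h.symm
  haveI := Fact.mk hp
  obtain ⟨P', K', hsplit, hcomm, htop, hKc⟩ := Cfsg.Agent.S4139.split (H := N) p
  haveI : K'.Normal := by
    refine Subgroup.normalizer_eq_top_iff.mp (eq_top_iff.mpr (htop ▸ sup_le ?_ Subgroup.le_normalizer))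
    exact fun u hu => Subgroup.centralizer_le_normalizer _ (Subgroup.mem_centralizer_iff.mpr fun k hk => (hcomm u hu k hk).symm)
  have hpab : p ∣ Nat.card (Abelianization N) := by
    refine dvd_abelianization K' ?_ fun h => ?_
    · refine IsPGroup.of_card (n := (Nat.card N).factorization p) ?_
      have h1 := K'.card_eq_card_quotient_mul_card_subgroup
      rw [hKc] at h1
      exact (Nat.eq_of_mul_eq_mul_right (Nat.ordCompl_pos p Nat.card_pos.ne') (h1.symm.trans (Nat.mul_div_cancel' (Nat.ordProj_dvd _ p)).symm))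
    · rw [h, Subgroup.card_top] at hKc
      exact absurd hKc.symm (Nat.div_lt_self Nat.card_pos (Nat.one_lt_pow (hp.factorization_pos_of_dvd Nat.card_pos.ne' hpd).ne' hp.one_lt)).ne
  exact shared_false hcam hqN hqidx fun S => uniq_sylow hcam (s := p) (q := q) hpq hpab S

end Cfsg.Agent.S4140
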