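import Cfsg.Statements.S4213
import Cfsg.Agent.Lib.GroupB.FrobDiv
import Mathlib.GroupTheory.SchurZassenhaus
import Mathlib.GroupTheory.Solvable

set_option autoImplicit false
open Cfsg

namespace Cfsg.Agent.S4213
theorem exists_elem_normal {G : Type*} [Group G] [Finite G] [Group.IsSolvable G] [Nontrivial G] :
    ∃ (p : ℕ) (N : Subgroup G), p.Prime ∧ N.Normal ∧ N ≠ ⊥ ∧ p ∣ Nat.card N ∧ ∀ x ∈ N, x ^ p = 1 := by
  classical
  obtain ⟨k, hk⟩ := (Group.isSolvable_def G).mp inferInstance
  have hne : ∃ k, derivedSeries G k = ⊥ := ⟨k, hk⟩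
  obtain ⟨l, hl⟩ : ∃ l, Nat.find hne = l + 1 := by
    rcases h : Nat.find hne with _ | l
    · have := Nat.find_spec hne
      rw [h, derivedSeries_zero] at this
      exact absurd this top_ne_bot
    · exact ⟨l, rfl⟩
  set A := derivedSeries G l with hA
  have hA0 : A ≠ ⊥ := fun h => Nat.find_min hne (by omega : l < Nat.find hne) h
  have hc : ∀ a ∈ A, ∀ b ∈ A, a * b = b * a := by
    intro a ha b hb
    have h := Subgroup.commutator_mem_commutator ha hb
    have h0 := Nat.find_spec hne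
    rw [hl, derivedSeries_succ] at h0
    rw [h0, Subgroup.mem_bot] at h
    exact commutatorElement_eq_one_iff_mul_comm.mp h
  haveI hAn : A.Normal := derivedSeries_normal G l
  haveI : Nontrivial A := A.nontrivial_iff_ne_bot.mpr hA0
  obtain ⟨p, hp, hpd⟩ := Nat.exists_prime_and_dvd (n := Nat.card A) Finite.one_lt_card.ne'
  haveI := Fact.mk hp
  obtain ⟨a, ha⟩ := exists_prime_orderOf_dvd_card' p hpd
  let N : Subgroup G :=
    { carrier := {x | x ∈ A ∧ x ^ p = 1}
      one_mem' := ⟨A.one_mem, one_pow p⟩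
      mul_mem' := fun {x y} hx hy => ⟨A.mul_mem hx.1 hy.1, by
        rw [(show Commute x y from hc x hx.1 y hy.1).mul_pow, hx.2, hy.2, one_mul]⟩
      inv_mem' := fun {x} hx => ⟨A.inv_mem hx.1, by rw [inv_pow, hx.2, inv_one]⟩ }
  have haN : (a : G) ∈ N := ⟨a.2, by
    rw [← Subgroup.coe_pow, ← ha, pow_orderOf_eq_one, Subgroup.coe_one]⟩
  refine ⟨p, N, hp, ⟨fun x hx g => ⟨hAn.conj_mem x hx.1 g, by rw [conj_pow, hx.2, mul_one, mul_inv_cancel]⟩⟩, ?_, ?_, fun x hx => hx.2⟩
  · intro h
    rw [h, Subgroup.mem_bot] at haN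
    have h1 : a = 1 := Subtype.ext haN
    rw [h1, orderOf_one] at ha
    exact hp.ne_one ha.symm
  · rw [← ha, ← Subgroup.orderOf_coe]
    exact Subgroup.orderOf_dvd_natCard N haN

theorem aux (m : ℕ) : ∀ (G : Type*) [Group G] [Finite G] [Group.IsSolvable G] (_ : Nat.card G = m) (n : ℕ) (_ : n ∣ Nat.card G)
    (_ : Nat.card {x : G // x ^ n = 1} = n), ∃ H : Subgroup G, H.Normal ∧ (H : Set G) = {x : G | x ^ n = 1} := by
  induction m using Nat.strong_induction_on with
  | _ m ih =>
  intro G _ _ _ hm n hn hcount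
  classical
  rcases subsingleton_or_nontrivial G with hG | hG
  · exact ⟨⊤, inferInstance, by ext x; simp [Subsingleton.elim x 1]⟩
  have hn0 : 0 < n := Nat.pos_of_dvd_of_pos hn Nat.card_pos
  obtain ⟨p, N, hp, hNn, hN0, hpN, hexp⟩ := exists_elem_normal (G := G)
  haveI := hNn
  haveI := Fact.mk hp
  set P := Nat.card N with hP
  have hcardQ : Nat.card (G ⧸ N) * P = Nat.card G := (N.card_eq_card_quotient_mul_card_subgroup).symm
  have hlt : Nat.card (G ⧸ N) < m := by
    rw [← hm, ← hcardQ]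
    exact lt_mul_of_one_lt_right Nat.card_pos (N.one_lt_card_iff_ne_bot.mpr hN0)
  have hmk : ∀ x : G, QuotientGroup.mk' N x = 1 ↔ x ∈ N := fun x => QuotientGroup.eq_one_iff x
  have cardpre : ∀ T : Subgroup (G ⧸ N), Nat.card (T.comap (QuotientGroup.mk' N)) = Nat.card T * P := fun T => by
    refine Nat.eq_of_mul_eq_mul_left (Nat.pos_of_ne_zero T.index_ne_zero_of_finite) ?_
    rw [← mul_assoc, T.index_mul_card, hcardQ, ← (T.comap (QuotientGroup.mk' N)).index_mul_card,
      T.index_comap_of_surjective (QuotientGroup.mk'_surjective N)]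
  by_cases hpn : p ∣ n
  · set q := Nat.gcd n P with hq
    obtain ⟨n1, hn1⟩ : q ∣ n := Nat.gcd_dvd_left n P
    have hpq : p ∣ q := Nat.dvd_gcd hpn hpN
    have hq0 : 0 < q := Nat.gcd_pos_of_pos_left P hn0
    have hn1d : n1 ∣ Nat.card (G ⧸ N) := by
      have h : Nat.lcm n P ∣ Nat.card G := Nat.lcm_dvd hn (Subgroup.card_subgroup_dvd_card N)
      rw [← hcardQ] at h
      refine Nat.dvd_of_mul_dvd_mul_right (Nat.card_pos : 0 < P) ?_
      refine dvd_trans (Eq.dvd ?_) h
      have h2 := Nat.gcd_mul_lcm n P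
      rw [← hq, hn1, mul_assoc] at h2
      rw [hn1]
      exact (Nat.eq_of_mul_eq_mul_left hq0 h2).symm
    have hlift : ∀ x : G, (QuotientGroup.mk' N x) ^ n1 = 1 → x ^ n = 1 := fun x hx => by
      rw [← map_pow, hmk] at hx
      obtain ⟨r, hr⟩ := hpq
      rw [hn1, mul_comm, pow_mul, hr, pow_mul, hexp _ hx, one_pow]
    let e : {y : G ⧸ N // y ^ n1 = 1} × N → {x : G // x ^ n = 1} := fun z =>
      ⟨Quotient.out z.1.1 * z.2, hlift _ (by
        rw [map_mul, (hmk _).mpr z.2.2, mul_one, show QuotientGroup.mk' N (Quotient.out z.1.1) = z.1.1 from QuotientGroup.out_eq' z.1.1]; exact z.1.2)⟩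
    have he : Function.Injective e := by
      rintro ⟨y, a⟩ ⟨y', a'⟩ h
      have h' : Quotient.out y.1 * (a : G) = Quotient.out y'.1 * (a' : G) := congrArg Subtype.val h
      have hy : y = y' := by
        apply Subtype.ext
        have h2 := congrArg (QuotientGroup.mk' N) h'
        rwa [map_mul, map_mul, (hmk _).mpr a.2, (hmk _).mpr a'.2, mul_one, mul_one,
          show QuotientGroup.mk' N (Quotient.out y.1) = y.1 from QuotientGroup.out_eq' y.1,
          show QuotientGroup.mk' N (Quotient.out y'.1) = y'.1 from QuotientGroup.out_eq' y'.1] at h2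
      subst hy
      rw [Subtype.ext (mul_left_cancel h')]
    have hle := Nat.card_le_card_of_injective e he
    rw [Nat.card_prod, hcount, ← hP] at hle
    have hdiv := CfsgLib.GroupB.FrobDiv.dvd_card_pow_eq_one (G := G ⧸ N) hn1d
    haveI : Nonempty {y : G ⧸ N // y ^ n1 = 1} := ⟨⟨1, one_pow n1⟩⟩
    have hge : n1 ≤ Nat.card {y : G ⧸ N // y ^ n1 = 1} := Nat.le_of_dvd Nat.card_pos hdiv
    have hqP : q ≤ P := Nat.le_of_dvd Nat.card_pos (Nat.gcd_dvd_right n P)
    have hc1 : Nat.card {y : G ⧸ N // y ^ n1 = 1} = n1 := by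
      refine le_antisymm ?_ hge
      by_contra hgt
      have := Nat.mul_le_mul (Nat.succ_le_of_lt (not_le.mp hgt)) hqP
      rw [hn1] at hle
      rw [Nat.succ_mul] at this
      rw [mul_comm q n1] at hle
      omega
    obtain ⟨T, hTn, hT⟩ := ih _ hlt (G ⧸ N) rfl n1 hn1d hc1
    haveI := hTn
    refine ⟨T.comap (QuotientGroup.mk' N), inferInstance, ?_⟩
    have hsub : ((T.comap (QuotientGroup.mk' N) : Subgroup G) : Set G) ⊆ {x : G | x ^ n = 1} := fun x hx => by
      refine hlift x ?_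
      have : QuotientGroup.mk' N x ∈ (T : Set (G ⧸ N)) := hx
      rwa [hT] at this
    refine Set.eq_of_subset_of_ncard_le hsub ?_ (Set.toFinite _)
    rw [show ({x : G | x ^ n = 1}).ncard = n from (Nat.card_coe_set_eq _).symm.trans hcount, ← Nat.card_coe_set_eq]
    show n ≤ Nat.card (T.comap (QuotientGroup.mk' N))
    have hcT : Nat.card T = n1 := by
      rw [← hc1]
      exact Nat.card_congr (Equiv.setCongr hT)
    rw [cardpre, hcT, hn1, mul_comm q]
    exact Nat.mul_le_mul_left n1 hqP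
  · have hPk : ∃ k, P = p ^ k := by
      refine (IsPGroup.iff_card (p := p) (G := N)).mp fun g => ⟨1, Subtype.ext ?_⟩
      rw [Subgroup.coe_pow, pow_one, hexp g g.2, Subgroup.coe_one]
    have hcop : Nat.Coprime n P := by
      obtain ⟨k, hk⟩ := hPk
      rw [hk]
      exact ((hp.coprime_iff_not_dvd.mpr hpn).symm).pow_right k
    have hnQ : n ∣ Nat.card (G ⧸ N) := hcop.dvd_of_dvd_mul_right (hcardQ ▸ hn)
    obtain ⟨k, hk1, hk2⟩ := Nat.chineseRemainder ((hp.coprime_iff_not_dvd.mpr hpn).symm) 1 0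
    let e : {x : G // x ^ n = 1} → {y : G ⧸ N // y ^ n = 1} := fun x => ⟨QuotientGroup.mk' N x.1, by rw [← map_pow, x.2, map_one]⟩
    have he : Function.Surjective e := by
      rintro ⟨y, hy⟩
      obtain ⟨x, rfl⟩ := QuotientGroup.mk'_surjective N y
      have hxn : x ^ n ∈ N := (hmk _).mp (by rw [map_pow]; exact hy)
      obtain ⟨r, hr⟩ := (Nat.modEq_zero_iff_dvd).mp hk2
      refine ⟨⟨x ^ k, ?_⟩, Subtype.ext ?_⟩
      · rw [← pow_mul, mul_comm, pow_mul, hr, pow_mul, hexp _ hxn, one_pow]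
      · show QuotientGroup.mk' N (x ^ k) = QuotientGroup.mk' N x
        conv_rhs => rw [← pow_one (QuotientGroup.mk' N x)]
        rw [map_pow, pow_eq_pow_iff_modEq]
        exact hk1.of_dvd (orderOf_dvd_of_pow_eq_one hy)
    have hle := Nat.card_le_card_of_surjective e he
    rw [hcount] at hle
    haveI : Nonempty {y : G ⧸ N // y ^ n = 1} := ⟨⟨1, one_pow n⟩⟩
    have hc1 : Nat.card {y : G ⧸ N // y ^ n = 1} = n :=
      le_antisymm hle (Nat.le_of_dvd Nat.card_pos (CfsgLib.GroupB.FrobDiv.dvd_card_pow_eq_one hnQ))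
    obtain ⟨T, hTn, hT⟩ := ih _ hlt (G ⧸ N) rfl n hnQ hc1
    haveI := hTn
    set H := T.comap (QuotientGroup.mk' N) with hH
    have hcT : Nat.card T = n := by
      rw [← hc1]
      exact Nat.card_congr (Equiv.setCongr hT)
    have hNH : N ≤ H := fun x hx => by
      show QuotientGroup.mk' N x ∈ T
      rw [(hmk x).mpr hx]; exact T.one_mem
    have hcH : Nat.card H = n * P := by rw [hH, cardpre, hcT]
    have hcN : Nat.card (N.subgroupOf H) = P := Nat.card_congr (Subgroup.subgroupOfEquivOfLe hNH).toEquiv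
    have hidx : (N.subgroupOf H).index = n := by
      have h := (N.subgroupOf H).index_mul_card
      rw [hcN, hcH] at h
      exact Nat.eq_of_mul_eq_mul_right Nat.card_pos h
    obtain ⟨C, hC⟩ := Subgroup.exists_right_complement'_of_coprime (N := N.subgroupOf H) (by rw [hcN, hidx]; exact hcop.symm)
    have hcC : Nat.card (C.map H.subtype) = n := by
      rw [Subgroup.card_map_of_injective H.subtype_injective, ← hC.symm.index_eq_card, hidx]
    have heq : ((C.map H.subtype : Subgroup G) : Set G) = {x : G | x ^ n = 1} := by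
      refine Set.eq_of_subset_of_ncard_le ?_ ?_ (Set.toFinite _)
      · intro x hx
        show x ^ n = 1
        rw [← orderOf_dvd_iff_pow_eq_one, ← hcC]
        exact Subgroup.orderOf_dvd_natCard _ hx
      · rw [show ({x : G | x ^ n = 1}).ncard = n from (Nat.card_coe_set_eq _).symm.trans hcount, ← Nat.card_coe_set_eq]
        exact hcC.ge
    refine ⟨C.map H.subtype, ⟨fun x hx g => ?_⟩, heq⟩
    have hx' : x ∈ ((C.map H.subtype : Subgroup G) : Set G) := hx
    show g * x * g⁻¹ ∈ ((C.map H.subtype : Subgroup G) : Set G)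
    rw [heq] at hx' ⊢
    show (g * x * g⁻¹) ^ n = 1
    rw [conj_pow, show x ^ n = 1 from hx', mul_one, mul_inv_cancel]


/-- If `G` is a finite solvable group and `n` divides the order of `G` and exactly `n` elements `x` of `G` satisfy `x^n = 1`, then these elements form a normal subgroup. -/
theorem result {G : Type*} [Group G] [Finite G] [Group.IsSolvable G] (n : ℕ) (hn : n ∣ Nat.card G) (hcount : Nat.card {x : G // x ^ n = 1} = n) : ∃ H : Subgroup G, H.Normal ∧ (H : Set G) = {x : G | x ^ n = 1} := by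
  exact aux _ G rfl n hn hcount

end Cfsg.Agent.S4213
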