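import Cfsg.Statements.S4231
import Mathlib
import Cfsg.Agent.S2119
import Cfsg.Agent.S2231
import Cfsg.Agent.S3835
import Cfsg.Agent.Lib.Perm.Blocks

set_option autoImplicit false
open Cfsg

namespace Cfsg.Agent.S4231

set_option maxHeartbeats 1000000

open Equiv CfsgLib.Perm.Blocks Cfsg.Agent.S2119

section
variable {X : Type*} [Fintype X] [DecidableEq X]

/-- automorphisms are conjugations -/
theorem exists_conj_of_map (h4 : 4 ≤ Fintype.card X) (φ : MulAut (alternatingGroup X))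
    (hmap : ∀ t : alternatingGroup X, (t : Perm X).IsThreeCycle → ((φ t : alternatingGroup X) : Perm X).IsThreeCycle) :
    ∃ σ : Perm X, MulAut.conjNormal σ = φ := by
  classical
  obtain ⟨o, o', hoo⟩ := Fintype.exists_pair_of_one_lt_card (show 1 < Fintype.card X by omega)
  let I := {i : X // i ≠ o ∧ i ≠ o'}
  let t : I → alternatingGroup X := fun i =>
    ⟨cyc o o' i, Equiv.Perm.mem_alternatingGroup.2 (cyc_even hoo (Ne.symm i.2.2))⟩
  have tthree : ∀ i : I, (t i : Perm X).IsThreeCycle := fun i => by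
    have e : cyc o o' (i : X) = swap o' o * swap o' i := by rw [cyc, swap_comm o o']
    show (cyc o o' (i : X)).IsThreeCycle
    rw [e]
    exact Equiv.Perm.isThreeCycle_swap_mul_swap_same hoo.symm (Ne.symm i.2.2) (Ne.symm i.2.1)
  let x : I → Perm X := fun i => ((φ (t i) : alternatingGroup X) : Perm X)
  have xnear : ∀ i j : I, i ≠ j → Near (x i) (x j) := by
    intro i j hij
    have hij' : (i : X) ≠ j := fun h => hij (Subtype.ext h)
    have hprod : cyc o o' (i : X) * cyc o o' (j : X) = swap o (i : X) * swap o' (j : X) := by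
      have e := CfsgLib.Perm.Blocks.conj_swap (swap o o') o' (i : X)
      rw [Equiv.swap_inv, swap_apply_right, swap_apply_of_ne_of_ne i.2.1 i.2.2] at e
      rw [cyc, cyc, ← mul_assoc, e]
    have hp : (t i * t j : alternatingGroup X) ≠ 1 := fun h => by
      have := DFunLike.congr_fun (congrArg Subtype.val h) (j : X)
      rw [Subgroup.coe_mul, Subgroup.coe_one, Perm.one_apply] at this
      change (cyc o o' (i : X) * cyc o o' (j : X)) (j : X) = j at this
      rw [hprod, Perm.mul_apply, swap_apply_right, swap_apply_of_ne_of_ne hoo.symm (Ne.symm i.2.2)] at this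
      exact j.2.2 this.symm
    have hp2 : (t i * t j) * (t i * t j) = (1 : alternatingGroup X) := Subtype.ext (by
      show (cyc o o' (i : X) * cyc o o' (j : X)) * (cyc o o' (i : X) * cyc o o' (j : X)) = 1
      rw [hprod]
      nth_rw 2 [swap_comm_of_ne hoo (Ne.symm j.2.1) i.2.2 hij']
      rw [mul_assoc, ← mul_assoc (swap o' (j : X)) (swap o' (j : X)), swap_mul_self, one_mul, swap_mul_self])
    refine ⟨hmap (t j) (tthree j), ?_, ?_, ?_⟩
    · show ((φ (t i) : alternatingGroup X) : Perm X) * _ * _ = 1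
      rw [← Subgroup.coe_mul, ← Subgroup.coe_mul, ← map_mul, ← map_mul, hp2, map_one, Subgroup.coe_one]
    · show ((φ (t i) : alternatingGroup X) : Perm X) * _ ≠ 1
      intro h
      rw [← Subgroup.coe_mul, ← map_mul] at h
      exact hp (φ.injective ((Subtype.ext h).trans (map_one φ).symm))
    · intro h
      have h' : t i = t j := φ.injective (Subtype.ext h)
      have h'' := DFunLike.congr_fun (congrArg Subtype.val h') o'
      obtain ⟨-, v1, -⟩ := cyc_vals hoo (Ne.symm i.2.2) (Ne.symm i.2.1)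
      obtain ⟨-, v2, -⟩ := cyc_vals hoo (Ne.symm j.2.2) (Ne.symm j.2.1)
      exact hij' (v1.symm.trans (h''.trans v2))
  obtain ⟨i₀, i₁, hi01⟩ : ∃ i₀ i₁ : I, i₀ ≠ i₁ := by
    refine Fintype.exists_pair_of_one_lt_card ?_
    rw [Fintype.card_subtype, show (Finset.univ.filter fun i : X => i ≠ o ∧ i ≠ o') = (Finset.univ.erase o).erase o' by
      ext; simp [and_comm], Finset.card_erase_of_mem (by simp [hoo.symm]), Finset.card_erase_of_mem (Finset.mem_univ _),
      Finset.card_univ]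
    omega
  obtain ⟨u, v, w, huv, hvw, huw, hx0⟩ := eq_cyc (hmap (t i₀) (tthree i₀))
  have hx0' : x i₀ = cyc u v w := hx0
  have hn := xnear i₀ i₁ hi01
  rw [hx0'] at hn
  obtain ⟨a, b, c, d, hab, hbc, hac, had, hbd, hcd, e0, e1⟩ : ∃ a b c d, a ≠ b ∧ b ≠ c ∧ a ≠ c ∧ a ≠ d ∧ b ≠ d ∧
      c ≠ d ∧ x i₀ = cyc a b c ∧ x i₁ = cyc a b d := by
    obtain ⟨d, h | h | h⟩ := near_form huv hvw huw hn
    · exact ⟨u, v, w, d, huv, hvw, huw, h.2.1, h.2.2.1, h.2.2.2, hx0', h.1⟩
    · exact ⟨v, w, u, d, hvw, huw.symm, huv.symm, h.2.1, h.2.2.1, h.2.2.2, hx0'.trans (cyc_rot huv hvw huw), h.1⟩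
    · exact ⟨w, u, v, d, huw.symm, huv, hvw.symm, h.2.1, h.2.2.1, h.2.2.2,
        hx0'.trans ((cyc_rot huv hvw huw).trans (cyc_rot hvw huw.symm huv.symm)), h.1⟩
  have hall : ∀ i, ∃ z, x i = cyc a b z ∧ a ≠ z ∧ b ≠ z := by
    intro i
    by_cases h0 : i = i₀
    · subst h0; exact ⟨c, e0, hac, hbc⟩
    by_cases h1 : i = i₁
    · subst h1; exact ⟨d, e1, had, hbd⟩
    exact coherent hab hbc hac had hbd hcd (e0 ▸ xnear i₀ i (Ne.symm h0)) (e1 ▸ xnear i₁ i (Ne.symm h1))
  choose z hz hza hzb using hall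
  let f : X → X := fun p => if hp : p ≠ o ∧ p ≠ o' then z ⟨p, hp⟩ else if p = o then a else b
  have fo : f o = a := by simp [f]
  have fo' : f o' = b := by simp [f, hoo.symm]
  have fi : ∀ i : I, f i = z i := fun i => dif_pos i.2
  have hinj : Function.Injective f := by
    intro p q hpq
    have cases' : ∀ p, (p = o ∧ f p = a) ∨ (p = o' ∧ f p = b) ∨ ∃ i : I, p = i ∧ f p = z i := by
      intro p
      by_cases h1 : p = o
      · exact Or.inl ⟨h1, h1 ▸ fo⟩
      by_cases h2 : p = o'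
      · exact Or.inr (Or.inl ⟨h2, h2 ▸ fo'⟩)
      exact Or.inr (Or.inr ⟨⟨p, h1, h2⟩, rfl, fi ⟨p, h1, h2⟩⟩)
    rcases cases' p with ⟨e, f1⟩ | ⟨e, f1⟩ | ⟨i, e, f1⟩ <;> rcases cases' q with ⟨e', f2⟩ | ⟨e', f2⟩ | ⟨i', e', f2⟩
    all_goals rw [f1, f2] at hpq
    · rw [e, e']
    · exact absurd hpq hab
    · exact absurd hpq (hza i')
    · exact absurd hpq.symm hab
    · rw [e, e']
    · exact absurd hpq (hzb i')
    · exact absurd hpq.symm (hza i)
    · exact absurd hpq.symm (hzb i)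
    · have h' : i = i' := by
        by_contra h
        exact (xnear i i' h).2.2.2 (by rw [hz, hz, hpq])
      rw [e, e', h']
  refine ⟨Equiv.ofBijective f (Finite.injective_iff_bijective.1 hinj), ?_⟩
  let Q := ((φ.toMonoidHom).eqLocus
    (MulAut.conjNormal (Equiv.ofBijective f (Finite.injective_iff_bijective.1 hinj)) : MulAut (alternatingGroup X)).toMonoidHom).map
      (alternatingGroup X).subtype
  have hle : Subgroup.closure {g : Perm X | ∃ i, i ≠ o ∧ i ≠ o' ∧ g = cyc o o' i} ≤ Q := by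
    rw [Subgroup.closure_le]
    rintro _ ⟨i, hi1, hi2, rfl⟩
    refine ⟨t ⟨i, hi1, hi2⟩, Subtype.ext ?_, rfl⟩
    show x ⟨i, hi1, hi2⟩ = ((MulAut.conjNormal _ (t ⟨i, hi1, hi2⟩) : alternatingGroup X) : Perm X)
    rw [MulAut.conjNormal_apply, hz]
    show _ = _ * cyc o o' i * _
    rw [cyc_conj]
    show _ = cyc (f o) (f o') (f i)
    rw [fo, fo', fi ⟨i, hi1, hi2⟩]
  refine MulEquiv.ext fun g => ?_
  obtain ⟨g', hg', hgg⟩ := hle (closure_based hoo g.2)
  rw [← (Subtype.ext hgg : g' = g)]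
  exact (hg' : φ g' = _).symm

end

/-- Automorphisms of odd finite order preserve three-cycles. -/
theorem map_threeCycle_of_odd {n : ℕ} (hn : 5 ≤ n) (φ : MulAut (alternatingGroup (Fin n))) (m : ℕ) (hm : Odd m) (hφ : φ ^ m = 1)
    (t : alternatingGroup (Fin n)) (ht : (t : Perm (Fin n)).IsThreeCycle) :
    ((φ t : alternatingGroup (Fin n)) : Perm (Fin n)).IsThreeCycle := by
  classical
  by_cases h6 : n = 6
  swap
  · exact map_threeCycle (by rw [Fintype.card_fin]; omega) (by rw [Fintype.card_fin]; exact h6) φ t ht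
  subst h6
  let A := alternatingGroup (Fin 6)
  let C : Finset A := Finset.univ.filter fun g : A => (g : Perm (Fin 6)).cycleType = {3}
  let D : Finset A := Finset.univ.filter fun g : A => (g : Perm (Fin 6)).cycleType = {3, 3}
  have hC : ∀ g : A, g ∈ C ↔ (g : Perm (Fin 6)).IsThreeCycle := fun g => by simp [C, Equiv.Perm.IsThreeCycle]
  have hcnt : ∀ M : Multiset ℕ, (∀ g : Perm (Fin 6), g.cycleType = M → g ∈ A) →
      (Finset.univ.filter fun g : A => (g : Perm (Fin 6)).cycleType = M).card = (Finset.univ.filter fun g : Perm (Fin 6) => g.cycleType = M).card := by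
    intro M hM
    refine Finset.card_bij (fun g _ => (g : Perm (Fin 6))) (fun g hg => ?_) (fun a _ b _ h => Subtype.ext h) (fun g hg => ⟨⟨g, hM g ?_⟩, ?_, rfl⟩)
    · simpa using hg
    · simpa using hg
    · simpa using hg
  have hcard : C.card = D.card := by
    have hmem : ∀ M : Multiset ℕ, M = {3} ∨ M = {3, 3} → ∀ g : Perm (Fin 6), g.cycleType = M → g ∈ A := by
      intro M hM g hg
      rw [Equiv.Perm.mem_alternatingGroup, Equiv.Perm.sign_of_cycleType, hg]
      rcases hM with rfl | rfl <;> rfl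
    rw [hcnt _ (hmem _ (Or.inl rfl)), hcnt _ (hmem _ (Or.inr rfl)), Equiv.Perm.card_of_cycleType, Equiv.Perm.card_of_cycleType]
    decide
  have hsplit : ∀ g : A, orderOf g = 3 → g ∈ C ∨ g ∈ D := by
    intro g hg
    rw [← Subgroup.orderOf_coe] at hg
    obtain ⟨k, hk⟩ := Equiv.Perm.cycleType_prime_order (σ := (g : Perm (Fin 6))) (by rw [hg]; exact Nat.prime_three)
    rw [hg] at hk
    have hsum := Equiv.Perm.sum_cycleType_le (g : Perm (Fin 6))
    rw [hk, Multiset.sum_replicate, smul_eq_mul, Fintype.card_fin] at hsum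
    have : k = 0 ∨ k = 1 := by omega
    rcases this with rfl | rfl
    · left; simp [C, hk]
    · right; simp [D, hk, Multiset.replicate_succ]
  have hord : ∀ ψ : MulAut A, ∀ g ∈ C, ψ g ∈ C ∨ ψ g ∈ D := fun ψ g hg => hsplit _ (by
    rw [ψ.orderOf_eq, ← Subgroup.orderOf_coe, ((hC g).1 hg).orderOf])
  have hdisj : ∀ g, g ∈ C → g ∈ D → False := fun g h1 h2 => by
    simp only [C, D, Finset.mem_filter] at h1 h2
    rw [h1.2] at h2
    exact absurd h2.2 (by decide)
  by_contra hno
  have htC : t ∈ C := (hC t).2 ht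
  have hbad : φ t ∈ D := (hord φ t htC).resolve_left (fun h => hno ((hC _).1 h))
  have hCD : ∀ g ∈ C, φ g ∈ D := by
    intro g hg
    refine (hord φ g hg).resolve_left fun h => ?_
    have hc := alternatingGroup.isThreeCycle_isConj (α := Fin 6) (by simp) ((hC g).1 hg) ht
    obtain ⟨c, hc'⟩ := isConj_iff.1 ((φ.toMonoidHom).map_isConj hc)
    refine hno ?_
    show ((φ t : A) : Perm (Fin 6)).cycleType = {3}
    rw [show φ t = c * φ g * c⁻¹ from hc'.symm]
    show ((c : Perm (Fin 6)) * (φ g : A) * (c : Perm (Fin 6))⁻¹).cycleType = _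
    rw [Equiv.Perm.cycleType_conj]
    simpa [C] using h
  have himg : C.image φ = D := Finset.eq_of_subset_of_card_le (fun x hx => by
      obtain ⟨g, hg, rfl⟩ := Finset.mem_image.1 hx; exact hCD g hg)
    (by rw [Finset.card_image_of_injective _ φ.injective, hcard])
  have hDC : ∀ g ∈ D, φ g ∈ C := by
    intro g hg
    obtain ⟨c, hc, rfl⟩ := Finset.mem_image.1 (himg ▸ hg : g ∈ C.image φ)
    have h3 : orderOf (φ (φ c)) = 3 := by
      rw [φ.orderOf_eq, φ.orderOf_eq, ← Subgroup.orderOf_coe, ((hC c).1 hc).orderOf]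
    refine (hsplit _ h3).resolve_right fun h => ?_
    obtain ⟨c', hc', he⟩ := Finset.mem_image.1 (himg ▸ h : φ (φ c) ∈ C.image φ)
    rw [φ.injective.eq_iff] at he
    exact hdisj c' hc' (he ▸ hg)
  have hiter : ∀ k, (Even k → (φ ^ k) t ∈ C) ∧ (Odd k → (φ ^ k) t ∈ D) := by
    intro k
    induction k with
    | zero => exact ⟨fun _ => by simpa using htC, fun h => absurd h (by decide)⟩
    | succ k ih =>
      rw [pow_succ', MulAut.mul_apply]
      refine ⟨fun h => ?_, fun h => ?_⟩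
      · exact hDC _ (ih.2 (Nat.not_even_iff_odd.1 (Nat.even_add_one.1 h)))
      · exact hCD _ (ih.1 (by by_contra h'; exact Nat.not_even_iff_odd.2 h (Nat.even_add_one.2 h')))
  have := (hiter m).2 hm
  rw [hφ] at this
  exact hdisj t htC this


/-- Let n ≥ 5 and let G be a group of automorphisms of the alternating group of degree n containing all inner automorphisms. If p ≠ q are primes and G has no element of order pq, then every Sylow p-subgroup of G is abelian or every Sylow q-subgroup of G is abelian. -/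
theorem result (n : ℕ) (hn : 5 ≤ n) (G : Subgroup (MulAut (alternatingGroup (Fin n))))
    (hG : (MulAut.conj : alternatingGroup (Fin n) →* MulAut (alternatingGroup (Fin n))).range ≤ G)
    (p q : ℕ) [Fact p.Prime] [Fact q.Prime] (hpq : p ≠ q) (h : ∀ g : G, orderOf g ≠ p * q) :
    (∀ P : Sylow p G, IsMulCommutative (P : Subgroup G)) ∨ (∀ Q : Sylow q G, IsMulCommutative (Q : Subgroup G)) := by
  classical
  have hinj : Function.Injective (MulAut.conj : alternatingGroup (Fin n) →* MulAut (alternatingGroup (Fin n))) := by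
    haveI : IsSimpleGroup (alternatingGroup (Fin n)) := alternatingGroup.isSimpleGroup (by rwa [Nat.card_eq_fintype_card, Fintype.card_fin])
    rw [← MonoidHom.ker_eq_bot_iff]
    rcases Subgroup.Normal.eq_bot_or_eq_top (inferInstance : (MulAut.conj : alternatingGroup (Fin n) →* MulAut (alternatingGroup (Fin n))).ker.Normal) with hk | hk
    · exact hk
    · exfalso
      obtain ⟨a, b, c, hab, hbc, hac⟩ : ∃ a b c : Fin n, a ≠ b ∧ b ≠ c ∧ a ≠ c :=
        ⟨⟨0, by omega⟩, ⟨1, by omega⟩, ⟨2, by omega⟩, by simp, by simp, by simp⟩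
      obtain ⟨d, hda, hdb, hdc⟩ : ∃ d : Fin n, d ≠ a ∧ d ≠ b ∧ d ≠ c := by
        obtain ⟨d, hd⟩ := Finset.exists_mem_notMem_of_card_lt_card (s := ({a, b, c} : Finset (Fin n))) (t := Finset.univ)
          (lt_of_le_of_lt Finset.card_le_three (by rw [Finset.card_univ, Fintype.card_fin]; omega))
        simp only [Finset.mem_insert, Finset.mem_singleton, not_or] at hd
        exact ⟨d, hd.2⟩
      let x : alternatingGroup (Fin n) := ⟨swap a b * swap a c, (Equiv.Perm.isThreeCycle_swap_mul_swap_same hab hac hbc).mem_alternatingGroup⟩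
      let y : alternatingGroup (Fin n) := ⟨swap a b * swap a d, (Equiv.Perm.isThreeCycle_swap_mul_swap_same hab hda.symm hdb.symm).mem_alternatingGroup⟩
      have hx : MulAut.conj x = 1 := MonoidHom.mem_ker.1 (hk ▸ Subgroup.mem_top x)
      have h1 := congrArg (fun f : MulAut (alternatingGroup (Fin n)) => ((f y : alternatingGroup (Fin n)) : Perm (Fin n))) hx
      have h2 : (x : Perm (Fin n)) * y = y * x := by
        simp only [MulAut.conj_apply, MulAut.one_apply, Subgroup.coe_mul, Subgroup.coe_inv] at h1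
        exact mul_inv_eq_iff_eq_mul.1 h1
      have h3 := DFunLike.congr_fun h2 c
      simp [x, y, Equiv.swap_apply_def, hab, hac, hbc, hda, hdb, hdc, hab.symm, hac.symm, hbc.symm, hda.symm, hdb.symm, hdc.symm] at h3
  have hnonab : ∀ (r : ℕ) [Fact r.Prime], r ≠ 2 → ¬ (∀ P : Sylow r G, IsMulCommutative (P : Subgroup G)) → r ^ 2 ≤ n := by
    intro r _ hr2 hna
    by_contra hlt
    apply hna
    intro P
    refine ⟨⟨fun a b => ?_⟩⟩
    set Q := ((P : Subgroup G).map G.subtype) with hQ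
    have hQp : IsPGroup r Q := P.isPGroup'.map _
    let N : Subgroup (MulAut (alternatingGroup (Fin n))) := (MulAut.conjNormal : Perm (Fin n) →* MulAut ↥(alternatingGroup (Fin n))).range
    have hle : Q ≤ N := by
      intro φ hφ
      obtain ⟨k, hk⟩ := hQp ⟨φ, hφ⟩
      have hodd : Odd (r ^ k) := ((Fact.out : r.Prime).odd_of_ne_two hr2).pow
      exact exists_conj_of_map (by rw [Fintype.card_fin]; omega) φ
        (map_threeCycle_of_odd hn φ _ hodd (congrArg Subtype.val hk))
    have hab := Cfsg.Agent.S2231.abelianPSubgroups_of_surjective (MulAut.conjNormal : Perm (Fin n) →* MulAut ↥(alternatingGroup (Fin n))).rangeRestrict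
      (MonoidHom.rangeRestrict_surjective _) (Cfsg.Agent.S3835.abelian_perm r n (not_le.1 hlt))
    have h := hab (Q.subgroupOf N) (hQp.comap_of_injective _ Subtype.val_injective)
      ⟨_, hle ⟨a.1, a.2, rfl⟩⟩ ⟨a.1, a.2, rfl⟩ ⟨_, hle ⟨b.1, b.2, rfl⟩⟩ ⟨b.1, b.2, rfl⟩
    exact Subtype.ext (Subtype.ext (show a.1.1 * b.1.1 = b.1.1 * a.1.1 from congrArg Subtype.val h))
  by_contra hcon
  push Not at hcon
  obtain ⟨⟨P, hP⟩, ⟨Q, hQ⟩⟩ := hcon
  have hel : ∀ σ : Perm (Fin n), σ ∈ alternatingGroup (Fin n) → orderOf σ = p * q → False := by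
    intro σ hσ ho
    refine h ⟨MulAut.conj ⟨σ, hσ⟩, hG ⟨_, rfl⟩⟩ ?_
    rw [← Subgroup.orderOf_coe]
    show orderOf (MulAut.conj (⟨σ, hσ⟩ : alternatingGroup (Fin n))) = _
    rw [orderOf_injective _ hinj, ← Subgroup.orderOf_coe]
    exact ho
  have hex : ∀ M : Multiset ℕ, M.sum ≤ n → (∀ a ∈ M, 2 ≤ a) → Even (M.sum + M.card) → ∃ σ : Perm (Fin n), σ ∈ alternatingGroup (Fin n) ∧ orderOf σ = M.lcm := by
    intro M h1 h2 h3
    obtain ⟨σ, hσ⟩ := (Equiv.Perm.exists_with_cycleType_iff (Fin n) (m := M)).2 ⟨by rwa [Fintype.card_fin], h2⟩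
    refine ⟨σ, ?_, by rw [← Equiv.Perm.lcm_cycleType, hσ]⟩
    rw [Equiv.Perm.mem_alternatingGroup, Equiv.Perm.sign_of_cycleType, hσ, h3.neg_one_pow]
  have hpp := (Fact.out : p.Prime)
  have hqp := (Fact.out : q.Prime)
  have hmix : ∀ (r : ℕ), r.Prime → r ≠ 2 → r ^ 2 ≤ n → ∃ σ : Perm (Fin n), σ ∈ alternatingGroup (Fin n) ∧ orderOf σ = 2 * r := by
    intro r hr hr2 hrn
    have hr3 : 3 ≤ r := by have := hr.two_le; omega
    have hco : Nat.lcm 2 r = 2 * r := Nat.Coprime.lcm_eq_mul ((Nat.coprime_primes Nat.prime_two hr).2 (Ne.symm hr2))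
    obtain ⟨σ, hσ, ho⟩ := hex {2, 2, r} (by simp; nlinarith) (by intro a ha; simp at ha; omega)
      (by simp; rw [Nat.even_iff]; have := (hr.odd_of_ne_two hr2); rw [Nat.odd_iff] at this; omega)
    refine ⟨σ, hσ, ?_⟩
    rw [ho, ← hco]
    simp [← lcm_eq_nat_lcm, ← lcm_assoc]
  have hPn : ¬ ∀ P : Sylow p G, IsMulCommutative (P : Subgroup G) := fun h' => hP (h' P)
  have hQn : ¬ ∀ Q : Sylow q G, IsMulCommutative (Q : Subgroup G) := fun h' => hQ (h' Q)
  by_cases hp2 : p = 2
  · obtain ⟨σ, hσ, ho⟩ := hmix q hqp (by omega) (hnonab q (by omega) hQn)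
    exact hel σ hσ (by rw [ho, hp2])
  by_cases hq2 : q = 2
  · obtain ⟨σ, hσ, ho⟩ := hmix p hpp hp2 (hnonab p hp2 hPn)
    exact hel σ hσ (by rw [ho, hq2, mul_comm])
  have h1 := hnonab p hp2 hPn
  have h2 := hnonab q hq2 hQn
  have hp3 : 3 ≤ p := by have := hpp.two_le; omega
  have hq3 : 3 ≤ q := by have := hqp.two_le; omega
  obtain ⟨σ, hσ, ho⟩ := hex {p, q} (by simp; rcases le_total p q with hh | hh <;> nlinarith) (by intro a ha; simp at ha; omega)
    (by simp; rw [Nat.even_iff]; have := hpp.odd_of_ne_two hp2; have := hqp.odd_of_ne_two hq2; rw [Nat.odd_iff] at *; omega)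
  refine hel σ hσ ?_
  rw [ho]
  simp [← Nat.Coprime.lcm_eq_mul ((Nat.coprime_primes hpp hqp).2 hpq), lcm_eq_nat_lcm]

end Cfsg.Agent.S4231
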