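import Cfsg.Statements.S4347
import Mathlib.Tactic
import Cfsg.Agent.Lib.Thompson.PClosed

set_option autoImplicit false
open Cfsg

namespace Cfsg.Agent.S4347

/-- Let G be a finite group and p a prime. Say a Sylow p-subgroup Q is redundant when every element of p-power order lies in some Sylow p-subgroup other than Q. Then G has no redundant Sylow p-subgroup if and only if some element of p-power order lies in exactly one Sylow p-subgroup. -/
theorem result {G : Type*} [Group G] [Finite G]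
    (p : ℕ) [Fact p.Prime] :
    (¬ ∃ Q : Sylow p G, ∀ x : G, (∃ k : ℕ, orderOf x = p ^ k) → ∃ P : Sylow p G, P ≠ Q ∧ x ∈ P) ↔
      ∃ x : G, (∃ k : ℕ, orderOf x = p ^ k) ∧ ∃! P : Sylow p G, x ∈ P := by
  constructor
  · intro h
    push Not at h
    obtain ⟨P⟩ := (inferInstance : Nonempty (Sylow p G))
    obtain ⟨x, hx, hxP⟩ := h P
    obtain ⟨k, hk⟩ := hx
    have hpz : IsPGroup p (Subgroup.zpowers x) := IsPGroup.of_card (n := k) (by rw [Nat.card_zpowers, hk])
    obtain ⟨Q, hQ⟩ := hpz.exists_le_sylow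
    refine ⟨x, ⟨k, hk⟩, Q, hQ (Subgroup.mem_zpowers x), fun R hR => ?_⟩
    have e : ∀ S : Sylow p G, x ∈ S → S = P := fun S hS => by
      by_contra hne; exact hxP S hne hS
    rw [e R hR, e Q (hQ (Subgroup.mem_zpowers x))]
  · rintro ⟨x, ⟨k, hk⟩, P, hP, huniq⟩ ⟨Q, hQ⟩
    obtain ⟨g, hg⟩ := MulAction.exists_smul_eq G P Q
    have hconj : g * x * g⁻¹ ∈ (Q : Subgroup G) := by rw [← hg]; exact ⟨x, hP, rfl⟩
    obtain ⟨R, hRne, hR⟩ := hQ (g * x * g⁻¹) ⟨k, by rw [← hk]; exact CfsgLib.ThompsonNPC.orderOf_conj_eq g x⟩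
    refine hRne ?_
    have hmem : x ∈ (g⁻¹ • R : Sylow p G) :=
      ⟨g * x * g⁻¹, hR, by show g⁻¹ * (g * x * g⁻¹) * g⁻¹⁻¹ = x; group⟩
    rw [← hg, ← huniq _ hmem, smul_inv_smul]

end Cfsg.Agent.S4347
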