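import Cfsg.Statements.S4348
import Cfsg.Agent.Lib.Core

set_option autoImplicit false
open Cfsg

namespace Cfsg.Agent.S4348

/-- Let G be a finite group, p a prime and P a Sylow p-subgroup of G, and let O_p(G) be the largest normal p-subgroup of G. If P/O_p(G) is cyclic, then some element of p-power order of G lies in exactly one Sylow p-subgroup. -/
theorem result {G : Type*} [Group G] [Finite G]
    (p : ℕ) [Fact p.Prime] (P : Sylow p G)
    [hn : ((Cfsg.pCore p G).subgroupOf (P : Subgroup G)).Normal]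
    (hc : IsCyclic ((P : Subgroup G) ⧸ (Cfsg.pCore p G).subgroupOf (P : Subgroup G))) :
    ∃ x : G, (∃ k : ℕ, orderOf x = p ^ k) ∧ ∃! Q : Sylow p G, x ∈ Q := by
  obtain ⟨g, hg⟩ := hc.exists_generator
  obtain ⟨⟨x, hx⟩, rfl⟩ := QuotientGroup.mk'_surjective _ g
  obtain ⟨k, hk⟩ := P.2.exists_orderOf_eq_pow ⟨x, hx⟩
  refine ⟨x, ⟨k, by rw [← hk, Subgroup.orderOf_mk]⟩, P, hx, fun Q hxQ => Sylow.ext ?_⟩
  have hle : (P : Subgroup G) ≤ (Q : Subgroup G) := by
    intro u hu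
    obtain ⟨i, hi⟩ := Subgroup.mem_zpowers_iff.mp (hg (QuotientGroup.mk' _ ⟨u, hu⟩))
    rw [← map_zpow] at hi
    have h2 : ((⟨x, hx⟩ : (P : Subgroup G)) ^ i)⁻¹ * ⟨u, hu⟩ ∈ (Cfsg.pCore p G).subgroupOf (P : Subgroup G) :=
      QuotientGroup.eq.mp hi
    have h3 : (x ^ i)⁻¹ * u ∈ (Q : Subgroup G) := CfsgLib.Core.pCore_le_sylow Q h2
    exact ((Q : Subgroup G).mul_mem_cancel_left ((Q : Subgroup G).inv_mem ((Q : Subgroup G).zpow_mem hxQ i))).mp h3
  exact (Subgroup.eq_of_le_of_card_ge hle (by rw [Sylow.card_eq_multiplicity, Sylow.card_eq_multiplicity])).symm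

end Cfsg.Agent.S4348
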