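import Cfsg.Agent.S0071
import Cfsg.Agent.Lib.GroupB.AutPGroup
import Cfsg.Agent.Lib.Metacyclic.TwoFusion
import Cfsg.Agent.Lib.Core
import Cfsg.Agent.Lib.PConstrained
-- import your own Cfsg.Agent.* helpers here

set_option autoImplicit false
open Cfsg

namespace Cfsg.Agent.S4419

theorem aut_prime_dvd {Q : Type*} [Group Q] [Finite Q] {p : ℕ} [Fact p.Prime] (hQ : IsPGroup p Q)
    (hm : Cfsg.IsMetacyclic Q) {q : ℕ} (hq : q.Prime) (hqp : q ≠ p) (hd : q ∣ Nat.card (MulAut Q)) : q ∣ p ^ 2 - 1 := by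
  classical
  have hpp : p.Prime := Fact.out
  obtain ⟨N, hN, hNc, hQc⟩ := hm
  haveI := hN
  obtain ⟨a, ha⟩ := IsCyclic.exists_generator (α := N)
  obtain ⟨b', hb'⟩ := IsCyclic.exists_generator (α := Q ⧸ N)
  obtain ⟨b, rfl⟩ := QuotientGroup.mk'_surjective N b'
  obtain ⟨hcomm, hpow⟩ := Cfsg.Agent.S0012.result p hQ
  let π : Q →* Q ⧸ frattini Q := QuotientGroup.mk' _
  have hsurj : Function.Surjective (fun ij : Fin p × Fin p => π b ^ (ij.1 : ℕ) * π (a : Q) ^ (ij.2 : ℕ)) := by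
    intro x
    obtain ⟨x, rfl⟩ := QuotientGroup.mk'_surjective _ x
    have hexp : ∀ y : Q, π y ^ p = 1 := fun y => by
      rw [← map_pow]; exact (QuotientGroup.eq_one_iff (y ^ p)).mpr (hpow y)
    obtain ⟨i, hi⟩ := Subgroup.mem_zpowers_iff.mp (hb' (QuotientGroup.mk' N x))
    rw [← map_zpow] at hi
    have hmem : (b ^ i)⁻¹ * x ∈ N := QuotientGroup.eq.mp hi
    obtain ⟨j, hj⟩ := Subgroup.mem_zpowers_iff.mp (ha ⟨_, hmem⟩)
    have hj' : (a : Q) ^ j = (b ^ i)⁻¹ * x := congrArg Subtype.val hj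
    have hx : π x = π b ^ i * π (a : Q) ^ j := by
      rw [← map_zpow, ← map_zpow, hj', ← map_mul, mul_inv_cancel_left]
    have red : ∀ (y : Q) (n : ℤ), ∃ m : Fin p, π y ^ (m : ℕ) = π y ^ n := by
      intro y n
      refine ⟨⟨(n % (p : ℤ)).toNat, ?_⟩, ?_⟩
      · have := Int.emod_lt_of_pos n (Int.natCast_pos.mpr hpp.pos)
        have := Int.emod_nonneg n (Int.natCast_ne_zero.mpr hpp.ne_zero)
        omega
      · show π y ^ (n % (p : ℤ)).toNat = _
        rw [← zpow_natCast, Int.toNat_of_nonneg (Int.emod_nonneg n (Int.natCast_ne_zero.mpr hpp.ne_zero))]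
        conv_rhs => rw [← Int.emod_add_mul_ediv n (p : ℤ)]
        rw [zpow_add, zpow_mul, zpow_natCast, hexp, one_zpow, mul_one]
    obtain ⟨m1, h1⟩ := red b i
    obtain ⟨m2, h2⟩ := red (a : Q) j
    exact ⟨(m1, m2), by show π b ^ (m1 : ℕ) * π (a : Q) ^ (m2 : ℕ) = π x; rw [h1, h2, hx]⟩
  obtain ⟨r, hr⟩ := hQ.index (frattini Q)
  have hr2 : r ≤ 2 := by
    have h0 := Nat.card_le_card_of_surjective _ hsurj
    rw [Nat.card_prod, Nat.card_fin, show Nat.card (Q ⧸ frattini Q) = (frattini Q).index from rfl, hr] at h0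
    exact (Nat.pow_le_pow_iff_right hpp.one_lt).mp (h0.trans (pow_two p).ge)
  have h1 := hd.trans (CfsgLib.GroupB.AutPGroup.card_aut_dvd hQ hr).2
  rcases (Nat.Prime.dvd_mul hq).mp h1 with h1 | h1
  · obtain ⟨k, hk⟩ := IsPGroup.iff_card.mp (hQ.to_subgroup (frattini Q))
    rw [hk, ← pow_mul] at h1
    exact absurd ((Nat.prime_dvd_prime_iff_eq hq hpp).mp (hq.dvd_of_dvd_pow h1)) hqp
  have hsq : p ^ 2 - 1 = (p + 1) * (p - 1) := by rw [← Nat.sq_sub_sq, one_pow]
  interval_cases r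
  · simp at h1; exact absurd h1 hq.ne_one
  · simp only [Finset.prod_range_succ, Finset.prod_range_zero, one_mul, pow_zero, pow_one] at h1
    rw [hsq]; exact h1.mul_left _
  · simp only [Finset.prod_range_succ, Finset.prod_range_zero, one_mul, pow_zero, pow_one] at h1
    rcases (Nat.Prime.dvd_mul hq).mp h1 with h2 | h2
    · exact h2
    · rw [show p ^ 2 - p = p * (p - 1) by rw [Nat.mul_sub, mul_one, pow_two]] at h2
      rcases (Nat.Prime.dvd_mul hq).mp h2 with h3 | h3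
      · exact absurd ((Nat.prime_dvd_prime_iff_eq hq hpp).mp h3) hqp
      · rw [hsq]; exact h3.mul_left _



/-- Let p be a prime and G a finite group whose Sylow p-subgroups are metacyclic (a cyclic normal subgroup with cyclic quotient). Then G has a normal p-complement if and only if the order of G/O_{p′,p}(G) is coprime to p² − 1. -/
theorem result {G : Type*} [Group G] [Finite G] (p : ℕ) [Fact p.Prime] (S : Sylow p G) (hS : Cfsg.IsMetacyclic ↥(S : Subgroup G)) : Cfsg.HasNormalPComplement p G ↔ Nat.Coprime (Nat.card (G ⧸ Cfsg.pPrimePCore p G)) (p ^ 2 - 1) := by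
  classical
  have hpp : p.Prime := Fact.out
  set K := Cfsg.pPrimeCore p G with hK
  haveI hKn : K.Normal := CfsgLib.PConstrained.pPrimeCore_normal
  have hKcop : (Nat.card K).Coprime p := CfsgLib.Core.card_pPrimeCore_coprime p
  set π := QuotientGroup.mk' K with hπ
  have hPC : Cfsg.pPrimePCore p G = (Cfsg.pCore p (G ⧸ K)).comap π := rfl
  haveI : (Cfsg.pPrimePCore p G).Normal := by rw [hPC]; infer_instance
  constructor
  · rintro ⟨P, N, hN, hNP⟩
    have hNc : (Nat.card N).Coprime p := by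
      rw [← hNP.index_eq_card]
      exact (hpp.coprime_iff_not_dvd.mpr P.not_dvd_index).symm
    have hNK : N ≤ K := CfsgLib.Core.le_pPrimeCore hN hNc
    have hp' : IsPGroup p (G ⧸ K) := by
      obtain ⟨k, hk⟩ := IsPGroup.iff_card.mp P.2
      rw [← hNP.symm.index_eq_card] at hk
      obtain ⟨j, -, hj⟩ := (Nat.dvd_prime_pow hpp).mp (hk ▸ Subgroup.index_dvd_of_le hNK)
      exact IsPGroup.of_card (n := j) hj
    have htop : Cfsg.pCore p (G ⧸ K) = ⊤ :=
      top_le_iff.mp (CfsgLib.Core.le_pCore inferInstance (hp'.to_subgroup ⊤))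
    rw [show Nat.card (G ⧸ Cfsg.pPrimePCore p G) = (Cfsg.pPrimePCore p G).index from rfl, hPC, htop, Subgroup.comap_top,
      Subgroup.index_top]
    exact Nat.coprime_one_left _
  · intro hcop
    suffices hF : ∀ Q : Subgroup G, Q ≤ (S : Subgroup G) → ∀ g ∈ Subgroup.normalizer (Q : Set G),
        Nat.Coprime (orderOf g) p → g ∈ Subgroup.centralizer (Q : Set G) by
      obtain ⟨N, hN⟩ := (Cfsg.Agent.S0071.result S).mpr hF
      exact ⟨S, N, hN⟩
    intro Q hQ g hg hgc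
    let φ : ↥(Subgroup.normalizer (Q : Set G)) →* MulAut Q := Q.normalizerMonoidHom
    have hQp : IsPGroup p Q := S.2.to_le hQ
    have hQm : Cfsg.IsMetacyclic Q :=
      CfsgLib.Metacyclic.TwoFusion.of_injective hS (Subgroup.inclusion hQ) (Subgroup.inclusion_injective hQ)
    suffices hphi : φ ⟨g, hg⟩ = 1 by
      have : (⟨g, hg⟩ : ↥(Subgroup.normalizer (Q : Set G))) ∈ φ.ker := hphi
      rw [Subgroup.normalizerMonoidHom_ker] at this
      exact this
    by_contra hne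
    obtain ⟨q, hq, hqd⟩ := Nat.exists_prime_and_dvd (mt orderOf_eq_one_iff.mp hne)
    haveI := Fact.mk hq
    have hqg : q ∣ orderOf g := hqd.trans ((orderOf_map_dvd φ _).trans (by rw [Subgroup.orderOf_mk]))
    have hqp : q ≠ p := fun e => hpp.one_lt.ne' (Nat.eq_one_of_dvd_coprimes hgc (e ▸ hqg) dvd_rfl)
    have hq2 : q ∣ p ^ 2 - 1 := aut_prime_dvd hQp hQm hq hqp (hqd.trans (orderOf_dvd_natCard _))
    obtain ⟨e, m, hm, hem⟩ := Nat.exists_eq_pow_mul_and_not_dvd (orderOf_pos g).ne' q hq.ne_one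
    set h := g ^ m with hh
    have hh1 : h ^ q ^ e = 1 := by rw [hh, ← pow_mul, mul_comm, ← hem, pow_orderOf_eq_one]
    have hhC : h ∈ Cfsg.pPrimePCore p G := by
      refine (QuotientGroup.eq_one_iff h).mp (orderOf_eq_one_iff.mp (Nat.eq_one_of_dvd_coprimes
        (Nat.Coprime.pow_right e ((hq.coprime_iff_not_dvd.mpr fun hd => ?_).symm)) (orderOf_dvd_natCard _) (orderOf_dvd_of_pow_eq_one ?_)))
      · exact hq.one_lt.ne' (Nat.eq_one_of_dvd_coprimes hcop hd hq2)
      · rw [← QuotientGroup.mk_pow, hh1]; rfl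
    have hhK : h ∈ K := by
      obtain ⟨k, hk⟩ := (CfsgLib.Core.isPGroup_pCore (G := G ⧸ K) p) ⟨π h, hhC⟩
      refine (QuotientGroup.eq_one_iff h).mp (orderOf_eq_one_iff.mp (Nat.eq_one_of_dvd_coprimes
        (Nat.Coprime.pow e k ((Nat.coprime_primes hq hpp).mpr hqp)) (orderOf_dvd_of_pow_eq_one ?_) (orderOf_dvd_of_pow_eq_one ?_)))
      · rw [← QuotientGroup.mk_pow, hh1]; rfl
      · exact congrArg Subtype.val hk
    have hhN : h ∈ Subgroup.normalizer (Q : Set G) := pow_mem hg m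
    have hphi : φ ⟨h, hhN⟩ = 1 := by
      have hker : (⟨h, hhN⟩ : ↥(Subgroup.normalizer (Q : Set G))) ∈ φ.ker := by
        rw [Subgroup.normalizerMonoidHom_ker]
        refine Subgroup.mem_subgroupOf.mpr (Subgroup.mem_centralizer_iff.mpr fun u hu => ?_)
        have h1 : h * u * h⁻¹ * u⁻¹ ∈ Q := mul_mem ((Subgroup.mem_normalizer_iff.mp hhN u).mp hu) (inv_mem hu)
        have h2 : h * u * h⁻¹ * u⁻¹ ∈ K := by
          rw [show h * u * h⁻¹ * u⁻¹ = h * (u * h⁻¹ * u⁻¹) by group]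
          exact mul_mem hhK (hKn.conj_mem _ (inv_mem hhK) u)
        obtain ⟨k, hk⟩ := hQp ⟨_, h1⟩
        have h3 := orderOf_eq_one_iff.mp (Nat.eq_one_of_dvd_coprimes (hKcop.pow_right k) (Subgroup.orderOf_dvd_natCard K h2)
          (orderOf_dvd_of_pow_eq_one (congrArg Subtype.val hk :)))
        exact (mul_inv_eq_iff_eq_mul.mp (mul_inv_eq_one.mp h3)).symm
      exact hker
    have h4 : φ ⟨g, hg⟩ ^ m = 1 := by rw [← map_pow]; exact hphi
    exact hm (hqd.trans (orderOf_dvd_of_pow_eq_one h4))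

end Cfsg.Agent.S4419
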