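import Cfsg.Statements.S4713
import Cfsg.Agent.Lib.Chars.GlaubermanFixed
import Cfsg.Agent.Lib.Blocks.Reynolds
import Cfsg.Agent.Lib.Blocks.Cover
import Cfsg.Agent.Lib.CliffordCorr
import Cfsg.Agent.Lib.Core
import Cfsg.Agent.Lib.Chars.Kernel
import Cfsg.Agent.Lib.Chars.Misc
import Mathlib.GroupTheory.GroupAction.Quotient

set_option autoImplicit false
open Cfsg

namespace Cfsg.Agent.S4713

open CfsgLib.Chars CfsgLib.Blocks
open CfsgLib.Chars.Glauberman
open scoped commutatorElement

theorem deg_normal {G : Type*} [Group G] [Finite G] {p : ℕ}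
    (hdeg : ∀ χ : Cfsg.IrrCharacter G, ¬ p ∣ Cfsg.charDegree (χ : G → ℂ)) (N : Subgroup G) [N.Normal]
    (θ : Cfsg.IrrCharacter N) : ¬ p ∣ Cfsg.charDegree (θ : N → ℂ) := by
  classical
  haveI := Fintype.ofFinite G
  haveI := Fintype.ofFinite N
  obtain ⟨χ, hχ⟩ := exists_over N θ
  obtain ⟨e, -, -, -, hd⟩ := clifford N χ θ hχ
  exact fun h => hdeg χ (hd ▸ dvd_mul_of_dvd_right h _)

theorem deg_quotient {G : Type*} [Group G] {p : ℕ}
    (hdeg : ∀ χ : Cfsg.IrrCharacter G, ¬ p ∣ Cfsg.charDegree (χ : G → ℂ)) (N : Subgroup G) [N.Normal]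
    (χ : Cfsg.IrrCharacter (G ⧸ N)) : ¬ p ∣ Cfsg.charDegree (χ : G ⧸ N → ℂ) :=
  hdeg ⟨_, isIrrCharacter_inflate N χ⟩

theorem eq_top_of_conj {G : Type*} [Group G] [Finite G] (F : Subgroup G)
    (h : ∀ g : G, ∃ f ∈ F, IsConj f g) : F = ⊤ := by
  classical
  haveI := Fintype.ofFinite G
  haveI := Fintype.ofFinite (G ⧸ F)
  by_contra hF
  have h2 : 1 < Fintype.card (G ⧸ F) := by
    rw [← Nat.card_eq_fintype_card]
    have h0 := F.index_ne_zero_of_finite
    have h1 : F.index ≠ 1 := fun h => hF (Subgroup.index_eq_one.mp h)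
    change 1 < F.index
    omega
  haveI : Fintype (Quotient (MulAction.orbitRel G (G ⧸ F))) := Fintype.ofFinite _
  have hone : Fintype.card (Quotient (MulAction.orbitRel G (G ⧸ F))) = 1 := by
    haveI : Subsingleton (Quotient (MulAction.orbitRel G (G ⧸ F))) := ⟨fun a b => by
      induction a using Quotient.inductionOn with | _ a => ?_
      induction b using Quotient.inductionOn with | _ b => ?_
      exact Quotient.sound ((MulAction.orbitRel_apply).mpr (MulAction.exists_smul_eq G b a))⟩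
    haveI : Nonempty (Quotient (MulAction.orbitRel G (G ⧸ F))) := ⟨Quotient.mk _ ((1 : G) : G ⧸ F)⟩
    exact Fintype.card_eq_one_iff_nonempty_unique.mpr ⟨uniqueOfSubsingleton (Classical.arbitrary _)⟩
  have hs := MulAction.sum_card_fixedBy_eq_card_orbits_mul_card_group G (G ⧸ F)
  rw [hone, one_mul] at hs
  have hpos : ∀ g : G, 1 ≤ Fintype.card (MulAction.fixedBy (G ⧸ F) g) := by
    intro g
    obtain ⟨f, hf, hfg⟩ := h g
    obtain ⟨c, rfl⟩ := isConj_iff.mp hfg
    refine Fintype.card_pos_iff.mpr ⟨⟨(c : G ⧸ F), ?_⟩⟩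
    show (c * f * c⁻¹) • (c : G ⧸ F) = c
    rw [MulAction.Quotient.smul_coe, QuotientGroup.eq]
    simpa using hf
  have hlt : ∑ _g : G, 1 < ∑ g : G, Fintype.card (MulAction.fixedBy (G ⧸ F) g) := by
    refine Finset.sum_lt_sum (fun g _ => hpos g) ⟨1, Finset.mem_univ _, ?_⟩
    simpa using h2
  rw [Finset.sum_const, Finset.card_univ, smul_eq_mul, mul_one] at hlt
  exact absurd hs hlt.ne'

theorem core_step {Y : Type*} [Group Y] [Finite Y] {p : ℕ} [hp : Fact p.Prime]
    (hdeg : ∀ χ : Cfsg.IrrCharacter Y, ¬ p ∣ Cfsg.charDegree (χ : Y → ℂ))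
    (N : Subgroup Y) [N.Normal] (hNc : ¬ p ∣ Nat.card N) {m : ℕ} (hidx : N.index = p ^ m)
    (P : Sylow p Y) : (P : Subgroup Y).Normal := by
  classical
  haveI := Fintype.ofFinite Y
  haveI := Fintype.ofFinite N
  haveI : Group.IsNilpotent (P : Subgroup Y) := P.2.isNilpotent
  let φ : (P : Subgroup Y) →* MulAut N := MulAut.conjNormal.comp (P : Subgroup Y).subtype
  let F : Subgroup N := (Subgroup.centralizer ((P : Subgroup Y) : Set Y)).subgroupOf N
  have hF : ∀ n, n ∈ F ↔ ∀ s, φ s n = n := by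
    intro n
    simp only [F, Subgroup.mem_subgroupOf, Subgroup.mem_centralizer_iff, φ, MonoidHom.comp_apply,
      Subtype.ext_iff, MulAut.conjNormal_apply, Subgroup.coe_subtype, Subtype.forall, SetLike.mem_coe]
    exact forall₂_congr fun a _ => mul_inv_eq_iff_eq_mul.symm
  have hcop : (Nat.card N).Coprime (Nat.card (P : Subgroup Y)) := by
    obtain ⟨j, hj⟩ := P.2.exists_card_eq
    rw [hj]
    exact ((hp.out.coprime_iff_not_dvd.mpr hNc).symm).pow_right j
  have hinv : ∀ θ : Cfsg.IrrCharacter N, IsInv φ (θ : N → ℂ) := by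
    intro θ s n
    let T : Subgroup Y :=
      { carrier := {g | conjIrr N θ g = θ}
        one_mem' := conjIrr_one N θ
        mul_mem' := fun {a b} ha hb => by
          show conjIrr N θ (a * b) = θ
          rw [conjIrr_mul, ha, hb]
        inv_mem' := fun {a} ha => by
          show conjIrr N θ a⁻¹ = θ
          conv_lhs => rw [← ha]
          rw [← conjIrr_mul, mul_inv_cancel, conjIrr_one] }
    haveI := Fintype.ofFinite T
    have hmem : ∀ g, g ∈ T ↔ conjIrr N θ g = θ := fun g => Iff.rfl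
    obtain ⟨χ, hχ⟩ := exists_over N θ
    obtain ⟨e, -, -, -, hd⟩ := clifford N χ θ hχ
    rw [CfsgLib.CliffordCorr.card_orbit N θ hmem] at hd
    have hNT : N ≤ T := CfsgLib.CliffordCorr.le_inertia N θ hmem
    obtain ⟨i, -, hi⟩ := (Nat.dvd_prime_pow hp.out).mp (hidx ▸ Subgroup.index_dvd_of_le hNT)
    have hi0 : i = 0 := by
      by_contra h0
      exact hdeg χ (hd ▸ dvd_mul_of_dvd_left (dvd_mul_of_dvd_right (hi ▸ dvd_pow_self p h0) e) _)
    have hT : (s : Y) ∈ T := by
      rw [Subgroup.index_eq_one.mp (hi.trans (by rw [hi0, pow_zero]))]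
      trivial
    exact congrFun (congrArg Subtype.val ((hmem _).mp hT)) n
  have hcard := card_inv_eq_fixed _ N (P : Subgroup Y) φ le_rfl hcop F hF
  rw [Nat.card_congr (Equiv.subtypeUnivEquiv hinv), card_irr, card_irr] at hcard
  let S : Setting N F (P : Subgroup Y) p :=
    ⟨φ, F.subtype, F.subtype_injective,
      fun g => ⟨fun h => ⟨⟨g, (hF g).mpr h⟩, rfl⟩, fun ⟨c, hc⟩ => hc ▸ (hF c).mp c.2⟩, P.2, hp.out, hNc⟩
  haveI := Fintype.ofFinite F
  have hinj : Function.Injective (ConjClasses.map F.subtype) := by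
    intro a b
    obtain ⟨a, rfl⟩ := ConjClasses.mk_surjective a
    obtain ⟨b, rfl⟩ := ConjClasses.mk_surjective b
    intro hab
    exact ConjClasses.mk_eq_mk_iff_isConj.mpr
      ((isConj_iff_fixed S a b).mp (ConjClasses.mk_eq_mk_iff_isConj.mp hab))
  have hbij := (Nat.bijective_iff_injective_and_card _).mpr ⟨hinj, hcard.symm⟩
  have hFtop : F = ⊤ := by
    refine eq_top_of_conj F fun n => ?_
    obtain ⟨c, hc⟩ := hbij.2 (ConjClasses.mk n)
    obtain ⟨f, rfl⟩ := ConjClasses.mk_surjective c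
    exact ⟨f, f.2, ConjClasses.mk_eq_mk_iff_isConj.mp hc⟩
  have hsup : N ⊔ (P : Subgroup Y) = ⊤ := by
    rw [← Subgroup.index_eq_one]
    by_contra hne
    obtain ⟨i, -, hi⟩ := (Nat.dvd_prime_pow hp.out).mp
      (hidx ▸ Subgroup.index_dvd_of_le (le_sup_left : N ≤ N ⊔ (P : Subgroup Y)))
    have hi0 : i ≠ 0 := fun h0 => hne (by rw [hi, h0, pow_zero])
    exact P.not_dvd_index ((hi ▸ dvd_pow_self p hi0).trans
      (Subgroup.index_dvd_of_le (le_sup_right : (P : Subgroup Y) ≤ N ⊔ (P : Subgroup Y))))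
  rw [← Subgroup.normalizer_eq_top_iff, eq_top_iff, ← hsup]
  refine sup_le (fun n hn => ?_) Subgroup.le_normalizer
  refine Subgroup.centralizer_le_normalizer _ ?_
  have : (⟨n, hn⟩ : N) ∈ F := hFtop ▸ Subgroup.mem_top _
  exact Subgroup.mem_subgroupOf.mp this

/-- Let p be a prime and G a finite p-solvable group. Then G has a normal abelian Sylow p-subgroup if and only if the degree of every irreducible character of G is prime to p. -/
theorem result {G : Type*} [Group G] [Finite G] (p : ℕ) [Fact p.Prime] (hsolv : Cfsg.IsPSolvable p G) (P : Sylow p G) : ((P : Subgroup G).Normal ∧ IsMulCommutative P) ↔ ∀ χ : Cfsg.IrrCharacter G, ¬ p ∣ Cfsg.charDegree (χ : G → ℂ) := by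
  classical
  haveI := Fintype.ofFinite G
  have hp : p.Prime := Fact.out
  constructor
  · rintro ⟨hn, hab⟩ χ h
    haveI := hn
    exact P.not_dvd_index (h.trans (CfsgLib.Blocks.Reynolds.ito χ (P : Subgroup G) fun a b => hab.is_comm.comm a b))
  intro hdeg
  obtain ⟨n, H, h0, h1, hmono, hnormal, hstep⟩ := hsolv
  set O := Cfsg.pCore p G with hOdef
  haveI : O.Normal := Cfsg.pCore_normal p G
  have hall : ∀ i : Fin (n + 1), ¬ p ∣ O.relIndex (H i) := by
    intro i
    induction i using Fin.induction with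
    | zero => rw [h0, Subgroup.relIndex_bot_right]; exact hp.not_dvd_one
    | succ i ih =>
      have hle : H i.castSucc ≤ H i.succ := hmono (Fin.castSucc_le_succ i)
      rcases hstep i with ⟨m, hm⟩ | hco
      · haveI := hnormal i.castSucc
        haveI := hnormal i.succ
        set π := QuotientGroup.mk' O
        set N := (H i.castSucc).map π with hN
        set L := (H i.succ).map π with hL
        haveI : L.Normal := (hnormal i.succ).map π (QuotientGroup.mk'_surjective O)
        haveI : N.Normal := (hnormal i.castSucc).map π (QuotientGroup.mk'_surjective O)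
        haveI : (N.subgroupOf L).Normal := (inferInstance : N.Normal).subgroupOf L
        have hNL : N ≤ L := Subgroup.map_mono hle
        have hcard : ∀ K : Subgroup G, Nat.card (K.map π) = O.relIndex K := by
          intro K
          conv_rhs => rw [← QuotientGroup.ker_mk' O]
          rw [Subgroup.relIndex_ker]
        have hNc : ¬ p ∣ Nat.card (N.subgroupOf L) := by
          rw [Nat.card_congr (Subgroup.subgroupOfEquivOfLe hNL).toEquiv, hN, hcard]; exact ih
        obtain ⟨j, -, hj⟩ := (Nat.dvd_prime_pow hp).mp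
          (show (N.subgroupOf L).index ∣ p ^ m from by
            rw [← hm]
            change N.relIndex L ∣ _
            rw [hL, ← Subgroup.relIndex_comap]
            exact Subgroup.relIndex_dvd_of_le_left _ (Subgroup.le_comap_map _ _))
        obtain ⟨R⟩ : Nonempty (Sylow p L) := inferInstance
        have hRn := core_step (deg_normal (deg_quotient hdeg O) L) (N.subgroupOf L) hNc hj R
        have hRbot : (R : Subgroup L) = ⊥ := by
          rw [eq_bot_iff]
          intro x hx
          have h' := CfsgLib.Core.pCore_subgroup_map_le p L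
            (Subgroup.mem_map_of_mem L.subtype (CfsgLib.Core.le_pCore hRn R.2 hx))
          rw [CfsgLib.Core.pCore_quotient_eq_bot, Subgroup.mem_bot] at h'
          exact Subgroup.mem_bot.mpr (Subtype.ext h')
        intro hd
        rw [← hcard] at hd
        have h3 := R.not_dvd_index
        rw [hRbot, Subgroup.index_bot] at h3
        exact h3 hd
      · intro hd
        have h3 : O.relIndex (H i.succ) ∣
            O.relIndex (H i.castSucc) * (H i.castSucc).relIndex (H i.succ) := by
          rw [← Subgroup.inf_relIndex_right O (H i.castSucc),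
            Subgroup.relIndex_mul_relIndex _ _ _ inf_le_right hle]
          exact Subgroup.relIndex_dvd_of_le_left _ inf_le_left
        rcases hp.dvd_mul.mp (hd.trans h3) with h4 | h4
        · exact ih h4
        · exact (hp.coprime_iff_not_dvd.mp hco.symm) h4
  have hidx : ¬ p ∣ O.index := by simpa [h1] using hall (Fin.last n)
  have hPO : (P : Subgroup G) = O := by
    refine le_antisymm ?_ (CfsgLib.Core.pCore_le_sylow P)
    rw [← Subgroup.relIndex_eq_one]
    by_contra hne
    obtain ⟨j, hj⟩ := P.2.exists_card_eq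
    obtain ⟨i, -, hi⟩ := (Nat.dvd_prime_pow hp).mp (hj ▸ O.relIndex_dvd_card (P : Subgroup G))
    have hi0 : i ≠ 0 := fun h0 => hne (by rw [hi, h0, pow_zero])
    exact hidx ((hi ▸ dvd_pow_self p hi0).trans (Subgroup.relIndex_dvd_index_of_normal O _))
  have hPn : (P : Subgroup G).Normal := hPO ▸ inferInstance
  refine ⟨hPn, ⟨⟨fun a b => ?_⟩⟩⟩
  haveI := Fintype.ofFinite (P : Subgroup G)
  rw [← commutatorElement_eq_one_iff_mul_comm]
  by_contra hne
  have h := sum_deg_mul ⁅a, b⁆
  rw [if_neg hne] at h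
  have hlin : ∀ θ : Cfsg.IrrCharacter (P : Subgroup G),
      (θ : ↥(P : Subgroup G) → ℂ) ⁅a, b⁆ = 1 ∧ (θ : ↥(P : Subgroup G) → ℂ) 1 = 1 := by
    intro θ
    have hd : Cfsg.charDegree (θ : ↥(P : Subgroup G) → ℂ) = 1 := by
      obtain ⟨j, hj⟩ := P.2.exists_card_eq
      obtain ⟨i, -, hi⟩ := (Nat.dvd_prime_pow hp).mp (hj ▸ charDegree_dvd θ)
      by_contra h1
      exact deg_normal hdeg (P : Subgroup G) θ (hi ▸ dvd_pow_self p fun h0 => h1 (by rw [hi, h0, pow_zero]))
    obtain ⟨f, rfl⟩ := exists_homIrr θ hd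
    refine ⟨?_, ?_⟩
    · show ((f ⁅a, b⁆ : ℂˣ) : ℂ) = 1
      rw [map_commutatorElement, commutatorElement_eq_one_iff_mul_comm.mpr (mul_comm _ _), Units.val_one]
    · show ((f 1 : ℂˣ) : ℂ) = 1
      simp
  rw [Fintype.sum_congr _ (fun _ => (1 : ℂ)) (fun θ => by
    rw [(hlin θ).1, (hlin θ).2, one_mul])] at h
  simp only [Finset.sum_const, Finset.card_univ, nsmul_eq_mul, mul_one, Nat.cast_eq_zero] at h
  haveI : Nonempty (Cfsg.IrrCharacter ↥(P : Subgroup G)) := ⟨homIrr 1⟩
  exact (Fintype.card_ne_zero (α := Cfsg.IrrCharacter ↥(P : Subgroup G))) h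

end Cfsg.Agent.S4713
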