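import Cfsg.Statements.S4856
import Cfsg.Agent.Lib.Chars.Misc

set_option autoImplicit false
open Cfsg

namespace Cfsg.Agent.S4856

open CfsgLib.Chars
open scoped ComplexConjugate

/-- For an element z of a finite group G, the number of pairs (x, y) of elements with x y x⁻¹ y⁻¹ = z equals the order of G times the sum over the irreducible characters χ of χ(z)/χ(1). -/
theorem result {G : Type*} [Group G] [Finite G] (z : G) : (Nat.card {xy : G × G // xy.1 * xy.2 * xy.1⁻¹ * xy.2⁻¹ = z} : ℂ) = (Nat.card G : ℂ) * ∑ᶠ χ : Cfsg.IrrCharacter G, (χ : G → ℂ) z / (χ : G → ℂ) 1 := by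
  classical
  haveI := Fintype.ofFinite G
  rw [finsum_eq_sum_of_fintype, Nat.card_eq_fintype_card (α := {xy : G × G // _}),
    Fintype.card_subtype, ← Finset.sum_boole, Fintype.sum_prod_type, Finset.mul_sum]
  have key : ∀ x : G, (∑ y : G, if x * y * x⁻¹ * y⁻¹ = z then (1 : ℂ) else 0) =
      ∑ χ : IrrCharacter G, (χ : G → ℂ) x * (χ : G → ℂ) (x⁻¹ * z) := by
    intro x
    have h1 : (∑ y : G, if x * y * x⁻¹ * y⁻¹ = z then (1 : ℂ) else 0) =
        ∑ w : G, if w⁻¹ * x⁻¹ * w = x⁻¹ * z then (1 : ℂ) else 0 := by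
      refine Fintype.sum_equiv (Equiv.inv G) _ _ fun y => ?_
      simp only [Equiv.inv_apply, inv_inv]
      refine if_congr ?_ rfl rfl
      constructor
      · rintro rfl; group
      · intro h
        rw [show x * y * x⁻¹ * y⁻¹ = x * (y * x⁻¹ * y⁻¹) by group, h, mul_inv_cancel_left]
    rw [h1, sum_conj x⁻¹ (fun w => if w = x⁻¹ * z then (1 : ℂ) else 0), Finset.sum_ite_eq']
    have h2 := col_orth (x⁻¹ * z) x⁻¹
    have h3 : ∀ χ : IrrCharacter G, conj ((χ : G → ℂ) x⁻¹) = (χ : G → ℂ) x := fun χ => by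
      rw [IsCharacter.map_inv (isCharacter_irr χ), Complex.conj_conj]
    simp_rw [h3] at h2
    rw [Finset.sum_congr rfl fun χ _ => mul_comm ((χ : IrrCharacter G).1 x) _, h2]
    simp
  rw [Finset.sum_congr rfl fun x _ => key x, Finset.sum_comm]
  refine Finset.sum_congr rfl fun χ _ => ?_
  rw [sum_mul_translate, mul_div_assoc]

end Cfsg.Agent.S4856
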