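import Cfsg.Statements.S4814
import Cfsg.Agent.Lib.Chars.Misc
import Cfsg.Agent.S4856

set_option autoImplicit false
open Cfsg

namespace Cfsg.Agent.S4814

open CfsgLib.Chars
open scoped ComplexConjugate

/-- Let G be a finite group such that the sum, over the irreducible complex characters χ of G, of 1/χ(1)² is less than 2. Then every element of G is a product of two commutators. -/
theorem result {G : Type*} [Group G] [Finite G]
    (h : ∑ᶠ χ : Cfsg.IrrCharacter G, 1 / ‖(χ : G → ℂ) 1‖ ^ 2 < (2 : ℝ)) (g : G) :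
    ∃ a b c d : G, (a * b * a⁻¹ * b⁻¹) * (c * d * c⁻¹ * d⁻¹) = g := by
  classical
  haveI := Fintype.ofFinite G
  by_contra hno
  push Not at hno
  set c : G → ℂ := fun w => (Nat.card {xy : G × G // xy.1 * xy.2 * xy.1⁻¹ * xy.2⁻¹ = w} : ℂ) with hc
  have hform : ∀ w, c w = (Nat.card G : ℂ) *
      ∑ ψ : Cfsg.IrrCharacter G, conj ((ψ : G → ℂ) w) / (ψ : G → ℂ) 1 := by
    intro w
    have h1 : c w = conj (c w) := by simp [hc]
    rw [h1, hc]
    simp only
    rw [Cfsg.Agent.S4856.result w, finsum_eq_sum_of_fintype, map_mul, map_sum, Complex.conj_natCast]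
    refine congrArg _ (Finset.sum_congr rfl fun ψ _ => ?_)
    rw [map_div₀, ← IsCharacter.map_inv (isCharacter_irr ψ) 1, inv_one]
  have hcl : IsClassFunction G c := by
    intro u v
    rw [hform, hform]
    refine congrArg _ (Finset.sum_congr rfl fun ψ _ => ?_)
    rw [IsCharacter.isClassFunction (isCharacter_irr ψ) u v]
  have hom : ∀ χ : Cfsg.IrrCharacter G,
      omega (χ : G → ℂ) c = (Nat.card G : ℂ) ^ 2 / (χ : G → ℂ) 1 ^ 2 := by
    intro χ
    rw [omega]
    simp_rw [hform, Finset.mul_sum, Finset.sum_mul]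
    rw [Finset.sum_comm, Finset.sum_eq_single χ]
    · have h2 : ∑ w : G, (χ : G → ℂ) w * conj ((χ : G → ℂ) w) = (Nat.card G : ℂ) := by
        have := classInner_irr χ χ
        rwa [if_pos rfl, classInner, inv_mul_eq_one₀ (natCast_card_ne_zero G), eq_comm] at this
      rw [Finset.sum_congr rfl (g := fun w => ((Nat.card G : ℂ) / (χ : G → ℂ) 1) *
        ((χ : G → ℂ) w * conj ((χ : G → ℂ) w))) fun w _ => by ring, ← Finset.mul_sum, h2]
      field_simp [irr_one_ne_zero χ]
    · intro ψ _ hne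
      have := classInner_irr χ ψ
      rw [if_neg (Ne.symm hne), classInner, mul_eq_zero] at this
      have h2 := this.resolve_left (inv_ne_zero (natCast_card_ne_zero G))
      rw [Finset.sum_congr rfl (g := fun w => ((Nat.card G : ℂ) / (ψ : G → ℂ) 1) *
        ((χ : G → ℂ) w * conj ((ψ : G → ℂ) w))) fun w _ => by ring, ← Finset.mul_sum, h2, mul_zero]
    · exact fun h => absurd (Finset.mem_univ χ) h
  have h0 : CfsgLib.Chars.conv c c g = 0 := by
    refine Finset.sum_eq_zero fun y _ => ?_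
    by_contra hne
    obtain ⟨h1, h2⟩ := mul_ne_zero_iff.mp hne
    simp only [hc, Nat.cast_ne_zero, Nat.card_ne_zero] at h1 h2
    obtain ⟨⟨a, b⟩, hab⟩ := h1.1
    obtain ⟨⟨u, v⟩, huv⟩ := h2.1
    simp only at hab huv
    exact hno a b u v (by rw [hab, huv, mul_inv_cancel_left])
  rw [inversion (IsClassFunction.conv hcl hcl) g, mul_eq_zero] at h0
  have h3 := h0.resolve_left (inv_ne_zero (natCast_card_ne_zero G))
  simp_rw [omega_conv _ hcl hcl, hom] at h3
  have h4 : (Nat.card G : ℂ) ^ 4 *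
      ∑ χ : Cfsg.IrrCharacter G, conj ((χ : G → ℂ) g) / (χ : G → ℂ) 1 ^ 3 = 0 := by
    rw [Finset.mul_sum]
    convert h3 using 1
    refine Finset.sum_congr rfl fun χ _ => ?_
    field_simp [irr_one_ne_zero χ]
  have h5 := (mul_eq_zero.mp h4).resolve_left (pow_ne_zero _ (natCast_card_ne_zero G))
  set one : Cfsg.IrrCharacter G := ⟨_, isIrrCharacter_one G⟩ with hone
  rw [finsum_eq_sum_of_fintype, ← Finset.add_sum_erase _ _ (Finset.mem_univ one)] at h
  rw [← Finset.add_sum_erase _ _ (Finset.mem_univ one)] at h5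
  simp only [hone, map_one, one_pow, div_one, norm_one] at h h5
  have h6 : (1 : ℝ) ≤ ∑ χ ∈ Finset.univ.erase one, 1 / ‖(χ : G → ℂ) 1‖ ^ 2 := by
    have e := congrArg (fun z : ℂ => ‖z‖) (eq_neg_of_add_eq_zero_left h5)
    simp only [norm_one, norm_neg] at e
    simp only [hone]
    refine e.le.trans ((norm_sum_le _ _).trans (Finset.sum_le_sum fun χ _ => ?_))
    have hpos : (0 : ℝ) < ‖(χ : G → ℂ) 1‖ := norm_pos_iff.mpr (irr_one_ne_zero χ)
    rw [norm_div, norm_pow, Complex.norm_conj, div_le_div_iff₀ (pow_pos hpos 3) (pow_pos hpos 2)]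
    calc ‖(χ : G → ℂ) g‖ * ‖(χ : G → ℂ) 1‖ ^ 2 ≤ ‖(χ : G → ℂ) 1‖ * ‖(χ : G → ℂ) 1‖ ^ 2 :=
          mul_le_mul_of_nonneg_right ((IsCharacter.norm_le (isCharacter_irr χ) g).trans (Complex.re_le_norm _)) (sq_nonneg _)
      _ = _ := by ring
  simp only [hone] at h6
  linarith

end Cfsg.Agent.S4814
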