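import Cfsg.Statements.S5124
import Cfsg.Agent.Lib.Fusion.Hyperfocal

set_option autoImplicit false
open Cfsg

namespace Cfsg.Agent.S5124

/-- In a saturated fusion system over a finite p-group S the hyperfocal subgroup is strongly closed in the system. -/
theorem result {Ω : Type*} [Group Ω] {S : Subgroup Ω} [Finite S] (p : ℕ) [Fact p.Prime] (hS : IsPGroup p S) (F : Cfsg.FusionSystem S) (hF : F.IsSaturated p) : F.StronglyClosed (F.hyperfocalSubgroup p) := by
  haveI : Finite ↥S := ‹_›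
  refine ⟨CfsgLib.Biset.hyp_le p F, fun R hR φ hφ x => ?_⟩
  obtain ⟨q, hq⟩ := CfsgLib.Biset.exists_conj_mod_hyp p hS hF hφ
  have h := hq x (CfsgLib.Fusion.le_S hφ x.2) (CfsgLib.Fusion.apply_mem_S hφ x)
  have h1 : (QuotientGroup.mk ⟨(x : Ω), CfsgLib.Fusion.le_S hφ x.2⟩ : ↥S ⧸ CfsgLib.Biset.hypS p F) = 1 :=
    (QuotientGroup.eq_one_iff _).mpr (Subgroup.mem_subgroupOf.mpr (hR x.2))
  rw [h1, mul_one, mul_inv_cancel, QuotientGroup.eq_one_iff] at h
  exact Subgroup.mem_subgroupOf.mp h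

end Cfsg.Agent.S5124
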