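import Cfsg.Statements.S5125
import Cfsg.Agent.Lib.Fusion.SeriesCriterion
import Cfsg.Agent.Lib.LocalBasic

set_option autoImplicit false
open Cfsg

namespace Cfsg.Agent.S5125

open CfsgLib
open scoped commutatorElement
/-- Let F be a saturated fusion system over a finite p-group S and Q a subgroup strongly closed in F. If Q has a subgroup Q₁ that is normal in F, with Q/Q₁ abelian and Aut_F(Q₁) a p-group, then Q is normal in F. -/
theorem result {Ω : Type*} [Group Ω] {S : Subgroup Ω} [Finite S] (p : ℕ) [Fact p.Prime] (hS : IsPGroup p S) (F : Cfsg.FusionSystem S) (hF : F.IsSaturated p) (Q Q₁ : Subgroup Ω) (hQ : F.StronglyClosed Q) (hQ₁Q : Q₁ ≤ Q) (hQ₁ : F.IsNormal Q₁) (hab : ⁅Q, Q⁆ ≤ Q₁) (hAut : IsPGroup p ↥(F.autGroup Q₁)) : F.IsNormal Q := by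
  refine Fusion.isNormal_of_le_radical p hS hF hQ fun R _ hc hr => ?_
  haveI := Fusion.finite_of_le hc.1
  haveI := Fusion.finite_aut_of_le hc.1
  haveI := Fusion.finite_of_le hQ₁.1
  haveI := Fusion.finite_aut_of_le hQ₁.1
  have hpres : ∀ (D : Subgroup Ω), F.StronglyClosed D → ∀ (a : ↥(F.autGroup R)) (x : ↥R), (x : Ω) ∈ D →
      (((a : MulAut ↥R) x : ↥R) : Ω) ∈ D := fun D hD a x hx =>
    hD.2 _ inf_le_right _ (Fusion.restrict_mem ((Fusion.autGroup_carrier F hc.1 _).mp a.2) (inf_le_left : R ⊓ D ≤ R))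
      ⟨(x : Ω), x.2, hx⟩
  have h1sc := Fusion.isNormal_stronglyClosed hQ₁
  let A : Subgroup ↥(F.autGroup R) :=
    { carrier := {a | ∀ x : ↥R, ((x⁻¹ * (a : MulAut ↥R) x : ↥R) : Ω) ∈ Q ∧
        ((x : Ω) ∈ Q → ((x⁻¹ * (a : MulAut ↥R) x : ↥R) : Ω) ∈ Q₁)}
      one_mem' := fun x => by simp
      mul_mem' := fun {a b} ha hb x => by
        have e : ((x⁻¹ * ((a * b : ↥(F.autGroup R)) : MulAut ↥R) x : ↥R) : Ω) =
            ((x⁻¹ * (b : MulAut ↥R) x : ↥R) : Ω) * ((((b : MulAut ↥R) x)⁻¹ * (a : MulAut ↥R) ((b : MulAut ↥R) x) : ↥R) : Ω) := by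
          rw [← Subgroup.coe_mul]
          refine congrArg Subtype.val ?_
          show x⁻¹ * (a : MulAut ↥R) ((b : MulAut ↥R) x) = _
          group
        exact ⟨e ▸ mul_mem (hb x).1 (ha _).1, fun hx => e ▸ mul_mem ((hb x).2 hx) ((ha _).2 (hpres _ hQ b x hx))⟩
      inv_mem' := fun {a} ha x => by
        have e : ((x⁻¹ * ((a⁻¹ : ↥(F.autGroup R)) : MulAut ↥R) x : ↥R) : Ω) =
            ((((((a⁻¹ : ↥(F.autGroup R)) : MulAut ↥R) x))⁻¹ * (a : MulAut ↥R) (((a⁻¹ : ↥(F.autGroup R)) : MulAut ↥R) x) : ↥R) : Ω)⁻¹ := by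
          rw [← Subgroup.coe_inv]
          refine congrArg Subtype.val ?_
          rw [Subgroup.coe_inv, MulAut.apply_inv_self]
          group
        exact ⟨e ▸ inv_mem (ha _).1, fun hx => e ▸ inv_mem ((ha _).2 (hpres _ hQ a⁻¹ x hx))⟩ }
  haveI : A.Normal := ⟨fun a ha b x => by
    have e : x⁻¹ * ((b * a * b⁻¹ : ↥(F.autGroup R)) : MulAut ↥R) x = (b : MulAut ↥R)
        ((((b⁻¹ : ↥(F.autGroup R)) : MulAut ↥R) x)⁻¹ * (a : MulAut ↥R) (((b⁻¹ : ↥(F.autGroup R)) : MulAut ↥R) x)) := by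
      rw [map_mul, map_inv]
      congr 1
      rw [Subgroup.coe_inv, MulAut.apply_inv_self]
    exact ⟨e.symm ▸ hpres _ hQ b _ (ha _).1, fun hx => e.symm ▸ hpres _ h1sc b _ ((ha _).2 (hpres _ hQ b⁻¹ x hx))⟩⟩
  refine Fusion.le_of_normal_pGroup hS hQ.1 (Fusion.StronglyClosed.normal hQ) hc hr A
    (CfsgLib.LocalBasic.isPGroup_of_coprime_elements fun a ha => ?_) fun r hr' a hae x => ?_
  · have hRp : IsPGroup p ↥R := hS.to_le hc.1
    set α : MulAut ↥R := ((a : ↥(F.autGroup R)) : MulAut ↥R)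
    have hco : (orderOf α).Coprime p := by rwa [Subgroup.orderOf_coe, Subgroup.orderOf_coe]
    obtain ⟨β, hβ, hβe⟩ := Fusion.isNormal_restrict hQ₁ ((Fusion.autGroup_carrier F hc.1 _).mp (a : ↥(F.autGroup R)).2)
    have hiter : ∀ (k : ℕ) (y : ↥R) (hy : (y : Ω) ∈ Q₁), (((α ^ k) y : ↥R) : Ω) = (((β ^ k) ⟨y, hy⟩ : ↥Q₁) : Ω) := by
      intro k
      induction k with
      | zero => intro y _; rfl
      | succ k ih =>
        intro y hy
        have hmem : ((α y : ↥R) : Ω) ∈ Q₁ := by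
          have := (β ⟨y, hy⟩).2
          rwa [hβe y hy] at this
        rw [pow_succ α, MulAut.mul_apply, ih _ hmem, pow_succ β, MulAut.mul_apply]
        exact congrArg (fun w => (((β ^ k) w : ↥Q₁) : Ω)) (Subtype.ext (hβe y hy).symm)
    obtain ⟨j, hj⟩ := hAut ⟨β, hβ⟩
    have hfix1 : ∀ y : ↥R, (y : Ω) ∈ Q₁ → α y = y := by
      intro y hy
      obtain ⟨i, hi⟩ := exists_pow_eq_self_of_coprime (G := MulAut ↥R) (x := α) (n := p ^ j) (hco.symm.pow_left j)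
      rw [← hi, ← pow_mul]
      refine Subtype.ext ((hiter _ y hy).trans ?_)
      rw [pow_mul, show β ^ p ^ j = 1 from congrArg Subtype.val hj, one_pow]
      rfl
    have hfix2 : ∀ y : ↥R, (y : Ω) ∈ Q → α y = y := fun y hy =>
      Fusion.eq_self_of_step hRp hco (hfix1 _ ((a.2 y).2 hy))
    exact Subtype.ext (Subtype.ext (MulEquiv.ext fun y => Fusion.eq_self_of_step hRp hco (hfix2 _ (a.2 y).1)))
  · have e : ((x⁻¹ * (a : MulAut ↥R) x : ↥R) : Ω) = ⁅(x : Ω)⁻¹, r⁆ := by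
      rw [Subgroup.coe_mul, Subgroup.coe_inv, hae]; simp [commutatorElement_def, mul_assoc]
    refine ⟨?_, fun hx => e ▸ hab (Subgroup.commutator_mem_commutator (inv_mem hx) hr')⟩
    rw [e, commutatorElement_def, inv_inv,
      show (x : Ω)⁻¹ * r * (x : Ω) * r⁻¹ = ((x : Ω)⁻¹ * r * ((x : Ω)⁻¹)⁻¹) * r⁻¹ by group]
    exact mul_mem (Fusion.conj_mem_of_normalizer (Fusion.StronglyClosed.normal hQ (S.inv_mem (hc.1 x.2))) hr') (inv_mem hr')

end Cfsg.Agent.S5125
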