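import Cfsg.Statements.S5185
import Cfsg.Agent.Lib.Fusion.SmallEssentialMain

set_option autoImplicit false
universe u
open Cfsg

namespace Cfsg.Agent.S5185

/-- Let F be a saturated fusion system over a finite p-group S and H an essential subgroup of order p². Then H is elementary abelian (isomorphic to C_p × C_p) and its F-automorphism group contains a subgroup isomorphic to SL(2,p). -/
theorem result {Ω : Type u} [Group Ω] {S : Subgroup Ω} [Finite S] (p : ℕ) [Fact p.Prime] (hS : IsPGroup p S)
    (F : Cfsg.FusionSystem S) (hF : F.IsSaturated p) (H : Subgroup Ω) (hH : F.IsEssential p H) (hcard : Nat.card H = p ^ 2) :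
    Cfsg.IsElementaryAbelian p H ∧
      ∃ K : Subgroup ↥(F.autGroup H), Nonempty (↥K ≃* Matrix.SpecialLinearGroup (Fin 2) (ZMod p)) := by
  have : Finite ↥H := CfsgLib.Fusion.finite_of_le hH.1.1
  have hab : ∀ a b : ↥H, a * b = b * a := by
    have := IsPGroup.isMulCommutative_of_card_eq_prime_sq (p := p) hcard
    exact fun a b => this.is_comm.comm a b
  have hrk : (frattini ↥H).index ≤ p ^ 2 := hcard ▸ Nat.le_of_dvd Nat.card_pos (Subgroup.index_dvd_card _)
  have he : Cfsg.IsElementaryAbelian p H := by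
    rcases CfsgLib.Fusion.abelian_rank_two hS hF hH hab hrk with h | ⟨-, k, ⟨e⟩⟩
    · exact h.1
    refine ⟨⟨⟨hab⟩⟩, fun a ha => ?_⟩
    have hc := Nat.card_congr e.toEquiv
    rw [hcard, Nat.card_congr Multiplicative.toAdd, Nat.card_prod, Nat.card_zmod, ← pow_add] at hc
    have hk : k = 1 := by
      have := Nat.pow_right_injective (Fact.out : p.Prime).two_le hc
      omega
    subst hk
    have h1 : (e ⟨a, ha⟩) ^ p = 1 := by
      apply Multiplicative.toAdd.injective
      rw [toAdd_pow, toAdd_one]
      have h0 : ((p : ℕ) : ZMod (p ^ 1)) = 0 := (ZMod.natCast_eq_zero_iff _ _).mpr (dvd_of_eq (pow_one p))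
      rw [nsmul_eq_mul, show ((p : ℕ) : ZMod (p ^ 1) × ZMod (p ^ 1)) = 0 from Prod.ext h0 h0, zero_mul]
    rw [← map_pow, map_eq_one_iff e e.injective] at h1
    exact congrArg Subtype.val h1
  exact ⟨he, CfsgLib.Fusion.exists_sl_two hS hF hH he hcard⟩

end Cfsg.Agent.S5185
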