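import Cfsg.Statements.S5191

set_option autoImplicit false
open Cfsg

namespace Cfsg.Agent.S5191

/-- Fusion in a finite group G and in its quotient by O_{p'}(G) agree. Let S be a Sylow p-subgroup of G, N = O_{p'}(G) and P ≤ S. If an element of G/N conjugates the image of P into the image of S, then some element g of G conjugates P into S and induces the same map on P modulo N. (Together with the injectivity of S → G/N this says that g ↦ gN induces an isomorphism of the fusion system of G on S with that of G/N on SN/N.) -/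
theorem result {G : Type*} [Group G] [Finite G] {p : ℕ} [Fact p.Prime]
    [hN : (Cfsg.pPrimeCore p G).Normal] (S : Sylow p G) (P : Subgroup G) (hP : P ≤ (S : Subgroup G))
    (γ : G ⧸ Cfsg.pPrimeCore p G)
    (hγ : ∀ x ∈ P, γ * QuotientGroup.mk x * γ⁻¹ ∈ ((S : Subgroup G).map (QuotientGroup.mk' (Cfsg.pPrimeCore p G)))) :
    ∃ g : G, ∀ x ∈ P, g * x * g⁻¹ ∈ S ∧
      (QuotientGroup.mk (g * x * g⁻¹) : G ⧸ Cfsg.pPrimeCore p G) = γ * QuotientGroup.mk x * γ⁻¹ := by
  obtain ⟨g₀, rfl⟩ := QuotientGroup.mk_surjective γ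
  set N := Cfsg.pPrimeCore p G
  set q := QuotientGroup.mk' N
  set M := ((S : Subgroup G).map q).comap q with hM
  have hSM : (S : Subgroup G) ≤ M := fun s hs => ⟨s, hs, rfl⟩
  set P' := P.map (MulAut.conj g₀).toMonoidHom
  have hP'M : P' ≤ M := by
    rintro _ ⟨x, hx, rfl⟩
    exact hγ x hx
  obtain ⟨R, hR⟩ := (((S.2.to_le hP).map (MulAut.conj g₀).toMonoidHom).comap_subtype (K := M)).exists_le_sylow
  obtain ⟨m, hm⟩ := MulAction.exists_smul_eq ↥M R (S.subtype hSM)
  have hconj : ∀ x ∈ P', (m : G) * x * (m : G)⁻¹ ∈ (S : Subgroup G) := fun x hx => by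
    have h1 : m * ⟨x, hP'M hx⟩ * m⁻¹ ∈ ((m • R : Sylow p ↥M) : Subgroup ↥M) := by
      rw [Sylow.coe_subgroup_smul]
      exact ⟨_, hR hx, rfl⟩
    rw [hm] at h1
    exact h1
  obtain ⟨s, hs, hsm⟩ := m.2
  have hk : s⁻¹ * (m : G) ∈ N := QuotientGroup.eq.mp hsm
  refine ⟨s⁻¹ * m * g₀, fun x hx => ⟨?_, ?_⟩⟩
  · have h2 := hconj _ ⟨x, hx, rfl⟩
    have h3 := (S : Subgroup G).mul_mem ((S : Subgroup G).mul_mem (inv_mem hs) h2) hs
    show _ ∈ (S : Subgroup G)
    convert h3 using 1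
    simp [mul_assoc]
  · have h4 : (QuotientGroup.mk (s⁻¹ * (m : G)) : G ⧸ N) = 1 := (QuotientGroup.eq_one_iff _).mpr hk
    simp only [QuotientGroup.mk_mul, QuotientGroup.mk_inv] at h4 ⊢
    rw [h4, one_mul]

end Cfsg.Agent.S5191
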