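import Cfsg.Statements.S5193
import Cfsg.Agent.Lib.Glauberman.JFunctor

set_option autoImplicit false
open Cfsg

namespace Cfsg.Agent.S5193

open CfsgLib.Glauberman CfsgLib.Fusion Cfsg.FusionSystem
/-- Glauberman's Theorem for fusion systems. Let F be a saturated fusion system over a finite p-group S, let J(S) be the subgroup generated by the abelian subgroups of S of largest order, and let N be the normalizer fusion system of J(S) in F (a fusion system over N_S(J(S)) = S). Then every p-th power of an element of Z(S) that lies in the centre of N lies in the centre of F; and if p is odd, or if the symmetric group of degree 4 is not involved in any model of the normalizer system of a fully normalized F-centric subgroup (F is S₄-free), then the centre of N equals the centre of F. -/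
theorem result {Ω : Type*} [Group Ω] {S : Subgroup Ω} [Finite S] (p : ℕ) [Fact p.Prime] (hS : IsPGroup p S) (F : Cfsg.FusionSystem S) (hF : F.IsSaturated p) (N : Cfsg.FusionSystem (Cfsg.FusionSystem.normalizerIn S (Cfsg.thompsonSubgroupAOf S))) (hN : F.IsNormalizerSystem (Cfsg.thompsonSubgroupAOf S) N) : Subgroup.closure ((fun z : Ω => z ^ p) '' ((S ⊓ Subgroup.centralizer (S : Set Ω) : Subgroup Ω) : Set Ω)) ⊓ N.center ≤ F.center ∧ (p ≠ 2 ∨ F.IsSectionFree p (Equiv.Perm (Fin 4)) → N.center = F.center) := by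
  have hJ : Cfsg.thompsonSubgroupAOf S = ind JW S := by
    rw [ind_JW]; exact CfsgLib.ThompsonNPC.thompsonSubgroupAOf_eq S
  have hW2 : ∀ (Q R : Type _) [Group Q] [Group R] [Finite Q], IsPGroup p Q → ∀ φ : Q ≃* R, (JW Q).map φ.toMonoidHom = JW R :=
    fun Q R _ _ _ _ φ => JW_map Q R φ
  have hW₀ : Cfsg.thompsonSubgroupAOf S ≤ S := hJ ▸ ind_le JW S
  have hWn : S ≤ Subgroup.normalizer (Cfsg.thompsonSubgroupAOf S : Set Ω) := by
    rw [hJ]
    exact Subgroup.le_normalizer.trans (le_normalizer_of_characteristic (ind_le JW S) (ind_characteristic JW hW2 S hS))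
  haveI : Finite ↥(Cfsg.FusionSystem.normalizerIn S (Cfsg.thompsonSubgroupAOf S)) := finite_of_le inf_le_left
  obtain ⟨hge, hle⟩ := center_eq_of_fixed hS hF hW₀ hWn N hN fun _ => True
  have conv : ∀ z : Ω, (∀ (P : Subgroup Ω) (φ : ↥P →* Ω), φ ∈ (normalizerSystem F (Cfsg.thompsonSubgroupAOf S) hW₀).Hom P →
      ∀ x : ↥P, (x : Ω) = z → φ x = z) → ∀ (P : Subgroup Ω) (φ : ↥P →* Ω),
      φ ∈ (normalizerSystem F (ind JW S) (ind_le JW S)).Hom P → ∀ x : ↥P, (x : Ω) = z → φ x = z := by
    intro z h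
    have gen : ∀ (W : Subgroup Ω) (hW : W ≤ S), W = Cfsg.thompsonSubgroupAOf S → ∀ (P : Subgroup Ω) (φ : ↥P →* Ω),
        φ ∈ (normalizerSystem F W hW).Hom P → ∀ x : ↥P, (x : Ω) = z → φ x = z := by
      rintro W hW rfl; exact h
    exact gen _ _ hJ.symm
  refine ⟨fun z hz => ?_, fun hp => le_antisymm (fun z hz => hle z hz trivial fun hzc _ hyp => ?_) hge⟩
  · obtain ⟨hz1, hz2⟩ := Subgroup.mem_inf.mp hz
    refine hle z hz2 trivial fun hzc _ hyp => ?_
    have hgood : (powGood (p := p)).Good S z := by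
      let P : Subgroup Ω :=
        { carrier := {y | ∃ x ∈ S ⊓ Subgroup.centralizer (S : Set Ω), x ^ p = y}
          one_mem' := ⟨1, one_mem _, one_pow p⟩
          mul_mem' := by
            rintro _ _ ⟨a, ha, rfl⟩ ⟨b, hb, rfl⟩
            exact ⟨a * b, mul_mem ha hb, (show Commute a b from hb.2 a ha.1).mul_pow p⟩
          inv_mem' := by
            rintro _ ⟨a, ha, rfl⟩
            exact ⟨a⁻¹, inv_mem ha, inv_pow a p⟩ }
      obtain ⟨x, hx, rfl⟩ := (Subgroup.closure_le P).mpr (by rintro _ ⟨x, hx, rfl⟩; exact ⟨x, hx, rfl⟩) hz1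
      exact ⟨x, hx.1, fun s hs => hx.2 s hs, rfl⟩
    have hzS : z ∈ S := by
      obtain ⟨x, hx, -, rfl⟩ := hgood
      exact S.pow_mem hx p
    exact fixed_of_functor JW (JW_ne_bot (p := p)) hW2 (powGood (p := p)) centerCondition_pow _ F rfl hS hF z hzS hzc
      hgood (conv z hyp)
  · have hzS : z ∈ S := ((CfsgLib.Fusion.isCentral_center
      (S := Cfsg.FusionSystem.normalizerIn S (Cfsg.thompsonSubgroupAOf S)) N).1 hz).1
    exact fixed_of_functor_in JW (JW_ne_bot (p := p)) hW2 s4Class anyGood centerCondition_s4 _ F rfl hS hF hp z hzS hzc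
      trivial (conv z hyp)

end Cfsg.Agent.S5193
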