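import Cfsg.Statements.S5236
import Cfsg.Agent.Lib.Fusion.SeriesCriterion
import Cfsg.Agent.Lib.LocalBasic

set_option autoImplicit false
open Cfsg

namespace Cfsg.Agent.S5236

open CfsgLib
open scoped commutatorElement
/-- Let p be an odd prime, F a saturated fusion system over a finite p-group S and P a subgroup of S strongly closed in F. Then P is normal in F if and only if Ω₁(P) (the subgroup generated by the elements of order p of P) has a chain of subgroups 1 = Q₀ ≤ Q₁ ≤ ⋯ ≤ Qₙ = Ω₁(P), each strongly closed in F, with [Qᵢ₊₁, P] ≤ Qᵢ for all i. -/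
theorem result {Ω : Type*} [Group Ω] {S : Subgroup Ω} [Finite S] (p : ℕ) [Fact p.Prime] (hS : IsPGroup p S) (F : Cfsg.FusionSystem S) (hF : F.IsSaturated p) (hp : p ≠ 2) (P : Subgroup Ω) (hP : F.StronglyClosed P) : F.IsNormal P ↔ ∃ (n : ℕ) (Q : Fin (n + 1) → Subgroup Ω), Q 0 = ⊥ ∧ Q (Fin.last n) = Cfsg.omegaOne p P ∧ Monotone Q ∧ (∀ i : Fin (n + 1), F.StronglyClosed (Q i)) ∧ ∀ i : Fin n, ⁅Q i.succ, P⁆ ≤ Q i.castSucc := by
  have hPS : P ≤ S := hP.1
  haveI := Fusion.finite_of_le hPS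
  set W := Cfsg.omegaOne p P
  have hWP : W ≤ P := (Subgroup.closure_le P).mpr fun x hx => hx.1
  constructor
  · intro hN
    haveI : Group.IsNilpotent ↥P := (hS.to_le hPS).isNilpotent
    obtain ⟨n, hn⟩ := Subgroup.nilpotent_iff_lowerCentralSeries.mp (inferInstance : Group.IsNilpotent ↥P)
    have hbot : P.lowerCentralSeries n = ⊥ := by
      rw [← Subgroup.top_subtype_lowerCentralSeries, hn, Subgroup.map_bot]
    have hWinv : ∀ (β : MulAut ↥P) (x : ↥P), (x : Ω) ∈ W → ((β x : ↥P) : Ω) ∈ W := by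
      intro β x hx
      have hle : W ≤ (W.comap (P.subtype.comp β.toMonoidHom)).map P.subtype := by
        refine (Subgroup.closure_le _).mpr ?_
        rintro y ⟨hy, hyp⟩
        refine ⟨⟨y, hy⟩, Subgroup.subset_closure ⟨(β _).2, ?_⟩, rfl⟩
        show ((β ⟨y, hy⟩ : ↥P) : Ω) ^ p = 1
        rw [← Subgroup.coe_pow, ← map_pow, show (⟨y, hy⟩ : ↥P) ^ p = 1 from Subtype.ext hyp, map_one]
        rfl
      obtain ⟨z, hz, hze⟩ := hle hx
      rw [show x = z from Subtype.ext hze.symm]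
      exact hz
    have hWn : P ≤ Subgroup.normalizer (W : Set Ω) := fun g hg => by
      haveI := Fusion.finite_of_le (hWP.trans hPS)
      refine Subgroup.mem_normalizer_fintype fun x hx => ?_
      exact hWinv (MulAut.conj ⟨g, hg⟩) ⟨x, hWP hx⟩ hx
    refine ⟨n, fun i => W ⊓ P.lowerCentralSeries (n - i), ?_, ?_, ?_, fun i => ?_, fun i => ?_⟩
    · simp [hbot]
    · simpa using hWP
    · intro i j hij
      exact inf_le_inf_left _ (Subgroup.lowerCentralSeries_antitone _ (by have : (i : ℕ) ≤ j := hij; omega))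
    · exact Fusion.stronglyClosed_of_invariant hN (inf_le_left.trans hWP) fun β _ x hx =>
        ⟨hWinv β x hx.1, Fusion.lowerCentralSeries_invariant β _ hx.2⟩
    · show ⁅W ⊓ P.lowerCentralSeries (n - (i : ℕ).succ), P⁆ ≤ W ⊓ P.lowerCentralSeries (n - (i : ℕ))
      refine le_inf ?_ ?_
      · exact (Subgroup.commutator_mono inf_le_left le_rfl).trans (Subgroup.le_normalizer_iff_commutator_le_left.mp hWn)
      · rw [show n - (i : ℕ) = (n - (i : ℕ).succ) + 1 by have := i.2; omega, Subgroup.lowerCentralSeries_succ]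
        exact Subgroup.commutator_mono inf_le_right le_rfl
  · rintro ⟨n, Q, hQ0, hQn, hmono, hsc, hcomm⟩
    refine Fusion.isNormal_of_le_radical p hS hF hP fun R _ hc hr => ?_
    haveI := Fusion.finite_of_le hc.1
    haveI := Fusion.finite_aut_of_le hc.1
    have hpres : ∀ (D : Subgroup Ω), F.StronglyClosed D → ∀ (a : ↥(F.autGroup R)) (x : ↥R), (x : Ω) ∈ D →
        (((a : MulAut ↥R) x : ↥R) : Ω) ∈ D := fun D hD a x hx =>
      hD.2 _ inf_le_right _ (Fusion.restrict_mem ((Fusion.autGroup_carrier F hc.1 _).mp a.2) (inf_le_left : R ⊓ D ≤ R))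
        ⟨(x : Ω), x.2, hx⟩
    let A : Subgroup ↥(F.autGroup R) :=
      { carrier := {a | (∀ x : ↥R, ((x⁻¹ * (a : MulAut ↥R) x : ↥R) : Ω) ∈ P) ∧
          ∀ (i : Fin n) (x : ↥R), (x : Ω) ∈ Q i.succ → ((x⁻¹ * (a : MulAut ↥R) x : ↥R) : Ω) ∈ Q i.castSucc}
        one_mem' := ⟨fun x => by simp, fun i x _ => by simp⟩
        mul_mem' := fun {a b} ha hb => by
          have e : ∀ x : ↥R, ((x⁻¹ * ((a * b : ↥(F.autGroup R)) : MulAut ↥R) x : ↥R) : Ω) =
              ((x⁻¹ * (b : MulAut ↥R) x : ↥R) : Ω) * ((((b : MulAut ↥R) x)⁻¹ * (a : MulAut ↥R) ((b : MulAut ↥R) x) : ↥R) : Ω) := fun x => by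
            rw [← Subgroup.coe_mul]
            refine congrArg Subtype.val ?_
            show x⁻¹ * (a : MulAut ↥R) ((b : MulAut ↥R) x) = _
            group
          exact ⟨fun x => e x ▸ mul_mem (hb.1 x) (ha.1 _),
            fun i x hx => e x ▸ mul_mem (hb.2 i x hx) (ha.2 i _ (hpres _ (hsc _) b x hx))⟩
        inv_mem' := fun {a} ha => by
          have e : ∀ x : ↥R, ((x⁻¹ * ((a⁻¹ : ↥(F.autGroup R)) : MulAut ↥R) x : ↥R) : Ω) =
              ((((((a⁻¹ : ↥(F.autGroup R)) : MulAut ↥R) x))⁻¹ * (a : MulAut ↥R) (((a⁻¹ : ↥(F.autGroup R)) : MulAut ↥R) x) : ↥R) : Ω)⁻¹ := fun x => by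
            rw [← Subgroup.coe_inv]
            refine congrArg Subtype.val ?_
            rw [Subgroup.coe_inv, MulAut.apply_inv_self]
            group
          exact ⟨fun x => e x ▸ inv_mem (ha.1 _), fun i x hx => e x ▸ inv_mem (ha.2 i _ (hpres _ (hsc _) a⁻¹ x hx))⟩ }
    haveI : A.Normal := ⟨fun a ha b => by
      have e : ∀ x : ↥R, x⁻¹ * ((b * a * b⁻¹ : ↥(F.autGroup R)) : MulAut ↥R) x = (b : MulAut ↥R)
          ((((b⁻¹ : ↥(F.autGroup R)) : MulAut ↥R) x)⁻¹ * (a : MulAut ↥R) (((b⁻¹ : ↥(F.autGroup R)) : MulAut ↥R) x)) := fun x => by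
        rw [map_mul, map_inv]
        congr 1
        rw [Subgroup.coe_inv, MulAut.apply_inv_self]
      exact ⟨fun x => (e x).symm ▸ hpres _ hP b _ (ha.1 _),
        fun i x hx => (e x).symm ▸ hpres _ (hsc _) b _ (ha.2 i _ (hpres _ (hsc _) b⁻¹ x hx))⟩⟩
    refine Fusion.le_of_normal_pGroup hS hPS (Fusion.StronglyClosed.normal hP) hc hr A
      (CfsgLib.LocalBasic.isPGroup_of_coprime_elements fun a ha => ?_) fun r hr' a hae => ⟨fun x => ?_, fun i x hx => ?_⟩
    · by_contra hne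
      have hRp : IsPGroup p ↥R := hS.to_le hc.1
      have hco : (orderOf (((a : ↥(F.autGroup R))) : MulAut ↥R)).Coprime p := by
        rwa [Subgroup.orderOf_coe, Subgroup.orderOf_coe]
      obtain ⟨M, hinv, ⟨x, hx, hmov⟩, hsmall, hgen⟩ := Fusion.exists_small_moved hRp hco
        (fun h => hne (Subtype.ext (Subtype.ext h)))
      have hMP : M ≤ P.comap R.subtype := by
        refine hgen.symm.le.trans ((Subgroup.closure_le _).mpr ?_)
        rintro _ ⟨y, -, rfl⟩
        exact a.2.1 y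
      have hfix : ∀ (i : Fin (n + 1)) (y : ↥R), (y : Ω) ∈ Q i → ((a : ↥(F.autGroup R)) : MulAut ↥R) y = y := by
        intro i
        induction i using Fin.induction with
        | zero =>
          intro y hy
          rw [hQ0, Subgroup.mem_bot] at hy
          rw [show y = 1 from Subtype.ext hy, map_one]
        | succ i ih => exact fun y hy => Fusion.eq_self_of_step hRp hco (ih _ (a.2.2 i y hy))
      refine hmov (hfix (Fin.last n) x (hQn ▸ Subgroup.subset_closure ⟨hMP hx, ?_⟩))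
      rcases hsmall x hx with h | h
      · exact congrArg Subtype.val h
      · exact absurd h.1 hp
    · rw [Subgroup.coe_mul, Subgroup.coe_inv, hae, ← mul_assoc, ← mul_assoc,
        show (x : Ω)⁻¹ * r * (x : Ω) * r⁻¹ = ((x : Ω)⁻¹ * r * ((x : Ω)⁻¹)⁻¹) * r⁻¹ by group]
      exact mul_mem (Fusion.conj_mem_of_normalizer (Fusion.StronglyClosed.normal hP (S.inv_mem (hc.1 x.2))) hr') (inv_mem hr')
    · rw [Subgroup.coe_mul, Subgroup.coe_inv, hae, show (x : Ω)⁻¹ * (r * x * r⁻¹) = ⁅(x : Ω)⁻¹, r⁆ by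
        simp [commutatorElement_def, mul_assoc]]
      exact hcomm i (Subgroup.commutator_mem_commutator (inv_mem hx) hr')

end Cfsg.Agent.S5236
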