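import Cfsg.Statements.S5234
import Cfsg.Agent.S5236
import Cfsg.Agent.S0638
import Cfsg.Agent.Lib.Fusion.Model

set_option autoImplicit false
open Cfsg

namespace Cfsg.Agent.S5234

open CfsgLib in
open scoped commutatorElement in
/-- Let p be an odd prime, F a saturated fusion system over a finite p-group S and P a metacyclic subgroup of S strongly closed in F. Then P is normal in F. -/
theorem result {Ω : Type*} [Group Ω] {S : Subgroup Ω} [Finite S] (p : ℕ) [Fact p.Prime] (hS : IsPGroup p S) (F : Cfsg.FusionSystem S) (hF : F.IsSaturated p) (P : Subgroup Ω) (hP : F.StronglyClosed P) (hp : p ≠ 2) (hm : Cfsg.IsMetacyclic ↥P) : F.IsNormal P := by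
  classical
  have hPS : P ≤ S := hP.1
  haveI := Fusion.finite_of_le hPS
  set E := Cfsg.omegaOne p P
  have hEP : E ≤ P := (Subgroup.closure_le P).mpr fun x hx => hx.1
  have hEsc0 : ∀ (Q : Subgroup Ω), Q ≤ E → ∀ φ ∈ F.Hom Q, ∀ x : ↥Q, (∀ y ∈ E, y ^ p = 1) → φ x ∈ E := by
    intro Q hQ φ hφ x hexp
    refine Subgroup.subset_closure ⟨hP.2 Q (hQ.trans hEP) φ hφ x, ?_⟩
    rw [← map_pow, show x ^ p = 1 from Subtype.ext (hexp _ (hQ x.2)), map_one]
  rw [Cfsg.Agent.S5236.result p hS F hF hp P hP]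
  by_cases hEc : ⁅E, P⁆ = ⊥
  · have hexp : ∀ y ∈ E, y ^ p = 1 := by
      intro y hy
      induction hy using Subgroup.closure_induction with
      | mem x hx => exact hx.2
      | one => exact one_pow p
      | mul x y hx hy ihx ihy =>
        have hc : Commute x y := commutatorElement_eq_one_iff_commute.mp
          (Subgroup.mem_bot.mp (hEc ▸ Subgroup.commutator_mem_commutator hx (hEP hy)))
        rw [hc.mul_pow, ihx, ihy, one_mul]
      | inv x _ ih => rw [inv_pow, ih, inv_one]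
    refine ⟨1, ![⊥, E], rfl, rfl, ?_, ?_, ?_⟩
    · intro i j hij
      fin_cases i <;> fin_cases j <;> first | exact le_rfl | exact bot_le | exact absurd hij (by decide)
    · intro i
      fin_cases i
      · exact ⟨bot_le, fun Q hQ φ hφ x => by
          rw [show x = 1 from Subtype.ext (Subgroup.mem_bot.mp (hQ x.2)), map_one]; exact one_mem _⟩
      · exact ⟨hEP.trans hPS, fun Q hQ φ hφ x => hEsc0 Q hQ φ hφ x hexp⟩
    · intro i
      fin_cases i
      exact hEc.le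
  have hncyc : ¬ IsCyclic ↥P := by
    intro hc
    letI : CommGroup ↥P := hc.commGroup
    refine hEc (eq_bot_iff.mpr (Subgroup.commutator_le.mpr fun x hx y hy => ?_))
    rw [Subgroup.mem_bot, commutatorElement_eq_one_iff_mul_comm]
    exact congrArg Subtype.val (mul_comm (⟨x, hEP hx⟩ : ↥P) ⟨y, hy⟩)
  obtain ⟨hel, hcard'⟩ := Cfsg.Agent.S0638.result hp (hS.to_le hPS) hm hncyc
  have hmap : (Cfsg.omegaOne p (⊤ : Subgroup ↥P)).map P.subtype = E := by
    rw [Cfsg.omegaOne, MonoidHom.map_closure]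
    refine congrArg Subgroup.closure (Set.ext fun x => ⟨?_, fun hx => ?_⟩)
    · rintro ⟨y, ⟨-, hy⟩, rfl⟩
      exact ⟨y.2, congrArg Subtype.val hy⟩
    · exact ⟨⟨x, hx.1⟩, ⟨Subgroup.mem_top _, Subtype.ext hx.2⟩, rfl⟩
  have hcard : Nat.card ↥E = p ^ 2 := by
    rw [← hmap, Subgroup.card_map_of_injective P.subtype_injective, hcard']
  have hexp : ∀ y ∈ E, y ^ p = 1 := by
    rintro _ hy
    obtain ⟨x, hx, rfl⟩ := hmap.ge hy
    exact congrArg Subtype.val (hel.2 x hx)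
  have hcomm : ∀ x ∈ E, ∀ y ∈ E, x * y = y * x := by
    intro x hx y hy
    obtain ⟨x', hx', rfl⟩ := hmap.ge hx
    obtain ⟨y', hy', rfl⟩ := hmap.ge hy
    haveI := hel.1
    exact congrArg (fun z : ↥(Cfsg.omegaOne p (⊤ : Subgroup ↥P)) => ((z : ↥P) : Ω)) (mul_comm' ⟨x', hx'⟩ ⟨y', hy'⟩)
  have hEsc : F.StronglyClosed E := ⟨hEP.trans hPS, fun Q hQ φ hφ x => hEsc0 Q hQ φ hφ x hexp⟩
  haveI := Fusion.finite_of_le hEsc.1
  haveI := Fusion.finite_aut_of_le hEsc.1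
  have hEN : S ≤ Subgroup.normalizer (E : Set Ω) := Fusion.StronglyClosed.normal hEsc
  have hPN : S ≤ Subgroup.normalizer (P : Set Ω) := Fusion.StronglyClosed.normal hP
  set Z := ⁅E, P⁆ with hZ
  have hZE : Z ≤ E := Subgroup.le_normalizer_iff_commutator_le_left.mp (hPS.trans hEN)
  haveI := Fusion.finite_of_le (hZE.trans hEsc.1)
  have hlt : ∀ (K Q : Subgroup Ω), K ≤ Q → Q ≤ S → ⁅K, Q⁆ = K → K = ⊥ := by
    intro K Q hKQ hQS hK
    haveI := Fusion.finite_of_le hQS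
    haveI : Group.IsNilpotent ↥Q := (hS.to_le hQS).isNilpotent
    obtain ⟨n, hn⟩ := Subgroup.nilpotent_iff_lowerCentralSeries.mp (inferInstance : Group.IsNilpotent ↥Q)
    have hbot : Q.lowerCentralSeries n = ⊥ := by
      rw [← Subgroup.top_subtype_lowerCentralSeries, hn, Subgroup.map_bot]
    refine le_bot_iff.mp (hbot ▸ ?_)
    clear hn hbot
    induction n with
    | zero => exact hKQ
    | succ i ih =>
      rw [Subgroup.lowerCentralSeries_succ]
      exact hK.ge.trans (Subgroup.commutator_mono ih le_rfl)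
  have hZp : Nat.card ↥Z = p := by
    obtain ⟨i, hi, hie⟩ := (Nat.dvd_prime_pow (Fact.out : p.Prime)).mp (hcard ▸ Subgroup.card_dvd_of_le hZE)
    rcases i with _ | _ | _ | i
    · exact absurd (Subgroup.card_eq_one.mp (by simpa using hie)) hEc
    · simpa using hie
    · have hZeq : Z = E := Subgroup.eq_of_le_of_card_ge hZE (by rw [hie, hcard])
      have hEb := hlt E P hEP hPS hZeq
      rw [hEb, Subgroup.card_bot] at hcard
      exact absurd hcard (one_lt_pow₀ (Fact.out : p.Prime).one_lt two_ne_zero).ne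
    · omega
  have hZN : S ≤ Subgroup.normalizer (Z : Set Ω) := fun g hg => by
    refine Subgroup.mem_normalizer_fintype fun x hx => ?_
    have h1 : Z.map (MulAut.conj g).toMonoidHom ≤ Z := by
      rw [hZ, Subgroup.map_commutator]
      refine Subgroup.commutator_mono ?_ ?_
      · rintro _ ⟨y, hy, rfl⟩; exact (Subgroup.mem_normalizer_iff.mp (hEN hg) y).mp hy
      · rintro _ ⟨y, hy, rfl⟩; exact (Subgroup.mem_normalizer_iff.mp (hPN hg) y).mp hy
    exact h1 ⟨x, hx, rfl⟩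
  have hZc : ∀ z ∈ Z, ∀ s ∈ S, z * s = s * z := by
    intro z hz s hs
    have hle : ⁅Z, S⁆ ≤ Z := Subgroup.le_normalizer_iff_commutator_le_left.mp hZN
    haveI : Finite ↥(⁅Z, S⁆) := Fusion.finite_of_le (hle.trans (hZE.trans hEsc.1))
    rcases (Nat.dvd_prime (Fact.out : p.Prime)).mp (hZp ▸ Subgroup.card_dvd_of_le hle) with h | h
    · have h1 := Subgroup.commutator_mem_commutator (H₁ := Z) (H₂ := S) hz hs
      rw [Subgroup.card_eq_one.mp h, Subgroup.mem_bot, commutatorElement_eq_one_iff_mul_comm] at h1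
      exact h1
    · have hb := hlt Z S (hZE.trans hEsc.1) le_rfl (Subgroup.eq_of_le_of_card_ge hle (by rw [h, hZp]))
      exact absurd hb hEc
  by_cases hZsc : F.StronglyClosed Z
  · refine ⟨2, ![⊥, Z, E], rfl, rfl, ?_, ?_, ?_⟩
    · intro i j hij
      fin_cases i <;> fin_cases j <;> first | exact le_rfl | exact bot_le | exact hZE | exact absurd hij (by decide)
    · intro i
      fin_cases i
      · exact ⟨bot_le, fun Q hQ φ hφ x => by
          rw [show x = 1 from Subtype.ext (Subgroup.mem_bot.mp (hQ x.2)), map_one]; exact one_mem _⟩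
      · exact hZsc
      · exact hEsc
    · intro i
      fin_cases i
      · show ⁅Z, P⁆ ≤ ⊥
        exact Subgroup.commutator_le.mpr fun z hz s hs => Subgroup.mem_bot.mpr
          (commutatorElement_eq_one_iff_mul_comm.mpr (hZc z hz s (hPS hs)))
      · exact le_rfl
  exfalso
  obtain ⟨Q, hQZ, φ, hφ, x, hx⟩ : ∃ Q ≤ Z, ∃ φ ∈ F.Hom Q, ∃ x : ↥Q, φ x ∉ Z := by
    by_contra hall
    exact hZsc ⟨hZE.trans hEsc.1, fun Q hQ φ hφ x => by
      by_contra hn
      exact hall ⟨Q, hQ, φ, hφ, x, hn⟩⟩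
  have hx1 : (x : Ω) ≠ 1 := fun h => hx (by rw [show x = 1 from Subtype.ext h, map_one]; exact one_mem _)
  haveI := Fusion.finite_of_le (hQZ.trans (hZE.trans hEsc.1))
  obtain rfl : Q = Z := by
    refine Subgroup.eq_of_le_of_card_ge hQZ ?_
    rcases (Nat.dvd_prime (Fact.out : p.Prime)).mp (hZp ▸ Subgroup.card_dvd_of_le hQZ) with h | h
    · exact absurd (Subgroup.mem_bot.mp ((Subgroup.card_eq_one.mp h).le x.2)) hx1
    · rw [h, hZp]
  letI : CommGroup ↥E := { E.toGroup with mul_comm := fun u v => Subtype.ext (hcomm u u.2 v v.2) }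
  have hrE : φ.range ≤ E := by rintro _ ⟨w, rfl⟩; exact hEsc.2 _ hZE φ hφ w
  have hfn : F.IsFullyNormalized Z := Fusion.fullyNormalized_of_normal (hZE.trans hEsc.1) hZN
  obtain ⟨φi, hφi, hφir, hφie⟩ := Fusion.exists_inverse hφ rfl
  obtain ⟨ψ, hψ, hψe⟩ := (Fusion.fullyNormalized_receptive p hS hF hfn).2 _ φi hφi hφir
  have hEext : E ≤ Cfsg.FusionSystem.extender S φ.range φi := fun u hu => Fusion.centralizerIn_le_extender φi
    ⟨hEsc.1 hu, Subgroup.mem_centralizer_iff.mpr fun v hv => hcomm v (hrE hv) u hu⟩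
  obtain ⟨β, hβ, hβe⟩ : ∃ β ∈ F.autGroup E, ((β ⟨(x : Ω), hZE x.2⟩ : ↥E) : Ω) = φ x := by
    have hin : ∀ u : ↥E, ψ (Subgroup.inclusion hEext u) ∈ E := fun u =>
      hEsc.2 E le_rfl _ (Fusion.restrict_mem hψ hEext) u
    let f : ↥E →* ↥E := (ψ.comp (Subgroup.inclusion hEext)).codRestrict E hin
    have hf : Function.Bijective f := Finite.injective_iff_bijective.mp fun u v h =>
      Subgroup.inclusion_injective hEext (F.injective_of_mem hψ (congrArg Subtype.val h))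
    have hfA : MulEquiv.ofBijective f hf ∈ F.autGroup E :=
      (Fusion.autGroup_carrier F hEsc.1 _).mpr (Fusion.restrict_mem_of_eq hψ hEext fun u => rfl)
    refine ⟨_, inv_mem hfA, ?_⟩
    have hfx : f ⟨φ x, hrE ⟨x, rfl⟩⟩ = ⟨(x : Ω), hZE x.2⟩ := Subtype.ext ((hψe _ ⟨x, rfl⟩ _).trans (hφie x _))
    show (((MulEquiv.ofBijective f hf).symm ⟨(x : Ω), hZE x.2⟩ : ↥E) : Ω) = φ x
    rw [(MulEquiv.symm_apply_eq _).mpr hfx.symm]
  obtain ⟨a, ha, hne⟩ : ∃ a ∈ P, ∃ u ∈ E, a * u * a⁻¹ ≠ u := by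
    by_contra hall
    refine hEc (eq_bot_iff.mpr (Subgroup.commutator_le.mpr fun u hu a ha => Subgroup.mem_bot.mpr ?_))
    rw [commutatorElement_eq_one_iff_mul_comm]
    by_contra hne
    exact hall ⟨a, ha, u, hu, fun h => hne (mul_inv_eq_iff_eq_mul.mp h).symm⟩
  have haS := hPS ha
  let τ : MulAut ↥E := E.normalizerMonoidHom ⟨a, hEN haS⟩
  have hτ : τ ∈ F.autGroup E :=
    (Fusion.autGroup_carrier F hEsc.1 _).mpr (Fusion.conj_mem_of_eq F hEsc.1 haS fun u => rfl)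
  have hτv : ∀ u : ↥E, ((τ u : ↥E) : Ω) = a * u * a⁻¹ := fun u => rfl
  have hτZ : ∀ u : ↥E, (u : Ω) ∈ Z → τ u = u := fun u hu => Subtype.ext (by
    rw [hτv, ← hZc _ hu a haS, mul_inv_cancel_right])
  have hτd : ∀ u : ↥E, ((τ u * u⁻¹ : ↥E) : Ω) ∈ Z := fun u => by
    rw [Subgroup.coe_mul, hτv, hZ, Subgroup.commutator_comm]
    exact Subgroup.commutator_mem_commutator ha u.2
  set e1 : ↥E := β ⟨(x : Ω), hZE x.2⟩ with he1
  have he1Z : (e1 : Ω) ∉ Z := by rw [he1, hβe]; exact hx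
  have hgen : ∀ (K : Subgroup ↥E) (u : ↥E), (u : Ω) ∈ Z → u ≠ 1 → u ∈ K → e1 ∈ K → K = ⊤ := by
    intro K u hu hu1 huK heK
    refine Subgroup.eq_top_of_card_eq K ?_
    obtain ⟨i, hi, hie⟩ := (Nat.dvd_prime_pow (Fact.out : p.Prime)).mp (hcard ▸ Subgroup.card_subgroup_dvd_card K)
    rw [hcard]
    have hlt2 : 1 < Nat.card K := by
      rw [Subgroup.one_lt_card_iff_ne_bot]
      exact fun h => hu1 (Subgroup.mem_bot.mp (h ▸ huK))
    have hne2 : Nat.card K ≠ p := by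
      intro h
      have hz : Subgroup.zpowers u = K := by
        refine Subgroup.eq_of_le_of_card_ge (Subgroup.zpowers_le.mpr huK) ?_
        rw [h, Nat.card_zpowers, orderOf_eq_prime (Subtype.ext (hexp _ u.2)) hu1]
      obtain ⟨j, hj⟩ := Subgroup.mem_zpowers_iff.mp (hz.ge heK)
      exact he1Z (hj ▸ Z.zpow_mem hu j)
    rcases i with _ | _ | _ | i
    · rw [hie, pow_zero] at hlt2; omega
    · rw [hie, pow_one] at hne2; exact absurd rfl hne2
    · exact hie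
    · omega
  set z : ↥E := τ e1 * e1⁻¹ with hz
  have hz1 : z ≠ 1 := by
    intro h
    have he1f : τ e1 = e1 := mul_inv_eq_one.mp h
    obtain ⟨u, hu, hne⟩ := hne
    have htop := hgen ((MonoidHom.id ↥E).eqLocus τ.toMonoidHom) ⟨(x : Ω), hZE x.2⟩ x.2
      (fun h => hx1 (congrArg Subtype.val h)) (hτZ _ x.2).symm he1f.symm
    have h2 : τ ⟨u, hu⟩ = ⟨u, hu⟩ := (htop.ge (Subgroup.mem_top (⟨u, hu⟩ : ↥E))).symm
    exact hne (congrArg Subtype.val h2)
  have hzZ : (z : Ω) ∈ Z := hτd e1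
  have hτe : τ e1 = e1 * z := by rw [hz, mul_comm (τ e1), mul_inv_cancel_left]
  -- the conjugate of `τ` fixing `e1`
  set σ₀ := β * τ * β⁻¹ with hσ₀
  have hσA : σ₀ ∈ F.autGroup E := mul_mem (mul_mem hβ hτ) (inv_mem hβ)
  have hσe : σ₀ e1 = e1 := by
    show β (τ (β⁻¹ e1)) = e1
    rw [he1, MulAut.inv_apply_self, hτZ ⟨(x : Ω), hZE x.2⟩ x.2]
  have hxgen : ∀ u : ↥E, (u : Ω) ∈ Z → u ∈ Subgroup.zpowers (⟨(x : Ω), hZE x.2⟩ : ↥E) := by
    intro u hu
    have hz' : Subgroup.zpowers (x : Ω) = Z := Subgroup.eq_of_le_of_card_ge (Subgroup.zpowers_le.mpr x.2)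
      (by rw [hZp, Nat.card_zpowers, orderOf_eq_prime (hexp _ (hZE x.2)) hx1])
    obtain ⟨j, hj⟩ := Subgroup.mem_zpowers_iff.mp (hz'.ge hu)
    exact ⟨j, Subtype.ext hj⟩
  have hσd : σ₀ z * z⁻¹ ∈ Subgroup.zpowers e1 := by
    obtain ⟨j, hj⟩ := hxgen _ (hτd (β⁻¹ z))
    refine ⟨j, ?_⟩
    show e1 ^ j = σ₀ z * z⁻¹
    have h2 := congrArg β hj
    simp only [map_zpow, map_mul, map_inv, MulAut.apply_inv_self] at h2
    exact h2
  have hσz : σ₀ z * z⁻¹ ≠ 1 := by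
    intro h
    have hfz : σ₀ z = z := mul_inv_eq_one.mp h
    have htop := hgen ((MonoidHom.id ↥E).eqLocus σ₀.toMonoidHom) z hzZ hz1 hfz.symm hσe.symm
    refine hz1 ?_
    have h2 : σ₀ (β e1) = β e1 := (htop.ge (Subgroup.mem_top (β e1))).symm
    simp only [hσ₀, MulAut.mul_apply, MulAut.inv_apply_self] at h2
    rw [hz, β.injective h2, mul_inv_cancel]
  obtain ⟨m, hm2⟩ := hσd
  have hord : Subgroup.zpowers (σ₀ z * z⁻¹) = Subgroup.zpowers e1 := by
    refine Subgroup.eq_of_le_of_card_ge (Subgroup.zpowers_le.mpr ⟨m, hm2⟩) ?_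
    rw [Nat.card_zpowers, Nat.card_zpowers, orderOf_eq_prime (Subtype.ext (hexp _ (σ₀ z * z⁻¹).2)) hσz]
    exact Nat.le_of_dvd (Fact.out : p.Prime).pos (orderOf_dvd_of_pow_eq_one (Subtype.ext (hexp _ e1.2)))
  obtain ⟨j, hj⟩ : ∃ j : ℕ, (σ₀ z * z⁻¹) ^ j = e1⁻¹ :=
    (isOfFinOrder_of_finite _).mem_powers_iff_mem_zpowers.mpr (hord.ge (inv_mem (Subgroup.mem_zpowers e1)))
  have hpow : ∀ k : ℕ, (σ₀ ^ k) z = z * (σ₀ z * z⁻¹) ^ k ∧ (σ₀ ^ k) e1 = e1 := by
    intro k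
    induction k with
    | zero => simp
    | succ k ih =>
      have hd : σ₀ (σ₀ z * z⁻¹) = σ₀ z * z⁻¹ := by rw [← hm2, map_zpow, hσe]
      refine ⟨?_, ?_⟩
      · rw [pow_succ' σ₀, MulAut.mul_apply, ih.1, map_mul, map_pow, hd, pow_succ', ← mul_assoc z,
          mul_comm z (σ₀ z * z⁻¹), inv_mul_cancel_right]
      · rw [pow_succ' σ₀, MulAut.mul_apply, ih.2, hσe]
  set σ := σ₀ ^ j
  have hσz' : σ z = z * e1⁻¹ := by rw [(hpow j).1, hj]
  have hσe' : σ e1 = e1 := (hpow j).2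
  set w := τ * σ * τ
  have hwz : w z = e1⁻¹ := by
    show τ (σ (τ z)) = _
    rw [hτZ z hzZ, hσz', map_mul, map_inv, hτZ z hzZ, hτe]
    rw [mul_inv_rev, ← mul_assoc, mul_inv_cancel, one_mul]
  have hwe : w e1 = z := by
    show τ (σ (τ e1)) = _
    rw [hτe, map_mul σ, hσe', hσz', mul_comm z, mul_inv_cancel_left, hτZ z hzZ]
  have hwA : w * w ∈ F.autGroup E :=
    mul_mem (mul_mem (mul_mem hτ (pow_mem hσA j)) hτ) (mul_mem (mul_mem hτ (pow_mem hσA j)) hτ)
  have hinv : ∀ u : ↥E, (w * w) u = u⁻¹ := by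
    intro u
    have htop := hgen ((w * w).toMonoidHom.eqLocus (MulEquiv.inv ↥E).toMonoidHom) z hzZ hz1
      (show w (w z) = z⁻¹ by rw [hwz, map_inv, hwe]) (show w (w e1) = e1⁻¹ by rw [hwe, hwz])
    exact htop.ge (Subgroup.mem_top u)
  -- extend to `P`
  have hEfn : F.IsFullyNormalized E := CfsgLib.Model.fullyNormalized_of_stronglyClosed hEsc
  have hφ0 := (Fusion.autGroup_carrier F hEsc.1 _).mp hwA
  obtain ⟨χ, hχ, hχe⟩ := (Fusion.fullyNormalized_receptive p hS hF hEfn).2 E _ hφ0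
    (show (E.subtype.comp (w * w).toMonoidHom).range = E by
      ext u; exact ⟨fun ⟨v, hv⟩ => hv ▸ ((w * w) v).2, fun hu => ⟨(w * w).symm ⟨u, hu⟩, by
        show (((w * w) ((w * w).symm ⟨u, hu⟩) : ↥E) : Ω) = u
        rw [MulEquiv.apply_symm_apply]⟩⟩)
  have hPext : P ≤ Cfsg.FusionSystem.extender S E (E.subtype.comp (w * w).toMonoidHom) := fun g hg =>
    Fusion.mem_extender ⟨hPS hg, hEN (hPS hg)⟩ (hPS hg) fun u hu => by
      show (((w * w) ⟨g * u * g⁻¹, hu⟩ : ↥E) : Ω) = g * (((w * w) u : ↥E) : Ω) * g⁻¹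
      rw [hinv, hinv]
      simp [mul_assoc]
  have hinP : ∀ u : ↥P, χ (Subgroup.inclusion hPext u) ∈ P := fun u =>
    hP.2 P le_rfl _ (Fusion.restrict_mem hχ hPext) u
  let gf : ↥P →* ↥P := (χ.comp (Subgroup.inclusion hPext)).codRestrict P hinP
  have hgf : Function.Bijective gf := Finite.injective_iff_bijective.mp fun u v h =>
    Subgroup.inclusion_injective hPext (F.injective_of_mem hχ (congrArg Subtype.val h))
  set γ : MulAut ↥P := MulEquiv.ofBijective gf hgf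
  have hγ : ∀ u : ↥P, (u : Ω) ∈ E → γ u = u⁻¹ := fun u hu => Subtype.ext (by
    show χ (Subgroup.inclusion hPext u) = _
    refine (hχe (u : Ω) hu _).trans ?_
    show (((w * w) ⟨(u : Ω), hu⟩ : ↥E) : Ω) = _
    rw [hinv]; rfl)
  haveI : Finite (MulAut ↥P) := Fusion.finite_aut_of_le hPS
  obtain ⟨i, o, ho, hio⟩ := Nat.exists_eq_two_pow_mul_odd (orderOf_pos γ).ne'
  set δ := γ ^ o
  have hδ : ∀ u : ↥P, (u : Ω) ∈ E → δ u = u⁻¹ := by
    intro u hu
    have h2 : ∀ k : ℕ, (γ ^ (2 * k)) u = u := by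
      intro k
      induction k with
      | zero => simp
      | succ k ih => rw [mul_add, mul_one, pow_succ, pow_succ, MulAut.mul_apply, MulAut.mul_apply, hγ u hu, map_inv, hγ u hu, inv_inv, ih]
    obtain ⟨t, ht⟩ := ho
    show (γ ^ o) u = u⁻¹
    rw [ht, pow_succ, MulAut.mul_apply, hγ u hu, map_inv, h2]
  have hδ2 : IsPGroup 2 ↥(Subgroup.zpowers δ) := by
    haveI : Fact (Nat.Prime 2) := ⟨Nat.prime_two⟩
    refine IsPGroup.of_card (n := i) ?_
    rw [Nat.card_zpowers, orderOf_pow, hio, Nat.gcd_eq_right (Dvd.intro_left _ rfl), Nat.mul_div_cancel _ ho.pos]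
  let a' : ↥P := ⟨a, ha⟩
  have hSame : ∀ (d : MulAut ↥P), d ∈ Subgroup.zpowers δ → ∀ c : ↥P,
      (∀ u ∈ E, (c : Ω) * u * (c : Ω)⁻¹ = a * u * a⁻¹) → ∀ u ∈ E, ((d c : ↥P) : Ω) * u * ((d c : ↥P) : Ω)⁻¹ = a * u * a⁻¹ := by
    intro d hd
    let H : Subgroup (MulAut ↥P) :=
      { carrier := {d | ∀ c : ↥P, (∀ u ∈ E, (c : Ω) * u * (c : Ω)⁻¹ = a * u * a⁻¹) ↔
          (∀ u ∈ E, ((d c : ↥P) : Ω) * u * ((d c : ↥P) : Ω)⁻¹ = a * u * a⁻¹)}
        one_mem' := fun c => Iff.rfl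
        mul_mem' := fun {d e} hd he c => (he c).trans (hd (e c))
        inv_mem' := fun {d} hd c => by
          have := hd (d⁻¹ c)
          rw [MulAut.apply_inv_self] at this
          exact this.symm }
    have hδH : δ ∈ H := by
      intro c
      have key : ∀ u : ↥P, (u : Ω) ∈ E → (((δ c) * u * (δ c)⁻¹ : ↥P) : Ω) = ((c * u * c⁻¹ : ↥P) : Ω) := by
        intro u hu
        have hu' : ((δ⁻¹ u : ↥P) : Ω) ∈ E := by
          have h := hδ (u⁻¹) (by simpa using inv_mem hu)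
          rw [inv_inv] at h
          conv => arg 2; rw [← h, MulAut.inv_apply_self]
          simpa using inv_mem hu
        have hcu : ((c * δ⁻¹ u * c⁻¹ : ↥P) : Ω) ∈ E := (Subgroup.mem_normalizer_iff.mp (hEN (hPS c.2)) _).mp hu'
        have h1 : δ (c * δ⁻¹ u * c⁻¹) = δ c * u * (δ c)⁻¹ := by rw [map_mul, map_mul, map_inv, MulAut.apply_inv_self]
        rw [← h1, hδ _ hcu]
        have h2 : δ⁻¹ u = u⁻¹ := by
          have h := hδ _ hu'
          rw [MulAut.apply_inv_self] at h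
          exact inv_eq_iff_eq_inv.mp h.symm
        rw [h2]
        simp [mul_assoc]
      exact ⟨fun h u hu => (key ⟨u, hEP hu⟩ hu).trans (h u hu), fun h u hu => (key ⟨u, hEP hu⟩ hu).symm.trans (h u hu)⟩
    exact fun c hc => ((Subgroup.zpowers_le.mpr hδH) hd c).mp hc
  let Y := {c : ↥P // ∀ u ∈ E, (c : Ω) * u * (c : Ω)⁻¹ = a * u * a⁻¹}
  letI : MulAction ↥(Subgroup.zpowers δ) Y :=
    { smul := fun d c => ⟨(d : MulAut ↥P) c.1, hSame d d.2 c.1 c.2⟩
      one_smul := fun c => Subtype.ext rfl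
      mul_smul := fun d e c => Subtype.ext rfl }
  have hY : ¬ 2 ∣ Nat.card Y := by
    let D : Subgroup ↥P := (Subgroup.centralizer (E : Set Ω)).comap P.subtype
    let eqv : Y ≃ ↥D :=
      { toFun := fun c => ⟨a'⁻¹ * c.1, Subgroup.mem_centralizer_iff.mpr fun u hu => by
          show u * (a⁻¹ * (c.1 : Ω)) = a⁻¹ * (c.1 : Ω) * u
          calc u * (a⁻¹ * (c.1 : Ω)) = a⁻¹ * (a * u * a⁻¹) * (c.1 : Ω) := by group
            _ = a⁻¹ * ((c.1 : Ω) * u * (c.1 : Ω)⁻¹) * (c.1 : Ω) := by rw [c.2 u hu]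
            _ = _ := by group⟩
        invFun := fun d => ⟨a' * d.1, fun u hu => by
          show a * (d.1 : Ω) * u * (a * (d.1 : Ω))⁻¹ = _
          have := Subgroup.mem_centralizer_iff.mp d.2 u hu
          calc a * (d.1 : Ω) * u * (a * (d.1 : Ω))⁻¹ = a * ((d.1 : Ω) * u) * (d.1 : Ω)⁻¹ * a⁻¹ := by group
            _ = a * (u * (d.1 : Ω)) * (d.1 : Ω)⁻¹ * a⁻¹ := by rw [show (d.1 : Ω) * u = u * (d.1 : Ω) from this.symm]
            _ = _ := by group⟩
        left_inv := fun c => Subtype.ext (mul_inv_cancel_left _ _)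
        right_inv := fun d => Subtype.ext (inv_mul_cancel_left _ _) }
    rw [Nat.card_congr eqv]
    obtain ⟨k, hk⟩ := ((hS.to_le hPS).to_subgroup D).exists_card_eq
    rw [hk]
    exact fun h => hp ((Nat.prime_dvd_prime_iff_eq Nat.prime_two Fact.out).mp (Nat.prime_two.dvd_of_dvd_pow h)).symm
  haveI : Fact (Nat.Prime 2) := ⟨Nat.prime_two⟩
  obtain ⟨⟨c, hc⟩, hfixc⟩ := hδ2.nonempty_fixed_point_of_prime_not_dvd_card Y hY
  have hδc : δ c = c := congrArg Subtype.val (hfixc ⟨δ, Subgroup.mem_zpowers δ⟩)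
  have hc1 : c ≠ 1 := by
    rintro rfl
    obtain ⟨u, hu, hne⟩ := hne
    exact hne (((hc u hu).symm).trans (by simp))
  obtain ⟨k, hk⟩ := (hS.to_le hPS) c
  obtain ⟨k', hk', hk''⟩ : ∃ k', c ^ p ^ k' ≠ 1 ∧ (c ^ p ^ k') ^ p = 1 := by
    induction k with
    | zero => exact absurd (by simpa using hk) hc1
    | succ k ih =>
      by_cases h : c ^ p ^ k = 1
      · exact ih h
      · exact ⟨k, h, by rw [← pow_mul, ← pow_succ]; exact hk⟩
  have hy : ((c ^ p ^ k' : ↥P) : Ω) ∈ E := Subgroup.subset_closure ⟨(c ^ p ^ k').2, congrArg Subtype.val hk''⟩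
  have h1 := hδ _ hy
  rw [map_pow, hδc] at h1
  refine hk' ?_
  have hsq : (c ^ p ^ k') ^ 2 = 1 := by rw [sq]; nth_rw 1 [h1]; exact inv_mul_cancel _
  obtain ⟨t, ht⟩ := (Fact.out : p.Prime).odd_of_ne_two hp
  rwa [ht, pow_succ, pow_mul, ← ht, hsq, one_pow, one_mul] at hk''

end Cfsg.Agent.S5234
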