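import Cfsg.Statements.S5265
import Cfsg.Agent.S5125
import Cfsg.Agent.Lib.PCube
import Cfsg.Agent.Lib.Fusion.CentreIndexSq
import Cfsg.Agent.Lib.Fusion.SmallEssentialFour

set_option autoImplicit false
open Cfsg

namespace Cfsg.Agent.S5265

set_option linter.style.haveILetI false
open CfsgLib CfsgLib.Fusion
open scoped commutatorElement

/-- Let p be a prime, S a nontrivial finite p-group whose centre has index at most p², and F a saturated fusion system over S with no nontrivial normal subgroup and with hyperfocal subgroup equal to S. Then S is extraspecial of order p³; for odd p it has exponent p, and for p = 2 it is dihedral of order 8. -/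
theorem result {Ω : Type*} [Group Ω] {S : Subgroup Ω} [Finite S] (p : ℕ) [Fact p.Prime] (hS : IsPGroup p ↥S) (F : Cfsg.FusionSystem S) (hF : F.IsSaturated p) (hS1 : S ≠ ⊥) (hcore : F.core = ⊥) (hhyp : F.hyperfocalSubgroup p = S) (hZ : (Subgroup.center ↥S).index ≤ p ^ 2) : Cfsg.IsExtraspecial p ↥S ∧ Nat.card S = p ^ 3 ∧ (p ≠ 2 → Monoid.exponent ↥S = p) ∧ (p = 2 → Nonempty (↥S ≃* DihedralGroup 4)) := by
  classical
  haveI hpp : Nat.Prime p := Fact.out
  set Z := Subgroup.center ↥S with hZdef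
  have hcS : ∀ c ∈ S ⊓ Subgroup.centralizer (S : Set Ω), ∀ s ∈ S, s * c = c * s := fun c hc s hs =>
    Subgroup.mem_centralizer_iff.mp hc.2 s hs
  have hbot : ∀ L : Subgroup Ω, F.IsNormal L → L = ⊥ := fun L hL =>
    le_bot_iff.mp (hcore ▸ le_sSup (s := {Q : Subgroup Ω | F.IsNormal Q}) hL)
  -- the group is nonabelian
  obtain ⟨a, b, hab⟩ : ∃ a b : ↥S, a * b ≠ b * a := by
    by_contra hno
    push Not at hno
    have hbotn : F.IsNormal (⊥ : Subgroup Ω) := by
      refine ⟨bot_le, fun P φ hφ => ⟨φ.comp (Subgroup.inclusion (sup_bot_eq P).le), Fusion.restrict_mem hφ _, fun x => rfl, ?_⟩⟩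
      rw [Fusion.map_eq_iff le_sup_right]
      refine ⟨fun x => ?_, fun y hy => ⟨1, (map_one _).trans (Subgroup.mem_bot.mp hy).symm⟩⟩
      rw [show x = 1 from Subtype.ext (Subgroup.mem_bot.mp x.2)]
      exact (congrArg (· ∈ (⊥ : Subgroup _)) (map_one _)).mpr (Subgroup.one_mem ⊥)
    exact hS1 (hbot S (Cfsg.Agent.S5125.result p hS F hF S ⊥ ⟨le_rfl, fun Q _ φ hφ x => Fusion.apply_mem_S hφ x⟩
      bot_le hbotn
      (Subgroup.commutator_le.mpr fun x hx y hy => Subgroup.mem_bot.mpr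
        (commutatorElement_eq_one_iff_mul_comm.mpr (congrArg Subtype.val (hno ⟨x, hx⟩ ⟨y, hy⟩))))
      (fun d => ⟨0, Subtype.ext (MulEquiv.ext fun x => Subtype.ext
        ((Subgroup.mem_bot.mp ((((d ^ p ^ 0 : ↥(F.autGroup ⊥)) : MulAut ↥(⊥ : Subgroup Ω)) x).2)).trans
          (Subgroup.mem_bot.mp x.2).symm))⟩)))
  -- the central quotient is elementary of order `p²`
  obtain ⟨k, hk⟩ := IsPGroup.iff_card.mp (hS.to_quotient Z)
  have hQc : Nat.card (↥S ⧸ Z) = Z.index := rfl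
  have hncyc : ¬ IsCyclic (↥S ⧸ Z) := fun h =>
    hab (commutative_of_cyclic_center_quotient (QuotientGroup.mk' Z) (by rw [QuotientGroup.ker_mk']) a b)
  have hk2 : k = 2 := by
    have h1 : p ^ k ≤ p ^ 2 := hk ▸ hQc ▸ hZ
    have h2 : k ≤ 2 := (Nat.pow_le_pow_iff_right hpp.one_lt).mp h1
    rcases (by omega : k = 0 ∨ k = 1 ∨ k = 2) with rfl | rfl | rfl
    · haveI : Subsingleton (↥S ⧸ Z) := (Nat.card_eq_one_iff_unique.mp (by simpa using hk)).1
      exact absurd isCyclic_of_subsingleton hncyc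
    · exact absurd (isCyclic_of_prime_card (by simpa using hk)) hncyc
    · rfl
  subst hk2
  have hQp : ∀ q : ↥S ⧸ Z, q ^ p = 1 := fun q => by
    obtain ⟨m, hm, hm'⟩ := (Nat.dvd_prime_pow hpp).mp (hk ▸ orderOf_dvd_natCard q)
    rcases (by omega : m = 0 ∨ m = 1 ∨ m = 2) with rfl | rfl | rfl
    · rw [pow_zero, orderOf_eq_one_iff] at hm'; rw [hm', one_pow]
    · rw [pow_one] at hm'; rw [← hm', pow_orderOf_eq_one]
    · exact absurd (isCyclic_of_orderOf_eq_card q (hm'.trans hk.symm)) hncyc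
  have hpZ : ∀ v : ↥S, v ^ p ∈ Z := fun v => by
    rw [← QuotientGroup.eq_one_iff, QuotientGroup.mk_pow, hQp]
  have hQcomm : ∀ q q' : ↥S ⧸ Z, q * q' = q' * q :=
    fun q q' => (IsPGroup.commGroupOfCardEqPrimeSq hk).mul_comm q q'
  have hcomZ : ∀ u v : ↥S, u * v * u⁻¹ * v⁻¹ ∈ Z := fun u v => by
    rw [← QuotientGroup.eq_one_iff, QuotientGroup.mk_mul, QuotientGroup.mk_mul, QuotientGroup.mk_mul,
      QuotientGroup.mk_inv, QuotientGroup.mk_inv, hQcomm (u : ↥S ⧸ Z), mul_inv_cancel_right, mul_inv_cancel]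
  have hcen : ∀ {v : ↥S}, v ∈ Z → ∀ w : ↥S, w * v = v * w := fun {v} hv => Subgroup.mem_center_iff.mp hv
  have hidx : Z.index = p ^ 2 := hQc.symm.trans hk
  set c := a * b * a⁻¹ * b⁻¹ with hcdef
  have hc1 : c ≠ 1 := fun e => hab (mul_inv_eq_iff_eq_mul.mp (mul_inv_eq_one.mp e))
  rcases hpp.eq_two_or_odd' with rfl | hodd
  · -- the two-group case
    have hsq : ∀ v : ↥S, v * v ∈ Z := fun v => pow_two v ▸ hpZ v
    have hctx := CentreIndexSq.ctx_of_index hab (by simpa using hidx.le) hsq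
    obtain ⟨hcard, hiso⟩ := CentreIndexSq.dihedral_of_index hS hF hctx hcore hhyp (by simpa using hidx)
    exact ⟨PCube.isExtraspecial_of_card hcard a b hab, hcard, fun h => absurd rfl h, fun _ => hiso⟩
  -- odd primes: all commutators lie in one subgroup of order `p`
  let K : ↥S → Subgroup ↥S := fun u =>
    { carrier := {v | u * v * u⁻¹ * v⁻¹ ∈ Subgroup.zpowers c}
      one_mem' := by simp
      mul_mem' := fun {x y} hx hy => by
        show u * (x * y) * u⁻¹ * (x * y)⁻¹ ∈ Subgroup.zpowers c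
        rw [show u * (x * y) * u⁻¹ * (x * y)⁻¹ = (u * x * u⁻¹ * x⁻¹) * (x * (u * y * u⁻¹ * y⁻¹) * x⁻¹) by group,
          hcen (hcomZ u y) x, mul_inv_cancel_right]
        exact mul_mem hx hy
      inv_mem' := fun {x} hx => by
        show u * x⁻¹ * u⁻¹ * x⁻¹⁻¹ ∈ Subgroup.zpowers c
        rw [show u * x⁻¹ * u⁻¹ * x⁻¹⁻¹ = x⁻¹ * (u * x * u⁻¹ * x⁻¹)⁻¹ * x by group,
          hcen (inv_mem (hcomZ u x)) x⁻¹, inv_mul_cancel_right]
        exact inv_mem hx }
  have haZ : a ∉ Z := fun hm => hab (hcen hm b).symm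
  have hKtop : ∀ u, a ∈ K u → b ∈ K u → ∀ v, v ∈ K u := by
    intro u h1 h2 v
    have hZK : Z ≤ K u := fun w hw => by
      show u * w * u⁻¹ * w⁻¹ ∈ Subgroup.zpowers c
      rw [hcen hw u, mul_inv_cancel_right, mul_inv_cancel]; exact one_mem _
    -- `Z < ⟨a⟩Z < ⟨a, b⟩Z`
    set A := Z ⊔ Subgroup.zpowers a
    have hA : A ≤ K u := sup_le hZK (Subgroup.zpowers_le.mpr h1)
    have hAne : A ≠ Z := fun e => haZ (e ▸ le_sup_right (a := Z) (Subgroup.mem_zpowers a))
    have hbA : b ∉ A := by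
      intro hm
      have hAC : A ≤ Subgroup.centralizer ({a} : Set ↥S) := sup_le
        (fun w hw => Subgroup.mem_centralizer_singleton_iff.mpr (hcen hw a).symm)
        (Subgroup.zpowers_le.mpr (Subgroup.mem_centralizer_singleton_iff.mpr rfl))
      exact hab (Subgroup.mem_centralizer_singleton_iff.mp (hAC hm)).symm
    have h3 := Subgroup.relIndex_mul_index (le_sup_left : Z ≤ A)
    rw [hidx] at h3
    have h4 : (K u).index ∣ A.index := Subgroup.index_dvd_of_le hA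
    obtain ⟨i, hi, hAi⟩ := (Nat.dvd_prime_pow hpp).mp (Dvd.intro_left _ h3 : A.index ∣ p ^ 2)
    obtain ⟨j, hj, hKj⟩ := (Nat.dvd_prime_pow hpp).mp (hAi ▸ h4)
    have hi2 : i ≠ 2 := fun e => hAne (le_antisymm (Subgroup.relIndex_eq_one.mp (Nat.eq_of_mul_eq_mul_right
      (pow_pos hpp.pos 2) (by rw [one_mul]; rwa [hAi, e] at h3))) le_sup_left)
    have hj0 : j = 0 := by
      by_contra hj0
      refine hbA ?_
      obtain rfl : j = i := by omega
      have h5 := Subgroup.relIndex_mul_index hA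
      rw [hAi, hKj] at h5
      exact Subgroup.relIndex_eq_one.mp (Nat.eq_of_mul_eq_mul_right (pow_pos hpp.pos j) (by rw [one_mul]; exact h5)) h2
    rw [hj0, pow_zero, Subgroup.index_eq_one] at hKj
    exact hKj ▸ Subgroup.mem_top v
  have hswap : ∀ u v, v ∈ K u → u ∈ K v := fun u v h => by
    show v * u * v⁻¹ * u⁻¹ ∈ Subgroup.zpowers c
    rw [show v * u * v⁻¹ * u⁻¹ = (u * v * u⁻¹ * v⁻¹)⁻¹ by group]; exact inv_mem h
  have hself : ∀ u, u ∈ K u := fun u => by
    show u * u * u⁻¹ * u⁻¹ ∈ Subgroup.zpowers c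
    simp
  have hKa : ∀ v, v ∈ K a := hKtop a (hself a) (Subgroup.mem_zpowers c)
  have hKb : ∀ v, v ∈ K b := hKtop b (hswap a b (hKa b)) (hself b)
  have hcp : orderOf c = p := by
    refine orderOf_eq_prime ?_ hc1
    have hc : c ∈ Z := hcomZ a b
    have h1 : ∀ n : ℕ, a ^ n * b * (a ^ n)⁻¹ = c ^ n * b := by
      intro n
      induction n with
      | zero => simp
      | succ n ih =>
        rw [pow_succ', mul_inv_rev, show a * a ^ n * b * ((a ^ n)⁻¹ * a⁻¹) = a * (a ^ n * b * (a ^ n)⁻¹) * a⁻¹ by group,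
          ih, ← mul_assoc a, hcen (pow_mem hc n) a, mul_assoc (c ^ n), mul_assoc (c ^ n),
          show a * b * a⁻¹ = c * b by rw [hcdef]; group, ← mul_assoc, ← pow_succ]
    have h2 := h1 p
    rw [← hcen (hpZ a) b, mul_inv_cancel_right] at h2
    exact mul_eq_right.mp h2.symm
  have hmemC : ∀ v : ↥S, (v : Ω) ∈ S ⊓ Subgroup.centralizer (S : Set Ω) ↔ v ∈ Z := fun v => by
    rw [hZdef, Subgroup.mem_center_iff]
    exact ⟨fun hv w => Subtype.ext (hcS _ hv _ w.2), fun hv => ⟨v.2, Subgroup.mem_centralizer_iff.mpr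
      fun w hw => congrArg Subtype.val (hv ⟨w, hw⟩)⟩⟩
  have hZc : Z = Subgroup.zpowers c := by
    refine le_antisymm (fun w hw => ?_) (Subgroup.zpowers_le.mpr (hcomZ a b))
    by_contra hno
    refine IndexPrimeCentre.core_ne_bot (z := (c : Ω)) hodd hS hF (by rw [Subgroup.orderOf_coe, hcp])
      ((hmemC c).mpr (hcomZ a b)) ?_ ⟨a, a.2, b, b.2, fun e => hab (Subtype.ext e)⟩
      ⟨w, (hmemC w).mpr hw, fun hm => hno ?_⟩ hcore
    · intro x hx y hy
      obtain ⟨n, hn⟩ := Subgroup.mem_zpowers_iff.mp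
        (hKtop ⟨x, hx⟩ (hswap a _ (hKa _)) (hswap b _ (hKb _)) ⟨y, hy⟩ :
          (⟨x, hx⟩ : ↥S) * ⟨y, hy⟩ * (⟨x, hx⟩ : ↥S)⁻¹ * (⟨y, hy⟩ : ↥S)⁻¹ ∈ Subgroup.zpowers c)
      exact ⟨n, congrArg Subtype.val hn⟩
    · obtain ⟨n, hn⟩ := hm
      exact ⟨n, Subtype.ext hn⟩
  have hZcard : Nat.card ↥Z = p := by rw [hZc, Nat.card_zpowers, hcp]
  have hcard : Nat.card ↥S = p ^ 3 := by rw [← Z.card_mul_index, hZcard, hidx]; ring
  refine ⟨PCube.isExtraspecial_of_card hcard a b hab, hcard, fun _ => ?_, fun h => absurd h fun h => by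
    subst h; exact absurd hodd (by decide)⟩
  -- the exponent
  suffices hexp : ∀ v : ↥S, v ^ p = 1 by
    rcases (Nat.dvd_prime hpp).mp (Monoid.exponent_dvd_of_forall_pow_eq_one hexp) with h | h
    · exact absurd (orderOf_eq_one_iff.mp (Nat.dvd_one.mp (h ▸ Monoid.order_dvd_exponent c))) hc1
    · exact h
  by_contra hno
  push Not at hno
  obtain ⟨v, hv⟩ := hno
  have hmulp : ∀ x y : ↥S, (x * y) ^ p = x ^ p * y ^ p := by
    intro x y
    rw [EssentialFour.mul_pow_of_central (x := x) (y := y) (fun z => by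
      rw [commutatorElement_def]; exact hcen (hcomZ y x) z) p]
    have h1 : (⁅y, x⁆ : ↥S) ^ p = 1 := by
      have h0 : ⁅y, x⁆ ∈ Subgroup.zpowers c := by rw [← hZc, commutatorElement_def]; exact hcomZ y x
      obtain ⟨n, hn⟩ := Subgroup.mem_zpowers_iff.mp h0
      rw [← hn, ← zpow_natCast, ← zpow_mul, mul_comm, zpow_mul, zpow_natCast, ← hcp, pow_orderOf_eq_one, one_zpow]
    obtain ⟨q, hq⟩ : p ∣ p.choose 2 := hpp.dvd_choose_self (by norm_num)
      (lt_of_le_of_ne hpp.two_le fun e => absurd (e ▸ hodd) (by decide))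
    rw [hq, pow_mul, h1, one_pow, one_mul]
  let f : ↥S →* ↥S := { toFun := fun x => x ^ p, map_one' := one_pow p, map_mul' := hmulp }
  set Om : Subgroup Ω := f.ker.map S.subtype
  have hOmem : ∀ x : ↥S, (x : Ω) ∈ Om ↔ x ^ p = 1 := fun x => by
    constructor
    · rintro ⟨y, hy, e⟩; exact (Subtype.ext e : y = x) ▸ hy
    · exact fun hx => ⟨x, hx, rfl⟩
  have hOS : Om ≤ S := Subgroup.map_subtype_le _
  have hOcard : Nat.card ↥Om = p ^ 2 := by
    have hr : f.range = Z := by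
      refine le_antisymm (fun x ⟨y, hy⟩ => hy ▸ hpZ y) (fun x hx => ?_)
      obtain ⟨n, hn⟩ := Subgroup.mem_zpowers_iff.mp (mem_zpowers_of_prime_card (g := (⟨v ^ p, hpZ v⟩ : ↥Z))
        (g' := ⟨x, hx⟩) hZcard fun e => hv (congrArg Subtype.val e))
      exact ⟨v ^ n, by rw [map_zpow]; exact congrArg Subtype.val hn⟩
    have h1 := f.ker.card_mul_index
    rw [Subgroup.index_ker, hr, hZcard, hcard, pow_succ] at h1
    rw [Subgroup.card_map_of_injective S.subtype_injective]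
    exact Nat.eq_of_mul_eq_mul_right hpp.pos h1
  have hOsc : F.StronglyClosed Om := by
    refine ⟨hOS, fun R hR φ hφ x => ?_⟩
    have hxS : (x : Ω) ∈ S := hOS (hR x.2)
    have h1 : x ^ p = 1 := Subtype.ext (by
      rw [SubmonoidClass.coe_pow]
      exact congrArg Subtype.val ((hOmem ⟨x, hxS⟩).mp (hR x.2)))
    refine (hOmem ⟨φ x, Fusion.apply_mem_S hφ x⟩).mpr (Subtype.ext ?_)
    rw [SubmonoidClass.coe_pow, ← map_pow, h1, map_one]
    rfl
  refine absurd (hbot Om (isNormal_of_le_radical p hS hF hOsc fun R hR hRc hRr => ?_)) fun e => ?_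
  swap
  · rw [e, Subgroup.card_bot] at hOcard
    exact absurd hOcard.symm (Nat.one_lt_pow (by norm_num) hpp.one_lt).ne'
  by_cases hRS : R = S
  · exact hRS ▸ hOS
  haveI := finite_of_le hR.1
  haveI := finite_aut_of_le hR.1
  haveI := Fusion.finite_of_le hOS
  obtain ⟨hCR, -, ⟨r, hr, hrC⟩, ⟨s, hs, hsR⟩⟩ := CentreIndexSq.half_of_centric hR hRc hRS
  have hRcard : Nat.card ↥R = p ^ 2 := by
    obtain ⟨m, hm, hm'⟩ := (Nat.dvd_prime_pow hpp).mp (hcard ▸ Subgroup.card_dvd_of_le hR.1)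
    have hlt : m < 3 := by
      by_contra hge
      exact hRS (Subgroup.eq_of_le_of_card_ge hR.1 (by rw [hm', hcard, show m = 3 by omega]))
    have hZR : Z < R.subgroupOf S := by
      refine lt_of_le_of_ne (fun w hw => hCR ((hmemC w).mpr hw)) fun e => hrC ?_
      exact (hmemC ⟨r, hR.1 hr⟩).mpr (e ▸ (Subgroup.mem_subgroupOf.mpr hr : (⟨r, hR.1 hr⟩ : ↥S) ∈ R.subgroupOf S))
    have h1 : p < Nat.card ↥R := by
      rw [← Nat.card_congr (Subgroup.subgroupOfEquivOfLe hR.1).toEquiv, ← hZcard]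
      have h := Set.ncard_lt_ncard (SetLike.coe_ssubset_coe.mpr hZR) (Set.toFinite _)
      rwa [← Nat.card_coe_set_eq, ← Nat.card_coe_set_eq] at h
    rw [hm'] at h1 ⊢
    rcases (by omega : m = 0 ∨ m = 1 ∨ m = 2) with rfl | rfl | rfl
    · simp at h1
      exact absurd h1 hpp.ne_zero
    · simp at h1
    · rfl
  by_contra hOR
  have hcyc : IsCyclic ↥R := by
    by_contra hnc
    refine hOR (le_of_eq (Subgroup.eq_of_le_of_card_ge (fun x hx => ?_) (by rw [hOcard, hRcard])).symm)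
    refine (hOmem ⟨x, hR.1 hx⟩).mpr (Subtype.ext ?_)
    rw [SubmonoidClass.coe_pow]
    obtain ⟨m, hm, hm'⟩ := (Nat.dvd_prime_pow hpp).mp (hRcard ▸ orderOf_dvd_natCard (⟨x, hx⟩ : ↥R))
    rcases (by omega : m = 0 ∨ m = 1 ∨ m = 2) with rfl | rfl | rfl
    · rw [pow_zero, orderOf_eq_one_iff] at hm'
      simp [show x = 1 from congrArg Subtype.val hm']
    · rw [pow_one] at hm'
      simpa [hm'] using congrArg Subtype.val (pow_orderOf_eq_one (⟨x, hx⟩ : ↥R))
    · exact absurd (isCyclic_of_orderOf_eq_card _ (hm'.trans hRcard.symm)) hnc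
  have hcom : ∀ α β : MulAut ↥R, α * β = β * α := by
    intro α β
    obtain ⟨g, hg⟩ := IsCyclic.exists_generator (α := ↥R)
    obtain ⟨i, hi⟩ := Subgroup.mem_zpowers_iff.mp (hg (α g))
    obtain ⟨j, hj⟩ := Subgroup.mem_zpowers_iff.mp (hg (β g))
    refine MulEquiv.ext fun x => ?_
    obtain ⟨n, rfl⟩ := Subgroup.mem_zpowers_iff.mp (hg x)
    rw [MulAut.mul_apply, MulAut.mul_apply, map_zpow, map_zpow, map_zpow, map_zpow, ← hj, map_zpow, ← hi, map_zpow,
      ← hj]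
    simp only [← zpow_mul]
    congr 1
    ring
  obtain ⟨-, T, hT⟩ := fullyNormalized_automized p hS hF hR
  have hTn : (T : Subgroup ↥(F.autGroup R)).Normal := ⟨fun x hx y => by
    rw [show y * x = x * y from Subtype.ext (hcom y x), mul_inv_cancel_right]; exact hx⟩
  refine (lt_normalizerIn p hS (lt_of_le_of_ne hR.1 hRS)).not_ge fun u hu => ?_
  have hu' : R.normalizerMonoidHom ⟨u, hu.2⟩ ∈ autInducedBy S R := (mem_autInducedBy _).mpr ⟨u, hu.1, fun _ => rfl⟩
  have huI : R.normalizerMonoidHom ⟨u, hu.2⟩ ∈ Inn ↥R :=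
    hRr.2 ▸ ⟨⟨_, autInducedBy_le_autGroup F hR.1 hu'⟩, CfsgLib.Core.le_pCore hTn T.2 (hT.ge hu'), rfl⟩
  obtain ⟨w, hw⟩ := (huI : R.normalizerMonoidHom ⟨u, hu.2⟩ ∈ MulAut.conj.range)
  refine hRc.2 R (Fusion.IsConj.refl F hR.1) ⟨hu.1, Subgroup.mem_centralizer_iff.mpr fun y hy => ?_⟩
  have h1 : (w : Ω) * y * (w : Ω)⁻¹ = u * y * u⁻¹ :=
    congrArg Subtype.val (DFunLike.congr_fun hw (⟨y, hy⟩ : ↥R))
  haveI := hcyc
  rw [show (w : Ω) * y = y * w from congrArg Subtype.val (mul_comm' w (⟨y, hy⟩ : ↥R)), mul_inv_cancel_right] at h1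
  exact eq_mul_inv_iff_mul_eq.mp h1

end Cfsg.Agent.S5265
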