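import Cfsg.Statements.S5273
import Cfsg.Agent.Lib.Fusion.SmallAbelian

set_option autoImplicit false
open Cfsg

namespace Cfsg.Agent.S5273

open CfsgLib.Fusion
/-- Small-exponent abelian subgroups control fusion. Let E and F be saturated fusion systems over the same finite p-group S with E contained in F. Suppose that E and F have the same maps between A and B for all subgroups A, B of S that are elementary abelian when p is odd, respectively abelian of exponent dividing 4 when p = 2. Then E = F (they have the same maps on every subgroup). -/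
theorem result {Ω : Type*} [Group Ω] {S : Subgroup Ω} [Finite S] (p : ℕ) [Fact p.Prime] (hS : IsPGroup p ↥S) (E F : Cfsg.FusionSystem S) (hE : E.IsSaturated p) (hF : F.IsSaturated p) (hEF : E.IsSubsystemOf F) (hodd : p ≠ 2 → ∀ A B : Subgroup Ω, A ≤ S → B ≤ S → Cfsg.IsElementaryAbelian p A → Cfsg.IsElementaryAbelian p B → E.homSet A B = F.homSet A B) (htwo : p = 2 → ∀ A B : Subgroup Ω, A ≤ S → B ≤ S → IsMulCommutative ↥A → IsMulCommutative ↥B → (∀ a ∈ A, a ^ 4 = 1) → (∀ b ∈ B, b ^ 4 = 1) → E.homSet A B = F.homSet A B) : ∀ P : Subgroup Ω, E.Hom P = F.Hom P := by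
  haveI : Finite ↥S := ‹_›
  have hle : F ≤ E := le_of_smallAbelian p hS hE hF hEF (H := S) (⟨le_rfl, fun R hR φ hφ x => apply_mem_S hφ x⟩) (CfsgLib.Biset.hyp_le p F) fun A B hA hB sA sB => by
    have key : ∀ C : Subgroup Ω, SmallAb p C → IsMulCommutative ↥C ∧ ∀ c ∈ C, c ^ (if p = 2 then 4 else p) = 1 := fun C sC =>
      ⟨⟨⟨fun a b => Subtype.ext (sC.1 a a.2 b b.2)⟩⟩, fun c hc => (small_iff c).mp (sC.2 c hc)⟩
    obtain ⟨cA, eA⟩ := key A sA
    obtain ⟨cB, eB⟩ := key B sB
    by_cases hp : p = 2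
    · simp only [if_pos hp] at eA eB
      exact htwo hp A B hA hB cA cB eA eB
    · simp only [if_neg hp] at eA eB
      exact hodd hp A B hA hB ⟨cA, eA⟩ ⟨cB, eB⟩
  exact fun P => Set.Subset.antisymm (hEF P) (hle P)

end Cfsg.Agent.S5273
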