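import Cfsg.Statements.S5295
import Cfsg.Agent.Lib.Fusion.CenterFactor
import Cfsg.Agent.S5193

set_option autoImplicit false
universe u
open Cfsg

namespace Cfsg.Agent.S5295

open CfsgLib
/-- Let F be a saturated fusion system over a finite p-group S with p odd. Then the centre Z(F) of F is a direct factor of Z(S): there is a subgroup K of Z(S) with Z(F) ∩ K = 1 and Z(F)K = Z(S). (At the prime 2 this can fail.) -/
theorem result {Ω : Type u} [Group Ω] {S : Subgroup Ω} [Finite S] (p : ℕ) [Fact p.Prime] (hp : p ≠ 2) (hS : IsPGroup p S)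
    (F : Cfsg.FusionSystem S) (hF : F.IsSaturated p) :
    ∃ K : Subgroup Ω, K ≤ (S ⊓ Subgroup.centralizer (S : Set Ω)) ∧ F.center ⊓ K = ⊥ ∧ F.center ⊔ K = (S ⊓ Subgroup.centralizer (S : Set Ω)) := by
  set J₀ := Cfsg.thompsonSubgroupAOf S
  have hJeq : J₀ = ThompsonNPC.J 0 S := ThompsonNPC.thompsonSubgroupAOf_eq S
  have hJS : J₀ ≤ S := by rw [hJeq]; exact ThompsonNPC.J_le 0 S
  have hJN : S ≤ Subgroup.normalizer (J₀ : Set Ω) := by
    rw [hJeq]; exact Subgroup.le_normalizer.trans (ThompsonNPC.normalizer_le_normalizer_J 0 S)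
  have hspec := Fusion.normalizerSystem_spec (F := F) hJS
  haveI : Finite ↥(Cfsg.FusionSystem.normalizerIn S J₀) := Fusion.finite_of_le inf_le_left
  have hcen := (Cfsg.Agent.S5193.result p hS F hF _ hspec).2 (Or.inl hp)
  have hsat := Fusion.normalizerSystem_saturated p hS hF (Fusion.fullyNormalized_of_normal hJS hJN) _ hspec
  have hcore := Fusion.le_core (Fusion.isNormal_normalizerSystem hJS _ hspec)
  have hT : Cfsg.FusionSystem.normalizerIn S J₀ = S := inf_eq_left.mpr hJN
  have key : ∀ (T : Subgroup Ω), T = S → ∀ [Finite ↥T] (N : Cfsg.FusionSystem T), N.IsSaturated p → J₀ ≤ N.core →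
      N.center = F.center → ∃ K : Subgroup Ω, K ≤ (S ⊓ Subgroup.centralizer (S : Set Ω)) ∧ F.center ⊓ K = ⊥ ∧
        F.center ⊔ K = (S ⊓ Subgroup.centralizer (S : Set Ω)) := by
    intro T hTS _ N hN hc he
    subst hTS
    rw [← he]
    refine Fusion.exists_factor_of_le_core hS hN (le_trans ?_ hc)
    rw [hJeq]
    intro z hz
    obtain ⟨hz1, hz2⟩ := Subgroup.mem_inf.mp hz
    obtain ⟨A, hA⟩ : (ThompsonNPC.maxAb 0 T).Nonempty := by
      obtain ⟨A₀, hA₀⟩ := ThompsonNPC.exists_maxAb 0 (⊤ : Subgroup ↥T)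
      refine ⟨A₀.map T.subtype, ?_⟩
      have h := ThompsonNPC.maxAb_map 0 (ThompsonNPC.injOn_of_injective T.subtype_injective (⊤ : Subgroup ↥T))
      rw [← MonoidHom.range_eq_map, Subgroup.range_subtype] at h
      exact h ▸ ⟨A₀, hA₀, rfl⟩
    haveI : Finite ↥A := Fusion.finite_of_le hA.1
    have hle : A ⊔ Subgroup.zpowers z ≤ T := sup_le hA.1 (Subgroup.zpowers_le.mpr hz1)
    haveI : Finite ↥(A ⊔ Subgroup.zpowers z) := Fusion.finite_of_le hle
    have hab : ThompsonNPC.AbExp 0 (A ⊔ Subgroup.zpowers z) := by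
      refine ⟨fun x hx y hy => ?_, fun x _ => pow_zero x⟩
      have hcen : A ⊔ Subgroup.zpowers z ≤ Subgroup.centralizer ((A ⊔ Subgroup.zpowers z : Subgroup Ω) : Set Ω) := by
        refine sup_le (Subgroup.le_centralizer_iff.mp (sup_le (fun a ha => Subgroup.mem_centralizer_iff.mpr fun b hb => hA.2.1.1 b hb a ha) ?_))
          (Subgroup.zpowers_le.mpr (Subgroup.mem_centralizer_iff.mpr fun b hb => Subgroup.mem_centralizer_iff.mp hz2 b (hle hb)))
        exact Subgroup.zpowers_le.mpr (Subgroup.mem_centralizer_iff.mpr fun b hb => Subgroup.mem_centralizer_iff.mp hz2 b (hA.1 hb))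
      exact Subgroup.mem_centralizer_iff.mp (hcen hy) x hx
    have heq := Subgroup.eq_of_le_of_card_ge (le_sup_left : A ≤ A ⊔ Subgroup.zpowers z) (hA.2.2 _ hle hab)
    exact le_sSup hA (heq ▸ Subgroup.mem_sup_right (Subgroup.mem_zpowers z))
  exact key _ hT _ hsat hcore hcen

end Cfsg.Agent.S5295
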