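import Cfsg.Statements.S5299
import Cfsg.Agent.Lib.Fusion.InvolvesBasic

set_option autoImplicit false
universe u
open Cfsg

namespace Cfsg.Agent.S5299

open CfsgLib.Fusion
/-- Let F be a saturated fusion system over a finite p-group S, H a finite group and Q a p-subgroup of H. If Q is not involved in S (no section of S is isomorphic to Q), then F is H-free: H is involved in no model of the normalizer system of a fully normalized centric subgroup. -/
theorem result {Ω : Type u} [Group Ω] {S : Subgroup Ω} [Finite S] (p : ℕ) [Fact p.Prime] (hS : IsPGroup p S)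
    (F : Cfsg.FusionSystem S) (hF : F.IsSaturated p) (H : Type*) [Group H] [Finite H] (Q : Subgroup H) (hQ : IsPGroup p Q)
    (hfree : ¬ Cfsg.Involves (↥Q) (↥S)) : F.IsSectionFree p H := by
  intro Q₀ _ _ N _ L _ ι hL hinv
  obtain ⟨hfin, hr, ⟨T, hT⟩, -⟩ := hL
  haveI := hfin
  obtain ⟨K, f, hf⟩ := involves_iff.mp hinv
  set M := Q.comap f
  let g : ↥M →* ↥Q := (f.comp M.subtype).codRestrict Q fun x => x.2
  have hg : Function.Surjective g := fun y => by
    obtain ⟨x, hx⟩ := hf y
    exact ⟨⟨x, show f x ∈ Q from hx ▸ y.2⟩, Subtype.ext hx⟩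
  obtain ⟨R⟩ := (inferInstance : Nonempty (Sylow p ↥M))
  let RQ := R.mapSurjective hg
  have hRQ : (RQ : Subgroup ↥Q) = ⊤ := by
    refine RQ.3 (hQ.to_subgroup _) le_top |>.symm
  set i : ↥M →* L := K.subtype.comp M.subtype
  have hi : Function.Injective i := K.subtype_injective.comp M.subtype_injective
  obtain ⟨T', hT'⟩ := (R.2.map i).exists_le_sylow
  obtain ⟨u, hu⟩ := MulAction.exists_smul_eq L T' T
  set j : ↥M →* L := (MulAut.conj u).toMonoidHom.comp i
  have hj : (R : Subgroup ↥M).map j ≤ ι.range := by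
    rintro _ ⟨r, hr', rfl⟩
    rw [← hT]
    have h1 : u * i r * u⁻¹ ∈ ((u • T' : Sylow p L) : Subgroup L) := by
      rw [Sylow.coe_subgroup_smul]
      exact ⟨_, hT' ⟨r, hr', rfl⟩, rfl⟩
    rwa [hu] at h1
  have h2 : Involves ↥Q ↥(R : Subgroup ↥M) := by
    refine involves_iff.mpr ⟨⊤, (g.comp (R : Subgroup ↥M).subtype).comp (⊤ : Subgroup ↥(R : Subgroup ↥M)).subtype, fun y => ?_⟩
    obtain ⟨r, hr', hry⟩ := (hRQ.ge (Subgroup.mem_top y) : y ∈ (RQ : Subgroup ↥Q))
    exact ⟨⟨⟨r, hr'⟩, Subgroup.mem_top _⟩, hry⟩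
  let e := MonoidHom.ofInjective hr.1
  let k : ↥(R : Subgroup ↥M) →* ↥S :=
    (Subgroup.inclusion (inf_le_left : Cfsg.FusionSystem.normalizerIn S Q₀ ≤ S)).comp
      (e.symm.toMonoidHom.comp ((Subgroup.inclusion hj).comp (j.subgroupMap (R : Subgroup ↥M))))
  refine hfree (involves_of_injective h2 k ?_)
  intro a b hab
  have h1 := Subgroup.inclusion_injective (inf_le_left : Cfsg.FusionSystem.normalizerIn S Q₀ ≤ S) hab
  have h2 := Subgroup.inclusion_injective hj (e.symm.injective h1)
  exact Subtype.ext (((MulAut.conj u).injective.comp hi) (congrArg Subtype.val h2))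

end Cfsg.Agent.S5299
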