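import Cfsg.Statements.S5522
import Cfsg.Agent.Lib.Golay.Elusive
import Cfsg.Agent.Lib.Golay.Transitive

set_option autoImplicit false
set_option linter.all false
open Cfsg

namespace Cfsg.Agent.S5522
open Cfsg CfsgLib.Golay CfsgLib.Golay.Classes
open scoped Pointwise

/-- The Mathieu group M₁₁, realised as the stabiliser of one point of the dodecad of squares inside the stabiliser M₁₂ of that dodecad in M₂₄, acts on the twelve coordinate positions outside the dodecad of squares (its 3-transitive action of degree 12); in this action every element of prime order fixes a point, i.e. the action is elusive. -/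
theorem result (g : Equiv.Perm Cfsg.GolayPt) (hg : g ∈ Cfsg.Spor.M11) (hord : (orderOf g).Prime) :
    ∃ x : Cfsg.GolayPt, x ∉ Cfsg.Spor.squareDodecad ∧ g x = x := by
  classical
  haveI := Fact.mk hord
  have hg24 : g ∈ M24 := hg.1.1
  have hgD : g • Spor.squareDodecad = Spor.squareDodecad := MulAction.mem_stabilizer_iff.1 hg.1.2
  have hg0 : g (some 0) = some 0 := MulAction.mem_stabilizer_iff.1 hg.2
  have hsq : Spor.squareDodecad = toSet dodD := by decide +kernel
  by_contra hno
  push Not at hno
  have hsub : (Finset.univ.filter fun p => g p = p) ⊆ Spor.squareDodecad := fun x hx => by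
    by_contra hxD
    exact hno x hxD (Finset.mem_filter.1 hx).2
  have hmem : ∀ x : GolayPt, g x ∈ Spor.squareDodecad ↔ x ∈ Spor.squareDodecad := fun x => by
    conv_lhs => rw [← hgD]
    exact Finset.smul_mem_smul_finset_iff g
  let σ : Equiv.Perm {x : GolayPt // x ∉ Spor.squareDodecad} :=
    g.subtypePerm fun x => not_congr (hmem x)
  have hσ : σ ^ orderOf g ^ 1 = 1 := by
    refine Equiv.ext fun x => Subtype.ext ?_
    simp [σ, pow_one, Equiv.Perm.subtypePerm_pow, pow_orderOf_eq_one]
  have hdvd : orderOf g ∣ 12 := by
    have h := Equiv.Perm.card_compl_support_modEq hσ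
    have hc : Fintype.card {x : GolayPt // x ∉ Spor.squareDodecad} = 12 := by
      rw [hsq]; decide +kernel
    rw [hc, show σ.support = Finset.univ from Finset.eq_univ_of_forall fun x => Equiv.Perm.mem_support.2
      fun e => hno x.1 x.2 (congrArg Subtype.val e), Finset.compl_univ, Finset.card_empty] at h
    exact Nat.modEq_zero_iff_dvd.1 h.symm
  have hp : orderOf g = 2 ∨ orderOf g = 3 := by
    have h := Nat.le_of_dvd (by norm_num) hdvd
    generalize orderOf g = p at hdvd hord h
    interval_cases p <;> simp_all (config := { decide := true })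
  have hne : ¬ ∀ p, g p ≠ p := fun h => h (some 0) hg0
  have hd : Spor.squareDodecad ∈ dodecads := hsq ▸ toSet_dodD
  rcases hp with h2 | h3
  · obtain ⟨a, ha, e | e⟩ := inv_classes hg24 h2
    · exact hne ((fpf_iff_card g).2 ((fix_card_conj e).trans fix_reps.1))
    · exact no_dodecad ha (Or.inl rfl) e hd hgD hsub
  · obtain ⟨a, ha, e | e⟩ := three_classes hg24 h3
    · exact no_dodecad ha (Or.inr rfl) e hd hgD hsub
    · exact hne ((fpf_iff_card g).2 ((fix_card_conj e).trans fix_reps.2.2.2))

end Cfsg.Agent.S5522
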