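import Cfsg.Statements.S5726


set_option autoImplicit false
open Cfsg

namespace Cfsg.Agent.S5726

/-- If a finite group acts faithfully and transitively on a set with p^k elements, p a prime and k ≥ 1, then some element of order p fixes no point. -/
theorem result {G Ω : Type*} [Group G] [Finite G] [MulAction G Ω] [FaithfulSMul G Ω] [Fintype Ω] (htr : MulAction.IsPretransitive G Ω)
    (p k : ℕ) (hp : p.Prime) (hk : 1 ≤ k) (hΩ : Fintype.card Ω = p ^ k) :
    ∃ g : G, orderOf g = p ∧ ∀ ω : Ω, g • ω ≠ ω := by
  haveI := Fact.mk hp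
  haveI : Nonempty Ω := Fintype.card_pos_iff.mp (by rw [hΩ]; exact pow_pos hp.pos k)
  obtain ⟨P⟩ : Nonempty (Sylow p G) := inferInstance
  have hPtr : ∀ a b : Ω, ∃ x : (P : Subgroup G), (x : G) • a = b := by
    intro a
    -- |P : P_a| ≥ p^k
    have h1 : (MulAction.stabilizer G a).index = p ^ k := by
      rw [MulAction.index_stabilizer_of_transitive G a, Nat.card_eq_fintype_card, hΩ]
    have h2 : p ^ k ∣ ((MulAction.stabilizer G a).subgroupOf (P : Subgroup G)).index * (P : Subgroup G).index := by
      have e1 : ((MulAction.stabilizer G a) ⊓ (P : Subgroup G)).index =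
          ((MulAction.stabilizer G a).subgroupOf (P : Subgroup G)).index * (P : Subgroup G).index := by
        rw [← Subgroup.relIndex, ← Subgroup.inf_relIndex_right, Subgroup.relIndex_mul_index inf_le_right]
      rw [← e1, ← h1]
      exact Subgroup.index_dvd_of_le inf_le_left
    have h3 : p ^ k ∣ ((MulAction.stabilizer G a).subgroupOf (P : Subgroup G)).index :=
      (Nat.Coprime.pow_left k ((Nat.Prime.coprime_iff_not_dvd hp).mpr P.not_dvd_index)).dvd_of_dvd_mul_right h2
    have h4 : MulAction.stabilizer (P : Subgroup G) a = (MulAction.stabilizer G a).subgroupOf (P : Subgroup G) := by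
      ext x; simp [Subgroup.mem_subgroupOf, Subgroup.smul_def]
    rw [← h4, MulAction.index_stabilizer] at h3
    have hall : MulAction.orbit (P : Subgroup G) a = Set.univ := by
      apply Set.eq_of_subset_of_ncard_le (Set.subset_univ _)
      rw [Set.ncard_univ, Nat.card_eq_fintype_card, hΩ]
      exact Nat.le_of_dvd ((Set.ncard_pos).mpr ⟨a, MulAction.mem_orbit_self a⟩) h3
    intro b
    have hb : b ∈ MulAction.orbit (P : Subgroup G) a := by rw [hall]; trivial
    exact hb
  haveI : Nontrivial (P : Subgroup G) := by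
    by_contra h
    rw [not_nontrivial_iff_subsingleton] at h
    have : Subsingleton Ω := ⟨fun a b => by
      obtain ⟨x, hx⟩ := hPtr a b
      rw [Subsingleton.elim x 1] at hx
      simpa using hx⟩
    have h1 : 1 < Fintype.card Ω := by rw [hΩ]; exact Nat.one_lt_pow (by omega) hp.one_lt
    exact absurd (Fintype.card_le_one_iff_subsingleton.mpr this) (by omega)
  haveI := P.isPGroup'.center_nontrivial
  have hdvd : p ∣ Nat.card (Subgroup.center (P : Subgroup G)) := by
    obtain ⟨e, he, hc⟩ := (IsPGroup.nontrivial_iff_card (IsPGroup.to_subgroup P.isPGroup' (Subgroup.center (P : Subgroup G)))).mp inferInstance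
    rw [hc]; exact dvd_pow_self p (by omega)
  obtain ⟨z, hz⟩ := exists_prime_orderOf_dvd_card' p hdvd
  refine ⟨((z : (P : Subgroup G)) : G), by rw [Subgroup.orderOf_coe, Subgroup.orderOf_coe, hz], fun ω hω => ?_⟩
  have hone : ((z : (P : Subgroup G)) : G) = 1 := by
    apply FaithfulSMul.eq_of_smul_eq_smul (α := Ω)
    intro b
    obtain ⟨x, hx⟩ := hPtr ω b
    have hc : ((z : (P : Subgroup G)) : G) * (x : G) = (x : G) * ((z : (P : Subgroup G)) : G) :=
      congrArg Subtype.val (Subgroup.mem_center_iff.mp z.2 x).symm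
    rw [one_smul, ← hx, ← mul_smul, hc, mul_smul, hω]
  have : orderOf ((z : (P : Subgroup G)) : G) = p := by rw [Subgroup.orderOf_coe, Subgroup.orderOf_coe, hz]
  rw [hone, orderOf_one] at this
  exact hp.one_lt.ne this

end Cfsg.Agent.S5726
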