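import Cfsg.Statements.S5727
import Mathlib

set_option autoImplicit false
open Cfsg

namespace Cfsg.Agent.S5727

/-- If a finite group acts faithfully and transitively on a set with m·p elements, where p is a prime and 1 ≤ m ≤ p, then some element of order p fixes no point. -/
theorem result {G Ω : Type*} [Group G] [Finite G] [MulAction G Ω] [FaithfulSMul G Ω] [Fintype Ω] (htr : MulAction.IsPretransitive G Ω)
    (p m : ℕ) (hp : p.Prime) (hm : 1 ≤ m) (hmp : m ≤ p) (hΩ : Fintype.card Ω = m * p) :
    ∃ g : G, orderOf g = p ∧ ∀ ω : Ω, g • ω ≠ ω := by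
  classical
  haveI := Fintype.ofFinite G
  haveI := Fact.mk hp
  obtain ⟨P⟩ : Nonempty (Sylow p G) := inferInstance
  have hpg : IsPGroup p P := P.2
  -- orbit sizes of P are at least p
  have hfix : ∀ ω : Ω, ∃ g : P, g • ω ≠ ω := by
    intro ω
    by_contra hc
    push Not at hc
    have hle : (P : Subgroup G) ≤ MulAction.stabilizer G ω := fun g hg => hc ⟨g, hg⟩
    have h1 : Fintype.card Ω = (MulAction.stabilizer G ω).index := by
      rw [MulAction.index_stabilizer_of_transitive, Nat.card_eq_fintype_card]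
    have h2 : p ∣ (MulAction.stabilizer G ω).index := h1 ▸ hΩ ▸ dvd_mul_left p m
    exact P.not_dvd_index (h2.trans (Subgroup.index_dvd_of_le hle))
  have hidx : ∀ ω : Ω, ∃ k, 1 ≤ k ∧ (MulAction.stabilizer P ω).index = p ^ k := by
    intro ω
    obtain ⟨k, hk⟩ := hpg.index (MulAction.stabilizer P ω)
    refine ⟨k, Nat.one_le_iff_ne_zero.2 fun h0 => ?_, hk⟩
    rw [h0, pow_zero, Subgroup.index_eq_one] at hk
    obtain ⟨g, hg⟩ := hfix ω
    exact hg (MulAction.mem_stabilizer_iff.1 (hk ▸ Subgroup.mem_top g))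
  have hord : ∀ g : G, g ≠ 1 → g ^ p = 1 → orderOf g = p := fun g h1 h2 => orderOf_eq_prime h2 h1
  haveI : Nontrivial P := by
    by_contra hc
    haveI := not_nontrivial_iff_subsingleton.1 hc
    obtain ⟨ω⟩ : Nonempty Ω := Fintype.card_pos_iff.1 (by rw [hΩ]; exact Nat.mul_pos hm hp.pos)
    obtain ⟨g, hg⟩ := hfix ω
    exact hg (by rw [Subsingleton.elim g 1, one_smul])
  by_cases hbig : ∃ ω : Ω, 2 ≤ Classical.choose (hidx ω)
  · -- P is transitive
    obtain ⟨ω, hω⟩ := hbig
    have hk := Classical.choose_spec (hidx ω)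
    set k := Classical.choose (hidx ω)
    have hcard : Nat.card (MulAction.orbit P ω) = p ^ k := by
      rw [← hk.2, MulAction.index_stabilizer, Nat.card_coe_set_eq]
    have hle : Nat.card (MulAction.orbit P ω) ≤ Fintype.card Ω := by
      rw [← Nat.card_eq_fintype_card]
      exact Nat.card_le_card_of_injective _ Subtype.val_injective
    have hall : MulAction.orbit P ω = Set.univ := by
      refine Set.eq_of_subset_of_ncard_le (Set.subset_univ _) ?_
      rw [Set.ncard_univ, ← Nat.card_coe_set_eq, hcard, Nat.card_eq_fintype_card, hΩ]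
      calc m * p ≤ p * p := Nat.mul_le_mul_right p hmp
      _ = p ^ 2 := (sq p).symm
      _ ≤ p ^ k := Nat.pow_le_pow_right hp.pos hω
    haveI : MulAction.IsPretransitive P Ω := by
      refine ⟨fun a b => ?_⟩
      obtain ⟨g, rfl⟩ : a ∈ MulAction.orbit P ω := hall ▸ Set.mem_univ a
      obtain ⟨h, rfl⟩ : b ∈ MulAction.orbit P ω := hall ▸ Set.mem_univ b
      exact ⟨h * g⁻¹, by simp [mul_smul]⟩
    haveI : Nontrivial (Subgroup.center P) := hpg.center_nontrivial
    have hd : p ∣ Nat.card (Subgroup.center P) := by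
      obtain ⟨j, hj0, hj⟩ := (hpg.to_subgroup _).nontrivial_iff_card.1 ‹_›
      rw [hj]; exact dvd_pow_self p hj0.ne'
    obtain ⟨z, hz⟩ := exists_prime_orderOf_dvd_card' p hd
    have h1 : orderOf ((z : P) : G) = p := by rw [Subgroup.orderOf_coe, Subgroup.orderOf_coe, hz]
    refine ⟨((z : P) : G), h1, fun a ha => ?_⟩
    have : ((z : P) : G) = 1 := by
      refine FaithfulSMul.eq_of_smul_eq_smul (α := Ω) fun b => ?_
      obtain ⟨g, rfl⟩ := MulAction.exists_smul_eq P a b
      rw [one_smul]
      show (z : P) • g • a = g • a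
      rw [← mul_smul, ← Subgroup.mem_center_iff.1 z.2 g, mul_smul]
      exact congrArg (g • ·) ha
    rw [this, orderOf_one] at h1
    exact hp.one_lt.ne h1
  push Not at hbig
  have hp' : ∀ ω : Ω, (MulAction.stabilizer P ω).index = p := by
    intro ω
    have hk := Classical.choose_spec (hidx ω)
    have := hbig ω
    rw [hk.2, show Classical.choose (hidx ω) = 1 by omega, pow_one]
  have hnorm : ∀ ω : Ω, (MulAction.stabilizer P ω).Normal := by
    intro ω
    refine Subgroup.normal_of_index_eq_minFac_card ?_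
    rw [hp' ω]
    obtain ⟨j, hj0, hj⟩ := hpg.nontrivial_iff_card.1 ‹_›
    rw [hj, hp.pow_minFac hj0.ne']
  -- one subgroup per orbit
  let Q := MulAction.orbitRel.Quotient P Ω
  haveI : Fintype Q := Fintype.ofFinite Q
  have hQ : Fintype.card Q * p = m * p := by
    rw [← hΩ, Fintype.card_congr (MulAction.selfEquivSigmaOrbits P Ω), Fintype.card_sigma]
    have : ∀ q : Q, Fintype.card (MulAction.orbit P q.out) = p := fun q => by
      rw [← Nat.card_eq_fintype_card, Nat.card_coe_set_eq, ← MulAction.index_stabilizer, hp']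
    rw [Finset.sum_congr rfl fun q _ => this q, Finset.sum_const, Finset.card_univ, smul_eq_mul]
  have hQm : Fintype.card Q = m := Nat.eq_of_mul_eq_mul_right hp.pos hQ
  obtain ⟨g, hg⟩ : ∃ g : P, ∀ q : Q, g ∉ MulAction.stabilizer P q.out := by
    by_contra hc
    push Not at hc
    have hsub : (Finset.univ.erase (1 : P)) ⊆
        Finset.univ.biUnion fun q : Q => ((MulAction.stabilizer P q.out : Set P).toFinset.erase 1) := by
      intro g hg
      obtain ⟨q, hq⟩ := hc g
      simp only [Finset.mem_biUnion, Finset.mem_erase, Set.mem_toFinset, SetLike.mem_coe] at hg ⊢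
      exact ⟨q, Finset.mem_univ q, hg.1, hq⟩
    have h1 := (Finset.card_le_card hsub).trans Finset.card_biUnion_le
    obtain ⟨q0⟩ : Nonempty Q := Fintype.card_pos_iff.1 (by omega)
    set c := Nat.card (MulAction.stabilizer P q0.out) with hc0
    have hPc : Nat.card (P : Subgroup G) = c * p := by
      rw [← Subgroup.card_mul_index (MulAction.stabilizer P q0.out), hp' q0.out]
    have hK : ∀ q : Q, ((MulAction.stabilizer P q.out : Set P).toFinset.erase 1).card = c - 1 := fun q => by
      rw [Finset.card_erase_of_mem (by simp), Set.toFinset_card]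
      congr 1
      have h2 := Subgroup.card_mul_index (MulAction.stabilizer P q.out)
      rw [hp', hPc] at h2
      rw [← Nat.card_eq_fintype_card]
      exact Nat.eq_of_mul_eq_mul_right hp.pos h2
    rw [Finset.sum_congr rfl fun q _ => hK q, Finset.sum_const, Finset.card_univ, smul_eq_mul, hQm,
      Finset.card_erase_of_mem (Finset.mem_univ _), Finset.card_univ, ← Nat.card_eq_fintype_card] at h1
    replace h1 : c * p - 1 ≤ m * c - m := by rw [← hPc, ← Nat.mul_sub_one]; exact h1
    have hc1 : 0 < c := Nat.card_pos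
    have := Nat.mul_le_mul_right c hmp
    have := hp.two_le
    nlinarith [Nat.sub_add_cancel (show m ≤ m * c by nlinarith), Nat.sub_add_cancel (show 1 ≤ c * p by nlinarith)]
  have hall : ∀ ω : Ω, g ∉ MulAction.stabilizer P ω := by
    intro ω hω
    obtain ⟨h, hh⟩ : (Quotient.mk'' ω : Q).out ∈ MulAction.orbit P ω := by
      rw [← MulAction.orbitRel_apply]
      exact Quotient.exact' (Quotient.out_eq' _)
    apply hg (Quotient.mk'' ω)
    rw [← hh, MulAction.stabilizer_smul_eq_stabilizer_map_conj]
    exact ⟨h⁻¹ * g * h, by simpa using (hnorm ω).conj_mem g hω h⁻¹, by simp [mul_assoc]⟩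
  refine ⟨(g : G), hord _ (fun h1 => ?_) (FaithfulSMul.eq_of_smul_eq_smul (α := Ω) fun ω => ?_), fun ω => ?_⟩
  · obtain ⟨ω⟩ : Nonempty Ω := Fintype.card_pos_iff.1 (by rw [hΩ]; exact Nat.mul_pos hm hp.pos)
    exact hall ω (by rw [Subtype.ext (h1.trans rfl) (a2 := (1 : P))]; exact one_mem _)
  · rw [one_smul]
    haveI := hnorm ω
    have : g ^ p ∈ MulAction.stabilizer P ω := by
      have h2 := Subgroup.pow_index_mem (MulAction.stabilizer P ω) g
      rwa [hp' ω] at h2
    exact this
  · exact hall ω

end Cfsg.Agent.S5727
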