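import Cfsg.Statements.S5728
import Mathlib

set_option autoImplicit false
open Cfsg

namespace Cfsg.Agent.S5728

/-- An elusive transitive action. Let p = 2^s − 1 be a prime and let F be the field with p² elements. Inside the group of affine maps x ↦ a·x + b of F (a ≠ 0), consider the subgroup of maps with both coefficients in the prime field. Then every element of prime order of the affine group is conjugate, within the affine group, to an element of that subgroup; equivalently, in the transitive action of the affine group on the cosets of that subgroup (of degree p(p + 1)) every element of prime order fixes a point. -/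
theorem result (p s : ℕ) [Fact p.Prime] (hs : p = 2 ^ s - 1)
    (g : Equiv.Perm (GaloisField p 2)) (hg : g ∈ Cfsg.affineGroup (GaloisField p 2)) (hord : (orderOf g).Prime) :
    ∃ x ∈ Cfsg.affineGroup (GaloisField p 2), ∃ a b : ZMod p, a ≠ 0 ∧
      ∀ y : GaloisField p 2, (x * g * x⁻¹) y = algebraMap (ZMod p) (GaloisField p 2) a * y + algebraMap (ZMod p) (GaloisField p 2) b := by
  classical
  obtain ⟨A, B, hAB⟩ := hg
  have hcardK : Nat.card (GaloisField p 2) = p ^ 2 := GaloisField.card p 2 (by norm_num)
  haveI : CharP (GaloisField p 2) p := inferInstance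
  set ι' := algebraMap (ZMod p) (GaloisField p 2)
  have hpp : p.Prime := Fact.out
  have hone : (1 : Equiv.Perm (GaloisField p 2)) ∈ Cfsg.affineGroup (GaloisField p 2) := Subgroup.one_mem _
  by_cases hA : (A : (GaloisField p 2)) = 1
  · -- translation
    have hB : B ≠ 0 := by
      intro h0
      apply hord.one_lt.ne'
      rw [orderOf_eq_one_iff]
      ext x; simp [hAB, hA, h0]
    have hx : (Equiv.mulLeft₀ B⁻¹ (inv_ne_zero hB) : Equiv.Perm (GaloisField p 2)) ∈ Cfsg.affineGroup (GaloisField p 2) :=
      ⟨Units.mk0 B⁻¹ (inv_ne_zero hB), 0, fun y => by simp⟩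
    refine ⟨_, hx, 1, 1, one_ne_zero, fun y => ?_⟩
    simp only [Equiv.Perm.coe_mul, Function.comp_apply, hAB, hA, one_mul, map_one]
    have : (Equiv.mulLeft₀ B⁻¹ (inv_ne_zero hB) : Equiv.Perm (GaloisField p 2))⁻¹ y = B * y := by
      rw [Equiv.Perm.inv_eq_iff_eq]
      simp [← mul_assoc, inv_mul_cancel₀ hB]
    rw [this]
    simp [mul_add, ← mul_assoc, inv_mul_cancel₀ hB]
  · -- has a fixed point: conjugate it to 0
    set ℓ := orderOf g with hℓ
    set c := B / (1 - (A : (GaloisField p 2))) with hc
    have hne : (1 : (GaloisField p 2)) - A ≠ 0 := sub_ne_zero.2 (Ne.symm hA)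
    have hx : (Equiv.addRight (-c) : Equiv.Perm (GaloisField p 2)) ∈ Cfsg.affineGroup (GaloisField p 2) := ⟨1, -c, fun y => by simp⟩
    have hconj : ∀ y, ((Equiv.addRight (-c) : Equiv.Perm (GaloisField p 2)) * g * (Equiv.addRight (-c) : Equiv.Perm (GaloisField p 2))⁻¹) y = (A : (GaloisField p 2)) * y := by
      intro y
      have : (Equiv.addRight (-c) : Equiv.Perm (GaloisField p 2))⁻¹ y = y + c := by
        rw [Equiv.Perm.inv_eq_iff_eq]; simp
      simp only [Equiv.Perm.coe_mul, Function.comp_apply, this, hAB]
      simp only [Equiv.coe_addRight, hc]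
      field_simp
      ring
    have hpow : ∀ k y, ((((Equiv.addRight (-c) : Equiv.Perm (GaloisField p 2)) * g * (Equiv.addRight (-c) : Equiv.Perm (GaloisField p 2))⁻¹)) ^ k) y = (A : (GaloisField p 2)) ^ k * y := by
      intro k
      induction k with
      | zero => simp
      | succ k ih => intro y; rw [pow_succ, Equiv.Perm.mul_apply, ih, hconj, pow_succ, mul_assoc]
    have hAℓ : (A : (GaloisField p 2)) ^ ℓ = 1 := by
      have := hpow ℓ 1
      rw [conj_pow, hℓ, pow_orderOf_eq_one, mul_one, mul_inv_cancel, Equiv.Perm.one_apply, mul_one] at this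
      exact this.symm
    -- A lies in the prime field
    haveI := Fact.mk hord
    have hℓA : orderOf (A : (GaloisField p 2)) = ℓ := orderOf_eq_prime hAℓ hA
    have hdvd : ℓ ∣ p ^ 2 - 1 := by
      rw [← hℓA, ← hcardK, ← Nat.card_units, orderOf_units]
      exact orderOf_dvd_natCard A
    have hA' : (A : (GaloisField p 2)) ^ p = A := by
      have h1 : ℓ ∣ p - 1 := by
        have h2 : p ^ 2 - 1 = (p + 1) * (p - 1) := by simpa using Nat.sq_sub_sq p 1
        rw [h2] at hdvd
        rcases hord.dvd_mul.1 hdvd with h | h
        · have hs' : p + 1 = 2 ^ s := by have := Nat.one_le_two_pow (n := s); omega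
          rw [hs'] at h
          have hℓ2 : ℓ = 2 := (Nat.prime_dvd_prime_iff_eq hord Nat.prime_two).1 (hord.dvd_of_dvd_pow h)
          have hp2 : p ≠ 2 := by
            intro h2p
            rcases s with _ | s
            · simp at hs'; omega
            · rw [pow_succ] at hs'; omega
          have := hpp.odd_of_ne_two hp2
          rw [hℓ2]
          obtain ⟨k, hk⟩ := this
          exact ⟨k, by omega⟩
        · exact h
      obtain ⟨k, hk⟩ := h1
      have : (A : (GaloisField p 2)) ^ (p - 1) = 1 := by rw [hk, pow_mul, hAℓ, one_pow]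
      calc (A : (GaloisField p 2)) ^ p = A ^ (p - 1) * A := by rw [← pow_succ]; congr 1; have := hpp.pos; omega
      _ = A := by rw [this, one_mul]
    obtain ⟨a, ha⟩ : (A : (GaloisField p 2)) ∈ Set.range ι' := by
      have hfin : (Finset.univ.image ι') = (Polynomial.X ^ p - Polynomial.X : Polynomial (GaloisField p 2)).roots.toFinset := by
        refine Finset.eq_of_subset_of_card_le ?_ ?_
        · intro x hx
          obtain ⟨z, -, rfl⟩ := Finset.mem_image.1 hx
          rw [Multiset.mem_toFinset, Polynomial.mem_roots (FiniteField.X_pow_card_sub_X_ne_zero (GaloisField p 2) hpp.one_lt)]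
          simp [Polynomial.IsRoot, ← map_pow, ZMod.pow_card]
        · rw [Finset.card_image_of_injective _ ι'.injective, Finset.card_univ, ZMod.card]
          refine ((Multiset.toFinset_card_le _).trans (Polynomial.card_roots' _)).trans ?_
          rw [FiniteField.X_pow_card_sub_X_natDegree_eq (GaloisField p 2) hpp.one_lt]
      have : (A : (GaloisField p 2)) ∈ Finset.univ.image ι' := by
        rw [hfin, Multiset.mem_toFinset, Polynomial.mem_roots (FiniteField.X_pow_card_sub_X_ne_zero (GaloisField p 2) hpp.one_lt)]
        simp [Polynomial.IsRoot, hA']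
      obtain ⟨z, -, hz⟩ := Finset.mem_image.1 this
      exact ⟨z, hz⟩
    refine ⟨_, hx, a, 0, fun h0 => A.ne_zero (by rw [← ha, h0, map_zero]), fun y => ?_⟩
    rw [hconj, map_zero, add_zero, ← ha]

end Cfsg.Agent.S5728
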